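import Cfsg.Agent.BlockChar.Cyclic.CornerFree
import Mathlib.LinearAlgebra.Eigenspace.Triangularizable

/-!
# An idempotent fixed by an automorphism of a frame

An element normalizing a frame acts semilinearly on the simple module `t ^ (N - 1) S i`; an
eigenvector gives a rank one idempotent fixed by it.
-/

set_option autoImplicit false

namespace Cfsg.Agent.BlockChar.Cyclic

variable {k R : Type*} [Field k] [Ring R] [Algebra k R]
variable {S : Subalgebra k R} {ε t i : R} {N : ℕ}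

/-- A near idempotent gives an idempotent congruent to it. -/
theorem exists_idem_of_nilpotent {a : R} {M : ℕ} (hM : 0 < M) (h : (a - a * a) ^ M = 0) :
    ∃ e : R, e * e = e ∧ (∀ z, Commute a z → Commute e z) ∧
      e - a ∈ Ideal.span {a - a * a} ∧
      ∀ S : Subalgebra k R, a ∈ S → e ∈ S ∧ ∃ s ∈ S, e - a = (a - a * a) * s := by
  set P : Polynomial ℤ := 1 - (1 - Polynomial.X ^ M) ^ M with hP
  set q : Polynomial ℤ := Polynomial.X - Polynomial.X * Polynomial.X with hq
  obtain ⟨u, hu⟩ : ((Polynomial.X : Polynomial ℤ) ^ M) ∣ P := by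
    have := sub_dvd_pow_sub_pow (1 : Polynomial ℤ) (1 - Polynomial.X ^ M) M
    rwa [sub_sub_cancel, one_pow] at this
  obtain ⟨w, hw⟩ : ((1 - Polynomial.X : Polynomial ℤ) ^ M) ∣ 1 - P := by
    rw [hP, sub_sub_cancel]
    refine pow_dvd_pow_of_dvd ?_ M
    simpa using sub_dvd_pow_sub_pow (1 : Polynomial ℤ) Polynomial.X M
  obtain ⟨r, hr⟩ : q ∣ P - Polynomial.X := by
    have h1 : (Polynomial.X : Polynomial ℤ) ∣ P - Polynomial.X :=
      dvd_sub ((dvd_pow_self _ hM.ne').trans ⟨u, hu⟩) dvd_rfl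
    have h2 : (1 - Polynomial.X : Polynomial ℤ) ∣ P - Polynomial.X := by
      rw [show P - Polynomial.X = (1 - Polynomial.X) - (1 - P) by ring]
      exact dvd_sub dvd_rfl ((dvd_pow_self _ hM.ne').trans ⟨w, hw⟩)
    obtain ⟨c, hc⟩ := h1
    obtain ⟨d, hd⟩ := h2
    refine ⟨c + d, ?_⟩
    rw [hq]
    linear_combination (1 - Polynomial.X) * hc + Polynomial.X * hd
  have hPP : P * (1 - P) = q ^ M * (u * w) := by
    rw [hw, hu, hq]
    rw [show (Polynomial.X - Polynomial.X * Polynomial.X : Polynomial ℤ) =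
      Polynomial.X * (1 - Polynomial.X) by ring, mul_pow]
    ring
  have hcomm : ∀ z, Commute a z → ∀ f : Polynomial ℤ, Commute (Polynomial.aeval a f) z := by
    intro z hz f
    induction f using Polynomial.induction_on' with
    | add f g hf hg => rw [map_add]; exact hf.add_left hg
    | monomial n c =>
      rw [Polynomial.aeval_monomial]
      exact (show Commute (algebraMap ℤ R c) z from Algebra.commutes c z).mul_left (hz.pow_left n)
  have hmem : ∀ S : Subalgebra k R, a ∈ S → ∀ f : Polynomial ℤ, Polynomial.aeval a f ∈ S := by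
    intro S ha f
    induction f using Polynomial.induction_on' with
    | add f g hf hg => rw [map_add]; exact S.add_mem hf hg
    | monomial n c =>
      rw [Polynomial.aeval_monomial, eq_intCast]
      exact S.mul_mem (S.intCast_mem c) (S.pow_mem ha n)
  have h0 := congrArg (Polynomial.aeval a) hPP
  have hd := congrArg (Polynomial.aeval a) hr
  have hqa : Polynomial.aeval a q = a - a * a := by simp [hq]
  simp only [map_mul, map_sub, map_one, map_pow, hqa, h, zero_mul, Polynomial.aeval_X] at h0 hd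
  refine ⟨Polynomial.aeval a P, ?_, fun z hz => hcomm z hz P, ?_, fun S ha => ⟨hmem S ha P,
    _, hmem S ha r, hd⟩⟩
  · rw [mul_sub, mul_one, sub_eq_zero] at h0
    exact h0.symm
  · rw [hd, show (a - a * a) * Polynomial.aeval a r = Polynomial.aeval a r * (a - a * a) from
      ((hcomm _ ((Commute.refl a).sub_right ((Commute.refl a).mul_right (Commute.refl a)))) r).symm.eq]
    exact Ideal.mul_mem_left _ _ (Ideal.subset_span rfl)

namespace Frame

variable [IsAlgClosed k] [FiniteDimensional k R]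

/-- An element of `S` killing the simple module lies in `t S`. -/
theorem mem_t_of_kill (F : Frame S ε t i N) {z : R} (hz : z ∈ S)
    (h : ∀ a ∈ S, z * (t ^ (N - 1) * (a * i)) = 0) : ∃ s ∈ S, ε * z = t * s := by
  obtain ⟨n, u, v, hu, hv, hgen⟩ := F.gen
  have hc : ∀ a b, ∃ s ∈ S, i * (v a * z * u b) * i = t * s := by
    intro a b
    obtain ⟨c, s, hs, e⟩ := F.corner _ (S.mul_mem (S.mul_mem (hv a) hz) (hu b))
    have h1 : t ^ (N - 1) * (i * (v a * z * u b) * i) = 0 := by
      calc t ^ (N - 1) * (i * (v a * z * u b) * i)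
          = t ^ (N - 1) * (i * v a * z) * (u b * i) := by simp only [mul_assoc]
        _ = i * v a * (z * (t ^ (N - 1) * (u b * i))) := by
            rw [F.pow_comm _ (S.mul_mem (S.mul_mem F.i_mem (hv a)) hz)]
            simp only [mul_assoc]
        _ = 0 := by rw [h _ (hu b), mul_zero]
    rw [e, mul_add, mul_smul_comm, ← mul_assoc, ← pow_succ, Nat.sub_add_cancel F.pos, F.t_pow,
      zero_mul, add_zero] at h1
    refine ⟨i * s * i, S.mul_mem (S.mul_mem F.i_mem hs) F.i_mem, ?_⟩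
    rw [e, (smul_eq_zero.1 h1).resolve_right F.t_top, zero_smul, zero_add]
  choose s hs hse using hc
  refine ⟨∑ a, ∑ b, u a * s a b * v b, S.sum_mem fun a _ => S.sum_mem fun b _ =>
    S.mul_mem (S.mul_mem (hu a) (hs a b)) (hv b), ?_⟩
  calc ε * z = ε * z * ε := by rw [mul_assoc, ← F.eps_comm z hz, ← mul_assoc, F.eps_idem]
    _ = ∑ a, ∑ b, u a * (i * (v a * z * u b) * i) * v b := by
        rw [hgen, Finset.sum_mul, Finset.sum_mul]
        refine Finset.sum_congr rfl fun a _ => ?_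
        rw [Finset.mul_sum]
        exact Finset.sum_congr rfl fun b _ => by simp only [mul_assoc]
    _ = _ := by
        simp only [hse, Finset.mul_sum]
        refine Finset.sum_congr rfl fun a _ => Finset.sum_congr rfl fun b _ => ?_
        rw [← mul_assoc (u a) t, ← F.t_comm _ (hu a)]
        simp only [mul_assoc]

/-- Rank one operators on the simple module come from `S`. -/
theorem exists_rank_one (F : Frame S ε t i N) (l : R →ₗ[k] k) {v : R}
    (hv : ∃ a ∈ S, v = t ^ (N - 1) * (a * i)) :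
    ∃ z ∈ S, ∀ a ∈ S, z * (t ^ (N - 1) * (a * i)) = l (t ^ (N - 1) * (a * i)) • v := by
  obtain ⟨a₀, ha₀, rfl⟩ := hv
  obtain ⟨n, u, w, hu, hw, hgen⟩ := F.gen
  refine ⟨∑ r, l (t ^ (N - 1) * (u r * i)) • (a₀ * i * w r), S.sum_mem fun r _ =>
    S.smul_mem (S.mul_mem (S.mul_mem ha₀ F.i_mem) (hw r)) _, fun a ha => ?_⟩
  have hc : ∀ r, ∃ c : k, t ^ (N - 1) * (i * (w r * a) * i) = c • (t ^ (N - 1) * i) := by
    intro r
    obtain ⟨c, b, hb, e⟩ := F.corner _ (S.mul_mem (hw r) ha)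
    exact ⟨c, by rw [e, mul_add, mul_smul_comm, ← mul_assoc, ← pow_succ,
      Nat.sub_add_cancel F.pos, F.t_pow, zero_mul, add_zero]⟩
  choose c hc using hc
  have h1 : t ^ (N - 1) * (a * i) = ∑ r, c r • (t ^ (N - 1) * (u r * i)) := by
    calc t ^ (N - 1) * (a * i) = t ^ (N - 1) * (ε * (a * i)) := by
          rw [F.eps_comm _ (S.mul_mem ha F.i_mem), mul_assoc, F.i_eps]
      _ = ∑ r, u r * (t ^ (N - 1) * (i * (w r * a) * i)) := by
          rw [hgen, Finset.sum_mul, Finset.mul_sum]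
          refine Finset.sum_congr rfl fun r _ => ?_
          rw [← mul_assoc (u r), ← F.pow_comm _ (hu r)]
          simp only [mul_assoc]
      _ = _ := Finset.sum_congr rfl fun r _ => by
          rw [hc, mul_smul_comm, ← mul_assoc, ← F.pow_comm _ (hu r), mul_assoc]
  conv_rhs => rw [h1, map_sum, Finset.sum_smul]
  rw [Finset.sum_mul]
  refine Finset.sum_congr rfl fun r _ => ?_
  rw [map_smul, smul_eq_mul, smul_mul_assoc, mul_comm, ← smul_smul]
  congr 1
  rw [mul_assoc (a₀ * i), ← mul_assoc (w r), ← F.pow_comm _ (hw r), mul_assoc a₀ i]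
  calc a₀ * (i * (t ^ (N - 1) * w r * (a * i))) = a₀ * (t ^ (N - 1) * (i * (w r * a) * i)) := by
        rw [← mul_assoc i, ← mul_assoc i (t ^ _), ← F.pow_comm _ F.i_mem]
        simp only [mul_assoc]
    _ = _ := by rw [hc, mul_smul_comm, ← mul_assoc, ← F.pow_comm _ ha₀, mul_assoc]

/-- A frame may be taken fixed by a finite `p'`-element normalizing it. -/
theorem exists_fixed (F : Frame S ε t i N) {y : R} {m : ℕ} (hy : y ^ m = 1) (hm : (m : k) ≠ 0)
    (hyS : ∀ s ∈ S, y * s * y ^ (m - 1) ∈ S) (hyε : y * ε = ε * y) :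
    ∃ i' : R, Frame S ε t i' N ∧ y * i' = i' * y := by
  classical
  have hm0 : 0 < m := Nat.pos_of_ne_zero fun h => hm (by simp [h])
  have hyy : y * y ^ (m - 1) = 1 := by rw [← pow_succ', Nat.sub_add_cancel hm0, hy]
  have hyy' : y ^ (m - 1) * y = 1 := by rw [← pow_succ, Nat.sub_add_cancel hm0, hy]
  obtain ⟨n, u, v, hu, hv, hgen⟩ := F.gen
  obtain ⟨σ, hσ⟩ : ∃ σ : R → R, σ = fun s => y * s * y ^ (m - 1) := ⟨_, rfl⟩
  have hσS : ∀ s ∈ S, σ s ∈ S := fun s hs => by rw [hσ]; exact hyS s hs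
  have hσmul : ∀ a b, σ (a * b) = σ a * σ b := fun a b => by
    simp only [hσ, mul_assoc]
    rw [← mul_assoc (y ^ (m - 1)) y, hyy', one_mul]
  -- the image of `t ^ (N - 1)`
  have hσt : ∃ s ∈ S, σ (t ^ (N - 1)) * ε = t ^ (N - 1) * s := by
    have h1 : ∀ s ∈ S, σ t * s = s * σ t := by
      intro s hs
      have hs' : y ^ (m - 1) * s * y ∈ S := by
        have h2 : ∀ q, ∀ s ∈ S, y ^ q * s * y ^ ((m - 1) * q) ∈ S := by
          intro q
          induction q with
          | zero => simp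
          | succ q ih =>
            intro s hs
            have := hyS _ (ih s hs)
            rw [pow_succ', Nat.mul_succ, pow_add]
            simpa only [mul_assoc] using this
        have := h2 (m - 1) s hs
        rwa [show y ^ ((m - 1) * (m - 1)) = y by
          obtain ⟨q, rfl⟩ : ∃ q, m = q + 1 := ⟨m - 1, (Nat.sub_add_cancel hm0).symm⟩
          simp only [Nat.add_sub_cancel] at hyy ⊢
          calc y ^ (q * q) = y ^ (q * q) * (y ^ q * y) := by rw [← pow_succ, hy, mul_one]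
            _ = y ^ ((q + 1) * q) * y := by rw [← mul_assoc, ← pow_add, Nat.succ_mul]
            _ = y := by rw [pow_mul, hy, one_pow, one_mul]] at this
      have hs2 : s = σ (y ^ (m - 1) * s * y) := by
        simp only [hσ, ← mul_assoc]
        rw [hyy, one_mul, mul_assoc, hyy, mul_one]
      rw [hs2, ← hσmul, ← hσmul, F.t_comm _ hs']
    have hσpow : ∀ q, σ t ^ q = σ (t ^ q) := fun q => by
      induction q with
      | zero => simp [hσ, hyy]
      | succ q ih => rw [pow_succ, ih, ← hσmul, pow_succ]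
    obtain ⟨s, hs, e⟩ := F.central_nilpotent_mem (hσS t F.t_mem) h1
      ⟨N, by rw [hσpow, F.t_pow]; simp [hσ]⟩
    refine ⟨s ^ (N - 1) * ε, S.mul_mem (S.pow_mem hs _) F.eps_mem, ?_⟩
    have h2 : ∀ q, σ (t ^ q) * ε = t ^ q * (s ^ q * ε) := by
      intro q
      induction q with
      | zero => simp [hσ, hyy]
      | succ q ih =>
        calc σ (t ^ (q + 1)) * ε = σ (t ^ q) * (σ t * ε) := by rw [pow_succ, hσmul, mul_assoc]
          _ = σ (t ^ q) * (ε * (t * s)) := by
              rw [← e, ← F.eps_comm _ (hσS t F.t_mem), ← mul_assoc ε ε, F.eps_idem]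
          _ = _ := by
              rw [← mul_assoc, ih, pow_succ t, pow_succ s]
              rw [mul_assoc (t ^ q), mul_assoc (t ^ q)]
              congr 1
              rw [mul_assoc (s ^ q) ε, F.eps_comm _ (S.mul_mem F.t_mem hs), ← mul_assoc,
                ← mul_assoc, ← F.t_comm _ (S.pow_mem hs q)]
              simp only [mul_assoc]
    exact h2 (N - 1)
  obtain ⟨s₀, hs₀, hs₀e⟩ := hσt
  -- the simple module
  let W : Submodule k R := LinearMap.range
    ((Algebra.lmul k R (t ^ (N - 1))) ∘ₗ (LinearMap.mulRight k i) ∘ₗ S.val.toLinearMap)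
  have hW : ∀ x, x ∈ W ↔ ∃ a ∈ S, x = t ^ (N - 1) * (a * i) := fun x => by
    constructor
    · rintro ⟨a, rfl⟩; exact ⟨a, a.2, rfl⟩
    · rintro ⟨a, ha, rfl⟩; exact ⟨⟨a, ha⟩, rfl⟩
  set w₀ := t ^ (N - 1) * i with hw₀
  have hw₀W : w₀ ∈ W := (hW _).2 ⟨1, S.one_mem, by rw [one_mul]⟩
  have hWne : w₀ ≠ 0 := F.t_top
  have hWS : ∀ s ∈ S, ∀ x ∈ W, s * x ∈ W := fun s hs x hx => by
    obtain ⟨a, ha, rfl⟩ := (hW x).1 hx
    exact (hW _).2 ⟨s * a, S.mul_mem hs ha, by
      rw [← mul_assoc, ← F.pow_comm _ hs]; simp only [mul_assoc]⟩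
  -- a nonzero vector reaches `w₀`
  have hreach : ∀ x ∈ W, x ≠ 0 → ∃ s ∈ S, s * x = w₀ := by
    intro x hx hx0
    obtain ⟨a, ha, rfl⟩ := (hW x).1 hx
    have hεx : ε * (t ^ (N - 1) * (a * i)) = t ^ (N - 1) * (a * i) := by
      rw [← mul_assoc, ← F.pow_comm _ F.eps_mem, mul_assoc, F.eps_comm _ (S.mul_mem ha F.i_mem),
        mul_assoc a, F.i_eps]
    obtain ⟨r, hr⟩ : ∃ r, i * v r * (t ^ (N - 1) * (a * i)) ≠ 0 := by
      by_contra h
      push Not at h
      refine hx0 ?_
      rw [← hεx, hgen, Finset.sum_mul]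
      exact Finset.sum_eq_zero fun r _ => by rw [mul_assoc (u r), mul_assoc (u r), h r, mul_zero]
    obtain ⟨c, b, hb, e⟩ := F.corner _ (S.mul_mem (hv r) ha)
    have h2 : i * v r * (t ^ (N - 1) * (a * i)) = c • w₀ := by
      rw [← mul_assoc, ← F.pow_comm _ (S.mul_mem F.i_mem (hv r)), mul_assoc,
        show i * v r * (a * i) = i * (v r * a) * i by simp only [mul_assoc], e, mul_add,
        mul_smul_comm, ← mul_assoc, ← pow_succ, Nat.sub_add_cancel F.pos, F.t_pow, zero_mul,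
        add_zero]
    refine ⟨c⁻¹ • (i * v r), S.smul_mem (S.mul_mem F.i_mem (hv r)) _, ?_⟩
    rw [smul_mul_assoc, h2, smul_smul, inv_mul_cancel₀ fun hc => hr (by rw [h2, hc, zero_smul]),
      one_smul]
  -- the semilinear map
  have hσw : σ w₀ ≠ 0 := fun h => hWne (by
    have := congrArg (fun z => y ^ (m - 1) * z * y) h
    simp only [hσ, mul_zero, zero_mul, ← mul_assoc, hyy', one_mul] at this
    rwa [mul_assoc, hyy', mul_one] at this)
  have hσε : σ ε = ε := by
    simp only [hσ]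
    rw [hyε, mul_assoc, hyy, mul_one]
  obtain ⟨r, hr⟩ : ∃ r, σ w₀ * (u r * i) ≠ 0 := by
    by_contra h
    push Not at h
    refine hσw ?_
    have hwε : w₀ * ε = w₀ := by rw [hw₀, mul_assoc, F.i_eps]
    rw [← hwε, hσmul, hσε]
    conv_lhs => rw [hgen]
    rw [Finset.mul_sum]
    exact Finset.sum_eq_zero fun r _ => by rw [← mul_assoc, h r, zero_mul]
  have hτW : ∀ x ∈ W, σ x * (u r * i) ∈ W := by
    intro x hx
    obtain ⟨a, ha, rfl⟩ := (hW x).1 hx
    refine (hW _).2 ⟨s₀ * (σ a * σ i * u r), S.mul_mem hs₀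
      (S.mul_mem (S.mul_mem (hσS a ha) (hσS i F.i_mem)) (hu r)), ?_⟩
    calc σ (t ^ (N - 1) * (a * i)) * (u r * i)
        = σ (t ^ (N - 1)) * (σ a * σ i * u r) * i := by rw [hσmul, hσmul]; simp only [mul_assoc]
      _ = σ (t ^ (N - 1)) * ε * (σ a * σ i * u r) * i := by
          rw [mul_assoc (σ (t ^ (N - 1))) ε,
            F.eps_comm _ (S.mul_mem (S.mul_mem (hσS a ha) (hσS i F.i_mem)) (hu r))]
          simp only [mul_assoc]
          rw [F.eps_i]
      _ = _ := by rw [hs₀e]; simp only [mul_assoc]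
  let τ : W →ₗ[k] W :=
    ((LinearMap.mulRight k (u r * i)) ∘ₗ (LinearMap.mulRight k (y ^ (m - 1))) ∘ₗ
      (LinearMap.mulLeft k y)).restrict fun x hx => by
        have := hτW x hx
        simp only [hσ] at this
        exact this
  have hτ : ∀ x : W, (τ x : R) = σ x * (u r * i) := fun x => by
    simp only [hσ]; rfl
  have hτs : ∀ s ∈ S, ∀ x : W, ∀ hsx : s * (x : R) ∈ W,
      (τ ⟨_, hsx⟩ : R) = σ s * τ x := fun s _ x _ => by
    rw [hτ, hτ, ← mul_assoc (σ s), ← hσmul]
  have hpowS : ∀ q, ∀ s ∈ S, σ^[q] s ∈ S := fun q => by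
    induction q with
    | zero => exact fun s hs => hs
    | succ q ih => intro s hs; rw [Function.iterate_succ_apply']; exact hσS _ (ih s hs)
  have hiter : ∀ q, ∀ s, σ^[q] s = y ^ q * s * y ^ ((m - 1) * q) := fun q => by
    induction q with
    | zero => simp
    | succ q ih =>
      intro s
      rw [Function.iterate_succ_apply', ih, pow_succ' y q, Nat.mul_succ, pow_add]
      simp only [hσ, mul_assoc]
  have hτq : ∀ q, ∀ s ∈ S, ∀ x : W, ∀ hsx : s * (x : R) ∈ W,
      ((τ ^ q) ⟨_, hsx⟩ : R) = σ^[q] s * ((τ ^ q) x : R) := by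
    intro q
    induction q with
    | zero => intro s _ x _; simp
    | succ q ih =>
      intro s hs x hsx
      have hmem : σ^[q] s * ((τ ^ q) x : R) ∈ W := hWS _ (hpowS q s hs) _ ((τ ^ q) x).2
      rw [pow_succ', Module.End.mul_apply, Module.End.mul_apply,
        show (τ ^ q) ⟨_, hsx⟩ = ⟨_, hmem⟩ from Subtype.ext (ih s hs x hsx),
        hτs _ (hpowS q s hs), Function.iterate_succ_apply']
  -- scalars
  have hσm : ∀ s, σ^[m] s = s := fun s => by
    rw [hiter, hy, one_mul, mul_comm, pow_mul, hy, one_pow, mul_one]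
  have hend : ∃ c : k, ∀ x : W, (τ ^ m) x = c • x := by
    have hfix : i * w₀ = w₀ := by rw [hw₀, ← mul_assoc, ← F.pow_comm _ F.i_mem, mul_assoc, F.idem]
    obtain ⟨a, ha, e⟩ := (hW _).1 ((τ ^ m) ⟨w₀, hw₀W⟩).2
    obtain ⟨c, b, hb, e'⟩ := F.corner a ha
    have h1 : ((τ ^ m) ⟨w₀, hw₀W⟩ : R) = c • w₀ := by
      have h0 := hτq m i F.i_mem ⟨w₀, hw₀W⟩ (hWS i F.i_mem _ hw₀W)
      simp only [hfix, hσm] at h0
      rw [h0, e, ← mul_assoc, ← F.pow_comm _ F.i_mem, mul_assoc, ← mul_assoc i, e', mul_add,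
        mul_smul_comm, ← mul_assoc, ← pow_succ, Nat.sub_add_cancel F.pos, F.t_pow, zero_mul,
        add_zero]
    refine ⟨c, fun x => Subtype.ext ?_⟩
    obtain ⟨a, ha, e⟩ := (hW _).1 x.2
    have hx : (x : R) = a * w₀ := by rw [e, hw₀, ← mul_assoc, F.pow_comm _ ha, mul_assoc]
    have h2 := hτq m a ha ⟨w₀, hw₀W⟩ (hWS a ha _ hw₀W)
    rw [hσm, h1] at h2
    rw [show x = ⟨_, hWS a ha _ hw₀W⟩ from Subtype.ext hx, h2]
    simp [mul_smul_comm]
  obtain ⟨c, hc⟩ := hend
  have hinj : Function.Injective τ := by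
    refine (injective_iff_map_eq_zero _).2 fun x hx => ?_
    by_contra hx0
    obtain ⟨s, hs, e⟩ := hreach x x.2 fun h => hx0 (Subtype.ext h)
    refine hr ?_
    have h3 := hτs s hs x (hWS s hs _ x.2)
    rw [hx, Submodule.coe_zero, mul_zero, hτ] at h3
    rwa [show σ w₀ = σ (s * x) by rw [e]]
  have : Nontrivial W := ⟨⟨w₀, hw₀W⟩, 0, fun h => hWne (congrArg Subtype.val h)⟩
  have hc0 : c ≠ 0 := by
    intro h
    have hi : Function.Injective (τ ^ m) := by
      rw [Module.End.coe_pow]; exact hinj.iterate m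
    refine hWne (congrArg Subtype.val (hi (a₁ := ⟨w₀, hw₀W⟩) (a₂ := 0) ?_))
    rw [hc, map_zero, h, zero_smul]
  obtain ⟨μ, hμ⟩ := IsAlgClosed.exists_pow_nat_eq c⁻¹ hm0
  set τ' := μ • τ with hτ'
  have hτ'm : τ' ^ m = 1 := by
    refine LinearMap.ext fun x => ?_
    rw [hτ', smul_pow, hμ, LinearMap.smul_apply, hc, smul_smul, inv_mul_cancel₀ hc0, one_smul,
      Module.End.one_apply]
  obtain ⟨ζ, hζ⟩ := Module.End.exists_eigenvalue τ'
  obtain ⟨v₁, hv₁⟩ := hζ.exists_hasEigenvector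
  have hv₁0 : v₁ ≠ 0 := hv₁.2
  have hv₁e : τ' v₁ = ζ • v₁ := hv₁.apply_eq_smul
  have hpv : ∀ q, (τ' ^ q) v₁ = ζ ^ q • v₁ := fun q => by
    induction q with
    | zero => simp
    | succ q ih =>
      rw [pow_succ', Module.End.mul_apply, ih, map_smul, hv₁e, smul_smul, ← pow_succ]
  have hζm : ζ ^ m = 1 := by
    have h := hpv m
    rw [hτ'm, Module.End.one_apply] at h
    by_contra hne
    refine hv₁0 ((smul_eq_zero.1 ((sub_smul (ζ ^ m) (1 : k) v₁).trans
      (by rw [one_smul, ← h, sub_self]))).resolve_left (sub_ne_zero.2 hne))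
  obtain ⟨l₀, hl₀⟩ := Module.Projective.exists_dual_ne_zero k hv₁0
  obtain ⟨L₀, hL₀⟩ := LinearMap.exists_extend (p := W) ((l₀ v₁)⁻¹ • l₀)
  have hL₀v : L₀ (v₁ : R) = 1 := by
    have := LinearMap.congr_fun hL₀ v₁
    simpa [hl₀] using this
  obtain ⟨z, hz, hzact⟩ := F.exists_rank_one L₀ ((hW _).1 v₁.2)
  -- average
  set a : R := (m : k)⁻¹ • ∑ q ∈ Finset.range m, σ^[q] z with ha
  have haS : a ∈ S := S.smul_mem (S.sum_mem fun q _ => hpowS q z hz) _
  have hay : y * a = a * y := by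
    have h1 : σ a = a := by
      have hlin : ∀ (c : k) (f : ℕ → R), σ (c • ∑ q ∈ Finset.range m, f q) =
          c • ∑ q ∈ Finset.range m, σ (f q) := fun c f => by
        simp only [hσ, mul_smul_comm, smul_mul_assoc, Finset.mul_sum, Finset.sum_mul]
      rw [ha, hlin]
      congr 1
      have h2 : ∀ q, σ (σ^[q] z) = σ^[q + 1] z := fun q => by
        rw [Function.iterate_succ_apply']
      rw [Finset.sum_congr rfl fun q _ => h2 q]
      have h3 := (Finset.sum_range_succ' (fun q => σ^[q] z) m).symm.trans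
        (Finset.sum_range_succ (fun q => σ^[q] z) m)
      rw [hσm] at h3
      simpa using add_right_cancel h3
    conv_rhs => rw [← h1]
    simp only [hσ, mul_assoc, hyy', mul_one]
  -- the action of `a`
  set L : W →ₗ[k] k := (m : k)⁻¹ • ∑ q ∈ Finset.range m,
    ζ ^ q • (L₀ ∘ₗ W.subtype ∘ₗ τ' ^ ((m - 1) * q)) with hL
  have hzW : ∀ x : W, z * (x : R) = L₀ (x : R) • (v₁ : R) := fun x => by
    obtain ⟨a', ha', e⟩ := (hW _).1 x.2
    rw [e]; exact hzact a' ha'
  have haW : ∀ x : W, a * (x : R) = L x • (v₁ : R) := by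
    intro x
    simp only [ha, hL, smul_mul_assoc, Finset.sum_mul, LinearMap.smul_apply, LinearMap.sum_apply,
      smul_assoc, Finset.sum_smul]
    congr 1
    refine Finset.sum_congr rfl fun q _ => ?_
    set x' := (τ' ^ ((m - 1) * q)) x with hx'
    have hx : (τ' ^ q) x' = x := by
      rw [hx', ← Module.End.mul_apply, ← pow_add, show q + (m - 1) * q = m * q by
        rw [Nat.sub_mul, one_mul, Nat.add_sub_cancel' (Nat.le_mul_of_pos_left q hm0)],
        pow_mul, hτ'm, one_pow, Module.End.one_apply]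
    have hmul : ∀ w : W, ((τ' ^ q) w : R) = μ ^ q • ((τ ^ q) w : R) := fun w => by
      rw [hτ', smul_pow, LinearMap.smul_apply, Submodule.coe_smul]
    have hzx := hzW x'
    have hmem := hWS z hz _ x'.2
    have h1 := hτq q z hz x' hmem
    rw [show (⟨_, hmem⟩ : W) = L₀ (x' : R) • v₁ from Subtype.ext hzx, map_smul,
      Submodule.coe_smul] at h1
    have h2 : σ^[q] z * ((τ' ^ q) x' : R) = L₀ (x' : R) • ((τ' ^ q) v₁ : R) := by
      rw [hmul, hmul, mul_smul_comm, ← h1, smul_comm]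
    rw [hx, hpv, Submodule.coe_smul, smul_smul, mul_comm] at h2
    rw [h2, smul_smul]
    rfl
  have hLv : L v₁ = 1 := by
    simp only [hL, LinearMap.smul_apply, LinearMap.sum_apply]
    have : ∀ q ∈ Finset.range m,
        ζ ^ q • ((L₀ ∘ₗ W.subtype ∘ₗ τ' ^ ((m - 1) * q)) v₁) = 1 := fun q _ => by
      simp only [LinearMap.comp_apply, hpv, map_smul, Submodule.coe_subtype,
        hL₀v, smul_eq_mul, mul_one]
      rw [← pow_add, show q + (m - 1) * q = m * q by
        rw [Nat.sub_mul, one_mul, Nat.add_sub_cancel' (Nat.le_mul_of_pos_left q hm0)],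
        pow_mul, hζm, one_pow]
    rw [Finset.sum_congr rfl this, Finset.sum_const, Finset.card_range, nsmul_eq_mul, mul_one,
      smul_eq_mul, inv_mul_cancel₀ hm]
  -- idempotent
  obtain ⟨b, hb⟩ : ∃ b, b = a * ε := ⟨_, rfl⟩
  have hbS : b ∈ S := hb ▸ S.mul_mem haS F.eps_mem
  have hεW : ∀ x : W, ε * (x : R) = x := fun x => by
    obtain ⟨a', ha', e⟩ := (hW _).1 x.2
    rw [e, ← mul_assoc, ← F.pow_comm _ F.eps_mem, mul_assoc,
      F.eps_comm _ (S.mul_mem ha' F.i_mem), mul_assoc a', F.i_eps]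
  have hbW : ∀ x : W, b * (x : R) = L x • (v₁ : R) := fun x => by
    rw [hb, mul_assoc, hεW, haW]
  have hby : Commute b y := hb ▸ (show Commute a y from hay.symm).mul_left hyε.symm
  have hkill : ∀ a' ∈ S, (b - b * b) * (t ^ (N - 1) * (a' * i)) = 0 := by
    intro a' ha'
    set x : W := ⟨_, (hW _).2 ⟨a', ha', rfl⟩⟩
    show (b - b * b) * (x : R) = 0
    rw [sub_mul, mul_assoc, hbW, mul_smul_comm, hbW, hLv, one_smul, sub_self]
  have hbε : b * ε = b := by rw [hb, mul_assoc, F.eps_idem]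
  obtain ⟨s₁, hs₁, hs₁e⟩ := F.mem_t_of_kill (S.sub_mem hbS (S.mul_mem hbS hbS)) hkill
  have hεb : ε * (b - b * b) = b - b * b := by
    rw [F.eps_comm _ (S.sub_mem hbS (S.mul_mem hbS hbS)), sub_mul, mul_assoc, hbε]
  rw [hεb] at hs₁e
  have hnil : (b - b * b) ^ N = 0 := by
    rw [hs₁e, (show Commute t s₁ from F.t_comm s₁ hs₁).mul_pow, F.t_pow, zero_mul]
  obtain ⟨i', hi'i, hcomm, -, hmem⟩ := exists_idem_of_nilpotent (k := k) F.pos hnil
  obtain ⟨hi'S, s₂, hs₂, hs₂e⟩ := hmem S hbS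
  have hi'y : y * i' = i' * y := (hcomm y hby).eq.symm
  have hdiff : i' = b + t * (s₁ * s₂) := by
    rw [← mul_assoc, ← hs₁e, ← hs₂e, add_sub_cancel]
  have htW : ∀ x : W, t * (x : R) = 0 := fun x => by
    obtain ⟨a', ha', e⟩ := (hW _).1 x.2
    rw [e, ← mul_assoc, ← pow_succ', Nat.sub_add_cancel F.pos, F.t_pow, zero_mul]
  have hi'W : ∀ x : W, i' * (x : R) = L x • (v₁ : R) := fun x => by
    rw [hdiff, add_mul, hbW, F.t_comm _ (S.mul_mem hs₁ hs₂), mul_assoc, htW, mul_zero, add_zero]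
  have hi'ε : ε * i' = i' := by
    rw [hdiff, mul_add, F.eps_comm b hbS, hbε]
    congr 1
    rw [← mul_assoc t, ← hs₁e, ← mul_assoc, hεb]
  have hgen' : ∃ (n' : ℕ) (u' v' : Fin n' → R),
      (∀ a, u' a ∈ S) ∧ (∀ a, v' a ∈ S) ∧ ε = ∑ a, u' a * i' * v' a := by
    obtain ⟨a₁, ha₁, hv₁W⟩ := (hW _).1 v₁.2
    set q := a₁ * i with hq
    have hqS : q ∈ S := S.mul_mem ha₁ F.i_mem
    have hqw : q * w₀ = v₁ := by
      rw [hv₁W, hq, hw₀, ← mul_assoc, mul_assoc a₁ i, ← F.pow_comm _ F.i_mem, mul_assoc a₁,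
        mul_assoc (t ^ (N - 1)) i, F.idem, ← mul_assoc, ← F.pow_comm _ ha₁, mul_assoc]
    obtain ⟨L₁, hL₁⟩ := LinearMap.exists_extend (p := W) L
    have hL₁W : ∀ x : W, L₁ (x : R) = L x := fun x => LinearMap.congr_fun hL₁ x
    obtain ⟨p, hp, hpact⟩ := F.exists_rank_one L₁ (v := w₀) ⟨1, S.one_mem, by rw [one_mul]⟩
    have hpv₁ : p * (v₁ : R) = w₀ := by
      rw [hv₁W, hpact a₁ ha₁, ← hv₁W, hL₁W, hLv, one_smul]
    set z' := i - i * p * i' * q * i with hz'
    have hz'S : z' ∈ S := S.sub_mem F.i_mem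
      (S.mul_mem (S.mul_mem (S.mul_mem (S.mul_mem F.i_mem hp) hi'S) hqS) F.i_mem)
    have hfix : i * w₀ = w₀ := by rw [hw₀, ← mul_assoc, ← F.pow_comm _ F.i_mem, mul_assoc, F.idem]
    obtain ⟨s₃, hs₃, hs₃e⟩ := F.mem_t_of_kill hz'S fun a' ha' => by
      obtain ⟨c', b', hb', e'⟩ := F.corner a' ha'
      have hix : i * (t ^ (N - 1) * (a' * i)) = c' • w₀ := by
        rw [← mul_assoc, ← F.pow_comm _ F.i_mem, mul_assoc, ← mul_assoc i, e', mul_add,
          mul_smul_comm, ← mul_assoc, ← pow_succ, Nat.sub_add_cancel F.pos, F.t_pow, zero_mul,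
          add_zero]
      rw [hz', sub_mul, mul_assoc (i * p * i' * q), hix, mul_smul_comm, mul_assoc (i * p * i'),
        hqw, mul_assoc (i * p), hi'W, hLv, one_smul, mul_assoc, hpv₁, hfix, sub_self]
    have hεz : ε * z' = z' := by
      rw [hz', mul_sub, F.eps_i]
      simp only [← mul_assoc, F.eps_i]
    rw [hεz] at hs₃e
    -- `ε = Σ (u i p) i' (q i v) + t s`
    set s₄ := ∑ a, u a * s₃ * v a with hs₄
    have hs₄S : s₄ ∈ S := S.sum_mem fun a _ => S.mul_mem (S.mul_mem (hu a) hs₃) (hv a)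
    have he : ε * (1 - t * s₄) = ∑ a, u a * (i * p) * i' * (q * i * v a) := by
      have h1 : ε = ∑ a, u a * (i * p) * i' * (q * i * v a) + t * s₄ := by
        conv_lhs => rw [hgen]
        rw [hs₄, Finset.mul_sum, ← Finset.sum_add_distrib]
        refine Finset.sum_congr rfl fun a _ => ?_
        rw [← mul_assoc t, ← mul_assoc t, F.t_comm _ (hu a), mul_assoc (u a) t, ← hs₃e, hz']
        simp only [mul_sub, sub_mul, ← mul_assoc]
        abel
      have hεts : ε * (t * s₄) = t * s₄ := by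
        rw [hs₄, Finset.mul_sum, Finset.mul_sum]
        refine Finset.sum_congr rfl fun a _ => ?_
        rw [← mul_assoc t (u a * s₃), ← mul_assoc t (u a), F.t_comm _ (hu a), mul_assoc (u a) t,
          ← hs₃e, ← mul_assoc ε, ← mul_assoc ε, F.eps_comm _ (hu a), mul_assoc (u a) ε, hεz]
      rw [mul_sub, mul_one, hεts]
      exact sub_eq_iff_eq_add.2 h1
    set g := ∑ q ∈ Finset.range N, (t * s₄) ^ q with hg
    have hgS : g ∈ S := S.sum_mem fun q _ => S.pow_mem (S.mul_mem F.t_mem hs₄S) q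
    have hεg : ε = ∑ a, u a * (i * p) * i' * (q * i * v a * g) := by
      have h1 : (1 - t * s₄) * g = 1 := by
        rw [hg, mul_neg_geom_sum, (show Commute t s₄ from F.t_comm s₄ hs₄S).mul_pow, F.t_pow,
          zero_mul, sub_zero]
      calc ε = ε * (1 - t * s₄) * g := by rw [mul_assoc, h1, mul_one]
        _ = _ := by rw [he, Finset.sum_mul]; simp only [mul_assoc]
    exact ⟨n, fun a => u a * (i * p), fun a => q * i * v a * g,
      fun a => S.mul_mem (hu a) (S.mul_mem F.i_mem hp),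
      fun a => S.mul_mem (S.mul_mem (S.mul_mem hqS F.i_mem) (hv a)) hgS, hεg⟩
  refine ⟨i', ?_, hi'y⟩
  exact {
    eps_mem := F.eps_mem
    t_mem := F.t_mem
    i_mem := hi'S
    idem := hi'i
    eps_comm := F.eps_comm
    t_comm := F.t_comm
    eps_i := hi'ε
    t_pow := F.t_pow
    t_top := fun h => by
      obtain ⟨n', u', v', hu', hv', e'⟩ := hgen'
      refine F.t_top ?_
      rw [← F.eps_i, e', Finset.sum_mul, Finset.mul_sum]
      refine Finset.sum_eq_zero fun a _ => ?_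
      calc t ^ (N - 1) * (u' a * i' * v' a * i)
          = t ^ (N - 1) * u' a * i' * (v' a * i) := by simp only [mul_assoc]
        _ = 0 := by rw [F.pow_comm _ (hu' a), mul_assoc (u' a), h, mul_zero, zero_mul]
    corner := fun a' ha' => by
      set x : W := ⟨a' * (v₁ : R), hWS a' ha' _ v₁.2⟩
      set z' := i' * a' * i' - L x • i' with hz'
      have hz'S : z' ∈ S :=
        S.sub_mem (S.mul_mem (S.mul_mem hi'S ha') hi'S) (S.smul_mem hi'S _)
      obtain ⟨s, hs, e⟩ := F.mem_t_of_kill hz'S fun b' hb' => by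
        set w : W := ⟨_, (hW _).2 ⟨b', hb', rfl⟩⟩
        show z' * (w : R) = 0
        rw [hz', sub_mul, smul_mul_assoc, mul_assoc, hi'W, mul_smul_comm, mul_assoc,
          show i' * (a' * (v₁ : R)) = L x • (v₁ : R) from hi'W x, smul_comm, sub_self]
      have hεz : ε * z' = z' := by
        rw [hz', mul_sub, mul_smul_comm, hi'ε, ← mul_assoc, ← mul_assoc, hi'ε]
      rw [hεz] at e
      refine ⟨L x, s, hs, ?_⟩
      have h1 : i' * z' * i' = z' := by
        rw [hz', mul_sub, sub_mul, mul_smul_comm, smul_mul_assoc, hi'i, hi'i]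
        simp only [← mul_assoc, hi'i]
        rw [mul_assoc (i' * a'), hi'i]
      rw [← sub_eq_iff_eq_add', ← hz', ← h1, e, ← mul_assoc i' t, ← F.t_comm _ hi'S]
      simp only [mul_assoc]
    gen := hgen' }

end Frame

end Cfsg.Agent.BlockChar.Cyclic
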