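import Cfsg.Agent.BlockChar.Cyclic.Weights

/-!
# Every eigenvalue occurs as the weight of a simple module of the block
-/

set_option autoImplicit false

namespace Cfsg.Agent.BlockChar.Cyclic

open BlockThms.OrderP (SimpleMod)

universe u v w

namespace LocalData

variable {k : Type w} [Field k] {G : Type u} [Group G] [Fintype G] {p : ℕ}
  {Q P K T : Subgroup G} {y : G} {o e : ℕ} {ε e₁ b t i : MonoidAlgebra k G} {N : ℕ}

variable (L : LocalData p Q P K T y o e ε e₁ b t i N)
include L

/-- Triviality of weights passes through extensions. -/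
theorem triv_of_submodule {V : Type v} [AddCommGroup V] [Module k V]
    [Module (MonoidAlgebra k G) V] [IsScalarTower k (MonoidAlgebra k G) V] [FiniteDimensional k V]
    (W : Submodule (MonoidAlgebra k G) V) {a : k}
    (hW : ∀ g : W →ₗ[k] k, IsWt i t (MonoidAlgebra.of k G y) a g → IsTriv i t N g)
    (hQ : ∀ g : (V ⧸ W) →ₗ[k] k, IsWt i t (MonoidAlgebra.of k G y) a g → IsTriv i t N g)
    (g : V →ₗ[k] k) (hg : IsWt i t (MonoidAlgebra.of k G y) a g) : IsTriv i t N g := by
  classical
  by_contra hnt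
  obtain ⟨x₀, hx₀⟩ := exists_of_not_isTriv (i := i) (t := t) (N := N) hnt
  have hao : a ^ o = 1 := hg.pow_eq_one L.twist fun h => hx₀ (by rw [h]; rfl)
  have ha0 : a ≠ 0 := fun h => by
    rw [h, zero_pow L.twist.pos.ne'] at hao; exact zero_ne_one hao
  set Y := MonoidAlgebra.of k G y with hY
  -- the restriction to `W`
  let gW : W →ₗ[k] k := g ∘ₗ W.subtype.restrictScalars k
  have hgW : IsWt i t Y a gW := ⟨fun x => hg.right _, fun x => hg.kill _, fun x => hg.eig _⟩
  have htriv := hW gW hgW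
  let Lt : W →ₗ[k] W := Algebra.lsmul k k W (t ^ (N - 1) * i)
  have hker : LinearMap.ker Lt ≤ LinearMap.ker gW := fun x hx => by
    rw [LinearMap.mem_ker] at hx ⊢
    rw [← hgW.right]
    refine htriv (i • x) (by rw [← mul_smul, L.frame.idem]) ?_
    rw [← mul_smul]
    exact hx
  obtain ⟨h₀, hh₀⟩ : ∃ h₀ : W →ₗ[k] k, h₀ ∘ₗ Lt = gW := by
    obtain ⟨C, hC⟩ := (LinearMap.ker Lt).exists_isCompl
    obtain ⟨r, hr⟩ := (Lt ∘ₗ C.subtype).exists_leftInverse_of_injective (LinearMap.ker_eq_bot'.2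
      fun x hx => Subtype.ext (Submodule.disjoint_def.1 hC.disjoint _ hx x.2))
    refine ⟨gW ∘ₗ C.subtype ∘ₗ r, LinearMap.ext fun x => ?_⟩
    obtain ⟨x₁, hx₁, x₂, hx₂, rfl⟩ := Submodule.mem_sup.1
      (show x ∈ LinearMap.ker Lt ⊔ C by rw [hC.sup_eq_top]; trivial)
    have h1 : r (Lt x₂) = ⟨x₂, hx₂⟩ := LinearMap.congr_fun hr ⟨x₂, hx₂⟩
    show gW ((r (Lt (x₁ + x₂)) : C) : W) = gW (x₁ + x₂)
    rw [map_add Lt, LinearMap.mem_ker.1 hx₁, zero_add, h1, map_add gW,
      LinearMap.mem_ker.1 (hker hx₁), zero_add]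
  obtain ⟨h', hh'⟩ := LinearMap.exists_extend (p := W.restrictScalars k) h₀
  set g₁ : V →ₗ[k] k := (o : k)⁻¹ • ∑ n ∈ Finset.range o,
    (a⁻¹) ^ n • (h' ∘ₗ Algebra.lsmul k k V (t ^ (N - 1) * i * Y ^ n)) with hg₁
  have happ : ∀ x : V, g₁ x = (o : k)⁻¹ * ∑ n ∈ Finset.range o,
      (a⁻¹) ^ n * h' ((t ^ (N - 1) * i * Y ^ n) • x) := fun x => by
    simp only [hg₁, LinearMap.smul_apply, LinearMap.sum_apply, LinearMap.comp_apply,
      Algebra.lsmul_coe, smul_eq_mul]
  have hYi : ∀ n : ℕ, Y ^ n * i = i * Y ^ n := L.twist.pow_comm_i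
  have hg₁wt : IsWt i t Y a g₁ := by
    refine ⟨fun x => ?_, fun x => ?_, fun x => ?_⟩
    · rw [happ, happ]
      refine congrArg _ (Finset.sum_congr rfl fun n _ => ?_)
      congr 2
      rw [← mul_smul, mul_assoc _ _ i, hYi, mul_assoc (t ^ (N - 1)) i, ← mul_assoc i i, L.frame.idem,
        mul_assoc]
    · rw [happ, Finset.sum_eq_zero fun n _ => ?_, mul_zero]
      obtain ⟨c, hc, he⟩ := L.twist.conj_t L.frame n
      have e1 : t ^ (N - 1) * i * Y ^ n * t = 0 := by
        calc t ^ (N - 1) * i * Y ^ n * t = t ^ (N - 1) * (Y ^ n * t * i) := by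
              simp only [mul_assoc]
              rw [L.frame.t_comm_i, ← mul_assoc (Y ^ n) i, hYi, mul_assoc]
          _ = 0 := by
              rw [he, ← mul_assoc, ← mul_assoc, ← pow_succ,
                Nat.sub_add_cancel L.frame.pos, L.frame.t_pow, zero_mul, zero_mul]
      rw [← mul_smul, e1, zero_smul, map_zero, mul_zero]
    · rw [happ, happ]
      set f : ℕ → k := fun n => a * ((a⁻¹) ^ n * h' ((t ^ (N - 1) * i * Y ^ n) • x)) with hf
      have h1 : ∀ n, (a⁻¹) ^ n * h' ((t ^ (N - 1) * i * Y ^ n) • Y • x) = f (n + 1) := fun n => by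
        simp only [hf]
        rw [← mul_smul, mul_assoc _ (Y ^ n) Y, ← pow_succ, pow_succ' a⁻¹, mul_assoc a⁻¹,
          mul_inv_cancel_left₀ ha0]
      have h2 : f o = f 0 := by simp [hf, hY, ← map_pow, L.y_pow, inv_pow, hao]
      rw [mul_left_comm a]
      congr 1
      rw [Finset.sum_congr rfl fun n _ => h1 n]
      have h3 := (Finset.sum_range_succ' f o).symm.trans (Finset.sum_range_succ f o)
      rw [h2] at h3
      rw [add_right_cancel h3, Finset.mul_sum]
  have hon : ∀ x ∈ W, g₁ x = g x := by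
    intro x hx
    have h1 : ∀ n, h' ((t ^ (N - 1) * i * Y ^ n) • x) = a ^ n * g x := fun n => by
      have h2 : h' ((t ^ (N - 1) * i * Y ^ n) • x) = gW (Y ^ n • ⟨x, hx⟩) := by
        rw [← hh₀]
        have h3 := LinearMap.congr_fun hh' ((t ^ (N - 1) * i) • Y ^ n • (⟨x, hx⟩ : W))
        rw [mul_smul (t ^ (N - 1) * i)]
        exact h3
      rw [h2]
      exact hg.eig_pow n x
    rw [happ, Finset.sum_congr rfl fun n _ => by
      rw [h1, ← mul_assoc, ← mul_pow, inv_mul_cancel₀ ha0, one_pow, one_mul], Finset.sum_const,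
      Finset.card_range, nsmul_eq_mul, ← mul_assoc, inv_mul_cancel₀ L.o_ne, one_mul]
  have hkill : ∀ x : V, i • x = x → t ^ (N - 1) • x = 0 → g₁ x = 0 := fun x hx hxN => by
    rw [happ, Finset.sum_eq_zero fun n _ => ?_, mul_zero]
    rw [mul_assoc, ← hYi, ← mul_assoc, mul_smul, hx, mul_smul,
      L.twist.smul_pow_eq_zero L.frame n (N - 1) hx hxN, map_zero, mul_zero]
  -- descend to the quotient
  set g₂ : V →ₗ[k] k := g - g₁ with hg₂
  have hg₂W : ∀ x ∈ W, g₂ x = 0 := fun x hx => by
    rw [hg₂, LinearMap.sub_apply, hon x hx, sub_self]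
  set q : V →ₗ[k] V ⧸ W := (Submodule.mkQ W).restrictScalars k with hq
  obtain ⟨gb, hgb⟩ : ∃ gb : (V ⧸ W) →ₗ[k] k, gb ∘ₗ q = g₂ := by
    obtain ⟨r, hr⟩ := q.exists_rightInverse_of_surjective
      (LinearMap.range_eq_top.2 (Submodule.mkQ_surjective W))
    refine ⟨g₂ ∘ₗ r, LinearMap.ext fun x => sub_eq_zero.1 ?_⟩
    show g₂ (r (q x)) - g₂ x = 0
    rw [← map_sub]
    refine hg₂W _ ((Submodule.Quotient.mk_eq_zero W).1 ?_)
    show q (r (q x) - x) = 0
    rw [map_sub, ← LinearMap.comp_apply q r, hr]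
    simp
  have hgb' : ∀ x : V, gb (Submodule.Quotient.mk x) = g₂ x := LinearMap.congr_fun hgb
  have hgbwt : IsWt i t Y a gb := by
    refine ⟨fun x => ?_, fun x => ?_, fun x => ?_⟩ <;>
    · obtain ⟨x, rfl⟩ := Submodule.Quotient.mk_surjective W x
      rw [← Submodule.Quotient.mk_smul, hgb']
      simp only [hgb', hg₂, LinearMap.sub_apply, hg.right, hg₁wt.right, hg.kill, hg₁wt.kill,
        hg.eig, hg₁wt.eig, mul_sub, sub_self]
  refine hnt fun x hx hxN => ?_
  have h1 := hQ gb hgbwt (Submodule.Quotient.mk x) (by rw [← Submodule.Quotient.mk_smul, hx])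
    (by rw [← Submodule.Quotient.mk_smul, hxN, Submodule.Quotient.mk_zero])
  rw [hgb', hg₂, LinearMap.sub_apply, hkill x hx hxN, sub_zero] at h1
  exact h1

/-- If the weights on the simple modules are trivial, all are. -/
theorem triv_of_simples {a : k}
    (hS : ∀ S : SimpleMod.{u, v, w} k G ε, ∀ g : S.V →ₗ[k] k,
      IsWt i t (MonoidAlgebra.of k G y) a g → IsTriv i t N g) :
    ∀ (d : ℕ) (V : Type v) [AddCommGroup V] [Module k V] [Module (MonoidAlgebra k G) V]
      [IsScalarTower k (MonoidAlgebra k G) V] [FiniteDimensional k V],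
      Module.finrank k V ≤ d → (∀ x : V, ε • x = x) →
      ∀ g : V →ₗ[k] k, IsWt i t (MonoidAlgebra.of k G y) a g → IsTriv i t N g := by
  intro d
  induction d with
  | zero =>
    intro V _ _ _ _ _ hd _ g _ x _ _
    have : Subsingleton V := Module.finrank_zero_iff.1 (Nat.le_zero.1 hd)
    rw [Subsingleton.elim x 0, map_zero]
  | succ d ih =>
    intro V _ _ _ _ _ hd hε g hg
    rcases subsingleton_or_nontrivial V with hs | hs
    · intro x _ _
      rw [Subsingleton.elim x 0, map_zero]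
    by_cases hsimp : IsSimpleModule (MonoidAlgebra k G) V
    · exact hS ⟨V, hε⟩ g hg
    obtain ⟨W, hW0, hW1⟩ : ∃ W : Submodule (MonoidAlgebra k G) V, W ≠ ⊥ ∧ W ≠ ⊤ := by
      by_contra h
      push Not at h
      exact hsimp ((isSimpleModule_iff _ _).2 ⟨fun W => or_iff_not_imp_left.2 (h W)⟩)
    have h1 : Module.finrank k (W.restrictScalars k) < Module.finrank k V :=
      Submodule.finrank_lt fun h => hW1 (by rwa [Submodule.restrictScalars_eq_top_iff] at h)
    have h2 : 0 < Module.finrank k (W.restrictScalars k) := by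
      rw [Nat.pos_iff_ne_zero, Ne, Submodule.finrank_eq_zero]
      exact fun h => hW0 (by rwa [Submodule.restrictScalars_eq_bot_iff] at h)
    have h3 := Submodule.finrank_quotient_add_finrank (W.restrictScalars k)
    have hQfd : FiniteDimensional k (V ⧸ W) :=
      Module.Finite.of_surjective ((Submodule.mkQ W).restrictScalars k)
        (Submodule.mkQ_surjective W)
    have hQd : Module.finrank k (V ⧸ W) = Module.finrank k (V ⧸ W.restrictScalars k) :=
      ((Submodule.Quotient.restrictScalarsEquiv k W).finrank_eq).symm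
    have hWfd : FiniteDimensional k W :=
      inferInstanceAs (FiniteDimensional k (W.restrictScalars k))
    have hWd : Module.finrank k W = Module.finrank k (W.restrictScalars k) := rfl
    refine L.triv_of_submodule W (ih W (by omega) fun x => Subtype.ext (hε x))
      (ih (V ⧸ W) (by omega) fun z => ?_) g hg
    obtain ⟨x, rfl⟩ := Submodule.mkQ_surjective W z
    rw [← map_smul, hε]

variable [Fact p.Prime] [CharP k p]

omit [Fact p.Prime] [CharP k p] in
theorem conj_mem_of_T {g : G} (hg : g ∈ T) {x : MonoidAlgebra k G} (hx : x ∈ kSub k T) :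
    conjRep k g x ∈ kSub k T := conjRep_mem k (Subgroup.le_normalizer hg) hx

/-- Every eigenvalue is the weight of a simple module. -/
theorem exists_simple {c a : k} {s : MonoidAlgebra k G} (hs : s ∈ kSub k K)
    (hc : MonoidAlgebra.of k G (y ^ e) * i = c • i + t * s) (hc0 : c ≠ 0) (ha : a ^ e = c) :
    ∃ (S : SimpleMod.{u, max u w, w} k G ε) (g : S.V →ₗ[k] k),
      IsWt i t (MonoidAlgebra.of k G y) a g ∧ ¬ IsTriv i t N g := by
  classical
  by_contra hcon
  push Not at hcon
  have he : 0 < e := Nat.pos_of_ne_zero fun h => L.e_ne (by rw [h, Nat.cast_zero])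
  have ha0 : a ≠ 0 := fun h => hc0 (by rw [← ha, h, zero_pow he.ne'])
  have hN := L.one_lt
  set Y := MonoidAlgebra.of k G y with hY
  set w₀ := t ^ (N - 1) * i with hw₀
  have hiw₀ : i * w₀ = w₀ := by
    rw [hw₀, ← mul_assoc, ← L.frame.pow_comm _ L.frame.i_mem, mul_assoc, L.frame.idem]
  have htw₀ : t * w₀ = 0 := by
    rw [hw₀, ← mul_assoc, ← pow_succ', Nat.sub_add_cancel L.frame.pos, L.frame.t_pow, zero_mul]
  have hw₀S : w₀ ∈ kSub k K :=
    Subalgebra.mul_mem _ (Subalgebra.pow_mem _ L.frame.t_mem _) L.frame.i_mem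
  set u : MonoidAlgebra k G := ∑ j ∈ Finset.range e, (a⁻¹) ^ j • (Y ^ j * w₀) with hu
  have hYw₀ : Y ^ e * w₀ = c • w₀ := by
    calc Y ^ e * w₀ = MonoidAlgebra.of k G (y ^ e) * i * t ^ (N - 1) := by
          rw [hw₀, L.frame.pow_comm _ L.frame.i_mem, ← mul_assoc, hY, ← map_pow]
      _ = c • w₀ := by
          rw [hc, add_mul, smul_mul_assoc, ← L.frame.pow_comm _ L.frame.i_mem, ← hw₀]
          have hsS : t * s * t ^ (N - 1) = 0 := by
            rw [mul_assoc, ← L.frame.pow_comm _ hs, ← mul_assoc, ← pow_succ',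
              Nat.sub_add_cancel L.frame.pos, L.frame.t_pow, zero_mul]
          rw [hsS, add_zero]
  have hYu : Y * u = a • u := by
    set f : ℕ → MonoidAlgebra k G := fun j => a • (a⁻¹) ^ j • (Y ^ j * w₀) with hf
    have h1 : ∀ j, Y * ((a⁻¹) ^ j • (Y ^ j * w₀)) = f (j + 1) := fun j => by
      simp only [hf]
      rw [mul_smul_comm, ← mul_assoc, ← pow_succ', smul_smul, pow_succ' a⁻¹,
        mul_inv_cancel_left₀ ha0]
    have h2 : f e = f 0 := by
      simp only [hf, pow_zero, one_mul, one_smul]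
      rw [hYw₀, smul_smul, inv_pow, ha, smul_smul, mul_assoc, inv_mul_cancel₀ hc0, mul_one]
    rw [hu, Finset.mul_sum, Finset.sum_congr rfl fun j _ => h1 j, Finset.smul_sum]
    have h3 := (Finset.sum_range_succ' f e).symm.trans (Finset.sum_range_succ f e)
    rw [h2] at h3
    exact add_right_cancel h3
  have htu : t * u = 0 := by
    rw [hu, Finset.mul_sum, Finset.sum_eq_zero fun j _ => ?_]
    have h1 := L.twist.smul_pow_eq_zero (M := MonoidAlgebra k G) L.frame j 1 (x := w₀) hiw₀
      (by rw [pow_one]; exact htw₀)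
    rw [pow_one] at h1
    rw [mul_smul_comm]
    show _ • (t * (Y ^ j * w₀)) = 0
    rw [show t * (Y ^ j * w₀) = 0 from h1, smul_zero]
  have hiu : i * u = u := by
    rw [hu, Finset.mul_sum]
    refine Finset.sum_congr rfl fun j _ => ?_
    rw [mul_smul_comm, ← mul_assoc, ← L.twist.pow_comm_i, mul_assoc, hiw₀]
  have htruncu : trunc k K u = w₀ := by
    rw [hu, map_sum, Finset.sum_eq_single 0]
    · rw [pow_zero, one_smul, pow_zero, one_mul, trunc_of_mem k hw₀S]
    · intro j hj hj0
      rw [map_smul, trunc_mul_right k hw₀S, hY, ← map_pow, MonoidAlgebra.of_apply,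
        trunc_of_single k fun h => hj0 (Nat.eq_zero_of_dvd_of_lt ((L.y_pow_mem j).1 h)
          (Finset.mem_range.1 hj)), zero_mul, smul_zero]
    · intro h; exact absurd (Finset.mem_range.2 he) h
  -- the elements of `Q` fix `u`
  have hQu : ∀ x ∈ Q, MonoidAlgebra.of k G x * u = u := by
    intro x hx
    rw [hu, Finset.mul_sum]
    refine Finset.sum_congr rfl fun j _ => ?_
    have hx' : (y ^ j)⁻¹ * x * y ^ j ∈ Q :=
      (Subgroup.mem_normalizer_iff''.1 (L.T_le (pow_mem L.y_mem j)) x).1 hx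
    obtain ⟨r, hr⟩ := L.isPGroup ⟨_, hx'⟩
    have hr' : ((y ^ j)⁻¹ * x * y ^ j) ^ p ^ r = 1 := congrArg Subtype.val hr
    have hxK : (y ^ j)⁻¹ * x * y ^ j ∈ K := L.P_le (L.Q_le hx')
    have hxi : MonoidAlgebra.of k G ((y ^ j)⁻¹ * x * y ^ j) * i =
        i * MonoidAlgebra.of k G ((y ^ j)⁻¹ * x * y ^ j) := by
      generalize hx'' : (y ^ j)⁻¹ * x * y ^ j = x' at hx' hxK ⊢
      refine MonoidAlgebra.coeff_injective (Finsupp.ext fun z => ?_)
      rw [MonoidAlgebra.of_apply, MonoidAlgebra.coeff_single_mul_apply,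
        MonoidAlgebra.coeff_mul_single_apply, one_mul, mul_one]
      by_cases hz : z ∈ K
      · have hz' := hz
        rw [L.centralizer_eq, Subgroup.mem_centralizer_iff] at hz'
        have hcomm : Commute x' z := hz' x' hx'
        rw [hcomm.inv_left.eq]
      · rw [L.frame.i_mem _ fun h => hz ((Subgroup.mul_mem_cancel_left K (inv_mem hxK)).1 h),
          L.frame.i_mem _ fun h => hz ((Subgroup.mul_mem_cancel_right K (inv_mem hxK)).1 h)]
    have h1 := L.frame.mul_top_of_pow_eq_one (of_mem_kSub k hxK) hxi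
      (by rw [← map_pow, hr', map_one])
    rw [mul_smul_comm, hY, ← map_pow, ← mul_assoc, ← map_mul,
      show x * y ^ j = y ^ j * ((y ^ j)⁻¹ * x * y ^ j) by group, map_mul, mul_assoc, h1]
  -- the coordinate
  have hKT : ∀ x ∈ kSub k K, x ∈ kSub k T := fun x hx g hg => hx g fun h => hg (L.K_le h)
  have hlam : ∀ X ∈ kSub k T, ∃ r : k, i * X * u = r • u := by
    intro X hX
    have hexp : X = ∑ g ∈ X.coeff.support, X.coeff g • MonoidAlgebra.of k G g := by
      refine MonoidAlgebra.coeff_injective (Finsupp.ext fun z => ?_)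
      rw [MonoidAlgebra.coeff_sum, Finsupp.finsetSum_apply]
      simp [MonoidAlgebra.of_apply, Finsupp.single_apply, Finset.sum_ite_eq']
    have hg : ∀ g ∈ T, ∃ r : k, i * MonoidAlgebra.of k G g * u = r • u := by
      intro g hg
      obtain ⟨j, -, hj⟩ := L.y_gen g hg
      have hpow : ∀ n : ℕ, Y ^ n * u = a ^ n • u := fun n => by
        induction n with
        | zero => simp
        | succ n ih => rw [pow_succ, mul_assoc, hYu, mul_smul_comm, ih, smul_smul, pow_succ']
      obtain ⟨d, s', hs', e'⟩ := L.frame.corner _ (of_mem_kSub k hj)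
      refine ⟨a ^ j * d, ?_⟩
      rw [show g = g * (y ^ j)⁻¹ * y ^ j by group, map_mul, map_pow, ← hY, mul_assoc i, mul_assoc,
        hpow, mul_smul_comm, mul_smul_comm]
      conv_lhs => rw [← hiu, ← mul_assoc, ← mul_assoc, e', add_mul, smul_mul_assoc, hiu,
        L.frame.t_comm _ (Subalgebra.mul_mem _ (Subalgebra.mul_mem _ L.frame.i_mem hs')
          L.frame.i_mem), mul_assoc, htu, mul_zero, add_zero, smul_smul]
    have hg' : ∀ g, ∃ r : k, g ∈ X.coeff.support → i * MonoidAlgebra.of k G g * u = r • u :=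
      fun g => by
      by_cases h : g ∈ T
      · exact (hg g h).imp fun r hr _ => hr
      · exact ⟨0, fun hs => absurd (hX g h) (Finsupp.mem_support_iff.1 hs)⟩
    choose r hr using hg'
    refine ⟨∑ g ∈ X.coeff.support, X.coeff g * r g, ?_⟩
    conv_lhs => rw [hexp, Finset.mul_sum (a := i), Finset.sum_mul]
    rw [Finset.sum_smul]
    refine Finset.sum_congr rfl fun g hg' => ?_
    rw [mul_smul_comm, smul_mul_assoc, hr g hg', smul_smul]
  obtain ⟨l, hl⟩ := Module.Projective.exists_dual_ne_zero k (show w₀ ≠ 0 from L.frame.t_top)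
  let M : Submodule (MonoidAlgebra k G) (MonoidAlgebra k G) :=
    Submodule.span (MonoidAlgebra k G) {ε * u}
  have : FiniteDimensional k (MonoidAlgebra k G) :=
    Module.Finite.of_basis (MonoidAlgebra.basis G k)
  have : FiniteDimensional k M :=
    inferInstanceAs (FiniteDimensional k (M.restrictScalars k))
  let g₀ : M →ₗ[k] k :=
    l ∘ₗ trunc k K ∘ₗ LinearMap.mulLeft k i ∘ₗ M.subtype.restrictScalars k
  have hg₀ : ∀ x : M, g₀ x = l (trunc k K (i * (x : MonoidAlgebra k G))) := fun _ => rfl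
  have hTK : ∀ x, trunc k K (trunc k T x) = trunc k K x := fun x => by
    refine MonoidAlgebra.coeff_injective (Finsupp.ext fun z => ?_)
    rw [coeff_trunc, coeff_trunc, coeff_trunc]
    split_ifs with h h' h'
    · rfl
    · exact absurd (L.K_le h) h'
    · rfl
  have huT : u ∈ kSub k T := Subalgebra.sum_mem _ fun j _ => Subalgebra.smul_mem _
    (Subalgebra.mul_mem _ (by rw [hY, ← map_pow]; exact of_mem_kSub k (pow_mem L.y_mem j))
      (hKT _ hw₀S)) _
  have hval : ∀ x : M, ∃ r : k, trunc k T (i * (x : MonoidAlgebra k G)) = r • u ∧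
      g₀ x = r * l w₀ := by
    intro x
    obtain ⟨q, hq⟩ := Submodule.mem_span_singleton.1 x.2
    obtain ⟨r, hr⟩ := hlam _ (trunc_mem k T (q * ε))
    have h1 : trunc k T (i * (x : MonoidAlgebra k G)) = r • u := by
      rw [trunc_mul_left k (hKT _ L.frame.i_mem), ← hq, smul_eq_mul, ← mul_assoc q,
        trunc_mul_right k huT, ← mul_assoc, hr]
    refine ⟨r, h1, ?_⟩
    rw [hg₀, ← hTK, h1, map_smul, map_smul, htruncu, smul_eq_mul]
  have hYT : Y ∈ kSub k T := of_mem_kSub k L.y_mem
  have hg₀wt : IsWt i t Y a g₀ := by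
    refine ⟨fun x => ?_, fun x => ?_, fun x => ?_⟩
    · rw [hg₀, hg₀]
      show l (trunc k K (i * (i * (x : MonoidAlgebra k G)))) = _
      rw [← mul_assoc, L.frame.idem]
    · obtain ⟨r, hr, -⟩ := hval x
      rw [hg₀, ← hTK]
      show l (trunc k K (trunc k T (i * (t * (x : MonoidAlgebra k G))))) = 0
      rw [← mul_assoc, ← L.frame.t_comm_i, mul_assoc, trunc_mul_left k (hKT _ L.frame.t_mem), hr,
        mul_smul_comm, htu, smul_zero, map_zero, map_zero]
    · obtain ⟨r, hr, hr'⟩ := hval x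
      rw [hg₀, ← hTK]
      show l (trunc k K (trunc k T (i * (Y * (x : MonoidAlgebra k G))))) = _
      rw [← mul_assoc, ← L.y_i, mul_assoc, trunc_mul_left k hYT, hr, mul_smul_comm, hYu,
        smul_smul, map_smul, map_smul, htruncu, hr', smul_eq_mul]
      ring
  -- it is not trivial
  have hx₁i : i • (⟨ε * u, Submodule.mem_span_singleton_self _⟩ : M) =
      ⟨ε * u, Submodule.mem_span_singleton_self _⟩ := Subtype.ext (by
    show i * (ε * u) = ε * u
    rw [← mul_assoc, ← L.eps_central, mul_assoc, hiu])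
  have hdiff : i * trunc k T ε * u = u := by
    have h1 : i * trunc k K ε * u = u := by
      calc i * trunc k K ε * u = i * (trunc k K ε * e₁) * (i * u) := by
            rw [hiu]
            conv_lhs => rw [← L.frame.i_eps, mul_assoc i e₁,
              L.frame.eps_comm _ (trunc_mem k K ε)]
        _ = u := by rw [L.trunc_eps, L.frame.i_eps, ← mul_assoc, L.frame.idem, hiu]
    suffices h : (trunc k T ε - trunc k K ε) * u = 0 by
      rw [sub_mul, sub_eq_zero] at h
      rw [mul_assoc, h, ← mul_assoc, h1]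
    set D := trunc k T ε - trunc k K ε with hD
    have hexp : D * u = ∑ g : G, D.coeff g • (MonoidAlgebra.of k G g * u) := by
      conv_lhs => rw [show D = ∑ g : G, D.coeff g • MonoidAlgebra.of k G g from
        MonoidAlgebra.coeff_injective (Finsupp.ext fun z => by
          rw [MonoidAlgebra.coeff_sum, Finsupp.finsetSum_apply]
          simp [MonoidAlgebra.of_apply, Finsupp.single_apply])]
      rw [Finset.sum_mul]
      simp only [smul_mul_assoc]
    have hDc : ∀ g, D.coeff g = if g ∈ T ∧ g ∉ K then ε.coeff g else 0 := fun g => by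
      rw [hD, MonoidAlgebra.coeff_sub, Finsupp.sub_apply, coeff_trunc, coeff_trunc]
      by_cases hT : g ∈ T <;> by_cases hK : g ∈ K <;> simp [hT, hK]
      exact absurd (L.K_le hK) hT
    letI : MulAction Q G :=
      MulAction.compHom G ((MulAut.conj : G →* MulAut G).comp Q.subtype)
    have hs : ∀ (x : Q) (g : G), x • g = (x : G) * g * (x : G)⁻¹ := fun _ _ => rfl
    have hQK : ∀ x ∈ Q, x ∈ K := fun x hx => L.P_le (L.Q_le hx)
    rw [hexp, sum_fixed_of_invariant (p := p) L.isPGroup (fun z => by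
      rw [← Nat.cast_smul_eq_nsmul k, CharP.cast_eq_zero, zero_smul]) _ fun x g => ?_]
    · refine Finset.sum_eq_zero fun g hg => ?_
      rw [hDc, if_neg, zero_smul]
      rintro ⟨-, hgK⟩
      refine hgK ?_
      rw [L.centralizer_eq, Subgroup.mem_centralizer_iff]
      intro x hx
      exact mul_inv_eq_iff_eq_mul.1 ((Finset.mem_filter.1 hg).2 ⟨x, hx⟩)
    · simp only [hs]
      have hεinv : ε.coeff ((x : G) * g * (x : G)⁻¹) = ε.coeff g := by
        have h1 := congrArg (fun w => w.coeff ((x : G) * g))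
          (L.eps_central (MonoidAlgebra.single (x : G) 1))
        simp only [MonoidAlgebra.coeff_mul_single_apply, MonoidAlgebra.coeff_single_mul_apply,
          one_mul, mul_one, inv_mul_cancel_left] at h1
        exact h1
      by_cases hgT : g ∈ T
      · have hxT : (x : G) ∈ T := L.K_le (hQK _ x.2)
        have hiffT : (x : G) * g * (x : G)⁻¹ ∈ T := mul_mem (mul_mem hxT hgT) (inv_mem hxT)
        have hiffK : ((x : G) * g * (x : G)⁻¹ ∈ K ↔ g ∈ K) := by
          rw [Subgroup.mul_mem_cancel_right K (inv_mem (hQK _ x.2)),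
            Subgroup.mul_mem_cancel_left K (hQK _ x.2)]
        rw [hDc, hDc, hεinv]
        simp only [hiffT, hgT, hiffK]
        congr 1
        have hx' : g⁻¹ * (x : G)⁻¹ * g ∈ Q :=
          (Subgroup.mem_normalizer_iff''.1 (L.T_le hgT) _).1 (inv_mem x.2)
        rw [show (x : G) * g * (x : G)⁻¹ = (x : G) * g * (x : G)⁻¹ from rfl, map_mul, mul_assoc,
          hQu _ (inv_mem x.2), map_mul, mul_assoc,
          show MonoidAlgebra.of k G (x : G) * (MonoidAlgebra.of k G g * u) =
            MonoidAlgebra.of k G g * (MonoidAlgebra.of k G (g⁻¹ * x * g) * u) by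
            rw [← mul_assoc, ← mul_assoc, ← map_mul, ← map_mul]
            congr 2
            group,
          hQu _ ((Subgroup.mem_normalizer_iff''.1 (L.T_le hgT) _).1 x.2)]
      · have hxT : (x : G) ∈ T := L.K_le (hQK _ x.2)
        have hiffT : (x : G) * g * (x : G)⁻¹ ∉ T := by
          rw [Subgroup.mul_mem_cancel_right T (inv_mem hxT), Subgroup.mul_mem_cancel_left T hxT]
          exact hgT
        rw [hDc, hDc, if_neg fun h => hiffT h.1, if_neg fun h => hgT h.1, zero_smul, zero_smul]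
  refine absurd (triv_of_simples L (fun S g hg => hcon S g hg) _ M le_rfl (fun x => ?_) g₀ hg₀wt
    ⟨ε * u, Submodule.mem_span_singleton_self _⟩ hx₁i ?_) ?_
  · obtain ⟨q, hq⟩ := Submodule.mem_span_singleton.1 x.2
    refine Subtype.ext ?_
    show ε * (x : MonoidAlgebra k G) = x
    rw [← hq, smul_eq_mul, ← mul_assoc, L.eps_central, mul_assoc, ← mul_assoc ε, L.eps_idem]
  · refine Subtype.ext ?_
    show t ^ (N - 1) * (ε * u) = 0
    rw [← mul_assoc, ← L.eps_central, mul_assoc,
      show N - 1 = N - 2 + 1 by omega, pow_succ, mul_assoc, htu, mul_zero, mul_zero]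
  · rw [hg₀, ← hTK]
    show l (trunc k K (trunc k T (i * (ε * u)))) ≠ 0
    rw [trunc_mul_left k (hKT _ L.frame.i_mem), trunc_mul_right k huT, ← mul_assoc, hdiff, htruncu]
    exact hl

omit [Fact p.Prime] [CharP k p] in
theorem pos_e : 0 < e := Nat.pos_of_ne_zero fun h => L.e_ne (by rw [h, Nat.cast_zero])

/-- The simple modules of the block are classified by the `e` eigenvalues. -/
theorem exists_family [IsAlgClosed k] :
    ∃ V : Fin e → SimpleMod.{u, max u w, w} k G ε,
      (∀ j l, j ≠ l → ∀ F : (V j).V →ₗ[MonoidAlgebra k G] (V l).V, F = 0) ∧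
      ∀ S : SimpleMod.{u, max u w, w} k G ε, ∃ j,
        ∃ F : (V j).V →ₗ[MonoidAlgebra k G] S.V, F ≠ 0 := by
  obtain ⟨c, hc0, s, hs, hc⟩ := L.exists_lam
  obtain ⟨a₀, ha₀⟩ := IsAlgClosed.exists_pow_nat_eq c L.pos_e
  have : NeZero (e : k) := ⟨L.e_ne⟩
  have : NeZero e := ⟨L.pos_e.ne'⟩
  obtain ⟨ω, hω⟩ := HasEnoughRootsOfUnity.exists_primitiveRoot k e
  have ha₀0 : a₀ ≠ 0 := fun h => hc0 (by rw [← ha₀, h, zero_pow L.pos_e.ne'])
  let a : Fin e → k := fun j => a₀ * ω ^ (j : ℕ)
  have hae : ∀ j, a j ^ e = c := fun j => by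
    simp only [a]
    rw [mul_pow, ha₀, ← pow_mul, mul_comm (j : ℕ), pow_mul, hω.pow_eq_one, one_pow, mul_one]
  choose V g hg hgn using fun j => L.exists_simple hs hc hc0 (hae j)
  refine ⟨V, fun j l hjl F => ?_, fun S => ?_⟩
  · by_contra hF
    have hb := (LinearMap.bijective_or_eq_zero F).resolve_right hF
    set E := LinearEquiv.ofBijective F hb with hE
    let g' : (V j).V →ₗ[k] k := g l ∘ₗ E.toLinearMap.restrictScalars k
    have hg' : IsWt i t (MonoidAlgebra.of k G y) (a l) g' :=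
      ⟨fun x => (congrArg (g l) (map_smul E i x)).trans ((hg l).right _),
        fun x => (congrArg (g l) (map_smul E t x)).trans ((hg l).kill _),
        fun x => (congrArg (g l) (map_smul E _ x)).trans ((hg l).eig _)⟩
    have hgn' : ¬ IsTriv i t N g' := fun h => hgn l fun x hx hxN => by
      have h1 := h (E.symm x) (by rw [← map_smul, hx]) (by rw [← map_smul, hxN, map_zero])
      show g l x = 0
      rw [← E.apply_symm_apply x]
      exact h1
    have h := L.weight_unique (hg j) (hgn j) hg' hgn'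
    exact hjl (Fin.ext (hω.pow_inj j.2 l.2 (mul_left_cancel₀ ha₀0 h)))
  · obtain ⟨b', g', hg', hgn'⟩ := L.exists_weight (V := S.V) S.fix
    obtain ⟨x, hx⟩ := exists_of_not_isTriv hgn'
    have hb := L.wt_pow_eq hc hg' hx
    obtain ⟨j, hj, hj'⟩ := hω.eq_pow_of_pow_eq_one
      (show (b' / a₀) ^ e = 1 by rw [div_pow, hb, ha₀, div_self hc0])
    refine ⟨⟨j, hj⟩, L.exists_ne_zero_hom (hg _) (hgn _) (a := a ⟨j, hj⟩) ?_ hgn'⟩
    have : a ⟨j, hj⟩ = b' := by
      show a₀ * ω ^ j = b'
      rw [hj', mul_div_cancel₀ _ ha₀0]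
    rw [this]
    exact hg'

end LocalData

end Cfsg.Agent.BlockChar.Cyclic
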