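import Mathlib

/-!
# A primitive idempotent of a block with a single simple module
-/

set_option autoImplicit false

namespace Cfsg.Agent.BlockChar.Cyclic

universe u v v' w

variable {k : Type w} [Field k] {R : Type u} [Ring R] [Algebra k R]
  {V : Type v} [AddCommGroup V] [Module k V] [Module R V] [IsScalarTower k R V]

/-- `i₀` is a rank one idempotent on the only simple module `V` of `R ε`. -/
structure Point (ε i₀ : R) (v₀ : V) : Prop where
  eps_idem : ε * ε = ε
  eps_central : ∀ x, ε * x = x * ε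
  idem : i₀ * i₀ = i₀
  eps_i : ε * i₀ = i₀
  eps_fix : ∀ x : V, ε • x = x
  fix : i₀ • v₀ = v₀
  ne_zero : v₀ ≠ 0
  rank : ∀ x : V, ∃ c : k, i₀ • x = c • v₀
  gen : ∃ (n : ℕ) (u v : Fin n → R), ε = ∑ q, u q * i₀ * v q
  rad : ∀ z, ε * z = z → (∀ x : V, z • x = 0) → z ∈ Ring.jacobson R

namespace Point

variable {ε i₀ : R} {v₀ : V} (P : Point (k := k) ε i₀ v₀)
include P

/-- The coordinate on the line. -/
theorem exists_coord : ∃ κ : V →ₗ[k] k, (∀ x, i₀ • x = κ x • v₀) ∧ κ v₀ = 1 := by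
  choose cv hcv using P.rank
  have hinj : ∀ c c' : k, c • v₀ = c' • v₀ → c = c' := fun c c' h => by
    have h' : (c - c') • v₀ = 0 := by rw [sub_smul, h, sub_self]
    exact sub_eq_zero.1 ((smul_eq_zero.1 h').resolve_right P.ne_zero)
  refine ⟨{ toFun := cv
            map_add' := fun x x' => hinj _ _ (by rw [add_smul, ← hcv, ← hcv, ← hcv, smul_add])
            map_smul' := fun r x => hinj _ _ (by
              rw [RingHom.id_apply, smul_eq_mul, mul_smul, ← hcv, ← hcv, smul_comm]) },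
    hcv, hinj _ _ (by show cv v₀ • v₀ = _; rw [← hcv, P.fix, one_smul])⟩

omit P in
variable (k V) in
/-- The radical of the corner. -/
def nilSpace (i₀ : R) : Submodule k R where
  carrier := {z | i₀ * z * i₀ = z ∧ ∀ x : V, z • x = 0}
  add_mem' := fun {z z'} hz hz' => ⟨by rw [mul_add, add_mul, hz.1, hz'.1],
    fun x => by rw [add_smul, hz.2, hz'.2, add_zero]⟩
  zero_mem' := ⟨by rw [mul_zero, zero_mul], fun x => zero_smul _ x⟩
  smul_mem' := fun r z hz => ⟨by rw [mul_smul_comm, smul_mul_assoc, hz.1],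
    fun x => by rw [smul_assoc, hz.2, smul_zero]⟩

theorem left {z : R} (hz : z ∈ nilSpace k V i₀) : i₀ * z = z := by
  conv_lhs => rw [← hz.1]
  rw [← mul_assoc, ← mul_assoc, P.idem, hz.1]

theorem right {z : R} (hz : z ∈ nilSpace k V i₀) : z * i₀ = z := by
  conv_lhs => rw [← hz.1]
  rw [mul_assoc, P.idem, hz.1]

theorem eps_nil {z : R} (hz : z ∈ nilSpace k V i₀) : ε * z = z := by
  rw [← P.left hz, ← mul_assoc, P.eps_i]

theorem mul_le : nilSpace k V i₀ * nilSpace k V i₀ ≤ nilSpace k V i₀ :=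
  Submodule.mul_le.2 fun z hz z' hz' => ⟨by
    rw [← mul_assoc i₀, P.left hz, mul_assoc, P.right hz'],
    fun x => by rw [mul_smul, hz.2 _]⟩

theorem sandwich_mem {z : R} (hz : ∀ x : V, z • x = 0) (a : R) :
    i₀ * a * z * i₀ ∈ nilSpace k V i₀ := by
  refine ⟨?_, fun x => by rw [mul_smul, mul_smul, hz, smul_zero]⟩
  simp only [← mul_assoc, P.idem]
  rw [mul_assoc _ i₀ i₀, P.idem]

theorem exists_nil_pow [IsArtinianRing R] : ∃ m, nilSpace k V i₀ ^ (m + 1) = ⊥ := by
  obtain ⟨m₀, hm₀⟩ := IsSemiprimaryRing.isNilpotent (R := R)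
  have hJ : ∀ z ∈ nilSpace k V i₀, z ∈ Ring.jacobson R := fun z hz => P.rad z (P.eps_nil hz) hz.2
  refine ⟨m₀, eq_bot_iff.2 ?_⟩
  have key : ∀ m, ∀ z ∈ nilSpace k V i₀ ^ (m + 1), z ∈ Ring.jacobson R ^ (m + 1) := by
    intro m
    induction m with
    | zero => intro z hz; rw [zero_add, pow_one] at hz; rw [zero_add, Submodule.pow_one]; exact hJ z hz
    | succ m ih =>
      intro z hz
      rw [pow_succ] at hz
      rw [Ideal.IsTwoSided.pow_succ, ← Ideal.IsTwoSided.pow_succ, Submodule.pow_succ]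
      induction hz using Submodule.mul_induction_on' with
      | mem_mul_mem q hq r hr => exact Ideal.mul_mem_mul (ih q hq) (hJ r hr)
      | add q _ r _ hq hr => exact add_mem hq hr
  intro z hz
  have h := key _ z hz
  rw [Submodule.pow_succ, hm₀] at h
  simpa using h

variable {κ : V →ₗ[k] k} (hκ : ∀ x, i₀ • x = κ x • v₀)
include hκ

/-- The corner is scalars plus the radical. -/
theorem corner_mem (r : R) : i₀ * r * i₀ - κ (r • v₀) • i₀ ∈ nilSpace k V i₀ := by
  refine ⟨?_, fun x => ?_⟩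
  · simp only [mul_sub, sub_mul, mul_smul_comm, smul_mul_assoc, P.idem, ← mul_assoc]
    rw [mul_assoc _ i₀ i₀, P.idem]
  · rw [sub_smul, smul_assoc, mul_smul, mul_smul, hκ x, smul_comm r (κ x), smul_comm i₀ (κ x),
      hκ (r • v₀), smul_smul, smul_smul, mul_comm, sub_self]

variable {M : Type v'} [AddCommGroup M] [Module k M] [Module R M] [IsScalarTower k R M]

/-- A vector killed by the radical is the image of the simple module. -/
theorem exists_hom {x₀ : M} (hx₀ : i₀ • x₀ = x₀) (hkill : ∀ z ∈ nilSpace k V i₀, z • x₀ = 0)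
    (hgenV : ∀ x : V, ∃ a : R, a • v₀ = x) : ∃ f : V →ₗ[R] M, f v₀ = x₀ := by
  obtain ⟨n, u, v, hg⟩ := P.gen
  let f₀ : V →ₗ[k] M := ∑ q, (κ ∘ₗ Algebra.lsmul k k V (v q)).smulRight (u q • x₀)
  have hf₁ : ∀ r : R, f₀ (r • v₀) = ε • r • x₀ := by
    intro r
    have e : ε • r • x₀ = ∑ q, u q • i₀ • v q • r • x₀ := by
      rw [hg, Finset.sum_smul]; simp only [mul_smul]
    rw [e]
    simp only [f₀, LinearMap.sum_apply, LinearMap.smulRight_apply, LinearMap.comp_apply,
      Algebra.lsmul_coe]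
    refine Finset.sum_congr rfl fun q _ => ?_
    have h1 := hkill _ (P.corner_mem hκ (v q * r))
    rw [sub_smul, smul_assoc, hx₀, mul_smul, mul_smul, mul_smul, hx₀, sub_eq_zero] at h1
    rw [h1, smul_comm, mul_smul (v q)]
  refine ⟨{ f₀ with
    map_smul' := fun a x => ?_ }, ?_⟩
  · obtain ⟨r, rfl⟩ := hgenV x
    simp only [AddHom.toFun_eq_coe, LinearMap.coe_toAddHom, RingHom.id_apply]
    rw [← mul_smul, hf₁, hf₁, ← mul_smul, ← mul_smul, ← mul_smul, ← mul_assoc, P.eps_central]
  · show f₀ v₀ = x₀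
    have h := hf₁ 1
    rw [one_smul, one_smul, ← hx₀, ← mul_smul, P.eps_i, hx₀] at h
    exact h

/-- A copy of the simple module in a module killed by the radical splits off. -/
theorem exists_retraction (hM : ∀ x : M, ε • x = x)
    (hkill : ∀ z ∈ nilSpace k V i₀, ∀ x : M, z • x = 0) (f : V →ₗ[R] M) (hf : f v₀ ≠ 0) :
    ∃ h : M →ₗ[R] V, h (f v₀) = v₀ := by
  obtain ⟨n, u, v, hg⟩ := P.gen
  obtain ⟨lam, hlam⟩ := Module.Projective.exists_dual_ne_zero k hf
  set l : M →ₗ[k] k := (lam (f v₀))⁻¹ • lam with hl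
  have hl1 : l (f v₀) = 1 := by simp [hl, hlam]
  let h₀ : M →ₗ[k] V := ∑ q, (l ∘ₗ Algebra.lsmul k k M (i₀ * v q)).smulRight (u q • v₀)
  have hh₀ : ∀ x, h₀ x = ∑ q, l ((i₀ * v q) • x) • (u q • v₀) := fun x => by
    simp [h₀, LinearMap.sum_apply, mul_smul]
  have hexp : ∀ {W : Type v'} [AddCommGroup W] [Module R W] (x : W),
      ε • x = ∑ q, u q • i₀ • v q • x := fun x => by
    rw [hg, Finset.sum_smul]; simp only [mul_smul]
  have hexpV : ∀ x : V, x = ∑ q, κ (v q • x) • u q • v₀ := fun x => by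
    conv_lhs => rw [← P.eps_fix x, hg, Finset.sum_smul]
    exact Finset.sum_congr rfl fun q _ => by rw [mul_smul, mul_smul, hκ, smul_comm]
  have hsc : ∀ (r : R) (x : M), (i₀ * r * i₀) • x = κ (r • v₀) • i₀ • x := fun r x => by
    have h := hkill _ (P.corner_mem hκ r) x
    rwa [sub_smul, smul_assoc, sub_eq_zero] at h
  refine ⟨{ h₀ with
    map_smul' := fun r x => ?_ }, ?_⟩
  · simp only [AddHom.toFun_eq_coe, LinearMap.coe_toAddHom, RingHom.id_apply]
    have e1 : ∀ q, (i₀ * v q) • r • x =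
        ∑ s, κ (v q • r • u s • v₀) • (i₀ * v s) • x := by
      intro q
      conv_lhs => rw [← hM x, hexp x]
      rw [Finset.smul_sum, Finset.smul_sum]
      refine Finset.sum_congr rfl fun s _ => ?_
      rw [mul_smul i₀ (v s), ← mul_smul r, ← mul_smul _ (r * u s), ← mul_smul _ i₀,
        mul_assoc i₀ (v q), hsc, mul_smul (v q), mul_smul r]
    rw [hh₀, hh₀, Finset.smul_sum]
    simp only [e1, map_sum, map_smul, smul_eq_mul, Finset.sum_smul]
    rw [Finset.sum_comm]
    refine Finset.sum_congr rfl fun s _ => ?_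
    rw [smul_comm r (l ((i₀ * v s) • x)) (u s • v₀)]
    conv_rhs => rw [hexpV (r • u s • v₀)]
    rw [Finset.smul_sum]
    refine Finset.sum_congr rfl fun q _ => ?_
    simp only [smul_smul, mul_comm]
  · show h₀ (f v₀) = v₀
    rw [hh₀]
    conv_rhs => rw [hexpV v₀]
    refine Finset.sum_congr rfl fun q _ => ?_
    congr 1
    rw [← map_smul, mul_smul, hκ, show f (κ (v q • v₀) • v₀) = κ (v q • v₀) • f v₀ from
      map_smul (f.restrictScalars k) _ _, map_smul, hl1, smul_eq_mul, mul_one]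

end Point

section Commute

/-- A nilpotent space generated by one element modulo its square has commuting elements. -/
theorem commute_of_generator (N : Submodule k R) (hmul : N * N ≤ N) {m : ℕ}
    (hnil : N ^ (m + 1) = ⊥) {a : R} (ha : a ∈ N)
    (hgen : N ≤ Submodule.span k {a} ⊔ N * N) : ∀ x ∈ N, ∀ y ∈ N, x * y = y * x := by
  set C : Submodule k R := Submodule.span k (Set.range fun s : ℕ => a ^ (s + 1)) with hC
  have hapow : ∀ s : ℕ, a ^ (s + 1) ∈ N := by
    intro s
    induction s with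
    | zero => simpa using ha
    | succ s ih => rw [pow_succ]; exact hmul (Submodule.mul_mem_mul ih ha)
  have hCN : C ≤ N := Submodule.span_le.2 (Set.range_subset_iff.2 hapow)
  have hCC : C * C ≤ C := by
    rw [hC, Submodule.span_mul_span]
    refine Submodule.span_mono ?_
    rintro _ ⟨_, ⟨s, rfl⟩, _, ⟨s', rfl⟩, rfl⟩
    exact ⟨s + s' + 1, by show a ^ (s + s' + 1 + 1) = a ^ (s + 1) * a ^ (s' + 1); rw [← pow_add]; congr 1; omega⟩
  have haC : Submodule.span k {a} ≤ C :=
    Submodule.span_mono (Set.singleton_subset_iff.2 ⟨0, pow_one a⟩)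
  have h1 : ∀ s, N ^ (s + 1) ≤ N := by
    intro s
    induction s with
    | zero => rw [zero_add, pow_one]
    | succ s ih => rw [pow_succ]; exact (mul_le_mul' ih le_rfl).trans hmul
  have hclimb : ∀ s, N ≤ C ⊔ N ^ (s + 1) := by
    intro s
    induction s with
    | zero => rw [zero_add, pow_one]; exact le_sup_right
    | succ s ih =>
      refine hgen.trans (sup_le (haC.trans le_sup_left) ?_)
      refine (mul_le_mul' ih ih).trans ?_
      rw [Submodule.sup_mul, Submodule.mul_sup, Submodule.mul_sup]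
      refine sup_le (sup_le (hCC.trans le_sup_left) ?_) (sup_le ?_ ?_) <;>
        refine le_trans ?_ le_sup_right
      · exact (mul_le_mul' hCN le_rfl).trans (pow_succ' N (s + 1)).ge
      · exact (mul_le_mul' le_rfl hCN).trans (pow_succ N (s + 1)).ge
      · exact (mul_le_mul' le_rfl (h1 s)).trans (pow_succ N (s + 1)).ge
  have hNC : N ≤ C := (hclimb m).trans (by rw [hnil, sup_bot_eq])
  intro x hx y hy
  have hxC := hNC hx
  have hyC := hNC hy
  clear hx hy
  induction hxC using Submodule.span_induction with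
  | mem x hx =>
    obtain ⟨s, rfl⟩ := hx
    induction hyC using Submodule.span_induction with
    | mem y hy =>
      obtain ⟨s', rfl⟩ := hy
      exact ((Commute.refl a).pow_pow _ _).eq
    | zero => rw [mul_zero, zero_mul]
    | add p q _ _ hp hq => rw [mul_add, add_mul, hp, hq]
    | smul r p _ hp => rw [mul_smul_comm, smul_mul_assoc, hp]
  | zero => rw [mul_zero, zero_mul]
  | add p q _ _ hp hq => rw [mul_add, add_mul, hp, hq]
  | smul r p _ hp => rw [mul_smul_comm, smul_mul_assoc, hp]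

end Commute

end Cfsg.Agent.BlockChar.Cyclic
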