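import Cfsg.Agent.BlockChar.Cyclic.Family
import Cfsg.Agent.BlockChar.Cyclic.Point

/-!
# A block with a single weight has a commutative basic algebra
-/

set_option autoImplicit false

namespace Cfsg.Agent.BlockChar.Cyclic

open BlockThms.OrderP (SimpleMod)

universe u v v' w

/-- A vector outside the image of `t` at its level maps onto any vector of that level. -/
theorem Frame.exists_corner_map {k R : Type*} [Field k] [Ring R] [Algebra k R]
    {S : Subalgebra k R} {ε t i : R} {N : ℕ} {M M' : Type*} [AddCommGroup M] [Module k M]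
    [Module R M] [IsScalarTower k R M] [AddCommGroup M'] [Module k M'] [Module R M']
    [IsScalarTower k R M'] (F : Frame S ε t i N) {j : ℕ} (hj : 1 ≤ j) {u : M} (hu : i • u = u)
    (huj : t ^ j • u = 0) (hnot : ∀ x : M, i • x = x → t ^ j • x ≠ t ^ (j - 1) • u) {v : M'}
    (hv : i • v = v) (hvj : t ^ j • v = 0) : ∃ φ : M →ₗ[k] M', CornerHom i t φ ∧ φ u = v := by
  classical
  set U : Submodule k M := LinearMap.range (Algebra.lsmul k k M (t ^ j * i)) ⊔
    Submodule.span k (Set.range fun n : Fin (j - 1) => t ^ (n : ℕ) • u) with hU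
  have hkill : ∀ q, j ≤ q → t ^ q • u = 0 := fun q hq => by
    rw [← Nat.sub_add_cancel hq, pow_add, mul_smul, huj, smul_zero]
  have hnotU : t ^ (j - 1) • u ∉ U := by
    intro hmem
    obtain ⟨a, ⟨x, rfl⟩, a', ha', e⟩ := Submodule.mem_sup.1 hmem
    obtain ⟨c, rfl⟩ := (Submodule.mem_span_range_iff_exists_fun k).1 ha'
    simp only [Algebra.lsmul_coe] at e
    have hc : ∀ n : Fin (j - 1), c n = 0 := by
      suffices H : ∀ q, ∀ n : Fin (j - 1), (n : ℕ) = q → c n = 0 from fun n => H _ n rfl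
      intro q
      induction q using Nat.strong_induction_on with | _ q ih => ?_
      intro n hn
      subst hn
      by_contra hcn
      have hn1 : (n : ℕ) < j - 1 := n.2
      set r := j - 1 - (n : ℕ) with hr
      have h1 := congrArg (fun z => t ^ r • z) e
      simp only [smul_add, Finset.smul_sum] at h1
      rw [Finset.sum_eq_single n] at h1
      · rw [smul_comm (t ^ r) (c n), ← mul_smul (t ^ r) (t ^ (n : ℕ)), ← pow_add,
          show r + (n : ℕ) = j - 1 by omega, ← mul_smul (t ^ r) (t ^ (j - 1)), ← pow_add,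
          hkill (r + (j - 1)) (by omega), add_eq_zero_iff_eq_neg'] at h1
        refine hnot (-(c n)⁻¹ • ((t ^ r * i) • x)) ?_ ?_
        · rw [smul_comm]
          congr 1
          rw [← mul_smul, ← mul_assoc, ← F.pow_comm r F.i_mem, mul_assoc, F.idem]
        · have h2 : t ^ j • (t ^ r * i) • x = t ^ r • (t ^ j * i) • x := by
            simp only [← mul_smul, ← mul_assoc, ← pow_add, add_comm]
          rw [smul_comm, h2, ← neg_eq_iff_eq_neg.2 h1, smul_neg, neg_smul, neg_neg, smul_smul,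
            inv_mul_cancel₀ hcn, one_smul]
      · intro n' _ hne
        rw [smul_comm, ← mul_smul, ← pow_add]
        rcases lt_or_gt_of_ne (Fin.val_ne_of_ne hne) with hlt | hlt
        · rw [ih _ hlt n' rfl, zero_smul]
        · rw [hkill _ (by omega), smul_zero]
      · simp
    rw [Finset.sum_eq_zero fun n _ => by rw [hc n, zero_smul], add_zero, mul_smul] at e
    exact hnot (i • x) (by rw [← mul_smul, F.idem]) e
  obtain ⟨l, hl1, hl2⟩ := Submodule.exists_dual_map_eq_bot_of_notMem hnotU inferInstance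
  set l' : M →ₗ[k] k := (l (t ^ (j - 1) • u))⁻¹ • l with hl'
  have hl'u : l' (t ^ (j - 1) • u) = 1 := by simp [hl', hl1]
  have hl'U : ∀ w ∈ U, l' w = 0 := fun w hw => by
    have : l w ∈ (⊥ : Submodule k k) := hl2 ▸ Submodule.mem_map_of_mem hw
    simp [hl', (Submodule.mem_bot k).1 this]
  set φ : M →ₗ[k] M' := ∑ n ∈ Finset.range j,
    (l' ∘ₗ Algebra.lsmul k k M (t ^ (j - 1 - n) * i)).smulRight (t ^ n • v) with hφ
  refine ⟨φ, ⟨fun x => ?_, fun x => ?_, fun x => ?_⟩, ?_⟩
  · simp only [hφ, LinearMap.sum_apply, LinearMap.smulRight_apply, Finset.smul_sum]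
    refine Finset.sum_congr rfl fun n _ => ?_
    rw [smul_comm, ← mul_smul i, ← F.pow_comm n F.i_mem, mul_smul, hv]
  · simp only [hφ, LinearMap.sum_apply, LinearMap.smulRight_apply, LinearMap.comp_apply,
      Algebra.lsmul_coe, ← mul_smul, mul_assoc, F.idem]
  · simp only [hφ, LinearMap.sum_apply, LinearMap.smulRight_apply, LinearMap.comp_apply,
      Algebra.lsmul_coe, Finset.smul_sum, ← mul_smul]
    obtain ⟨j', hj'⟩ : ∃ j', j = j' + 1 := ⟨j - 1, (Nat.sub_add_cancel hj).symm⟩
    have hl'j : l' ((t ^ (j' + 1) * i) • x) = 0 :=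
      hl'U _ (Submodule.mem_sup_left ⟨x, by rw [hj']; rfl⟩)
    rw [hj'] at hvj ⊢
    simp only [Nat.add_sub_cancel]
    rw [Finset.sum_range_succ', Finset.sum_range_succ]
    refine congrArg₂ (· + ·) (Finset.sum_congr rfl fun n hn => ?_) ?_
    · have hn' := Finset.mem_range.1 hn
      rw [smul_comm t, ← mul_smul, ← pow_succ', mul_assoc, ← F.t_comm_i, ← mul_assoc,
        ← pow_succ, show j' - (n + 1) + 1 = j' - n by omega]
    · rw [Nat.sub_zero, Nat.sub_self, mul_assoc, ← F.t_comm_i, ← mul_assoc, ← pow_succ, hl'j,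
        zero_smul, smul_comm, ← mul_smul, ← pow_succ', hvj, smul_zero]
  · simp only [hφ, LinearMap.sum_apply, LinearMap.smulRight_apply, LinearMap.comp_apply,
      Algebra.lsmul_coe]
    rw [Finset.sum_eq_single 0]
    · rw [Nat.sub_zero, mul_smul, hu, hl'u, one_smul, pow_zero, one_smul]
    · intro n hn hn0
      rw [mul_smul, hu, hl'U _ (Submodule.mem_sup_right (Submodule.subset_span
        ⟨⟨j - 1 - n, by have := Finset.mem_range.1 hn; omega⟩, rfl⟩)), zero_smul]
    · intro h; exact absurd (Finset.mem_range.2 hj) h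

namespace LocalData

variable {k : Type w} [Field k] {G : Type u} [Group G] [Fintype G] {p : ℕ}
  {Q P K T : Subgroup G} {y : G} {o e : ℕ} {ε e₁ b t i : MonoidAlgebra k G} {N : ℕ}

variable (L : LocalData p Q P K T y o e ε e₁ b t i N)
include L

/-- With a single eigenvalue every corner map commutes with `y`. -/
theorem comm_of_one (he : e = 1) {V : Type v} [AddCommGroup V] [Module k V]
    [Module (MonoidAlgebra k G) V] [IsScalarTower k (MonoidAlgebra k G) V] {V' : Type v'}
    [AddCommGroup V'] [Module k V'] [Module (MonoidAlgebra k G) V']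
    [IsScalarTower k (MonoidAlgebra k G) V'] {φ : V →ₗ[k] V'} (hφ : CornerHom i t φ) (x : V) :
    φ (MonoidAlgebra.of k G y • x) = MonoidAlgebra.of k G y • φ x := by
  obtain ⟨q, hq, hyK⟩ := L.y_gen y L.y_mem
  rw [show q = 0 by omega, pow_zero, inv_one, mul_one] at hyK
  set Y := MonoidAlgebra.of k G y with hY
  have h1 : i * (Y * i) = i * Y * i := (mul_assoc _ _ _).symm
  have h2 : Y * i = i * Y * i := by rw [← L.y_i, mul_assoc, L.frame.idem]
  calc φ (Y • x) = φ (i • Y • x) := (hφ.right _).symm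
    _ = φ ((i * Y * i) • x) := by rw [← h2, ← mul_smul, ← L.y_i]
    _ = (i * Y * i) • φ x := L.frame.corner_smul hφ (of_mem_kSub k hyK) x
    _ = Y • φ x := by rw [← h2, mul_smul, hφ.left]


/-- The structure of the simple module in the stable category. -/
theorem exists_stable_vector [IsAlgClosed k] [Fact p.Prime] [CharP k p] (he : e = 1)
    {V : Type v} [AddCommGroup V] [Module k V] [Module (MonoidAlgebra k G) V]
    [IsScalarTower k (MonoidAlgebra k G) V] [FiniteDimensional k V]
    [IsSimpleModule (MonoidAlgebra k G) V] (hV : ∀ x : V, ε • x = x) :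
    ∃ (j : ℕ) (v : V), 1 ≤ j ∧ j ≤ N - 1 ∧ i • v = v ∧ t ^ j • v = 0 ∧
      (∀ x : V, t • x ≠ v) ∧ (∀ x : V, i • x = x → t ^ j • x ≠ t ^ (j - 1) • v) ∧
      ∀ x : V, i • x = x → t ^ j • x = 0 →
        ∃ (c : k) (w : V), i • w = w ∧ x = c • v + t ^ (N - j) • w := by
  classical
  have hN := L.one_lt
  obtain ⟨aw, g, hg, hgn⟩ := L.exists_weight (V := V) hV
  obtain ⟨j, v, hj1, hjN, hvi, hvj, hgv, hyv, hmin, huniv⟩ :=
    exists_split.{w, max u w, v, v} L.frame L.twist hg hgn
  refine ⟨j, v, hj1, hjN, hvi, hvj, fun x hx => ?_, fun x hx hxe => ?_, ?_⟩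
  · rw [← hx, hg.kill] at hgv
    exact zero_ne_one hgv
  · have h := hmin (v - t • x) (by
      rw [smul_sub, hvi, ← mul_smul i t, ← L.frame.t_comm_i, mul_smul, hx]) (by
      rw [smul_sub, ← mul_smul (t ^ (j - 1)) t, ← pow_succ, Nat.sub_add_cancel hj1, hxe, sub_self])
    rw [map_sub, hg.kill, hgv, sub_zero] at h
    exact one_ne_zero h
  obtain ⟨pr, hpr, hpry, hprv, hprim⟩ := huniv V v hvi hvj hyv
  have hj' : j = 1 ∨ j = N - 1 := by
    by_contra hc
    push Not at hc
    obtain ⟨φ, hφ, hφy, hφv, -⟩ := huniv V (t • v)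
      (by rw [← mul_smul, ← L.frame.t_comm_i, mul_smul, hvi])
      (by rw [← mul_smul, ← pow_succ, pow_succ', mul_smul, hvj, smul_zero])
      (by
        obtain ⟨q, hq, hyK⟩ := L.y_gen y L.y_mem
        rw [show q = 0 by omega, pow_zero, inv_one, mul_one] at hyK
        rw [← mul_smul, ← L.frame.t_comm _ (of_mem_kSub k hyK), mul_smul, hyv, smul_comm])
    obtain ⟨F, hF⟩ := L.exists_stable hφ hφy
    obtain ⟨c, hc'⟩ := exists_scalar (k := k) F
    have h1 := L.wt_stable hF hg hjN hvi hvj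
    rw [hc', map_smul, hgv, hφv, hg.kill, smul_eq_mul, mul_one] at h1
    obtain ⟨w, hw, e⟩ := hF j (by omega) v hvi hvj
    rw [hc', h1, zero_smul, smul_zero, hφv, zero_sub] at e
    have hq : t • (v + t ^ (N - j - 1) • w) = 0 := by
      rw [smul_add, ← mul_smul, ← pow_succ', show N - j - 1 + 1 = N - j by omega, ← e,
        add_neg_cancel]
    have h2 := hmin (v + t ^ (N - j - 1) • w)
      (by rw [smul_add, hvi, ← mul_smul, ← L.frame.pow_comm _ L.frame.i_mem, mul_smul, hw])
      (by rw [show j - 1 = j - 2 + 1 by omega, pow_succ, mul_smul, hq, smul_zero])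
    rw [map_add, hgv, IsWt.apply_pow_smul hg (by omega), add_zero] at h2
    exact one_ne_zero h2
  intro x hx hxj
  set x' := x - g x • v with hx'
  have hx'i : i • x' = x' := by rw [hx', smul_sub, hx, smul_comm, hvi]
  have hx'j : t ^ j • x' = 0 := by rw [hx', smul_sub, hxj, smul_comm, hvj, smul_zero, sub_zero]
  have hgx' : g x' = 0 := by rw [hx', map_sub, map_smul, hgv, smul_eq_mul, mul_one, sub_self]
  obtain ⟨F, hF⟩ := L.exists_stable hpr hpry
  obtain ⟨c, hc⟩ := exists_scalar (k := k) F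
  have h1 := L.wt_stable hF hg hjN hvi hvj
  rw [hc, map_smul, hprv, hgv, smul_eq_mul, mul_one] at h1
  obtain ⟨w, hw, e⟩ := hF j (by omega) x' hx'i hx'j
  rw [hc, h1, one_smul, hx'i, sub_eq_iff_eq_add] at e
  have hg0 : g (pr x') = 0 := by
    have h2 := L.wt_stable hF hg hjN hx'i hx'j
    rw [hc, h1, one_smul, hgx'] at h2
    exact h2.symm
  have hsplit : ∀ z ∈ Submodule.span k (Set.range fun n : ℕ => t ^ n • v),
      ∃ (r : k) (w : V), i • w = w ∧ z = r • v + t • w := fun z hz => by
    induction hz using Submodule.span_induction with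
    | mem z hz =>
      obtain ⟨n, rfl⟩ := hz
      rcases n with - | n
      · exact ⟨1, 0, smul_zero _, by simp⟩
      · exact ⟨0, t ^ n • v,
          by rw [← mul_smul, ← L.frame.pow_comm _ L.frame.i_mem, mul_smul, hvi],
          by rw [zero_smul, zero_add, ← mul_smul, ← pow_succ']⟩
    | zero => exact ⟨0, 0, smul_zero _, by simp⟩
    | add a b _ _ ha hb =>
      obtain ⟨r, w, hw, rfl⟩ := ha
      obtain ⟨r', w', hw', rfl⟩ := hb
      exact ⟨r + r', w + w', by rw [smul_add, hw, hw'], by rw [add_smul, smul_add]; abel⟩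
    | smul s a _ ha =>
      obtain ⟨r, w, hw, rfl⟩ := ha
      exact ⟨s * r, s • w, by rw [smul_comm, hw],
        by rw [smul_add, smul_smul, smul_comm t s w]⟩
  obtain ⟨w', hw', e'⟩ : ∃ w' : V, i • w' = w' ∧ pr x' = t ^ (N - j) • w' := by
    obtain ⟨r, w₁, hw₁, e₁⟩ := hsplit _ (hprim x')
    have hr : r = 0 := by
      rw [e₁, map_add, map_smul, hgv, hg.kill, add_zero, smul_eq_mul, mul_one] at hg0
      exact hg0
    rw [hr, zero_smul, zero_add] at e₁
    rcases hj' with hj' | hj'
    · refine ⟨0, smul_zero _, ?_⟩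
      rw [smul_zero]
      have hkill : ∀ z ∈ Submodule.span k (Set.range fun n : ℕ => t ^ n • v), t • z = 0 := by
        intro z hz
        induction hz using Submodule.span_induction with
        | mem z hz =>
          obtain ⟨n, rfl⟩ := hz
          rw [hj', pow_one] at hvj
          rw [← mul_smul, ← pow_succ', pow_succ, mul_smul, hvj, smul_zero]
        | zero => exact smul_zero _
        | add a b _ _ ha hb => rw [smul_add, ha, hb, add_zero]
        | smul s a _ ha => rw [smul_comm, ha, smul_zero]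
      -- a multiple of `t` in the line of `v`
      obtain ⟨l, hl⟩ : ∃ l : k, pr x' = l • v := by
        have hz := hprim x'
        have : ∀ z ∈ Submodule.span k (Set.range fun n : ℕ => t ^ n • v), ∃ l : k, z = l • v := by
          intro z hz
          induction hz using Submodule.span_induction with
          | mem z hz =>
            obtain ⟨n, rfl⟩ := hz
            rcases n with - | n
            · exact ⟨1, by simp⟩
            · refine ⟨0, ?_⟩
              rw [hj', pow_one] at hvj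
              show t ^ (n + 1) • v = (0 : k) • v
              rw [zero_smul, pow_succ, mul_smul, hvj, smul_zero]
          | zero => exact ⟨0, (zero_smul k v).symm⟩
          | add a b _ _ ha hb =>
            obtain ⟨l, rfl⟩ := ha
            obtain ⟨l', rfl⟩ := hb
            exact ⟨l + l', (add_smul l l' v).symm⟩
          | smul s a _ ha =>
            obtain ⟨l, rfl⟩ := ha
            exact ⟨s * l, smul_smul s l v⟩
        exact this _ hz
      rw [hl, map_smul, hgv, smul_eq_mul, mul_one] at hg0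
      rw [hl, hg0, zero_smul]
    · exact ⟨w₁, hw₁, by rw [e₁, show N - j = 1 by omega, pow_one]⟩
  refine ⟨g x, w + w', by rw [smul_add, hw, hw'], ?_⟩
  rw [smul_add, ← e', ← e]
  rw [hx']
  abel

/-- The maps into the radical of a two step module lie in a line. -/
theorem exists_coefficient [IsAlgClosed k] [Fact p.Prime] [CharP k p] (he : e = 1)
    {V : Type v} [AddCommGroup V] [Module k V] [Module (MonoidAlgebra k G) V]
    [IsScalarTower k (MonoidAlgebra k G) V] [FiniteDimensional k V]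
    [IsSimpleModule (MonoidAlgebra k G) V] (hV : ∀ x : V, ε • x = x)
    {X : Type v'} [AddCommGroup X] [Module k X] [Module (MonoidAlgebra k G) X]
    [IsScalarTower k (MonoidAlgebra k G) X] [FiniteDimensional k X]
    (π : X →ₗ[MonoidAlgebra k G] V) (hπ : Function.Surjective π)
    (hno : ∀ (F : X →ₗ[MonoidAlgebra k G] V) (x : X), π x = 0 → F x = 0)
    (hsplit : ∀ f : V →ₗ[MonoidAlgebra k G] X, (∀ x, π (f x) = 0) → f ≠ 0 →
      ∃ h : LinearMap.ker π →ₗ[MonoidAlgebra k G] V, ∀ x : V, ∀ hx : f x ∈ LinearMap.ker π,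
        h ⟨f x, hx⟩ = x) :
    ∀ f₁ f₂ : V →ₗ[MonoidAlgebra k G] X, (∀ x, π (f₁ x) = 0) → (∀ x, π (f₂ x) = 0) →
      f₁ ≠ 0 → ∃ c : k, ∀ x, f₂ x = c • f₁ x := by
  classical
  have hN := L.one_lt
  obtain ⟨j, v, hj1, hjN, hvi, hvj, hvt, hvnot, hker⟩ := L.exists_stable_vector he hV
  obtain ⟨x₀, hx₀⟩ := hπ v
  obtain ⟨xv, hxv⟩ : ∃ xv : X, xv = i • x₀ := ⟨_, rfl⟩
  have hxvi : i • xv = xv := by rw [hxv, ← mul_smul, L.frame.idem]
  have hπxv : π xv = v := by rw [hxv, map_smul, hx₀, hvi]
  have hcoef : ∀ f : V →ₗ[MonoidAlgebra k G] X, (∀ x, π (f x) = 0) →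
      ∃ (c : k) (x' : X), π x' = 0 ∧ i • x' = x' ∧
        t ^ (j - 1) • f v = c • t ^ j • xv + t ^ j • x' := by
    intro f hf
    have hfi : i • f v = f v := by rw [← map_smul, hvi]
    have hfj : t ^ j • f v = 0 := by rw [← map_smul, hvj, map_zero]
    obtain ⟨x, hx, e⟩ : ∃ x : X, i • x = x ∧ t ^ j • x = t ^ (j - 1) • f v := by
      by_contra hcon
      push Not at hcon
      obtain ⟨φ, hφ, hφu⟩ := L.frame.exists_corner_map (M := X) (M' := V) hj1 hfi hfj hcon hvi hvj
      obtain ⟨F, hF⟩ := L.exists_stable hφ (L.comm_of_one he hφ)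
      obtain ⟨w, -, e⟩ := hF j (by omega) (f v) hfi hfj
      rw [hno F _ (hf v), smul_zero, hφu, zero_sub] at e
      refine hvt (-(t ^ (N - j - 1) • w)) ?_
      rw [smul_neg, ← mul_smul, ← pow_succ', show N - j - 1 + 1 = N - j by omega, ← e, neg_neg]
    have hπx : t ^ j • π x = 0 := by rw [← map_smul, e, map_smul, hf, smul_zero]
    obtain ⟨c, w, hw, ew⟩ := hker (π x) (by rw [← map_smul, hx]) hπx
    obtain ⟨sw, hsw⟩ := hπ w
    refine ⟨c, x - c • xv - t ^ (N - j) • i • sw, ?_, ?_, ?_⟩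
    · rw [map_sub, map_sub, map_smul π (t ^ (N - j)), map_smul π i, hsw, hw,
        show π (c • xv) = c • π xv from map_smul (π.restrictScalars k) c xv, hπxv, ew]
      abel
    · rw [smul_sub, smul_sub, hx, smul_comm i c, hxvi, ← mul_smul i (t ^ (N - j)),
        ← L.frame.pow_comm _ L.frame.i_mem, mul_smul, ← mul_smul i i, L.frame.idem]
    · rw [← e, smul_sub, smul_sub, smul_comm (t ^ j) c, ← mul_smul (t ^ j), ← pow_add,
        show j + (N - j) = N by omega, L.frame.t_pow, zero_smul, sub_zero, add_sub_cancel]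
  have hzero : ∀ f : V →ₗ[MonoidAlgebra k G] X, (∀ x, π (f x) = 0) → ∀ x' : X, π x' = 0 →
      i • x' = x' → t ^ (j - 1) • f v = t ^ j • x' → f = 0 := by
    intro f hf x' hx' hx'i e
    by_contra hne
    obtain ⟨h, hh⟩ := hsplit f hf hne
    refine hvnot (h ⟨x', hx'⟩) ?_ ?_
    · rw [← map_smul]
      exact congrArg h (Subtype.ext hx'i)
    · rw [← hh v (hf v), ← map_smul, ← map_smul]
      exact congrArg h (Subtype.ext e.symm)
  intro f₁ f₂ h₁ h₂ hf₁
  obtain ⟨c₁, x₁, hx₁, hx₁i, e₁⟩ := hcoef f₁ h₁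
  obtain ⟨c₂, x₂, hx₂, hx₂i, e₂⟩ := hcoef f₂ h₂
  have hc₁ : c₁ ≠ 0 := fun h => hf₁ (hzero f₁ h₁ x₁ hx₁ hx₁i (by
    rw [e₁, h, zero_smul, zero_add]))
  set f₃ : V →ₗ[MonoidAlgebra k G] X := f₂ - (c₂ / c₁) • f₁ with hf₃
  have hsmul : ∀ (r : k) (x : X), π (r • x) = r • π x := map_smul (π.restrictScalars k)
  have h3 : f₃ = 0 := hzero f₃ (fun x => by
      rw [hf₃, LinearMap.sub_apply, LinearMap.smul_apply, map_sub, hsmul, h₁, h₂, smul_zero,
        sub_self])
    (x₂ - (c₂ / c₁) • x₁) (by rw [map_sub, hsmul, hx₁, hx₂, smul_zero, sub_self])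
    (by rw [smul_sub, smul_comm, hx₁i, hx₂i]) (by
      rw [hf₃, LinearMap.sub_apply, LinearMap.smul_apply, smul_sub,
        smul_comm (t ^ (j - 1)) (c₂ / c₁), e₁, e₂, smul_add,
        smul_smul (c₂ / c₁), div_mul_cancel₀ _ hc₁, smul_sub (t ^ j), smul_comm (t ^ j) (c₂ / c₁)]
      abel)
  refine ⟨c₂ / c₁, fun x => ?_⟩
  have h4 := LinearMap.congr_fun h3 x
  rw [hf₃, LinearMap.sub_apply, LinearMap.smul_apply, LinearMap.zero_apply, sub_eq_zero] at h4
  exact h4

set_option maxHeartbeats 400000 in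
/-- The basic algebra of a block with one weight is commutative. -/
theorem corner_commute [IsAlgClosed k] [Fact p.Prime] [CharP k p] (he : e = 1)
    {V : Type v} [AddCommGroup V] [Module k V] [Module (MonoidAlgebra k G) V]
    [IsScalarTower k (MonoidAlgebra k G) V] [FiniteDimensional k V]
    [IsSimpleModule (MonoidAlgebra k G) V] {i₀ : MonoidAlgebra k G} {v₀ : V}
    (hP : Point (k := k) ε i₀ v₀) :
    ∀ a a' : MonoidAlgebra k G, i₀ * a * i₀ * (i₀ * a' * i₀) = i₀ * a' * i₀ * (i₀ * a * i₀) := by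
  classical
  have : FiniteDimensional k (MonoidAlgebra k G) :=
    Module.Finite.of_basis (MonoidAlgebra.basis G k)
  have : IsArtinianRing (MonoidAlgebra k G) := IsArtinianRing.of_finite k _
  obtain ⟨κ, hκ, hκ0⟩ := hP.exists_coord
  obtain ⟨m, hm⟩ := hP.exists_nil_pow
  obtain ⟨n, uu, vv, hgen⟩ := hP.gen
  set Nil := Point.nilSpace k V i₀ with hNil
  -- the module
  let I : Submodule (MonoidAlgebra k G) (MonoidAlgebra k G) :=
    Submodule.span (MonoidAlgebra k G)
      (((Nil * Nil : Submodule k (MonoidAlgebra k G)) : Set (MonoidAlgebra k G)) ∪ {1 - i₀})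
  let X := MonoidAlgebra k G ⧸ I
  let mkI : MonoidAlgebra k G →ₗ[MonoidAlgebra k G] X := I.mkQ
  have : FiniteDimensional k X :=
    inferInstanceAs (FiniteDimensional k (MonoidAlgebra k G ⧸ I))
  have hmk : ∀ a b : MonoidAlgebra k G, mkI (a * b) = a • mkI b := fun a b => map_smul mkI a b
  have hmki : ∀ a, mkI (a * i₀) = mkI a := fun a => by
    refine (Submodule.Quotient.eq I).2 ?_
    rw [show a * i₀ - a = -(a * (1 - i₀)) by rw [mul_sub, mul_one, neg_sub]]
    exact I.neg_mem (I.smul_mem a (Submodule.subset_span (Set.mem_union_right _ rfl)))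
  have hεX : ∀ x : X, ε • x = x := fun x => by
    obtain ⟨a, rfl⟩ := Submodule.mkQ_surjective I x
    show ε • mkI a = mkI a
    rw [← hmki a, ← hmk, ← mul_assoc, hP.eps_central, mul_assoc, hP.eps_i]
  have hgenV : ∀ x : V, ∃ a : MonoidAlgebra k G, a • v₀ = x := fun x =>
    Submodule.mem_span_singleton.1 (by
      rw [(IsSimpleOrder.eq_bot_or_eq_top
        (Submodule.span (MonoidAlgebra k G) {v₀})).resolve_left (by simp [hP.ne_zero])]
      trivial)
  let π : X →ₗ[MonoidAlgebra k G] V := Submodule.liftQ I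
    (LinearMap.toSpanSingleton (MonoidAlgebra k G) V v₀) (Submodule.span_le.2 (by
      rintro z (hz | hz)
      · exact (hP.mul_le hz).2 v₀
      · show z • v₀ = 0
        rw [Set.mem_singleton_iff.1 hz, sub_smul, one_smul, hP.fix, sub_self]))
  have hπ : ∀ a, π (mkI a) = a • v₀ := fun _ => rfl
  -- the kernel
  have hkerX : ∀ x : X, π x = 0 → ∀ q, ∃ z ∈ Nil, i₀ • vv q • x = mkI z := by
    intro x hx q
    obtain ⟨r, rfl⟩ := Submodule.mkQ_surjective I x
    refine ⟨i₀ * vv q * r * i₀, ⟨?_, fun z => ?_⟩, ?_⟩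
    · simp only [← mul_assoc, hP.idem]
      rw [mul_assoc _ i₀ i₀, hP.idem]
    · rw [mul_smul, mul_smul, hκ, smul_comm r, show r • v₀ = 0 from hx, smul_zero, smul_zero]
    · show _ = mkI _
      rw [hmki, hmk]
      exact (mul_smul _ _ _).symm
  have hεexp : ∀ x : X, x = ∑ q, uu q • i₀ • vv q • x := fun x => by
    conv_lhs => rw [← hεX x, hgen, Finset.sum_smul]
    simp only [mul_smul]
  have hradkill : ∀ z ∈ Nil, ∀ x : X, π x = 0 → z • x = 0 := by
    intro z hz x hx
    rw [hεexp x, Finset.smul_sum]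
    refine Finset.sum_eq_zero fun q _ => ?_
    obtain ⟨z', hz', e⟩ := hkerX x hx q
    rw [e, ← hmk, ← hmk]
    refine (Submodule.Quotient.mk_eq_zero I).2 ?_
    have e2 : z * (uu q * z') = (i₀ * (z * uu q) * i₀) * z' := by
      rw [mul_assoc _ i₀ z', hP.left hz', ← mul_assoc i₀ z, hP.left hz, mul_assoc z]
    rw [e2]
    have h1 := hP.corner_mem hκ (z * uu q)
    rw [mul_smul, hz.2, map_zero, zero_smul, sub_zero] at h1
    exact Submodule.subset_span (Set.mem_union_left _ (Submodule.mul_mem_mul h1 hz'))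
  -- maps to the simple module kill the kernel
  have hno : ∀ (F : X →ₗ[MonoidAlgebra k G] V) (x : X), π x = 0 → F x = 0 := by
    intro F x hx
    rw [hεexp x, map_sum]
    refine Finset.sum_eq_zero fun q _ => ?_
    obtain ⟨z, hz, e⟩ := hkerX x hx q
    rw [map_smul, e, ← mul_one z, hmk, map_smul, hz.2, smul_zero]
  have hsplit : ∀ f : V →ₗ[MonoidAlgebra k G] X, (∀ x, π (f x) = 0) → f ≠ 0 →
      ∃ h : LinearMap.ker π →ₗ[MonoidAlgebra k G] V, ∀ x : V, ∀ hx : f x ∈ LinearMap.ker π,
        h ⟨f x, hx⟩ = x := by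
    intro f hf hne
    let f' : V →ₗ[MonoidAlgebra k G] LinearMap.ker π := f.codRestrict _ fun x => hf x
    have hf' : f' v₀ ≠ 0 := fun h => hne (LinearMap.ext fun x => by
      obtain ⟨a, rfl⟩ := hgenV x
      rw [map_smul, show f v₀ = 0 from congrArg Subtype.val h, smul_zero, LinearMap.zero_apply])
    have : FiniteDimensional k (LinearMap.ker π) :=
      inferInstanceAs (FiniteDimensional k ((LinearMap.ker π).restrictScalars k))
    obtain ⟨h, hh⟩ := hP.exists_retraction hκ (M := LinearMap.ker π)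
      (fun x => Subtype.ext (hεX x)) (fun z hz x => Subtype.ext (hradkill z hz x x.2)) f' hf'
    refine ⟨h, fun x hx => ?_⟩
    obtain ⟨a, ha⟩ := hgenV x
    have e : (⟨f x, hx⟩ : LinearMap.ker π) = a • f' v₀ := Subtype.ext (by
      show f x = a • f v₀
      rw [← ha, map_smul])
    rw [e, map_smul, hh, ha]
  have hline := L.exists_coefficient he hP.eps_fix π (fun x => by
    obtain ⟨a, ha⟩ := hgenV x
    exact ⟨mkI a, ha⟩) hno hsplit
  have hfhom : ∀ z ∈ Nil, ∃ f : V →ₗ[MonoidAlgebra k G] X,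
      (∀ x, π (f x) = 0) ∧ f v₀ = mkI z := by
    intro z hz
    have hπz : π (mkI z) = 0 := hz.2 v₀
    obtain ⟨f, hf⟩ := hP.exists_hom hκ (M := X) (x₀ := mkI z) (by rw [← hmk, hP.left hz])
      (fun z' hz' => hradkill z' hz' _ hπz) hgenV
    refine ⟨f, fun x => ?_, hf⟩
    obtain ⟨a, rfl⟩ := hgenV x
    rw [map_smul, map_smul, hf, hπz, smul_zero]
  have hsq : ∀ z ∈ Nil, mkI z = 0 → z ∈ Nil * Nil := by
    intro z hz h0
    have hI : z ∈ I := (Submodule.Quotient.mk_eq_zero I).1 h0
    rw [← hz.1]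
    clear h0
    suffices H : ∀ r q : MonoidAlgebra k G, q ∈ I → i₀ * (r * q) * i₀ ∈ Nil * Nil by
      have := H 1 z hI
      rwa [one_mul] at this
    intro r q hq
    induction hq using Submodule.span_induction generalizing r with
    | mem q hq =>
      rcases hq with hq | hq
      · induction hq using Submodule.mul_induction_on' with
        | mem_mul_mem a ha b hb =>
          have e : i₀ * (r * (a * b)) * i₀ =
              (i₀ * r * i₀ - κ (r • v₀) • i₀) * a * b + κ (r • v₀) • (a * b) := by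
            rw [sub_mul, sub_mul, smul_mul_assoc, smul_mul_assoc, hP.left ha, sub_add_cancel,
              mul_assoc _ i₀ a, hP.left ha]
            simp only [mul_assoc, hP.right hb]
          rw [e]
          exact Submodule.add_mem _
            (Submodule.mul_mem_mul (hP.mul_le (Submodule.mul_mem_mul (hP.corner_mem hκ r) ha)) hb)
            (Submodule.smul_mem _ _ (Submodule.mul_mem_mul ha hb))
        | add a _ b _ ha hb =>
          rw [mul_add r, mul_add i₀, add_mul]
          exact Submodule.add_mem _ ha hb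
      · rw [Set.mem_singleton_iff.1 hq, mul_sub, mul_one, mul_sub, sub_mul, ← mul_assoc i₀ r,
          mul_assoc _ i₀ i₀, hP.idem, sub_self]
        exact Submodule.zero_mem _
    | zero => simp
    | add a b _ _ ha hb =>
      rw [mul_add r, mul_add i₀, add_mul]
      exact Submodule.add_mem _ (ha r) (hb r)
    | smul s a _ ha =>
      rw [smul_eq_mul, ← mul_assoc r]
      exact ha _
  -- a generator
  obtain ⟨z₀, hz₀, hgenN⟩ : ∃ z₀ ∈ Nil, Nil ≤ Submodule.span k {z₀} ⊔ Nil * Nil := by
    by_cases hall : ∀ z ∈ Nil, mkI z = 0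
    · exact ⟨0, Nil.zero_mem, fun z hz => Submodule.mem_sup_right (hsq z hz (hall z hz))⟩
    push Not at hall
    obtain ⟨z₀, hz₀, hne⟩ := hall
    refine ⟨z₀, hz₀, fun z hz => ?_⟩
    obtain ⟨f₀, hf₀π, hf₀⟩ := hfhom z₀ hz₀
    obtain ⟨f, hfπ, hf⟩ := hfhom z hz
    obtain ⟨c, hc⟩ := hline f₀ f hf₀π hfπ fun h => hne (by
      rw [← hf₀, h, LinearMap.zero_apply])
    have h1 := hc v₀
    rw [hf, hf₀] at h1
    have h2 := hsq _ (Nil.sub_mem hz (Nil.smul_mem c hz₀)) (by
      show (mkI.restrictScalars k) (z - c • z₀) = 0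
      rw [map_sub, map_smul]
      show mkI z - c • mkI z₀ = 0
      rw [h1, sub_self])
    rw [← sub_add_cancel z (c • z₀)]
    exact Submodule.add_mem _ (Submodule.mem_sup_right h2)
      (Submodule.mem_sup_left (Submodule.smul_mem _ _ (Submodule.mem_span_singleton_self _)))
  have hcomm := commute_of_generator Nil hP.mul_le hm hz₀ hgenN
  intro a a'
  have e : ∀ a, i₀ * a * i₀ = (i₀ * a * i₀ - κ (a • v₀) • i₀) + κ (a • v₀) • i₀ :=
    fun a => (sub_add_cancel _ _).symm
  rw [e a, e a']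
  have hl := hP.corner_mem hκ a
  have hl' := hP.corner_mem hκ a'
  set z := i₀ * a * i₀ - κ (a • v₀) • i₀
  set z' := i₀ * a' * i₀ - κ (a' • v₀) • i₀
  simp only [add_mul, mul_add, smul_mul_assoc, mul_smul_comm, hP.idem, hP.left hl, hP.left hl',
    hP.right hl, hP.right hl', hcomm z hl z' hl', smul_smul]
  rw [smul_add, smul_add, smul_smul, smul_smul, mul_comm (κ (a • v₀))]
  abel

end LocalData

end Cfsg.Agent.BlockChar.Cyclic
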