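import Cfsg.Agent.BlockChar.Cyclic.Quotient
import Cfsg.Agent.BlockChar.Cyclic.Single
import Cfsg.Agent.BlockChar.Cyclic.Family
import Cfsg.Agent.BlockChar.Cyclic.CornerFix
import Cfsg.Agent.BrauerPairs.AbelianDefect
import Cfsg.Agent.BrauerPairs.Saturation

/-!
# Blocks with cyclic defect group: the rank is the inertial index
-/

set_option autoImplicit false

namespace Cfsg.Agent.BlockChar.Cyclic

open Cfsg.Agent Cfsg.Agent.Blocks Cfsg.Agent.BrauerPairs Cfsg.Agent.BlockChar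
open Cfsg.Agent.BlockChar.ResidueBlock

universe u

attribute [local instance] Ideal.Quotient.field

set_option synthInstance.maxHeartbeats 400000

/-- Rank and frame for all blocks with cyclic defect group of a group. -/
def CyclicGood {p : ℕ} {M : Ideal Cfsg.AlgInt} (hM : Cfsg.IsPModular p M) [M.IsMaximal]
    (G : Type u) [Group G] [Fintype G] : Prop :=
  ∀ (B : Set (Cfsg.IrrCharacter G)) (D : Subgroup G)
    (c : Set (Cfsg.IrrCharacter (Subgroup.centralizer (D : Set G)))),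
    Cfsg.IsMaximalBrauerPair p M B D c → IsCyclic D →
    ∀ T : Subgroup G, (∀ g : G, g ∈ T ↔ g ∈ Subgroup.normalizer (D : Set G) ∧
      Cfsg.StabilizesBlock (Subgroup.centralizer (D : Set G)) c g) →
    Cfsg.blockRank p B = (Subgroup.centralizer (D : Set G)).relIndex T ∧
      ((Subgroup.centralizer (D : Set G)).relIndex T = 1 →
        ∃ t i, Frame (⊤ : Subalgebra (Cfsg.AlgInt ⧸ M) (MonoidAlgebra (Cfsg.AlgInt ⧸ M) G))
          (bElt hM B) t i (Nat.card D))

variable {G : Type u} [Group G] [Fintype G] {p : ℕ} {M : Ideal Cfsg.AlgInt} [M.IsMaximal]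
  [Fact p.Prime] (hM : Cfsg.IsPModular p M) {B : Set (Cfsg.IrrCharacter G)} {D : Subgroup G}
  {c : Set (Cfsg.IrrCharacter (Subgroup.centralizer (D : Set G)))} {T : Subgroup G}
include hM

/-- The stabilizer normalizes the subgroup of order `p`. -/
theorem le_normalizer_omega {Q : Subgroup G} (hQD : Q ≤ D) (hQ : ∀ u ∈ Q, u ^ p = 1)
    (hord : ∀ u ∈ D, u ^ p = 1 → u ∈ Q) (hTN : T ≤ Subgroup.normalizer (D : Set G)) :
    T ≤ Subgroup.normalizer (Q : Set G) := fun g hg => by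
  refine mem_normalizer_of_conj_le fun u hu => hord _
    ((Subgroup.mem_normalizer_iff''.1 (hTN hg) u).1 (hQD hu)) ?_
  have h := conj_pow (i := p) (a := g⁻¹) (b := u)
  rw [inv_inv] at h
  rw [h, hQ u hu, mul_one, inv_mul_cancel]

/-- The pair below on the subgroup of order `p`. -/
theorem exists_local_pair (hmax : Cfsg.IsMaximalBrauerPair p M B D c) (hcyc : IsCyclic D)
    {Q : Subgroup G} (hQD : Q ≤ D) :
    ∃ f : Set (Cfsg.IrrCharacter (Subgroup.centralizer (Q : Set G))),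
      Cfsg.SubpairLE p M Q f D c ∧ Cfsg.IsNormalSubpair p M Q f D c := by
  obtain ⟨f, hf⟩ := exists_pair hM hmax.1.1 hQD
  refine ⟨f, hf, ?_⟩
  have hDN : D ≤ Subgroup.normalizer (Q : Set G) := fun d hd =>
    Subgroup.centralizer_le_normalizer _
      (Subgroup.centralizer_le hQD (le_centralizer_of_cyclic hcyc hd))
  obtain ⟨g, hg, hgle⟩ := exists_normalSubpair_between hM hmax.1.1 hf hQD le_rfl hDN
  have : g = c := (existsUnique_subpairLE hM hmax.1.1 le_rfl).unique hgle Relation.ReflTransGen.refl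
  exact this ▸ hg

omit [Fintype G] [M.IsMaximal] [Fact p.Prime] in
/-- The stabilizer of the pair of a subgroup, read in the group. -/
theorem stab_of_local_stab [Finite G] (hc : Cfsg.IsPBlock M c) {K : Subgroup G} (hDK : D ≤ K)
    (hCK : Subgroup.centralizer (D : Set G) ≤ K) {g : K}
    (hg : g ∈ Subgroup.normalizer ((D.subgroupOf K : Subgroup K) : Set K))
    (hst : Cfsg.StabilizesBlock (Subgroup.centralizer ((D.subgroupOf K : Subgroup K) : Set K))
      (resBlock hDK hCK c) g) :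
    (g : G) ∈ Subgroup.normalizer (D : Set G) ∧
      Cfsg.StabilizesBlock (Subgroup.centralizer (D : Set G)) c (g : G) := by
  have hgN : (g : G) ∈ Subgroup.normalizer (D : Set G) := by
    have hn := Subgroup.mem_normalizer_iff.1 hg
    refine mem_normalizer_of_conj_le fun u hu => ?_
    have h := (hn (g⁻¹ * ⟨u, hDK hu⟩ * g)).2 (by
      rw [show g * (g⁻¹ * ⟨u, hDK hu⟩ * g) * g⁻¹ = (⟨u, hDK hu⟩ : K) by group]
      exact hu)
    simpa [Subgroup.mem_subgroupOf] using h
  refine (conjPair_eq_iff hM hc (g : G)).1 (idx_ext (map_conj_eq hgN) fun x => ?_)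
  rw [sbc_conjPair]
  show Cfsg.subgroupBlockCoeff (Subgroup.centralizer (D : Set G)) c ((g : G)⁻¹ * x * g) =
    Cfsg.subgroupBlockCoeff (Subgroup.centralizer (D : Set G)) c x
  by_cases hx : x ∈ K
  · have hfix := (conjPair_eq_iff hM (isPBlock_resBlock hDK hCK hc) g).2 ⟨hg, hst⟩
    have h := sbc_conjPair g (⟨D.subgroupOf K, resBlock hDK hCK c⟩ : Cfsg.BrauerPairIdx K) ⟨x, hx⟩
    rw [hfix] at h
    have h' : Cfsg.subgroupBlockCoeff (Subgroup.centralizer ((D.subgroupOf K : Subgroup K) : Set K))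
        (resBlock hDK hCK c) ⟨x, hx⟩ =
        Cfsg.subgroupBlockCoeff (Subgroup.centralizer ((D.subgroupOf K : Subgroup K) : Set K))
        (resBlock hDK hCK c) (g⁻¹ * ⟨x, hx⟩ * g) := h
    rw [sbc_resBlock, sbc_resBlock] at h'
    simpa using h'.symm
  · rw [sbc_of_notMem _ fun h => hx (hCK h), sbc_of_notMem _ fun h => hx ?_]
    simpa [mul_assoc] using mul_mem (mul_mem g.2 (hCK h)) (inv_mem g.2)

/-- A generator of the inertial quotient of order prime to `p`. -/
theorem exists_generator (hmax : Cfsg.IsMaximalBrauerPair p M B D c) (hcyc : IsCyclic D)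
    (hD1 : D ≠ ⊥) (hT : ∀ g : G, g ∈ T ↔ g ∈ Subgroup.normalizer (D : Set G) ∧
      Cfsg.StabilizesBlock (Subgroup.centralizer (D : Set G)) c g) :
    ∃ y ∈ T, ¬ p ∣ orderOf y ∧
      (∀ j : ℕ, y ^ j ∈ Subgroup.centralizer (D : Set G) ↔
        (Subgroup.centralizer (D : Set G)).relIndex T ∣ j) ∧
      (∀ g ∈ T, ∃ j < (Subgroup.centralizer (D : Set G)).relIndex T,
        (y ^ j)⁻¹ * g ∈ Subgroup.centralizer (D : Set G)) ∧
      ¬ p ∣ (Subgroup.centralizer (D : Set G)).relIndex T := by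
  classical
  have hp := hM.1
  have hTN : T ≤ Subgroup.normalizer (D : Set G) := fun g hg => ((hT g).1 hg).1
  have := normal_centralizer_subgroupOf hTN
  obtain ⟨hcycT, hdvd⟩ := inertial_cyclic hM hmax.1.1.1 hD1 hcyc hTN
    (inertial_free hM hcyc hmax hT)
  obtain ⟨e, he⟩ : ∃ e, e = (Subgroup.centralizer (D : Set G)).relIndex T := ⟨_, rfl⟩
  rw [← he] at hdvd ⊢
  have hepos : 0 < e := by
    rw [he, Subgroup.relIndex, Subgroup.index_eq_card]
    exact Nat.card_pos
  have hpe : ¬ p ∣ e := fun h => by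
    have h1 : p ∣ p - 1 := h.trans hdvd
    have h2 := hp.two_le
    have := Nat.le_of_dvd (by omega) h1
    omega
  obtain ⟨q, hq⟩ := hcycT.exists_generator
  obtain ⟨y₀, rfl⟩ := QuotientGroup.mk_surjective q
  have hqo : orderOf (y₀ : T ⧸ (Subgroup.centralizer (D : Set G)).subgroupOf T) = e := by
    rw [orderOf_eq_card_of_forall_mem_zpowers hq, he, Subgroup.relIndex, Subgroup.index_eq_card]
  obtain ⟨y, hy⟩ : ∃ y : T, y = pPrimePartOf p y₀ := ⟨_, rfl⟩
  have hyq : (y : T ⧸ (Subgroup.centralizer (D : Set G)).subgroupOf T) = y₀ := by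
    obtain ⟨m, hm⟩ := orderOf_pPartOf hp y₀
    have h1 : orderOf ((pPartOf p y₀ : T) : T ⧸ (Subgroup.centralizer (D : Set G)).subgroupOf T) ∣
        p ^ m := by
      rw [← hm]; exact orderOf_map_dvd (QuotientGroup.mk' ((Subgroup.centralizer (D : Set G)).subgroupOf T))
        (pPartOf p y₀)
    have h2 : orderOf ((pPartOf p y₀ : T) : T ⧸ (Subgroup.centralizer (D : Set G)).subgroupOf T) ∣
        e := by
      rw [he, Subgroup.relIndex, Subgroup.index_eq_card]
      exact orderOf_dvd_natCard _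
    have h3 := Nat.eq_one_of_dvd_coprimes
      (Nat.Coprime.pow_left m (hp.coprime_iff_not_dvd.2 hpe)) h1 h2
    rw [orderOf_eq_one_iff] at h3
    conv_rhs => rw [← pPartOf_mul_pPrimePartOf hp y₀]
    rw [QuotientGroup.mk_mul, h3, one_mul, hy]
  refine ⟨y, y.2, ?_, fun j => ?_, fun g hg => ?_, hpe⟩
  · rw [Subgroup.orderOf_coe, hy]
    exact not_dvd_orderOf_pPrimePartOf hp y₀
  · rw [← hqo, orderOf_dvd_iff_pow_eq_one, ← hyq, ← QuotientGroup.mk_pow, QuotientGroup.eq_one_iff,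
      Subgroup.mem_subgroupOf, SubmonoidClass.coe_pow]
  · obtain ⟨j, hj⟩ := mem_powers_iff_mem_zpowers.2
      (hq ((⟨g, hg⟩ : T) : T ⧸ (Subgroup.centralizer (D : Set G)).subgroupOf T))
    refine ⟨j % e, Nat.mod_lt _ hepos, ?_⟩
    have h1 : ((y ^ (j % e) : T) : T ⧸ (Subgroup.centralizer (D : Set G)).subgroupOf T) =
        ((⟨g, hg⟩ : T) : T ⧸ (Subgroup.centralizer (D : Set G)).subgroupOf T) := by
      rw [QuotientGroup.mk_pow, hyq, ← hj, ← hqo, pow_mod_orderOf]
    have h2 := QuotientGroup.eq.1 h1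
    rw [Subgroup.mem_subgroupOf] at h2
    simpa using h2

/-- The inductive step when the subgroup of order `p` is central. -/
theorem good_central (hmax : Cfsg.IsMaximalBrauerPair p M B D c) (hcyc : IsCyclic D)
    (hT : ∀ g : G, g ∈ T ↔ g ∈ Subgroup.normalizer (D : Set G) ∧
      Cfsg.StabilizesBlock (Subgroup.centralizer (D : Set G)) c g)
    {Q : Subgroup G} (hQD : Q ≤ D) (hQc : Q ≤ Subgroup.center G) (hQcard : Nat.card Q = p)
    {x : G} (hxQ : x ∈ Q) (hx1 : x ≠ 1) (hx : ∀ u ∈ Q, ∃ n : ℕ, x ^ n = u)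
    (ih : ∀ (H : Type u) [Group H] [Fintype H], Nat.card H < Nat.card G → CyclicGood hM H) :
    Cfsg.blockRank p B = (Subgroup.centralizer (D : Set G)).relIndex T ∧
      ((Subgroup.centralizer (D : Set G)).relIndex T = 1 →
        ∃ t i, Frame (⊤ : Subalgebra (Cfsg.AlgInt ⧸ M) (MonoidAlgebra (Cfsg.AlgInt ⧸ M) G))
          (bElt hM B) t i (Nat.card D)) := by
  classical
  have hTC : T ≤ Subgroup.centralizer (D : Set G) := fun g hg =>
    inertial_free hM hcyc hmax hT g hg x (hQD hxQ) hx1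
      (by rw [Subgroup.mem_center_iff.1 (hQc hxQ) g, mul_inv_cancel_right])
  have he : (Subgroup.centralizer (D : Set G)).relIndex T = 1 :=
    Subgroup.relIndex_eq_one.2 hTC
  have : Q.Normal := ⟨fun n hn g => by
    rwa [Subgroup.mem_center_iff.1 (hQc hn) g, mul_inv_cancel_right]⟩
  have := Fintype.ofFinite (G ⧸ Q)
  obtain ⟨b', hiff, D', c', hmax', hcyc', hcard', hstab⟩ :=
    exists_quotient_data hM hmax hcyc Q hQD hQc hQcard
  have hlt : Nat.card (G ⧸ Q) < Nat.card G := by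
    have h := Subgroup.card_eq_card_quotient_mul_card_subgroup Q
    rw [hQcard] at h
    have := hM.1.two_le
    have : 0 < Nat.card (G ⧸ Q) := Nat.card_pos
    rw [h]
    nlinarith
  obtain ⟨hl', hF⟩ := ih (G ⧸ Q) hlt b' D' c' hmax' hcyc' (pairStab ⟨D', c'⟩)
    (mem_pairStab hM hmax'.1.1.2)
  have he' : (Subgroup.centralizer (D' : Set (G ⧸ Q))).relIndex (pairStab ⟨D', c'⟩) = 1 :=
    Subgroup.relIndex_eq_one.2 hstab
  obtain ⟨t', i', F⟩ := hF he'
  rw [he'] at hl'
  have h1 := blockRank_le_quotient Q hM (hmax.1.1.1.to_le hQD) hQc hmax.1.2.1 hiff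
  have h2 := blockRank_pos hM hmax.1.2.1
  refine ⟨by rw [he]; omega, fun _ => ?_⟩
  exact exists_frame_of_central hM hmax hcyc (fun g hg hst => hTC ((hT g).2 ⟨hg, hst⟩)) Q hQD hQc
    hQcard hxQ hx hiff hcard' F

/-- The inductive step when the subgroup of order `p` is not central. -/
theorem good_local (hmax : Cfsg.IsMaximalBrauerPair p M B D c) (hcyc : IsCyclic D) (hD1 : D ≠ ⊥)
    (hT : ∀ g : G, g ∈ T ↔ g ∈ Subgroup.normalizer (D : Set G) ∧
      Cfsg.StabilizesBlock (Subgroup.centralizer (D : Set G)) c g)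
    {Q : Subgroup G} (hQD : Q ≤ D) (hQcard : Nat.card Q = p)
    (hord : ∀ u ∈ D, u ^ p = 1 → u ∈ Q) {x : G} (hxQ : x ∈ Q) (hx1 : x ≠ 1)
    (hx : ∀ u ∈ Q, ∃ n : ℕ, x ^ n = u) (hQnc : ¬ Q ≤ Subgroup.center G)
    (ih : ∀ (H : Type u) [Group H] [Fintype H], Nat.card H < Nat.card G → CyclicGood hM H) :
    Cfsg.blockRank p B = (Subgroup.centralizer (D : Set G)).relIndex T ∧
      ((Subgroup.centralizer (D : Set G)).relIndex T = 1 →
        ∃ t i, Frame (⊤ : Subalgebra (Cfsg.AlgInt ⧸ M) (MonoidAlgebra (Cfsg.AlgInt ⧸ M) G))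
          (bElt hM B) t i (Nat.card D)) := by
  classical
  have hp := hM.1
  have := charP_residueField hM
  have := BlockThms.OrderP.isAlgClosed_residue (M := M)
  have hPp := hmax.1.1.1
  have hQpow : ∀ u ∈ Q, u ^ p = 1 := fun u hu => by
    have h := pow_card_eq_one' (G := Q) (x := ⟨u, hu⟩)
    rw [hQcard] at h
    simpa using congrArg Subtype.val h
  have hTN : T ≤ Subgroup.normalizer (D : Set G) := fun g hg => ((hT g).1 hg).1
  have hTQ := le_normalizer_omega hM hQD hQpow hord hTN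
  have hfree := inertial_free hM hcyc hmax hT
  have hDC := le_centralizer_of_cyclic hcyc
  have hCT : Subgroup.centralizer (D : Set G) ≤ T := (stabilizer_props hM hmax.1.1.2 hT).2.1
  -- the local pair
  obtain ⟨f, hfle, hn⟩ := exists_local_pair hM hmax hcyc hQD
  have hf : Cfsg.IsPBlock M f := hn.1.2
  have hCK : Subgroup.centralizer (D : Set G) ≤ Subgroup.centralizer (Q : Set G) :=
    Subgroup.centralizer_le hQD
  have hDK : D ≤ Subgroup.centralizer (Q : Set G) := hDC.trans hCK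
  have := Fintype.ofFinite (Subgroup.centralizer (Q : Set G))
  have hmaxK := maximal_local hM hmax hn hDK hCK
  have hcycK : IsCyclic (D.subgroupOf (Subgroup.centralizer (Q : Set G))) :=
    (Subgroup.subgroupOfEquivOfLe hDK).isCyclic.2 hcyc
  have hlt : Nat.card (Subgroup.centralizer (Q : Set G)) < Nat.card G := by
    refine lt_of_le_of_ne (Subgroup.card_le_card_group _) fun h => hQnc ?_
    exact Subgroup.centralizer_eq_top_iff_subset.1 (Subgroup.eq_top_of_card_eq _ h)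
  have hcardK : Nat.card (D.subgroupOf (Subgroup.centralizer (Q : Set G))) = Nat.card D :=
    Nat.card_congr (Subgroup.subgroupOfEquivOfLe hDK).toEquiv
  obtain ⟨-, hFK⟩ := ih _ hlt f _ _ hmaxK hcycK (pairStab ⟨_, resBlock hDK hCK c⟩)
    (mem_pairStab hM hmaxK.1.1.2)
  obtain ⟨tK, iK, FK⟩ := hFK (Subgroup.relIndex_eq_one.2 fun g hg => by
    obtain ⟨hgN, hgst⟩ := (mem_pairStab hM hmaxK.1.1.2 g).1 hg
    obtain ⟨h1, h2⟩ := stab_of_local_stab hM hmax.1.1.2 hDK hCK hgN hgst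
    have hgC : (g : G) ∈ Subgroup.centralizer (D : Set G) := hfree _ ((hT _).2 ⟨h1, h2⟩) x
      (hQD hxQ) hx1 (by rw [← Subgroup.mem_centralizer_iff.1 g.2 x hxQ, mul_inv_cancel_right])
    rw [Subgroup.mem_centralizer_iff]
    intro u hu
    exact Subtype.ext (Subgroup.mem_centralizer_iff.1 hgC (u : G) hu))
  rw [hcardK] at FK
  have F₀ := emb_frame (Cfsg.AlgInt ⧸ M) FK
  rw [emb_bElt hM] at F₀
  -- the stabilizer of the local pair
  obtain ⟨T₁, hT₁def⟩ : ∃ T₁ : Subgroup G, T₁ = pairStab ⟨Q, f⟩ := ⟨_, rfl⟩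
  have hT₁ : ∀ g : G, g ∈ T₁ ↔ g ∈ Subgroup.normalizer (Q : Set G) ∧
      Cfsg.StabilizesBlock (Subgroup.centralizer (Q : Set G)) f g := fun g => by
    rw [hT₁def]; exact mem_pairStab hM hf g
  obtain ⟨-, hKT₁, hT₁N, hinv⟩ := stabilizer_props hM hf hT₁
  obtain ⟨hfac, hidx⟩ := stabilizer_factor hM hmax (comm_of_cyclic hcyc) hf hfle hT₁ hT
  have hTK : T ⊓ Subgroup.centralizer (Q : Set G) = Subgroup.centralizer (D : Set G) := by
    refine le_antisymm (fun g hg => hfree g hg.1 x (hQD hxQ) hx1 ?_) (le_inf hCT hCK)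
    rw [← Subgroup.mem_centralizer_iff.1 hg.2 x hxQ, mul_inv_cancel_right]
  rw [inf_eq_left.2 hTQ, hTK] at hidx
  obtain ⟨y, hyT, hyo, hypow, hygen, hpe⟩ := exists_generator hM hmax hcyc hD1 hT
  have hyT₁ : y ∈ T₁ := by
    refine (hT₁ y).2 ((conjPair_eq_iff hM hf y).1 ?_)
    have h1 : PairLE p M (conjPair y ⟨Q, f⟩) (conjPair y ⟨D, c⟩) := le_conjPair hM hfle y
    rw [(conjPair_eq_iff hM hmax.1.1.2 y).2 ((hT y).1 hyT)] at h1
    exact pair_unique hM hmax.1.1 h1 hfle (map_conj_eq (hTQ hyT))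
  have hconjK : ∀ g ∈ T₁, ∀ z ∈ Subgroup.centralizer (Q : Set G),
      g * z * g⁻¹ ∈ Subgroup.centralizer (Q : Set G) := fun g hg z hz =>
    (mem_centralizer_iff_of_mem_normalizer (hT₁N hg) z).1 hz
  have hypowK : ∀ j : ℕ, y ^ j ∈ Subgroup.centralizer (Q : Set G) ↔
      (Subgroup.centralizer (D : Set G)).relIndex T ∣ j := fun j => by
    rw [← hypow j, ← hTK, Subgroup.mem_inf]
    exact ⟨fun h => ⟨pow_mem hyT j, h⟩, fun h => h.2⟩
  have hygenK : ∀ g ∈ T₁, ∃ j < (Subgroup.centralizer (D : Set G)).relIndex T,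
      g * (y ^ j)⁻¹ ∈ Subgroup.centralizer (Q : Set G) := by
    intro g hg
    obtain ⟨a, ha, z, hz, rfl⟩ := hfac g hg
    obtain ⟨j, hj, hja⟩ := hygen a ha
    refine ⟨j, hj, ?_⟩
    have h1 := hconjK (y ^ j) (pow_mem hyT₁ j) _ (mul_mem (hCK hja) hz)
    rwa [show y ^ j * ((y ^ j)⁻¹ * a * z) * (y ^ j)⁻¹ = a * z * (y ^ j)⁻¹ by group] at h1
  -- the fixed idempotent
  have hefix : Fixed (conjRep (Cfsg.AlgInt ⧸ M)) T₁
      (eElt hM (Subgroup.centralizer (Q : Set G)) f) := eElt_fixed hM hinv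
  have ho0 : ((orderOf y : ℕ) : Cfsg.AlgInt ⧸ M) ≠ 0 := by
    rwa [Ne, CharP.cast_eq_zero_iff (Cfsg.AlgInt ⧸ M) p]
  have hyinv : MonoidAlgebra.of (Cfsg.AlgInt ⧸ M) G y ^ (orderOf y - 1) =
      MonoidAlgebra.of (Cfsg.AlgInt ⧸ M) G y⁻¹ := by
    rw [← map_pow]
    congr 1
    refine eq_inv_of_mul_eq_one_left ?_
    rw [← pow_succ, Nat.sub_add_cancel (orderOf_pos y), pow_orderOf_eq_one]
  obtain ⟨i, F, hyi⟩ := F₀.exists_fixed (y := MonoidAlgebra.of (Cfsg.AlgInt ⧸ M) G y)
    (m := orderOf y) (by rw [← map_pow, pow_orderOf_eq_one, map_one]) ho0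
    (fun s hs => by
      rw [hyinv, ← conjRep_apply]
      exact conjRep_mem _ (Subgroup.mem_normalizer_iff.2 fun z =>
        (mem_centralizer_iff_of_mem_normalizer (hT₁N hyT₁) z)) hs)
    (by
      have h := hefix y hyT₁
      rw [conjRep_apply] at h
      conv_rhs => rw [← h]
      rw [mul_assoc _ _ (MonoidAlgebra.of _ G y), ← map_mul, inv_mul_cancel, map_one, mul_one])
  -- the root
  obtain ⟨b₀, hb₀fix, hb₀⟩ := exists_trace_root hM hf (isDefectGroup_of_maximal hM hmaxK)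
  obtain ⟨b, hb⟩ : ∃ b, b = emb (Cfsg.AlgInt ⧸ M) (Subgroup.centralizer (Q : Set G)) b₀ *
      eElt hM (Subgroup.centralizer (Q : Set G)) f := ⟨_, rfl⟩
  have hbfix : Fixed (conjRep (Cfsg.AlgInt ⧸ M)) D b := fun u hu => by
    rw [hb, conjRep_mul, hefix u (hKT₁ (hDK hu)),
      ← show ((⟨u, hDK hu⟩ : Subgroup.centralizer (Q : Set G)) : G) = u from rfl, ← emb_conjRep,
      hb₀fix _ (by exact hu)]
  have hbtr : relTr (conjRep (Cfsg.AlgInt ⧸ M)) D (Subgroup.centralizer (Q : Set G)) b =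
      eElt hM (Subgroup.centralizer (Q : Set G)) f := by
    have h1 := emb_relTr (Cfsg.AlgInt ⧸ M) hb₀fix hDK
    rw [hb₀, emb_bElt hM] at h1
    have h2 := map_relTr (conjRep (Cfsg.AlgInt ⧸ M)) (conjRep (Cfsg.AlgInt ⧸ M))
      (LinearMap.mulRight (Cfsg.AlgInt ⧸ M) (eElt hM (Subgroup.centralizer (Q : Set G)) f))
      (P := D) (H := Subgroup.centralizer (Q : Set G)) (fun g hg a => by
        simp only [LinearMap.mulRight_apply, conjRep_mul, hefix g (hKT₁ hg)])
      (emb (Cfsg.AlgInt ⧸ M) (Subgroup.centralizer (Q : Set G)) b₀)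
    simp only [LinearMap.mulRight_apply] at h2
    rw [hb, ← h2, ← h1, eElt_idem hM hf]
  have hbK : b ∈ kSub (Cfsg.AlgInt ⧸ M) (Subgroup.centralizer (Q : Set G)) :=
    hb ▸ Subalgebra.mul_mem _ (emb_mem _ b₀) (eElt_mem hM)
  have hbe : b * eElt hM (Subgroup.centralizer (Q : Set G)) f = b := by
    rw [hb, mul_assoc, eElt_idem hM hf]
  have hpair : Cfsg.IsBrauerPairOf p M B Q f :=
    (isBrauerPairOf_iff_of_subpairLE hM hfle B).1 hmax.1
  have hD2 : 1 < Nat.card D := (Subgroup.one_lt_card_iff_ne_bot D).2 hD1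
  have hmemN : ∀ g : G, ∀ u ∈ D, u ≠ 1 → g⁻¹ * u * g ∈ D →
      g ∈ Subgroup.normalizer (Q : Set G) := by
    intro g u hu hu1 hgu
    obtain ⟨m, hm⟩ := IsPGroup.iff_orderOf.1 hPp ⟨u, hu⟩
    rw [Subgroup.orderOf_mk] at hm
    obtain ⟨m', rfl⟩ : ∃ m', m = m' + 1 := ⟨m - 1, by
      rcases Nat.eq_zero_or_pos m with h | h
      · rw [h, pow_zero, orderOf_eq_one_iff] at hm; exact absurd hm hu1
      · omega⟩
    have hz : orderOf (u ^ p ^ m') = p := by
      rw [orderOf_pow' _ (pow_ne_zero _ hp.ne_zero), hm, pow_succ, Nat.gcd_mul_right_left,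
        Nat.mul_div_cancel_left _ (pow_pos hp.pos _)]
    obtain ⟨z, hzdef⟩ : ∃ z, z = u ^ p ^ m' := ⟨_, rfl⟩
    rw [← hzdef] at hz
    have hzp : z ^ p = 1 := by rw [← hz]; exact pow_orderOf_eq_one z
    have hzQ : z ∈ Q := hord z (hzdef ▸ pow_mem hu _) hzp
    have hgz : g⁻¹ * z * g ∈ Q := by
      have hconj : ∀ n : ℕ, (g⁻¹ * u * g) ^ n = g⁻¹ * u ^ n * g := fun n => by
        have h := conj_pow (i := n) (a := g⁻¹) (b := u)
        rwa [inv_inv] at h
      refine hord _ (by rw [hzdef, ← hconj]; exact pow_mem hgu _) ?_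
      have h := conj_pow (i := p) (a := g⁻¹) (b := z)
      rw [inv_inv] at h
      rw [h, hzp, mul_one, inv_mul_cancel]
    have hzpow : Subgroup.zpowers z = Q :=
      Subgroup.eq_of_le_of_card_ge (Subgroup.zpowers_le.2 hzQ)
        (by rw [Nat.card_zpowers, hz, hQcard])
    refine mem_normalizer_of_conj_le fun v hv => ?_
    rw [← hzpow] at hv
    obtain ⟨n, rfl⟩ := Subgroup.mem_zpowers_iff.1 hv
    have h : g⁻¹ * z ^ n * g = (g⁻¹ * z * g) ^ n := by
      have h' := conj_zpow (i := n) (a := g⁻¹) (b := z)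
      rw [inv_inv] at h'
      exact h'.symm
    rw [h]
    exact zpow_mem hgz n
  have L : LocalData p Q D (Subgroup.centralizer (Q : Set G)) T₁ y (orderOf y)
      ((Subgroup.centralizer (D : Set G)).relIndex T) (bElt hM B)
      (eElt hM (Subgroup.centralizer (Q : Set G)) f) b
      (emb (Cfsg.AlgInt ⧸ M) (Subgroup.centralizer (Q : Set G)) tK) i (Nat.card D) :=
    { centralizer_eq := rfl
      isPGroup := hPp.to_le hQD
      ne_bot := fun h => hx1 (by rwa [h, Subgroup.mem_bot] at hxQ)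
      Q_le := hQD
      P_le := hDK
      T_le := hT₁N
      K_le := hKT₁
      mem_normalizer := hmemN
      y_mem := hyT₁
      y_pow := pow_orderOf_eq_one y
      o_ne := ho0
      e_ne := by rwa [Ne, CharP.cast_eq_zero_iff (Cfsg.AlgInt ⧸ M) p]
      y_gen := hygenK
      y_pow_mem := hypowK
      index_eq := by rw [← Subgroup.index_eq_card, hidx]; rfl
      eps_idem := bElt_idem hM hmax.1.2.1
      eps_central := bElt_central hM
      eps_local := bElt_local hM hmax.1.2.1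
      trunc_eps := trunc_bElt_mul_eElt hM hpair
      e₁_fixed := hefix
      e₁_orth := fun g hgN hgT =>
        eElt_conj_mul_eq_zero hM hf hgN fun h => hgT ((hT₁ g).2 ⟨hgN, h⟩)
      b_mem := hbK
      b_fixed := hbfix
      e₁_b := by rw [eElt_comm hM hbK, hbe]
      b_e₁ := hbe
      b_trace := hbtr
      frame := F
      y_i := hyi
      one_lt := hD2 }
  obtain ⟨V, hne, hall⟩ := L.exists_family
  have hl := blockRank_eq_card hM hmax.1.2.1 V hne hall
  refine ⟨hl, fun he => ?_⟩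
  obtain ⟨S, i₀, v₀, hP⟩ := exists_point hM hmax.1.2.1 (hl.trans he)
  have : FiniteDimensional (Cfsg.AlgInt ⧸ M) (MonoidAlgebra (Cfsg.AlgInt ⧸ M) G) :=
    Module.Finite.of_basis (MonoidAlgebra.basis G (Cfsg.AlgInt ⧸ M))
  obtain ⟨t, ht⟩ := frame_of_corner hM hmax hcyc
    (fun g hg hst => Subgroup.relIndex_eq_one.1 he ((hT g).2 ⟨hg, hst⟩)) hP.idem hP.eps_i hP.gen
    (((finrank_corner_le hP.eps_idem hP.eps_central hP.idem hP.eps_i hP.gen
        (L.corner_commute he hP)).trans (finrank_centerSpace_le hM hmax.1.2.1)).trans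
      ((card_le_of_rank_one hM hmax.1.2.1 (hl.trans he)).trans
        (card_defectGroup hM hmax.1.2.1 (isDefectGroup_of_maximal hM hmax)).ge))
  exact ⟨t, i₀, ht⟩

omit [Fintype G] in
/-- Rank and frame for every group. -/
theorem cyclicGood : ∀ (n : ℕ) (H : Type u) [Group H] [Fintype H], Nat.card H ≤ n →
    CyclicGood hM H := by
  intro n
  induction n with
  | zero => intro H _ _ h; exact absurd h (not_le.2 Nat.card_pos)
  | succ n ih =>
    intro H _ _ hH B D c hmax hcyc T hT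
    by_cases hD1 : D = ⊥
    · obtain ⟨hl, hF⟩ := exists_frame_of_defect_zero hM hmax hD1
      have he : (Subgroup.centralizer (D : Set H)).relIndex T = 1 :=
        Subgroup.relIndex_eq_one.2 fun g _ => by
          rw [Subgroup.mem_centralizer_iff]
          intro u hu
          have : u = 1 := by simpa [hD1] using hu
          rw [this, one_mul, mul_one]
      exact ⟨hl.trans he.symm, fun _ => hF⟩
    obtain ⟨Q, hQD, hQcard, hord, x, hxQ, hx1, hx⟩ :=
      exists_omega (p := p) hmax.1.1.1 hcyc hD1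
    have ih' : ∀ (H' : Type u) [Group H'] [Fintype H'], Nat.card H' < Nat.card H →
        CyclicGood hM H' := fun H' _ _ h => ih H' (by omega)
    by_cases hQc : Q ≤ Subgroup.center H
    · exact good_central hM hmax hcyc hT hQD hQc hQcard hxQ hx1 hx ih'
    · exact good_local hM hmax hcyc hD1 hT hQD hQcard hord hxQ hx1 hx hQc ih'

/-- The rank of a block with cyclic defect group is its inertial index. -/
theorem blockRank_eq_relIndex (hmax : Cfsg.IsMaximalBrauerPair p M B D c) (hcyc : IsCyclic D)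
    (hT : ∀ g : G, g ∈ T ↔ g ∈ Subgroup.normalizer (D : Set G) ∧
      Cfsg.StabilizesBlock (Subgroup.centralizer (D : Set G)) c g) :
    Cfsg.blockRank p B = (Subgroup.centralizer (D : Set G)).relIndex T :=
  (cyclicGood hM _ G le_rfl B D c hmax hcyc T hT).1

end Cfsg.Agent.BlockChar.Cyclic
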