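import Cfsg.Agent.BlockChar.KleinFour
import Mathlib.GroupTheory.SpecificGroups.Cyclic
import Mathlib.RingTheory.IntegralDomain

/-!
# The inertial quotient of a block with cyclic defect group
-/

set_option autoImplicit false

namespace Cfsg.Agent.BlockChar.Cyclic

open Cfsg.Agent Cfsg.Agent.Blocks Cfsg.Agent.BrauerPairs Cfsg.Agent.BlockChar

universe u

variable {G : Type u} [Group G] [Finite G] {p : ℕ} {M : Ideal Cfsg.AlgInt}

local notation "CG[" Q "]" => Subgroup.centralizer (SetLike.coe Q)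

/-- A pair on a defect group is maximal. -/
theorem maximal_of_isInducedBlock (hM : Cfsg.IsPModular p M) {B : Set (Cfsg.IrrCharacter G)}
    {P : Subgroup G} (hPD : Cfsg.IsDefectGroup p M B P)
    {c : Set (Cfsg.IrrCharacter CG[P])} (hc : Cfsg.IsInducedBlock M CG[P] c B) :
    Cfsg.IsMaximalBrauerPair p M B P c := by
  have := Fact.mk hM.1
  refine ⟨pair_of_isInducedBlock hM (DefectThms.isPGroup_of_isDefectGroup hPD) hc,
    fun R g hR hle => ?_⟩
  obtain ⟨k, hk⟩ := exists_conj_le_of_pair hM hR hPD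
  refine (Subgroup.eq_of_le_of_card_ge (le_of_subpairLE hle) ?_).symm
  rw [← DefectThms.card_map_conj R k]
  exact Subgroup.card_le_of_le hk

omit [Finite G] in
theorem comm_of_cyclic {P : Subgroup G} (hcyc : IsCyclic P) :
    ∀ x ∈ P, ∀ y ∈ P, x * y = y * x := by
  obtain ⟨g, hg⟩ := hcyc.exists_generator
  intro x hx y hy
  obtain ⟨i, hi⟩ := Subgroup.mem_zpowers_iff.1 (hg ⟨x, hx⟩)
  obtain ⟨j, hj⟩ := Subgroup.mem_zpowers_iff.1 (hg ⟨y, hy⟩)
  have := congrArg Subtype.val (((Commute.refl g).zpow_zpow i j).eq)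
  rwa [hi, hj] at this

omit [Finite G] in
theorem le_centralizer_of_cyclic {P : Subgroup G} (hcyc : IsCyclic P) : P ≤ CG[P] :=
  fun a ha => Subgroup.mem_centralizer_iff.2 fun b hb => comm_of_cyclic hcyc b hb a ha

/-- The element of a cyclic `p`-group fixed by a `p'`-element other than `1` forces centralizing. -/
theorem mem_centralizer_of_fix {P : Subgroup G} (hp : p.Prime) (hP : IsPGroup p P)
    (hcyc : IsCyclic P) {g x : G} (hgN : g ∈ Subgroup.normalizer (P : Set G))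
    (hg : ¬ p ∣ orderOf g) (hx : x ∈ P) (hx1 : x ≠ 1) (hfix : g * x * g⁻¹ = x) : g ∈ CG[P] := by
  have := Fact.mk hp
  obtain ⟨a, ha⟩ := hcyc.exists_generator
  obtain ⟨d, hd⟩ := IsPGroup.iff_orderOf.1 hP a
  rw [← Subgroup.orderOf_coe] at hd
  have hga : g * a * g⁻¹ ∈ P := (Subgroup.mem_normalizer_iff.1 hgN _).1 a.2
  obtain ⟨r, hr⟩ := mem_powers_iff_mem_zpowers.2 (ha ⟨_, hga⟩)
  have hr' : g * a * g⁻¹ = (a : G) ^ r := (congrArg Subtype.val hr).symm
  obtain ⟨i, hi⟩ := mem_powers_iff_mem_zpowers.2 (ha ⟨x, hx⟩)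
  have hi' : (a : G) ^ i = x := congrArg Subtype.val hi
  have hconj : ∀ n : ℕ, g ^ n * a * (g ^ n)⁻¹ = (a : G) ^ (r ^ n) := by
    intro n
    induction n with
    | zero => simp
    | succ n ih =>
      rw [pow_succ', mul_inv_rev, show g * g ^ n * (a : G) * ((g ^ n)⁻¹ * g⁻¹) =
        g * (g ^ n * a * (g ^ n)⁻¹) * g⁻¹ by group, ih, ← conj_pow, hr', ← pow_mul, ← pow_succ']
  -- `r` is `1` modulo `p`
  have hr1 : r ≡ 1 [MOD p] := by
    have h : (a : G) ^ (r * i) = (a : G) ^ (1 * i) := by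
      rw [pow_mul, ← hr', conj_pow, hi', hfix, one_mul, hi']
    rw [pow_eq_pow_iff_modEq, hd] at h
    have hnd : ¬ p ^ d ∣ i := fun hdvd => hx1 (by
      rw [← hi', ← orderOf_dvd_iff_pow_eq_one, hd]; exact hdvd)
    have h2 := h.cancel_right_div_gcd (pow_pos hp.pos d)
    refine h2.of_dvd ?_
    obtain ⟨k, hk, hk'⟩ := (Nat.dvd_prime_pow hp).1 (Nat.gcd_dvd_left (p ^ d) i)
    have hkd : k < d := lt_of_le_of_ne hk fun e => hnd (by
      rw [← e, ← hk']; exact Nat.gcd_dvd_right _ _)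
    rw [hk', Nat.pow_div hk hp.pos]
    exact dvd_pow_self p (by omega)
  have hz : (r ^ p ^ d : ℕ) ≡ 1 [MOD p ^ d] := by
    have h : ∀ n : ℕ, ((p : ℤ) ^ (n + 1)) ∣ (r : ℤ) ^ p ^ n - 1 := by
      intro n
      have h0 : ((p : ℕ) : ℤ) ∣ (r : ℤ) - 1 := by
        have := (Int.natCast_modEq_iff.2 hr1).symm
        simpa using Int.modEq_iff_dvd.1 this
      simpa using dvd_sub_pow_of_dvd_sub (R := ℤ) h0 n
    refine Int.natCast_modEq_iff.1 ?_
    rw [Int.modEq_iff_dvd]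
    push_cast
    rw [dvd_sub_comm]
    exact dvd_trans (pow_dvd_pow _ (Nat.le_succ d)) (h d)
  have hgd : g ^ p ^ d ∈ CG[P] := by
    have hfa : g ^ p ^ d * a * (g ^ p ^ d)⁻¹ = a := by
      rw [hconj]
      conv_rhs => rw [← pow_one (a : G)]
      rw [pow_eq_pow_iff_modEq, hd]
      exact hz
    refine Subgroup.mem_centralizer_iff.2 fun y hy => ?_
    obtain ⟨j, hj⟩ := mem_powers_iff_mem_zpowers.2 (ha ⟨y, hy⟩)
    rw [← show (a : G) ^ j = y from congrArg Subtype.val hj]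
    exact ((show Commute (g ^ p ^ d) (a : G) from mul_inv_eq_iff_eq_mul.1 hfa).pow_right j).eq.symm
  obtain ⟨m, hm⟩ := exists_pow_eq_self_of_coprime (x := g) (n := p ^ d)
    (Nat.Coprime.pow_left _ ((hp.coprime_iff_not_dvd.2 hg)))
  exact hm ▸ pow_mem hgd m

/-- An element of the stabilizer of a maximal pair fixing a non-trivial element centralizes. -/
theorem inertial_free (hM : Cfsg.IsPModular p M) {B : Set (Cfsg.IrrCharacter G)}
    {P : Subgroup G} (hcyc : IsCyclic P) {c : Set (Cfsg.IrrCharacter CG[P])}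
    (hmax : Cfsg.IsMaximalBrauerPair p M B P c) {T : Subgroup G}
    (hT : ∀ g : G, g ∈ T ↔ g ∈ Subgroup.normalizer (P : Set G) ∧
      Cfsg.StabilizesBlock CG[P] c g) :
    ∀ g ∈ T, ∀ x ∈ P, x ≠ 1 → g * x * g⁻¹ = x → g ∈ CG[P] := by
  intro g hg x hx hx1 hfix
  have hp := hM.1
  have := Fact.mk hp
  obtain ⟨h1, h2⟩ := (hT _).1 (pow_mem hg (pExp p (orderOf g)) : pPartOf p g ∈ T)
  have hu : pPartOf p g ∈ CG[P] := by
    have := mem_sup_of_maximal hM hmax h1 h2 (orderOf_pPartOf hp g)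
    rwa [sup_of_le_right (le_centralizer_of_cyclic hcyc)] at this
  have hs : pPrimePartOf p g ∈ CG[P] := by
    refine mem_centralizer_of_fix hp hmax.1.1.1 hcyc
      ((hT _).1 (pow_mem hg (pPrimeExp p (orderOf g)) : pPrimePartOf p g ∈ T)).1
      (not_dvd_orderOf_pPrimePartOf hp g) hx hx1 (mul_inv_eq_iff_eq_mul.2 ?_)
    exact ((show Commute g x from mul_inv_eq_iff_eq_mul.1 hfix).pow_left _).eq
  rw [← pPartOf_mul_pPrimePartOf hp g]
  exact mul_mem hu hs

/-- The inertial quotient acts freely, is cyclic and has order dividing `p - 1`. -/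
theorem inertial_structure (hM : Cfsg.IsPModular p M) {B : Set (Cfsg.IrrCharacter G)}
    {P : Subgroup G} (hPD : Cfsg.IsDefectGroup p M B P) (hcyc : IsCyclic P)
    {c : Set (Cfsg.IrrCharacter CG[P])} (hc : Cfsg.IsInducedBlock M CG[P] c B) {T : Subgroup G}
    (hT : ∀ g : G, g ∈ T ↔ g ∈ Subgroup.normalizer (P : Set G) ∧
      Cfsg.StabilizesBlock CG[P] c g) :
    ∀ g ∈ T, ∀ x ∈ P, x ≠ 1 → g * x * g⁻¹ = x → g ∈ CG[P] :=
  inertial_free hM hcyc (maximal_of_isInducedBlock hM hPD hc) hT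

/-- `T/C(P)` is cyclic of order dividing `p - 1`. -/
theorem inertial_cyclic (hM : Cfsg.IsPModular p M) {P : Subgroup G} (hP : IsPGroup p P)
    (hP1 : P ≠ ⊥) (hcyc : IsCyclic P) {T : Subgroup G}
    (hTN : T ≤ Subgroup.normalizer (P : Set G))
    (hfree : ∀ g ∈ T, ∀ x ∈ P, x ≠ 1 → g * x * g⁻¹ = x → g ∈ CG[P])
    [hn : ((CG[P]).subgroupOf T).Normal] :
    IsCyclic (T ⧸ (CG[P]).subgroupOf T) ∧ (CG[P]).relIndex T ∣ p - 1 := by
  classical
  have hp := hM.1
  have := Fact.mk hp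
  have : Nontrivial P := P.nontrivial_iff_ne_bot.2 hP1
  obtain ⟨⟨z, hz⟩, hzo⟩ := exists_prime_orderOf_dvd_card' (G := P) p (by
    obtain ⟨n, hn⟩ := IsPGroup.iff_card.1 hP
    rw [hn]
    refine dvd_pow_self p fun h0 => ?_
    rw [h0, pow_zero] at hn
    exact hP1 (Subgroup.card_eq_one.1 hn))
  rw [Subgroup.orderOf_mk] at hzo
  have hz1 : z ≠ 1 := fun e => hp.ne_one (by rw [← hzo, e, orderOf_one])
  set Q := Subgroup.zpowers z with hQ
  have hQcard : Nat.card Q = p := by rw [Nat.card_zpowers, hzo]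
  have hQP : Q ≤ P := Subgroup.zpowers_le.2 hz
  -- `T` normalises `Q`
  have hord : ∀ u ∈ P, u ^ p = 1 → u ∈ Q := by
    intro u hu hup
    have := Fintype.ofFinite P
    set S := Finset.univ.filter (fun w : P => w ^ p = 1) with hS
    set S₀ := Finset.univ.filter (fun w : P => (w : G) ∈ Q) with hS₀
    have hsub : S₀ ⊆ S := fun w hw => by
      refine Finset.mem_filter.2 ⟨Finset.mem_univ _, Subtype.ext ?_⟩
      obtain ⟨n, hn⟩ := Subgroup.mem_zpowers_iff.1 (Finset.mem_filter.1 hw).2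
      rw [SubmonoidClass.coe_pow, ← hn, ← zpow_natCast, ← zpow_mul, mul_comm, zpow_mul,
        zpow_natCast, ← hzo, pow_orderOf_eq_one, one_zpow, Subgroup.coe_one]
    have hS₀card : S₀.card = p := by
      rw [hS₀, ← Fintype.card_subtype, ← Nat.card_eq_fintype_card, ← hQcard]
      exact Nat.card_congr (Subgroup.subgroupOfEquivOfLe hQP).toEquiv
    have heq : S₀ = S := Finset.eq_of_subset_of_card_le hsub (by
      rw [hS₀card]; exact IsCyclic.card_pow_eq_one_le hp.pos)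
    have h : (⟨u, hu⟩ : P) ∈ S :=
      Finset.mem_filter.2 ⟨Finset.mem_univ _, Subtype.ext (by simpa using hup)⟩
    rw [← heq] at h
    exact (Finset.mem_filter.1 h).2
  have hconjQ : ∀ g ∈ T, ∀ q ∈ Q, g * q * g⁻¹ ∈ Q := fun g hg q hq => by
    refine hord _ ((Subgroup.mem_normalizer_iff.1 (hTN hg) q).1 (hQP hq)) ?_
    obtain ⟨n, rfl⟩ := Subgroup.mem_zpowers_iff.1 hq
    rw [conj_pow, ← zpow_natCast, ← zpow_mul, mul_comm, zpow_mul, zpow_natCast, ← hzo,
      pow_orderOf_eq_one, one_zpow, mul_one, mul_inv_cancel]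
  have hTQ : T ≤ Subgroup.normalizer (Q : Set G) := fun g hg => by
    rw [Subgroup.mem_normalizer_iff]
    refine fun q => ⟨hconjQ g hg q, fun h => ?_⟩
    have h' := hconjQ _ (inv_mem hg) _ h
    rwa [show g⁻¹ * (g * q * g⁻¹) * g⁻¹⁻¹ = q by group] at h'
  let φ : T →* MulAut Q := Q.normalizerMonoidHom.comp (Subgroup.inclusion hTQ)
  have hker : φ.ker = (CG[P]).subgroupOf T := by
    ext g
    rw [MonoidHom.mem_ker, Subgroup.mem_subgroupOf]
    constructor
    · intro h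
      refine hfree g g.2 z hz hz1 ?_
      exact congrArg (fun e : MulAut Q => (e ⟨z, Subgroup.mem_zpowers z⟩ : G)) h
    · intro h
      refine MulEquiv.ext fun q => Subtype.ext ?_
      show (g : G) * q * (g : G)⁻¹ = q
      rw [← Subgroup.mem_centralizer_iff.1 h q (hQP q.2), mul_inv_cancel_right]
  have : IsCyclic Q := isCyclic_of_prime_card hQcard
  let ψ : T →* (ZMod p)ˣ :=
    ((Units.mapEquiv (ZMod.ringEquivCongr hQcard).toMulEquiv).toMonoidHom.comp
      (IsCyclic.mulAutMulEquiv Q).toMonoidHom).comp φ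
  have hψ : ψ.ker = (CG[P]).subgroupOf T := by
    rw [← hker, MonoidHom.ker_comp_of_injective]
    exact (Units.mapEquiv _).injective.comp (IsCyclic.mulAutMulEquiv Q).injective
  let e : T ⧸ (CG[P]).subgroupOf T ≃* ψ.range :=
    (QuotientGroup.quotientMulEquivOfEq hψ.symm).trans (QuotientGroup.quotientKerEquivRange ψ)
  refine ⟨e.isCyclic.2 inferInstance, ?_⟩
  rw [Subgroup.relIndex, Subgroup.index_eq_card, Nat.card_congr e.toEquiv, ← ZMod.card_units p,
    ← Nat.card_eq_fintype_card]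
  exact Subgroup.card_subgroup_dvd_card _

end Cfsg.Agent.BlockChar.Cyclic
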