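import Cfsg.Agent.BlockChar.Cyclic.Tee
import Cfsg.Agent.BlockChar.Cyclic.Inertial
import Cfsg.Agent.BrauerPairs.Fusion

/-!
# Stabilizers of pairs, the subgroup of order `p`, and defect zero
-/

set_option autoImplicit false

namespace Cfsg.Agent.BlockChar.Cyclic

open Cfsg.Agent Cfsg.Agent.Blocks Cfsg.Agent.BrauerPairs Cfsg.Agent.BlockChar
open Cfsg.Agent.BlockChar.ResidueBlock

universe u

variable {G : Type u} [Group G] [Finite G] {p : ℕ} {M : Ideal Cfsg.AlgInt}

/-- The stabilizer of a pair. -/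
def pairStab (a : Cfsg.BrauerPairIdx G) : Subgroup G where
  carrier := {g | conjPair g a = a}
  mul_mem' := fun {x y} (hx : conjPair x a = a) (hy : conjPair y a = a) => by
    show conjPair (x * y) a = a
    rw [← conjPair_conjPair, hy, hx]
  one_mem' := conjPair_one a
  inv_mem' := fun {x} (hx : conjPair x a = a) => by
    show conjPair x⁻¹ a = a
    conv_lhs => rw [← hx]
    rw [conjPair_conjPair, inv_mul_cancel, conjPair_one]

theorem mem_pairStab (hM : Cfsg.IsPModular p M) {Q : Subgroup G}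
    {f : Set (Cfsg.IrrCharacter (Subgroup.centralizer (Q : Set G)))} (hf : Cfsg.IsPBlock M f)
    (g : G) : g ∈ pairStab (⟨Q, f⟩ : Cfsg.BrauerPairIdx G) ↔
      g ∈ Subgroup.normalizer (Q : Set G) ∧
        Cfsg.StabilizesBlock (Subgroup.centralizer (Q : Set G)) f g :=
  conjPair_eq_iff hM hf g

/-- A centralizing subgroup is normal in a normalizing one. -/
theorem normal_centralizer_subgroupOf {D T : Subgroup G}
    (hT : T ≤ Subgroup.normalizer (D : Set G)) :
    ((Subgroup.centralizer (D : Set G)).subgroupOf T).Normal :=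
  ⟨fun a ha t => Subgroup.mem_subgroupOf.2
    ((mem_centralizer_iff_of_mem_normalizer (hT t.2) (a : G)).1 (Subgroup.mem_subgroupOf.1 ha))⟩

omit [Finite G] in
/-- The subgroup of order `p` of a non-trivial cyclic `p`-group. -/
theorem exists_omega [Fact p.Prime] {D : Subgroup G} [Finite D] (hD : IsPGroup p D)
    (hcyc : IsCyclic D) (hD1 : D ≠ ⊥) :
    ∃ Q : Subgroup G, Q ≤ D ∧ Nat.card Q = p ∧ (∀ u ∈ D, u ^ p = 1 → u ∈ Q) ∧
      ∃ x ∈ Q, x ≠ 1 ∧ ∀ u ∈ Q, ∃ n : ℕ, x ^ n = u := by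
  classical
  have hp := (Fact.out : p.Prime)
  have : Nontrivial D := D.nontrivial_iff_ne_bot.2 hD1
  obtain ⟨⟨z, hz⟩, hzo⟩ := exists_prime_orderOf_dvd_card' (G := D) p (by
    obtain ⟨n, hn⟩ := IsPGroup.iff_card.1 hD
    rw [hn]
    refine dvd_pow_self p fun h0 => ?_
    rw [h0, pow_zero] at hn
    exact hD1 (Subgroup.card_eq_one.1 hn))
  rw [Subgroup.orderOf_mk] at hzo
  have hz1 : z ≠ 1 := fun e => hp.ne_one (by rw [← hzo, e, orderOf_one])
  have hzp : z ^ p = 1 := by rw [← hzo]; exact pow_orderOf_eq_one z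
  refine ⟨Subgroup.zpowers z, Subgroup.zpowers_le.2 hz, by rw [Nat.card_zpowers, hzo], ?_,
    z, Subgroup.mem_zpowers z, hz1, fun u hu => ?_⟩
  · intro u hu hup
    have := Fintype.ofFinite D
    set S := Finset.univ.filter (fun w : D => w ^ p = 1) with hS
    set S₀ := (Finset.range p).image (fun n : ℕ => (⟨z, hz⟩ : D) ^ n) with hS₀
    have hsub : S₀ ⊆ S := fun w hw => by
      obtain ⟨n, -, rfl⟩ := Finset.mem_image.1 hw
      refine Finset.mem_filter.2 ⟨Finset.mem_univ _, ?_⟩
      rw [← pow_mul, mul_comm, pow_mul]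
      have : (⟨z, hz⟩ : D) ^ p = 1 := Subtype.ext (by simpa using hzp)
      rw [this, one_pow]
    have hS₀card : S₀.card = p := by
      rw [hS₀, Finset.card_image_of_injOn, Finset.card_range]
      intro a ha b hb hab
      have ho : orderOf (⟨z, hz⟩ : D) = p := by rw [Subgroup.orderOf_mk, hzo]
      exact pow_injOn_Iio_orderOf (by simpa [ho] using ha) (by simpa [ho] using hb) hab
    have heq : S₀ = S := Finset.eq_of_subset_of_card_le hsub (by
      rw [hS₀card]; exact IsCyclic.card_pow_eq_one_le hp.pos)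
    have h : (⟨u, hu⟩ : D) ∈ S :=
      Finset.mem_filter.2 ⟨Finset.mem_univ _, Subtype.ext (by simpa using hup)⟩
    rw [← heq] at h
    obtain ⟨n, -, hn⟩ := Finset.mem_image.1 h
    have : z ^ n = u := by simpa using congrArg Subtype.val hn
    exact this ▸ pow_mem (Subgroup.mem_zpowers z) n
  · obtain ⟨i, rfl⟩ := Subgroup.mem_zpowers_iff.1 hu
    refine ⟨(i % (p : ℤ)).toNat, ?_⟩
    rw [← zpow_natCast, Int.toNat_of_nonneg (Int.emod_nonneg _ (by exact_mod_cast hp.ne_zero))]
    conv_rhs => rw [← zpow_mod_orderOf, hzo]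

section Residue

attribute [local instance] Ideal.Quotient.field

set_option synthInstance.maxHeartbeats 400000

/-- A frame for a block of rank one with a small commutative or semisimple corner. -/
theorem frame_of_corner [Fintype G] [M.IsMaximal] [Fact p.Prime] (hM : Cfsg.IsPModular p M)
    {B : Set (Cfsg.IrrCharacter G)} {D : Subgroup G}
    {c : Set (Cfsg.IrrCharacter (Subgroup.centralizer (D : Set G)))}
    (hmax : Cfsg.IsMaximalBrauerPair p M B D c) (hcyc : IsCyclic D)
    (hfix : ∀ g ∈ Subgroup.normalizer (D : Set G),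
      Cfsg.StabilizesBlock (Subgroup.centralizer (D : Set G)) c g →
        g ∈ Subgroup.centralizer (D : Set G))
    {i : MonoidAlgebra (Cfsg.AlgInt ⧸ M) G} (hi : i * i = i) (hεi : bElt hM B * i = i)
    (hgen : ∃ (n : ℕ) (u v : Fin n → MonoidAlgebra (Cfsg.AlgInt ⧸ M) G),
      bElt hM B = ∑ q, u q * i * v q)
    (hdim : Module.finrank (Cfsg.AlgInt ⧸ M) (cornerSpace (Cfsg.AlgInt ⧸ M) i) ≤ Nat.card D) :
    ∃ t, Frame (⊤ : Subalgebra (Cfsg.AlgInt ⧸ M) (MonoidAlgebra (Cfsg.AlgInt ⧸ M) G))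
      (bElt hM B) t i (Nat.card D) := by
  obtain ⟨d, hd⟩ := IsPGroup.iff_card.1 hmax.1.1.1
  have : FiniteDimensional (Cfsg.AlgInt ⧸ M) (MonoidAlgebra (Cfsg.AlgInt ⧸ M) G) :=
    Module.Finite.of_basis (MonoidAlgebra.basis G (Cfsg.AlgInt ⧸ M))
  obtain ⟨t, htc, hεt, hnil, htop⟩ := exists_tee hM hmax hcyc hd hfix
  rw [hd] at hdim ⊢
  exact ⟨t, frame_of_finrank (pow_pos hM.1.pos d) (bElt_central hM) hi hεi hgen htc hεt hnil htop
    hdim⟩

/-- A block with trivial defect group. -/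
theorem exists_frame_of_defect_zero [Fintype G] [M.IsMaximal] [Fact p.Prime]
    (hM : Cfsg.IsPModular p M) {B : Set (Cfsg.IrrCharacter G)} {D : Subgroup G}
    {c : Set (Cfsg.IrrCharacter (Subgroup.centralizer (D : Set G)))}
    (hmax : Cfsg.IsMaximalBrauerPair p M B D c) (hD : D = ⊥) :
    Cfsg.blockRank p B = 1 ∧
      ∃ t i, Frame (⊤ : Subalgebra (Cfsg.AlgInt ⧸ M) (MonoidAlgebra (Cfsg.AlgInt ⧸ M) G))
        (bElt hM B) t i (Nat.card D) := by
  classical
  have hB := hmax.1.2.1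
  have hDD := isDefectGroup_of_maximal hM hmax
  have hl : Cfsg.blockRank p B = 1 :=
    blockRank_eq_one_of_central hM hB hDD (by rw [hD]; exact bot_le)
  refine ⟨hl, ?_⟩
  obtain ⟨S, i₀, v₀, hP⟩ := exists_point hM hB hl
  obtain ⟨b, -, hb⟩ := exists_trace_root hM hB hDD
  have hb' : groupSum (conjRep (Cfsg.AlgInt ⧸ M)) ⊤ b = bElt hM B := by
    have := Fintype.ofFinite (⊥ : Subgroup G)
    rw [groupSum_eq _ (bot_le : (⊥ : Subgroup G) ≤ ⊤), groupSum_apply, Fintype.sum_unique]
    rw [Subgroup.mem_bot.1 (default : (⊥ : Subgroup G)).2, map_one, Module.End.one_apply]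
    simpa [hD] using hb
  have hcyc : IsCyclic D := by
    have : Subsingleton D := by rw [hD]; infer_instance
    exact isCyclic_of_subsingleton
  obtain ⟨t, ht⟩ := frame_of_corner hM hmax hcyc (fun g _ _ => by
      rw [Subgroup.mem_centralizer_iff]
      intro u hu
      have : u = 1 := by simpa [hD] using hu
      rw [this, one_mul, mul_one]) hP.idem hP.eps_i hP.gen (by
      obtain ⟨κ, hκ, -⟩ := hP.exists_coord
      have hsub : cornerSpace (Cfsg.AlgInt ⧸ M) i₀ ≤
          Submodule.span (Cfsg.AlgInt ⧸ M) {i₀} := fun a ha => by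
        have hn := hP.corner_mem hκ a
        have h0 := rad_eq_zero hP.eps_central hb' (hP.rad _ (hP.eps_nil hn) hn.2) (hP.eps_nil hn)
        rw [mem_cornerSpace.1 ha, sub_eq_zero] at h0
        rw [h0]
        exact Submodule.smul_mem _ _ (Submodule.mem_span_singleton_self i₀)
      refine ((Submodule.finrank_mono hsub).trans (finrank_span_le_card _)).trans ?_
      rw [hD, Subgroup.card_bot]
      simp)
  exact ⟨t, i₀, ht⟩

end Residue

end Cfsg.Agent.BlockChar.Cyclic
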