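import Mathlib

/-!
# Relative traces and truncation in a group algebra in characteristic `p`
-/

set_option autoImplicit false

namespace Cfsg.Agent.BlockChar.Cyclic

universe u v w

section Orbits

/-- A sum constant on the orbits of a `p`-group reduces modulo `p` to the fixed points. -/
theorem sum_fixed_of_invariant {Q α A : Type*} [Group Q] [Finite Q] [MulAction Q α] [Fintype α]
    [AddCommGroup A] {p : ℕ} [Fact p.Prime] (hQ : IsPGroup p Q) (hpA : ∀ a : A, p • a = 0)
    (φ : α → A) (hφ : ∀ (u : Q) (a : α), φ (u • a) = φ a)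
    [DecidablePred (· ∈ MulAction.fixedPoints Q α)] :
    ∑ a, φ a = ∑ a ∈ Finset.univ.filter (· ∈ MulAction.fixedPoints Q α), φ a := by
  classical
  rw [← Finset.sum_filter_add_sum_filter_not Finset.univ (· ∈ MulAction.fixedPoints Q α) φ,
    add_eq_left, ← Finset.sum_fiberwise _ (Quotient.mk (MulAction.orbitRel Q α))]
  refine Finset.sum_eq_zero fun ω _ => ?_
  rcases (((Finset.univ.filter fun a => a ∉ MulAction.fixedPoints Q α).filter
      fun a => Quotient.mk _ a = ω)).eq_empty_or_nonempty with h | ⟨b, hb⟩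
  · rw [h, Finset.sum_empty]
  obtain ⟨hbf, hbω⟩ := Finset.mem_filter.1 hb
  have hbf' := (Finset.mem_filter.1 hbf).2
  have hset : ((Finset.univ.filter fun a => a ∉ MulAction.fixedPoints Q α).filter
      fun a => Quotient.mk _ a = ω) = Finset.univ.filter (· ∈ MulAction.orbit Q b) := by
    ext a
    rw [Finset.mem_filter, Finset.mem_filter, Finset.mem_filter, ← hbω]
    constructor
    · rintro ⟨-, h⟩
      exact ⟨Finset.mem_univ _, MulAction.orbitRel_apply.1 (Quotient.exact h)⟩
    · rintro ⟨-, h⟩
      refine ⟨⟨Finset.mem_univ _, fun ha => hbf' ?_⟩, Quotient.sound (MulAction.orbitRel_apply.2 h)⟩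
      obtain ⟨u, rfl⟩ := MulAction.mem_orbit_symm.1 h
      intro v
      change v • u • a = u • a
      rw [ha u, ha v]
  rw [hset, Finset.sum_congr rfl (g := fun _ => φ b) fun a ha => ?_, Finset.sum_const]
  · obtain ⟨n, hn⟩ := hQ.card_orbit b
    have hc : (Finset.univ.filter (· ∈ MulAction.orbit Q b)).card = p ^ n := by
      rw [← hn, ← Fintype.card_subtype, ← Nat.card_eq_fintype_card]
    rw [hc]
    rcases n with - | n
    · exfalso
      refine hbf' fun v => ?_
      obtain ⟨c, hcs⟩ := Finset.card_eq_one.1 (hc.trans (pow_zero p))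
      have h1 : b ∈ Finset.univ.filter (· ∈ MulAction.orbit Q b) :=
        Finset.mem_filter.2 ⟨Finset.mem_univ _, MulAction.mem_orbit_self b⟩
      have h2 : v • b ∈ Finset.univ.filter (· ∈ MulAction.orbit Q b) :=
        Finset.mem_filter.2 ⟨Finset.mem_univ _, ⟨v, rfl⟩⟩
      rw [hcs, Finset.mem_singleton] at h1 h2
      rw [h2, h1]
    · rw [pow_succ, mul_comm, mul_smul]
      exact hpA _
  · obtain ⟨u, rfl⟩ := (Finset.mem_filter.1 ha).2
    exact hφ u b

/-- A sum over orbits, where only the free orbits count, is a full trace. -/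
theorem exists_sum_eq_trace {P α A : Type*} [Group P] [Fintype P] [MulAction P α] [Fintype α]
    [AddCommGroup A] (L : P → A →+ A) (F : α → A) (hF : ∀ (u : P) (a : α), F (u • a) = L u (F a))
    (h0 : ∀ (u : P) (a : α), u ≠ 1 → u • a = a → F a = 0) :
    ∃ Y : A, ∑ a, F a = ∑ u : P, L u Y := by
  classical
  refine ⟨∑ ω : Quotient (MulAction.orbitRel P α), F ω.out, ?_⟩
  simp only [map_sum]
  rw [Finset.sum_comm, ← Finset.sum_fiberwise Finset.univ (Quotient.mk (MulAction.orbitRel P α)) F]
  refine Finset.sum_congr rfl fun ω _ => ?_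
  simp only [← hF]
  set b := ω.out
  have hmk : ∀ a, Quotient.mk (MulAction.orbitRel P α) a = ω ↔ ∃ u : P, u • b = a := by
    intro a
    conv_lhs => rw [← Quotient.out_eq ω]
    rw [Quotient.eq, MulAction.orbitRel_apply]
    exact Iff.rfl
  by_cases hst : ∃ u : P, u ≠ 1 ∧ u • b = b
  · obtain ⟨u, hu1, hu⟩ := hst
    have hz : ∀ v : P, F (v • b) = 0 := fun v => by rw [hF, h0 u b hu1 hu, map_zero]
    rw [Finset.sum_eq_zero fun a ha => ?_, Finset.sum_eq_zero fun v _ => hz v]
    obtain ⟨v, rfl⟩ := (hmk a).1 (Finset.mem_filter.1 ha).2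
    exact hz v
  · push Not at hst
    refine (Finset.sum_bij (fun u _ => u • b) (fun u _ => ?_) (fun u _ v _ h => ?_) (fun a ha => ?_)
      fun _ _ => rfl).symm
    · exact Finset.mem_filter.2 ⟨Finset.mem_univ _, (hmk _).2 ⟨u, rfl⟩⟩
    · by_contra hne
      refine hst (v⁻¹ * u) (fun h' => hne (inv_mul_eq_one.1 h').symm) ?_
      rw [mul_smul, h, inv_smul_smul]
    · obtain ⟨u, hu⟩ := (hmk a).1 (Finset.mem_filter.1 ha).2
      exact ⟨u, Finset.mem_univ _, hu⟩

end Orbits

section Traces

variable {k : Type w} [Field k] {G : Type u} [Group G] [Finite G] {E : Type v} [AddCommGroup E]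
  [Module k E]

/-- The relative trace from `P` to `H`. -/
noncomputable def relTr (σ : Representation k G E) (P H : Subgroup G) : E →ₗ[k] E :=
  letI := Fintype.ofFinite (H ⧸ P.subgroupOf H)
  ∑ c : H ⧸ P.subgroupOf H, σ ((c.out : H) : G)

/-- `x` is fixed by `P`. -/
def Fixed (σ : Representation k G E) (P : Subgroup G) (x : E) : Prop := ∀ u ∈ P, σ u x = x

theorem relTr_apply (σ : Representation k G E) (P H : Subgroup G)
    [Fintype (H ⧸ P.subgroupOf H)] (x : E) :
    relTr σ P H x = ∑ c : H ⧸ P.subgroupOf H, σ ((c.out : H) : G) x := by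
  rw [relTr, LinearMap.sum_apply]
  congr!

omit [Finite G] in
theorem apply_out {σ : Representation k G E} {P H : Subgroup G} {x : E} (hx : Fixed σ P x)
    (h : H) : σ (((h : H ⧸ P.subgroupOf H).out : H) : G) x = σ (h : G) x := by
  obtain ⟨n, hn⟩ := QuotientGroup.mk_out_eq_mul (P.subgroupOf H) h
  rw [hn, Subgroup.coe_mul, map_mul, Module.End.mul_apply, hx _ (Subgroup.mem_subgroupOf.1 n.2)]

omit [Finite G] in
theorem apply_mul_out {σ : Representation k G E} {P H : Subgroup G} {x : E} (hx : Fixed σ P x)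
    (h : H) (c : H ⧸ P.subgroupOf H) :
    σ (((h • c).out : H) : G) x = σ (h : G) (σ ((c.out : H) : G) x) := by
  induction c using QuotientGroup.induction_on with
  | H g =>
    rw [MulAction.Quotient.smul_coe, smul_eq_mul, apply_out hx, apply_out hx, Subgroup.coe_mul,
      map_mul, Module.End.mul_apply]

/-- A relative trace is fixed by the larger group. -/
theorem relTr_fixed {σ : Representation k G E} {P H : Subgroup G} {x : E} (hx : Fixed σ P x) :
    Fixed σ H (relTr σ P H x) := by
  intro g hg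
  have := Fintype.ofFinite (H ⧸ P.subgroupOf H)
  rw [relTr_apply, map_sum]
  exact Fintype.sum_equiv (MulAction.toPerm (⟨g, hg⟩ : H)) _ _
    fun c => (apply_mul_out hx ⟨g, hg⟩ c).symm

/-- The sum over a group of translates. -/
noncomputable def groupSum (σ : Representation k G E) (H : Subgroup G) : E →ₗ[k] E :=
  letI := Fintype.ofFinite H
  ∑ h : H, σ (h : G)

theorem groupSum_apply (σ : Representation k G E) (H : Subgroup G) [Fintype H] (x : E) :
    groupSum σ H x = ∑ h : H, σ (h : G) x := by
  rw [groupSum, LinearMap.sum_apply]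
  congr!

theorem groupSum_fixed (σ : Representation k G E) (H : Subgroup G) (x : E) :
    Fixed σ H (groupSum σ H x) := by
  intro g hg
  have := Fintype.ofFinite H
  rw [groupSum_apply, map_sum]
  exact Fintype.sum_equiv (Equiv.mulLeft (⟨g, hg⟩ : H)) _ _ fun h => by
    simp [map_mul]

/-- A full trace is a relative trace of a trace. -/
theorem groupSum_eq (σ : Representation k G E) {P H : Subgroup G} (hPH : P ≤ H) (x : E) :
    groupSum σ H x = relTr σ P H (groupSum σ P x) := by
  classical
  have := Fintype.ofFinite H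
  have := Fintype.ofFinite P
  have := Fintype.ofFinite (H ⧸ P.subgroupOf H)
  have := Fintype.ofFinite (P.subgroupOf H)
  rw [groupSum_apply, relTr_apply]
  simp only [groupSum_apply, map_sum]
  rw [← Fintype.sum_prod_type' (fun (c : H ⧸ P.subgroupOf H) (n : P) =>
    σ ((c.out : H) : G) (σ (n : G) x))]
  refine (Fintype.sum_bijective
    (fun cn : (H ⧸ P.subgroupOf H) × P => (cn.1.out * ⟨(cn.2 : G), hPH cn.2.2⟩ : H)) ?_ _ _
    fun cn => ?_).symm
  · constructor
    · rintro ⟨c, n⟩ ⟨c', n'⟩ h
      have h1 : ((c.out : H) : G) * n = ((c'.out : H) : G) * n' := congrArg Subtype.val h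
      have hc : c = c' := by
        rw [← QuotientGroup.out_eq' c, ← QuotientGroup.out_eq' c', QuotientGroup.eq,
          Subgroup.mem_subgroupOf, Subgroup.coe_mul, Subgroup.coe_inv]
        rw [show ((c'.out : H) : G) = ((c.out : H) : G) * n * (n' : G)⁻¹ by
          rw [h1, mul_inv_cancel_right]]
        simpa [mul_assoc] using mul_mem n.2 (inv_mem n'.2)
      subst hc
      exact Prod.ext rfl (Subtype.ext (mul_left_cancel h1))
    · intro h
      refine ⟨((h : H ⧸ P.subgroupOf H), ⟨_, Subgroup.mem_subgroupOf.1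
        (QuotientGroup.eq.1 (QuotientGroup.out_eq' (h : H ⧸ P.subgroupOf H)))⟩), Subtype.ext ?_⟩
      simp
  · rw [Subgroup.coe_mul, map_mul]
    rfl

/-- Relative traces compose. -/
theorem relTr_trans {σ : Representation k G E} {P K H : Subgroup G} (hPK : P ≤ K) (hKH : K ≤ H)
    {x : E} (hx : Fixed σ P x) : relTr σ K H (relTr σ P K x) = relTr σ P H x := by
  classical
  have := Fintype.ofFinite (H ⧸ P.subgroupOf H)
  have := Fintype.ofFinite (H ⧸ K.subgroupOf H)
  have := Fintype.ofFinite (K ⧸ P.subgroupOf K)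
  rw [relTr_apply, relTr_apply, relTr_apply]
  simp only [map_sum]
  rw [← Fintype.sum_prod_type' (fun (a : H ⧸ K.subgroupOf H) (b : K ⧸ P.subgroupOf K) =>
    σ ((a.out : H) : G) (σ ((b.out : K) : G) x))]
  refine Fintype.sum_bijective
    (fun ab : (H ⧸ K.subgroupOf H) × (K ⧸ P.subgroupOf K) =>
      ((ab.1.out * ⟨(ab.2.out : G), hKH ab.2.out.2⟩ : H) : H ⧸ P.subgroupOf H)) ?_ _ _
    fun ab => ?_
  · constructor
    · rintro ⟨a, b⟩ ⟨a', b'⟩ h
      have h1 := QuotientGroup.eq.1 h
      have ha : a = a' := by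
        rw [← QuotientGroup.out_eq' a, ← QuotientGroup.out_eq' a', QuotientGroup.eq,
          Subgroup.mem_subgroupOf]
        have h2 := hPK (Subgroup.mem_subgroupOf.1 h1)
        simp only [Subgroup.coe_mul, Subgroup.coe_inv, mul_inv_rev] at h2 ⊢
        have h3 := mul_mem (mul_mem b.out.2 h2) (inv_mem b'.out.2)
        simpa [mul_assoc] using h3
      subst ha
      refine Prod.ext rfl ?_
      rw [← QuotientGroup.out_eq' b, ← QuotientGroup.out_eq' b', QuotientGroup.eq,
        Subgroup.mem_subgroupOf]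
      have h2 := Subgroup.mem_subgroupOf.1 h1
      simp only [Subgroup.coe_mul, Subgroup.coe_inv, mul_inv_rev, mul_assoc,
        inv_mul_cancel_left] at h2 ⊢
      exact h2
    · intro c
      induction c using QuotientGroup.induction_on with
      | H h =>
        set a : H ⧸ K.subgroupOf H := (h : H ⧸ K.subgroupOf H) with ha
        have hk : ((a.out⁻¹ * h : H) : G) ∈ K := Subgroup.mem_subgroupOf.1
          (QuotientGroup.eq.1 (QuotientGroup.out_eq' a))
        set κ : K := ⟨_, hk⟩ with hκ
        refine ⟨(a, (κ : K ⧸ P.subgroupOf K)), ?_⟩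
        obtain ⟨n, hn⟩ := QuotientGroup.mk_out_eq_mul (P.subgroupOf K) κ
        refine QuotientGroup.eq.2 (Subgroup.mem_subgroupOf.2 ?_)
        have hn2 := inv_mem (Subgroup.mem_subgroupOf.1 n.2)
        have e : (((κ : K ⧸ P.subgroupOf K).out : K) : G) =
            ((a.out : H) : G)⁻¹ * (h : G) * ((n : K) : G) := by rw [hn]; rfl
        simp only [Subgroup.coe_mul, Subgroup.coe_inv, e, mul_inv_rev] at hn2 ⊢
        simpa [mul_assoc] using hn2
  · rw [apply_out hx, Subgroup.coe_mul, map_mul]
    rfl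

/-- The cosets inside an intermediate group give the smaller relative trace. -/
theorem sum_filter_coset {σ : Representation k G E} {P T : Subgroup G} (hPT : P ≤ T) {x : E}
    (hx : Fixed σ P x) [Fintype ((⊤ : Subgroup G) ⧸ P.subgroupOf ⊤)]
    [DecidablePred fun q : (⊤ : Subgroup G) ⧸ P.subgroupOf ⊤ =>
      ((q.out : (⊤ : Subgroup G)) : G) ∈ T] :
    ∑ q ∈ Finset.univ.filter (fun q : (⊤ : Subgroup G) ⧸ P.subgroupOf ⊤ =>
        ((q.out : (⊤ : Subgroup G)) : G) ∈ T), σ ((q.out : (⊤ : Subgroup G)) : G) x =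
      relTr σ P T x := by
  classical
  have := Fintype.ofFinite (T ⧸ P.subgroupOf T)
  rw [relTr_apply]
  refine (Finset.sum_bij
    (fun q _ => ((⟨((q.out : T) : G), Subgroup.mem_top _⟩ : (⊤ : Subgroup G)) :
      (⊤ : Subgroup G) ⧸ P.subgroupOf ⊤)) ?_ ?_ ?_ ?_).symm
  · intro q _
    refine Finset.mem_filter.2 ⟨Finset.mem_univ _, ?_⟩
    obtain ⟨u, hu⟩ := QuotientGroup.mk_out_eq_mul (P.subgroupOf ⊤)
      (⟨((q.out : T) : G), Subgroup.mem_top _⟩ : (⊤ : Subgroup G))
    rw [hu, Subgroup.coe_mul]
    exact mul_mem q.out.2 (hPT (Subgroup.mem_subgroupOf.1 u.2))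
  · intro q _ q' _ h
    rw [← QuotientGroup.out_eq' q, ← QuotientGroup.out_eq' q', QuotientGroup.eq,
      Subgroup.mem_subgroupOf]
    exact Subgroup.mem_subgroupOf.1 ((QuotientGroup.eq (s := P.subgroupOf (⊤ : Subgroup G))).1 h)
  · intro q hq
    have hq' : ((q.out : (⊤ : Subgroup G)) : G) ∈ T := (Finset.mem_filter.1 hq).2
    refine ⟨((⟨_, hq'⟩ : T) : T ⧸ P.subgroupOf T), Finset.mem_univ _, ?_⟩
    obtain ⟨u, hu⟩ := QuotientGroup.mk_out_eq_mul (P.subgroupOf T) (⟨_, hq'⟩ : T)
    conv_rhs => rw [← QuotientGroup.out_eq' q]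
    rw [QuotientGroup.eq, Subgroup.mem_subgroupOf]
    simp only [Subgroup.coe_mul, Subgroup.coe_inv, hu, mul_inv_rev, mul_assoc,
      inv_mul_cancel, mul_one]
    exact inv_mem (Subgroup.mem_subgroupOf.1 u.2)
  · intro q _
    exact (apply_out hx (⟨((q.out : T) : G), Subgroup.mem_top _⟩ : (⊤ : Subgroup G))).symm

/-- An equivariant map commutes with traces. -/
theorem map_relTr {E' : Type*} [AddCommGroup E'] [Module k E'] (σ : Representation k G E)
    (τ : Representation k G E') (f : E →ₗ[k] E') {P H : Subgroup G}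
    (hf : ∀ g ∈ H, ∀ x, f (σ g x) = τ g (f x)) (x : E) :
    f (relTr σ P H x) = relTr τ P H (f x) := by
  have := Fintype.ofFinite (H ⧸ P.subgroupOf H)
  rw [relTr_apply, relTr_apply, map_sum]
  exact Finset.sum_congr rfl fun c _ => hf _ c.out.2 x

theorem map_groupSum {E' : Type*} [AddCommGroup E'] [Module k E'] (σ : Representation k G E)
    (τ : Representation k G E') (f : E →ₗ[k] E') {H : Subgroup G}
    (hf : ∀ g ∈ H, ∀ x, f (σ g x) = τ g (f x)) (x : E) :
    f (groupSum σ H x) = groupSum τ H (f x) := by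
  have := Fintype.ofFinite H
  rw [groupSum_apply, groupSum_apply, map_sum]
  exact Finset.sum_congr rfl fun c _ => hf _ c.2 x

end Traces

section Trunc

variable (k : Type w) [Field k] {G : Type u} [Group G]

/-- The subalgebra of elements supported on `H`. -/
noncomputable def kSub (H : Subgroup G) : Subalgebra k (MonoidAlgebra k G) where
  carrier := {x | ∀ g, g ∉ H → x.coeff g = 0}
  add_mem' := fun {x y} hx hy g hg => by simp [hx g hg, hy g hg]
  mul_mem' := fun {x y} hx hy g hg => by
    classical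
    rw [MonoidAlgebra.coeff_mul]
    refine Finset.sum_eq_zero fun a ha => Finset.sum_eq_zero fun b hb => ?_
    show (if a * b = g then _ else 0) = 0
    split_ifs with h
    · exfalso
      refine hg (h ▸ mul_mem ?_ ?_)
      · by_contra h'; exact Finsupp.mem_support_iff.1 ha (hx a h')
      · by_contra h'; exact Finsupp.mem_support_iff.1 hb (hy b h')
    · rfl
  algebraMap_mem' := fun r g hg => by
    classical
    rw [MonoidAlgebra.coe_algebraMap]
    simp [Finsupp.single_apply, show (1 : G) ≠ g from fun h => hg (h ▸ H.one_mem)]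

theorem mem_kSub {H : Subgroup G} {x : MonoidAlgebra k G} :
    x ∈ kSub k H ↔ ∀ g, g ∉ H → x.coeff g = 0 := Iff.rfl

theorem of_mem_kSub {H : Subgroup G} {g : G} (hg : g ∈ H) :
    MonoidAlgebra.of k G g ∈ kSub k H := fun z hz => by
  classical
  simp [Finsupp.single_apply, show g ≠ z from fun h => hz (h ▸ hg)]

open scoped Classical in
/-- Truncation to `H`. -/
noncomputable def trunc (H : Subgroup G) : MonoidAlgebra k G →ₗ[k] MonoidAlgebra k G where
  toFun x := MonoidAlgebra.ofCoeff (x.coeff.filter (· ∈ H))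
  map_add' x y := by simp [Finsupp.filter_add]
  map_smul' r x := by simp [Finsupp.filter_smul]

open scoped Classical in
theorem coeff_trunc (H : Subgroup G) (x : MonoidAlgebra k G) (g : G) :
    (trunc k H x).coeff g = if g ∈ H then x.coeff g else 0 := by
  simp [trunc, Finsupp.filter_apply]

theorem trunc_mem (H : Subgroup G) (x : MonoidAlgebra k G) : trunc k H x ∈ kSub k H :=
  fun g hg => by rw [coeff_trunc, if_neg hg]

theorem trunc_of_mem {H : Subgroup G} {x : MonoidAlgebra k G} (hx : x ∈ kSub k H) :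
    trunc k H x = x := by
  refine MonoidAlgebra.coeff_injective (Finsupp.ext fun g => ?_)
  rw [coeff_trunc]
  split_ifs with h
  · rfl
  · exact (hx g h).symm

theorem trunc_of_single {H : Subgroup G} {g : G} {r : k} (hg : g ∉ H) :
    trunc k H (MonoidAlgebra.single g r) = 0 := by
  classical
  refine MonoidAlgebra.coeff_injective (Finsupp.ext fun z => ?_)
  rw [coeff_trunc]
  split_ifs with h
  · simp [Finsupp.single_apply, show g ≠ z from fun e => hg (e ▸ h)]
  · simp

theorem trunc_mul_left {H : Subgroup G} {a : MonoidAlgebra k G} (ha : a ∈ kSub k H)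
    (x : MonoidAlgebra k G) : trunc k H (a * x) = a * trunc k H x := by
  classical
  induction x using MonoidAlgebra.induction_on with
  | of g =>
    by_cases hg : g ∈ H
    · rw [trunc_of_mem k (of_mem_kSub k hg),
        trunc_of_mem k (Subalgebra.mul_mem _ ha (of_mem_kSub k hg))]
    · rw [MonoidAlgebra.of_apply, trunc_of_single k hg, mul_zero]
      refine MonoidAlgebra.coeff_injective (Finsupp.ext fun z => ?_)
      rw [coeff_trunc]
      split_ifs with hz
      · rw [MonoidAlgebra.coeff_mul_single_apply, ha _ fun h => hg ?_, zero_mul]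
        · simp
        · have := mul_mem (inv_mem h) hz
          simpa [mul_assoc] using this
      · simp
  | add x y hx hy => rw [mul_add, map_add, map_add, hx, hy, mul_add]
  | smul r x hx => rw [mul_smul_comm, map_smul, map_smul, hx, mul_smul_comm]

theorem trunc_mul_right {H : Subgroup G} {a : MonoidAlgebra k G} (ha : a ∈ kSub k H)
    (x : MonoidAlgebra k G) : trunc k H (x * a) = trunc k H x * a := by
  classical
  induction x using MonoidAlgebra.induction_on with
  | of g =>
    by_cases hg : g ∈ H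
    · rw [trunc_of_mem k (of_mem_kSub k hg),
        trunc_of_mem k (Subalgebra.mul_mem _ (of_mem_kSub k hg) ha)]
    · rw [MonoidAlgebra.of_apply, trunc_of_single k hg, zero_mul]
      refine MonoidAlgebra.coeff_injective (Finsupp.ext fun z => ?_)
      rw [coeff_trunc]
      split_ifs with hz
      · rw [MonoidAlgebra.coeff_single_mul_apply, ha _ fun h => hg ?_, mul_zero]
        · simp
        · have := mul_mem hz (inv_mem h)
          simpa [mul_assoc] using this
      · simp
  | add x y hx hy => rw [add_mul, map_add, map_add, hx, hy, add_mul]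
  | smul r x hx => rw [smul_mul_assoc, map_smul, map_smul, hx, smul_mul_assoc]

/-- Conjugation on the group algebra. -/
noncomputable def conjRep : Representation k G (MonoidAlgebra k G) where
  toFun g := LinearMap.mulLeft k (MonoidAlgebra.of k G g) ∘ₗ
    LinearMap.mulRight k (MonoidAlgebra.of k G g⁻¹)
  map_one' := LinearMap.ext fun x => by simp [← MonoidAlgebra.one_def]
  map_mul' g h := LinearMap.ext fun x => by
    simp only [Module.End.mul_apply, LinearMap.comp_apply, LinearMap.mulLeft_apply,
      LinearMap.mulRight_apply, mul_inv_rev, map_mul, mul_assoc]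

theorem conjRep_apply (g : G) (x : MonoidAlgebra k G) :
    conjRep k g x = MonoidAlgebra.of k G g * x * MonoidAlgebra.of k G g⁻¹ := by
  show _ * (x * _) = _
  rw [mul_assoc]

theorem conjRep_mul (g : G) (x y : MonoidAlgebra k G) :
    conjRep k g (x * y) = conjRep k g x * conjRep k g y := by
  simp only [conjRep_apply, mul_assoc]
  rw [← mul_assoc (MonoidAlgebra.of k G g⁻¹) (MonoidAlgebra.of k G g), ← map_mul, inv_mul_cancel,
    map_one, one_mul]

theorem coeff_conjRep (g z : G) (x : MonoidAlgebra k G) :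
    (conjRep k g x).coeff z = x.coeff (g⁻¹ * z * g) := by
  simp [conjRep_apply, MonoidAlgebra.of_apply, MonoidAlgebra.coeff_mul_single_apply,
    MonoidAlgebra.coeff_single_mul_apply, mul_assoc]

theorem conjRep_mem {H : Subgroup G} {g : G} (hg : g ∈ Subgroup.normalizer (H : Set G))
    {x : MonoidAlgebra k G} (hx : x ∈ kSub k H) : conjRep k g x ∈ kSub k H := fun z hz => by
  rw [coeff_conjRep]
  exact hx _ fun h => hz ((Subgroup.mem_normalizer_iff''.1 hg z).2 h)

/-- Truncation to the centralizer kills conjugation by the `p`-group. -/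
theorem trunc_conjRep {Q : Subgroup G} {u : G} (hu : u ∈ Q) (x : MonoidAlgebra k G) :
    trunc k (Subgroup.centralizer (Q : Set G)) (conjRep k u x) =
      trunc k (Subgroup.centralizer (Q : Set G)) x := by
  classical
  refine MonoidAlgebra.coeff_injective (Finsupp.ext fun z => ?_)
  rw [coeff_trunc, coeff_trunc, coeff_conjRep]
  split_ifs with hz
  · congr 1
    rw [mul_assoc, ← Subgroup.mem_centralizer_iff.1 hz u hu, inv_mul_cancel_left]
  · rfl

variable [Fintype G]

omit k in
theorem coeff_mul_sum {k : Type w} [Field k] (x y : MonoidAlgebra k G) (z : G) :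
    (x * y).coeff z = ∑ a, x.coeff a * y.coeff (a⁻¹ * z) := by
  classical
  induction x using MonoidAlgebra.induction_on with
  | of g =>
    rw [Finset.sum_eq_single g]
    · simp [MonoidAlgebra.of_apply, MonoidAlgebra.coeff_single_mul_apply]
    · intro a _ ha
      simp [MonoidAlgebra.of_apply, Finsupp.single_apply, ha.symm]
    · simp
  | add x x' hx hx' =>
    simp only [add_mul, MonoidAlgebra.coeff_add, Finsupp.add_apply, hx, hx',
      ← Finset.sum_add_distrib]
  | smul r x hx =>
    simp only [smul_mul_assoc, MonoidAlgebra.coeff_smul_apply, hx, smul_eq_mul, Finset.mul_sum,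
      mul_assoc]

variable {p : ℕ} [Fact p.Prime] [CharP k p]

/-- The Brauer homomorphism. -/
theorem trunc_mul_of_fixed {Q : Subgroup G} (hQ : IsPGroup p Q) {x y : MonoidAlgebra k G}
    (hx : Fixed (conjRep k) Q x) (hy : Fixed (conjRep k) Q y) :
    trunc k (Subgroup.centralizer (Q : Set G)) (x * y) =
      trunc k (Subgroup.centralizer (Q : Set G)) x *
        trunc k (Subgroup.centralizer (Q : Set G)) y := by
  classical
  refine MonoidAlgebra.coeff_injective (Finsupp.ext fun z => ?_)
  rw [coeff_trunc]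
  split_ifs with hz
  swap
  · exact (Subalgebra.mul_mem _ (trunc_mem k _ x) (trunc_mem k _ y) z hz).symm
  rw [coeff_mul_sum, coeff_mul_sum]
  letI : MulAction Q G := MulAction.compHom G ((MulAut.conj : G →* MulAut G).comp Q.subtype)
  have hs : ∀ (u : Q) (a : G), u • a = (u : G) * a * (u : G)⁻¹ := fun _ _ => rfl
  rw [sum_fixed_of_invariant (A := k) hQ (fun a => by simp [CharP.cast_eq_zero])
    (fun a => x.coeff a * y.coeff (a⁻¹ * z)) fun u a => ?_, Finset.sum_filter]
  · refine Finset.sum_congr rfl fun a _ => ?_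
    have hfix : a ∈ MulAction.fixedPoints Q G ↔ a ∈ Subgroup.centralizer (Q : Set G) := by
      rw [Subgroup.mem_centralizer_iff]
      exact ⟨fun h v hv => mul_inv_eq_iff_eq_mul.1 (h ⟨v, hv⟩),
        fun h v => mul_inv_eq_iff_eq_mul.2 (h v v.2)⟩
    rw [coeff_trunc, coeff_trunc]
    by_cases ha : a ∈ Subgroup.centralizer (Q : Set G)
    · rw [if_pos (hfix.2 ha), if_pos ha, if_pos (mul_mem (inv_mem ha) hz)]
    · rw [if_neg (hfix.not.2 ha), if_neg ha, zero_mul]
  · have h1 := congrArg (fun w => w.coeff ((u : G) * a * (u : G)⁻¹)) (hx u u.2)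
    have h2 := congrArg (fun w => w.coeff ((u : G) * (a⁻¹ * z) * (u : G)⁻¹)) (hy u u.2)
    simp only [coeff_conjRep] at h1 h2
    simp only [hs]
    rw [← h1, show ((u : G) * a * (u : G)⁻¹)⁻¹ * z = (u : G) * (a⁻¹ * z) * (u : G)⁻¹ by
      have hz' := Subgroup.mem_centralizer_iff.1 hz u u.2
      have hz'' : (u : G)⁻¹ * z = z * (u : G)⁻¹ := (Commute.inv_left hz').eq
      simp only [mul_inv_rev, inv_inv, mul_assoc, hz''], ← h2]
    group

/-- Truncation of a relative trace: only the cosets fixed by `Q` count. -/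
theorem trunc_relTr {Q P : Subgroup G} (hQ : IsPGroup p Q) {x : MonoidAlgebra k G}
    (hx : Fixed (conjRep k) P x) [Fintype ((⊤ : Subgroup G) ⧸ P.subgroupOf ⊤)]
    [DecidablePred fun c : (⊤ : Subgroup G) ⧸ P.subgroupOf ⊤ =>
      ∀ u ∈ Q, ((c.out : (⊤ : Subgroup G)) : G)⁻¹ * u * ((c.out : (⊤ : Subgroup G)) : G) ∈ P] :
    trunc k (Subgroup.centralizer (Q : Set G)) (relTr (conjRep k) P ⊤ x) =
      ∑ c ∈ Finset.univ.filter (fun c : (⊤ : Subgroup G) ⧸ P.subgroupOf ⊤ =>
        ∀ u ∈ Q, ((c.out : (⊤ : Subgroup G)) : G)⁻¹ * u * ((c.out : (⊤ : Subgroup G)) : G) ∈ P),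
        trunc k (Subgroup.centralizer (Q : Set G))
          (conjRep k ((c.out : (⊤ : Subgroup G)) : G) x) := by
  classical
  rw [relTr_apply, map_sum]
  let ι : Q →* (⊤ : Subgroup G) := Subgroup.inclusion le_top
  letI : MulAction Q ((⊤ : Subgroup G) ⧸ P.subgroupOf ⊤) := MulAction.compHom _ ι
  have hpA : ∀ a : MonoidAlgebra k G, p • a = 0 := fun a => by
    rw [← Nat.cast_smul_eq_nsmul k, CharP.cast_eq_zero, zero_smul]
  rw [sum_fixed_of_invariant hQ hpA _ fun u c => ?_]
  · refine Finset.sum_congr (Finset.filter_congr fun c _ => ?_) fun _ _ => rfl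
    have hout : ((c.out : (⊤ : Subgroup G)) : (⊤ : Subgroup G) ⧸ P.subgroupOf ⊤) = c :=
      QuotientGroup.out_eq' c
    constructor
    · intro h u hu
      have h1 := h ⟨u⁻¹, inv_mem hu⟩
      change ι ⟨u⁻¹, inv_mem hu⟩ • c = c at h1
      rw [← hout, MulAction.Quotient.smul_coe, QuotientGroup.eq, Subgroup.mem_subgroupOf] at h1
      simpa [ι, mul_assoc] using h1
    · intro h u
      change ι u • c = c
      rw [← hout, MulAction.Quotient.smul_coe, QuotientGroup.eq, Subgroup.mem_subgroupOf]
      simpa [ι, mul_assoc] using h _ (inv_mem u.2)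
  · change trunc k _ (conjRep k (((ι u • c).out : (⊤ : Subgroup G)) : G) x) = _
    rw [apply_mul_out hx]
    exact trunc_conjRep k u.2 _

/-- A full trace is killed by the Brauer homomorphism. -/
theorem trunc_groupSum {Q : Subgroup G} (hQ : IsPGroup p Q) (hQ1 : Q ≠ ⊥)
    (x : MonoidAlgebra k G) :
    trunc k (Subgroup.centralizer (Q : Set G)) (groupSum (conjRep k) ⊤ x) = 0 := by
  classical
  rw [groupSum_apply, map_sum]
  let ι : Q →* (⊤ : Subgroup G) := Subgroup.inclusion le_top
  letI : MulAction Q (⊤ : Subgroup G) := MulAction.compHom _ ι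
  have hpA : ∀ a : MonoidAlgebra k G, p • a = 0 := fun a => by
    rw [← Nat.cast_smul_eq_nsmul k, CharP.cast_eq_zero, zero_smul]
  rw [sum_fixed_of_invariant hQ hpA _ fun u c => ?_]
  · refine Finset.sum_eq_zero fun c hc => absurd (Finset.mem_filter.1 hc).2 fun h => hQ1 ?_
    refine (Subgroup.eq_bot_iff_forall _).2 fun u hu => ?_
    have h1 := congrArg Subtype.val (h ⟨u, hu⟩)
    change u * (c : G) = (c : G) at h1
    exact mul_eq_right.1 h1
  · show trunc k _ (conjRep k ((u : G) * (c : G)) x) = _
    rw [map_mul, Module.End.mul_apply]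
    exact trunc_conjRep k u.2 _

end Trunc

end Cfsg.Agent.BlockChar.Cyclic
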