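import Mathlib.Algebra.Algebra.Subalgebra.Basic
import Mathlib.Algebra.Algebra.Bilinear
import Mathlib.LinearAlgebra.FreeModule.Finite.Basic
import Mathlib.LinearAlgebra.Basis.VectorSpace
import Mathlib.LinearAlgebra.Dual.Lemmas
import Mathlib.Tactic.NoncommRing
import Mathlib.RingTheory.RootsOfUnity.PrimitiveRoots

/-!
# Uniserial frames

A `Frame` on a subalgebra `S` is an idempotent `i` and a central nilpotent `t` such that `i S i` is
spanned by the powers of `t` and `S i S` contains the unit `ε`.  Then `S`-linear maps between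
modules are determined by `t`-linear maps between the corners.
-/

set_option autoImplicit false

namespace Cfsg.Agent.BlockChar.Cyclic

variable {k R : Type*} [Field k] [Ring R] [Algebra k R]

/-- `S ε` is a matrix algebra over `k[t]/(t ^ N)`, seen through the idempotent `i`. -/
structure Frame (S : Subalgebra k R) (ε t i : R) (N : ℕ) : Prop where
  eps_mem : ε ∈ S
  t_mem : t ∈ S
  i_mem : i ∈ S
  idem : i * i = i
  eps_comm : ∀ s ∈ S, ε * s = s * ε
  t_comm : ∀ s ∈ S, t * s = s * t
  eps_i : ε * i = i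
  t_pow : t ^ N = 0
  t_top : t ^ (N - 1) * i ≠ 0
  corner : ∀ a ∈ S, ∃ c : k, ∃ b ∈ S, i * a * i = c • i + t * (i * b * i)
  gen : ∃ (n : ℕ) (u v : Fin n → R),
    (∀ a, u a ∈ S) ∧ (∀ a, v a ∈ S) ∧ ε = ∑ a, u a * i * v a

/-- `y` is a `p'`-element normalizing the frame. -/
structure Twist (S : Subalgebra k R) (i y : R) (m : ℕ) : Prop where
  pow : y ^ m = 1
  ne_zero : (m : k) ≠ 0
  comm_i : y * i = i * y
  conj : ∀ s ∈ S, ∃ s' ∈ S, y * s = s' * y

variable {S : Subalgebra k R} {ε t i y : R} {N m : ℕ}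
variable {M M' : Type*} [AddCommGroup M] [Module k M] [Module R M] [IsScalarTower k R M]
  [AddCommGroup M'] [Module k M'] [Module R M'] [IsScalarTower k R M']

/-- A map of corners commuting with `t`. -/
structure CornerHom (i t : R) (φ : M →ₗ[k] M') : Prop where
  left : ∀ x, i • φ x = φ x
  right : ∀ x, φ (i • x) = φ x
  comm : ∀ x, φ (t • x) = t • φ x

namespace Frame

theorem pos (F : Frame S ε t i N) : 0 < N := by
  refine Nat.pos_of_ne_zero fun h => F.t_top ?_
  have h1 := F.t_pow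
  rw [h, pow_zero] at h1
  rw [← one_mul (t ^ (N - 1) * i), h1, zero_mul]

theorem t_comm_i (F : Frame S ε t i N) : t * i = i * t := F.t_comm i F.i_mem

theorem pow_comm (F : Frame S ε t i N) (j : ℕ) {s : R} (hs : s ∈ S) : t ^ j * s = s * t ^ j :=
  (show Commute t s from F.t_comm s hs).pow_left j

theorem i_eps (F : Frame S ε t i N) : i * ε = i := by rw [← F.eps_comm i F.i_mem, F.eps_i]

theorem eps_idem (F : Frame S ε t i N) : ε * ε = ε := by
  obtain ⟨n, u, v, hu, -, hgen⟩ := F.gen
  conv_lhs => arg 2; rw [hgen]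
  rw [Finset.mul_sum]
  conv_rhs => rw [hgen]
  refine Finset.sum_congr rfl fun a _ => ?_
  rw [← mul_assoc, ← mul_assoc, F.eps_comm _ (hu a), mul_assoc (u a), F.eps_i]

theorem corner_expand (F : Frame S ε t i N) {a : R} (ha : a ∈ S) :
    ∀ n, ∃ c : ℕ → k, ∃ b ∈ S,
      i * a * i = ∑ j ∈ Finset.range n, c j • (t ^ j * i) + t ^ n * (i * b * i) := by
  intro n
  induction n with
  | zero => exact ⟨fun _ => 0, a, ha, by simp⟩
  | succ n ih =>
    obtain ⟨c, b, hb, e⟩ := ih
    obtain ⟨d, b', hb', e'⟩ := F.corner b hb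
    refine ⟨Function.update c n d, b', hb', ?_⟩
    rw [e, e', Finset.sum_range_succ, Function.update_self, mul_add, mul_smul_comm, ← mul_assoc,
      ← pow_succ, add_assoc]
    refine congrArg₂ (· + ·) (Finset.sum_congr rfl fun j hj => ?_) rfl
    rw [Function.update_of_ne (Finset.mem_range.1 hj).ne]

/-- The corner consists of polynomials in `t`. -/
theorem corner_eq (F : Frame S ε t i N) {a : R} (ha : a ∈ S) :
    ∃ c : ℕ → k, i * a * i = ∑ j ∈ Finset.range N, c j • (t ^ j * i) := by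
  obtain ⟨c, b, -, e⟩ := F.corner_expand ha N
  exact ⟨c, by rw [e, F.t_pow, zero_mul, add_zero]⟩

theorem pow_smul_comm {φ : M →ₗ[k] M'} (hφ : CornerHom i t φ) (j : ℕ) (x : M) :
    φ (t ^ j • x) = t ^ j • φ x := by
  induction j with
  | zero => simp
  | succ j ih => rw [pow_succ', mul_smul, hφ.comm, ih, mul_smul]

theorem corner_smul (F : Frame S ε t i N) {φ : M →ₗ[k] M'} (hφ : CornerHom i t φ) {a : R}
    (ha : a ∈ S) (x : M) : φ ((i * a * i) • x) = (i * a * i) • φ x := by
  obtain ⟨c, e⟩ := F.corner_eq ha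
  simp only [e, Finset.sum_smul, map_sum, smul_assoc, map_smul, mul_smul, pow_smul_comm hφ,
    hφ.right, hφ.left]

/-- A corner map extends to a map commuting with `S`. -/
theorem exists_ext (F : Frame S ε t i N) {φ : M →ₗ[k] M'} (hφ : CornerHom i t φ) :
    ∃ ψ : M →ₗ[k] M', (∀ s ∈ S, ∀ x, ψ (s • x) = s • ψ x) ∧ (∀ x, i • ψ x = φ x) ∧
      ∀ x, ε • ψ x = ψ x := by
  obtain ⟨n, u, v, hu, hv, hgen⟩ := F.gen
  refine ⟨∑ a, Algebra.lsmul k k M' (u a) ∘ₗ φ ∘ₗ Algebra.lsmul k k M (i * v a), ?_, ?_, ?_⟩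
  · intro s hs x
    simp only [LinearMap.sum_apply, LinearMap.comp_apply, Algebra.lsmul_coe]
    have h1 : ∀ a, φ ((i * v a) • s • x) = ∑ b, (i * (v a * s * u b) * i) • φ ((i * v b) • x) := by
      intro a
      have h0 : i * v a * s = ∑ b, i * (v a * s * u b) * i * (i * v b) := by
        calc i * v a * s = i * ε * (v a * s) := by rw [F.i_eps, mul_assoc]
          _ = i * (v a * s * ε) := by
            rw [mul_assoc, F.eps_comm _ (S.mul_mem (hv a) hs)]
          _ = _ := by
            rw [hgen, Finset.mul_sum, Finset.mul_sum]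
            refine Finset.sum_congr rfl fun b _ => ?_
            simp only [mul_assoc]
            rw [← mul_assoc i i (v b), F.idem]
      rw [← mul_smul, h0, Finset.sum_smul, map_sum]
      refine Finset.sum_congr rfl fun b _ => ?_
      rw [mul_smul, F.corner_smul hφ (S.mul_mem (S.mul_mem (hv a) hs) (hu b))]
    rw [Finset.sum_congr rfl fun a _ => congrArg (u a • ·) (h1 a)]
    simp only [Finset.smul_sum, ← mul_smul]
    rw [Finset.sum_comm]
    refine Finset.sum_congr rfl fun b _ => ?_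
    rw [← Finset.sum_smul]
    have h2 : ∑ a, u a * (i * (v a * s * u b) * i) = s * u b * i := by
      calc ∑ a, u a * (i * (v a * s * u b) * i) = (∑ a, u a * i * v a) * (s * u b * i) := by
            rw [Finset.sum_mul]; simp only [mul_assoc]
        _ = s * u b * i := by
            rw [← hgen, ← mul_assoc, F.eps_comm _ (S.mul_mem hs (hu b)), mul_assoc, F.eps_i]
    rw [h2, mul_smul, hφ.left, mul_smul]
  · intro x
    simp only [LinearMap.sum_apply, LinearMap.comp_apply, Algebra.lsmul_coe, Finset.smul_sum]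
    have h1 : ∀ a, i • u a • φ ((i * v a) • x) = φ ((i * u a * i * v a) • x) := fun a => by
      conv_lhs => rw [← hφ.left, ← mul_smul, ← mul_smul, ← F.corner_smul hφ (hu a)]
      rw [← mul_smul, ← mul_assoc, mul_assoc (i * u a) i i, F.idem]
    rw [Finset.sum_congr rfl fun a _ => h1 a, ← map_sum, ← Finset.sum_smul]
    rw [show ∑ a, i * u a * i * v a = i * ∑ a, u a * i * v a by
      rw [Finset.mul_sum]; simp only [mul_assoc], ← hgen, F.i_eps, hφ.right]
  · intro x
    simp only [LinearMap.sum_apply, LinearMap.comp_apply, Algebra.lsmul_coe, Finset.smul_sum]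
    refine Finset.sum_congr rfl fun a _ => ?_
    conv_lhs => rw [← hφ.left, ← mul_smul, ← mul_smul, mul_assoc, ← mul_assoc,
      F.eps_comm _ (hu a), mul_assoc, F.eps_i, mul_smul, hφ.left]

/-- Maps commuting with `S` are determined by their corners. -/
theorem ext_unique (F : Frame S ε t i N) {ψ ψ' : M →ₗ[k] M'}
    (h : ∀ s ∈ S, ∀ x, ψ (s • x) = s • ψ x) (h' : ∀ s ∈ S, ∀ x, ψ' (s • x) = s • ψ' x)
    (he : ∀ x, i • x = x → ψ x = ψ' x) {x : M} (hx : ε • x = x) : ψ x = ψ' x := by
  obtain ⟨n, u, v, hu, hv, hgen⟩ := F.gen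
  rw [← hx, hgen, Finset.sum_smul, map_sum, map_sum]
  refine Finset.sum_congr rfl fun a _ => ?_
  rw [mul_smul, mul_smul, h _ (hu a), h' _ (hu a),
    he _ (by rw [← mul_smul, F.idem] : i • i • v a • x = i • v a • x)]

theorem exists_smul_ne_zero (F : Frame S ε t i N) {x : M} (hx : ε • x = x) (h0 : x ≠ 0) :
    ∃ v ∈ S, i • v • x ≠ 0 := by
  obtain ⟨n, u, v, hu, hv, hgen⟩ := F.gen
  by_contra h
  push Not at h
  apply h0
  rw [← hx, hgen, Finset.sum_smul]
  exact Finset.sum_eq_zero fun a _ => by rw [mul_smul, mul_smul, h _ (hv a), smul_zero]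

/-- An element normalizing the frame moves `t` into `t S`. -/
theorem conj_t (F : Frame S ε t i N) {z z' : R} (hzz : z * z' = 1) (hz'z : z' * z = 1)
    (hzi : z * i = i * z) (hzS : ∀ s ∈ S, z * s * z' ∈ S) :
    ∃ b ∈ S, z * t * i = t * (i * b * i) * z := by
  set τ := z * t * z' with hτ
  have hτS : τ ∈ S := hzS t F.t_mem
  have hpow : ∀ n, τ ^ n = z * t ^ n * z' := fun n => by
    induction n with
    | zero => simp [hzz]
    | succ n ih =>
      rw [pow_succ, ih, hτ, pow_succ]
      simp only [mul_assoc]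
      rw [← mul_assoc z' z, hz'z, one_mul]
  have hzi' : z' * i = i * z' := by
    calc z' * i = z' * i * (z * z') := by rw [hzz, mul_one]
      _ = z' * (i * z) * z' := by simp only [mul_assoc]
      _ = i * z' := by rw [← hzi, ← mul_assoc, hz'z, one_mul]
  have hτi : τ * i = i * τ := by
    rw [hτ, mul_assoc, hzi', ← mul_assoc, mul_assoc z t i, F.t_comm_i, ← mul_assoc z i t, hzi]
    simp only [mul_assoc]
  obtain ⟨c, b, hb, e⟩ := F.corner τ hτS
  have hτc : i * τ * i = τ * i := by rw [← hτi, mul_assoc, F.idem]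
  rw [hτc] at e
  have hib : i * b * i ∈ S := S.mul_mem (S.mul_mem F.i_mem hb) F.i_mem
  have hc : c = 0 := by
    have hn : ∀ n, τ ^ n * i * t ^ (N - 1) = c ^ n • (t ^ (N - 1) * i) := by
      intro n
      induction n with
      | zero => simp [F.pow_comm _ F.i_mem]
      | succ n ih =>
        have h1 : τ * i * t ^ (N - 1) = c • (t ^ (N - 1) * i) := by
          rw [e, add_mul, smul_mul_assoc, ← F.pow_comm _ F.i_mem, mul_assoc t,
            ← F.pow_comm _ hib, ← mul_assoc, ← pow_succ', Nat.sub_add_cancel F.pos, F.t_pow,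
            zero_mul, add_zero]
        rw [pow_succ, mul_assoc (τ ^ n) τ i, mul_assoc, h1, mul_smul_comm, F.pow_comm _ F.i_mem,
          ← mul_assoc, ih, smul_smul, pow_succ', F.pow_comm _ F.i_mem]
    have h := hn N
    rw [hpow, F.t_pow] at h
    simp only [mul_zero, zero_mul] at h
    exact pow_eq_zero_iff F.pos.ne' |>.1 ((smul_eq_zero.1 h.symm).resolve_right F.t_top)
  refine ⟨b, hb, ?_⟩
  rw [hc, zero_smul, zero_add] at e
  calc z * t * i = z * t * z' * i * z := by
        rw [mul_assoc (z * t * z'), ← hzi, mul_assoc (z * t) z', ← mul_assoc z' z, hz'z, one_mul]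
    _ = _ := by rw [← hτ, e]

end Frame

namespace Twist

theorem pos (Y : Twist (k := k) S i y m) : 0 < m :=
  Nat.pos_of_ne_zero fun h => Y.ne_zero (by simp [h])

theorem pow_conj (Y : Twist (k := k) S i y m) (j : ℕ) :
    ∀ s ∈ S, ∃ s' ∈ S, y ^ j * s = s' * y ^ j := by
  induction j with
  | zero => exact fun s hs => ⟨s, hs, by simp⟩
  | succ j ih =>
    intro s hs
    obtain ⟨s₁, hs₁, e₁⟩ := Y.conj s hs
    obtain ⟨s₂, hs₂, e₂⟩ := ih s₁ hs₁
    exact ⟨s₂, hs₂, by rw [pow_succ, mul_assoc, e₁, ← mul_assoc, e₂, mul_assoc]⟩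

theorem pow_mul_pred (Y : Twist (k := k) S i y m) (j : ℕ) :
    y ^ j * y ^ ((m - 1) * j) = 1 ∧ y ^ ((m - 1) * j) * y ^ j = 1 := by
  have e : (m - 1) * j + j = m * j := by
    rw [← Nat.succ_mul, Nat.succ_eq_add_one, Nat.sub_add_cancel Y.pos]
  constructor
  · rw [← pow_add, add_comm, e, pow_mul, Y.pow, one_pow]
  · rw [← pow_add, e, pow_mul, Y.pow, one_pow]

theorem pow_comm_i (Y : Twist (k := k) S i y m) (j : ℕ) : y ^ j * i = i * y ^ j :=
  (show Commute y i from Y.comm_i).pow_left j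

theorem pow_sandwich (Y : Twist (k := k) S i y m) (j : ℕ) {s : R} (hs : s ∈ S) :
    y ^ j * s * y ^ ((m - 1) * j) ∈ S := by
  obtain ⟨s', hs', e⟩ := Y.pow_conj j s hs
  rwa [e, mul_assoc, (Y.pow_mul_pred j).1, mul_one]

theorem conj_t (Y : Twist (k := k) S i y m) (F : Frame S ε t i N) (j : ℕ) :
    ∃ b ∈ S, y ^ j * t * i = t * (i * b * i) * y ^ j :=
  F.conj_t (Y.pow_mul_pred j).1 (Y.pow_mul_pred j).2 (Y.pow_comm_i j)
    fun _ hs => Y.pow_sandwich j hs

theorem pow_smul_t (Y : Twist (k := k) S i y m) (F : Frame S ε t i N) (j n : ℕ) :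
    ∃ b ∈ S, b * i = i * b ∧ ∀ x : M, i • x = x → y ^ j • t ^ n • x = t ^ n • b • y ^ j • x := by
  obtain ⟨b, hb, e⟩ := Y.conj_t F j
  set b' := i * b * i with hb'
  have hb'S : b' ∈ S := S.mul_mem (S.mul_mem F.i_mem hb) F.i_mem
  have hb'i : b' * i = i * b' := by
    rw [hb', mul_assoc, F.idem, ← mul_assoc, ← mul_assoc, F.idem]
  refine ⟨b' ^ n, S.pow_mem hb'S n, (show Commute b' i from hb'i).pow_left n, ?_⟩
  induction n with
  | zero => intro x _; simp
  | succ n ih =>
    intro x hx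
    have hxn : i • t ^ n • x = t ^ n • x := by
      rw [← mul_smul, ← F.pow_comm _ F.i_mem, mul_smul, hx]
    calc y ^ j • t ^ (n + 1) • x = (y ^ j * t * i) • t ^ n • x := by
          rw [mul_smul, hxn, pow_succ', mul_smul, mul_smul]
      _ = t • b' • t ^ n • b' ^ n • y ^ j • x := by rw [e, mul_smul, mul_smul, ih x hx]
      _ = _ := by
          simp only [← mul_smul]
          congr 1
          calc t * (b' * (t ^ n * (b' ^ n * y ^ j))) = t * (b' * t ^ n) * (b' ^ n * y ^ j) := by
                simp only [mul_assoc]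
            _ = t * t ^ n * (b' * b' ^ n) * y ^ j := by
                rw [← F.pow_comm n hb'S]; simp only [mul_assoc]
            _ = _ := by rw [← pow_succ', ← pow_succ', mul_assoc]

end Twist

/-- A weight form for the eigenvalue `a`. -/
structure IsWt (i t y : R) (a : k) (g : M →ₗ[k] k) : Prop where
  right : ∀ x, g (i • x) = g x
  kill : ∀ x, g (t • x) = 0
  eig : ∀ x, g (y • x) = a * g x

/-- A form that does not see the non-free part of the corner. -/
def IsTriv (i t : R) (N : ℕ) (g : M →ₗ[k] k) : Prop :=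
  ∀ x, i • x = x → t ^ (N - 1) • x = 0 → g x = 0

theorem IsWt.eig_pow {a : k} {g : M →ₗ[k] k} (hg : IsWt i t y a g) (j : ℕ) (x : M) :
    g (y ^ j • x) = a ^ j * g x := by
  induction j with
  | zero => simp
  | succ j ih => rw [pow_succ', mul_smul, hg.eig, ih, pow_succ', mul_assoc]

theorem IsWt.pow_eq_one {a : k} {g : M →ₗ[k] k} (hg : IsWt i t y a g)
    (Y : Twist (k := k) S i y m) (hg0 : g ≠ 0) : a ^ m = 1 := by
  obtain ⟨x, hx⟩ : ∃ x, g x ≠ 0 := by
    by_contra h
    push Not at h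
    exact hg0 (LinearMap.ext h)
  have h := hg.eig_pow m x
  rw [Y.pow, one_smul] at h
  exact (mul_eq_right₀ hx).1 h.symm

/-- A weight seeing the non-free part splits off a uniserial summand. -/
theorem exists_split (F : Frame S ε t i N) (Y : Twist (k := k) S i y m) {a : k} {g : M →ₗ[k] k}
    (hg : IsWt i t y a g) (hnt : ¬ IsTriv i t N g) :
    ∃ (j : ℕ) (v : M), 1 ≤ j ∧ j ≤ N - 1 ∧ i • v = v ∧ t ^ j • v = 0 ∧ g v = 1 ∧ y • v = a • v ∧
      (∀ x, i • x = x → t ^ (j - 1) • x = 0 → g x = 0) ∧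
      ∀ (M' : Type _) [AddCommGroup M'] [Module k M'] [Module R M'] [IsScalarTower k R M']
        (v' : M'), i • v' = v' → t ^ j • v' = 0 → y • v' = a • v' →
        ∃ φ : M →ₗ[k] M', CornerHom i t φ ∧ (∀ x, φ (y • x) = y • φ x) ∧ φ v = v' ∧
          ∀ x, φ x ∈ Submodule.span k (Set.range fun n : ℕ => t ^ n • v') := by
  classical
  have hex : ∃ j, ∃ x, i • x = x ∧ t ^ j • x = 0 ∧ g x ≠ 0 := by
    simp only [IsTriv, not_forall] at hnt
    obtain ⟨x, h1, h2, h3⟩ := hnt
    exact ⟨N - 1, x, h1, h2, h3⟩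
  set j := Nat.find hex with hj
  obtain ⟨x₀, hx₀i, hx₀j, hx₀g⟩ := Nat.find_spec hex
  have hjN : j ≤ N - 1 := by
    simp only [IsTriv, not_forall] at hnt
    obtain ⟨x, h1, h2, h3⟩ := hnt
    exact Nat.find_le ⟨x, h1, h2, h3⟩
  have hj1 : 1 ≤ j := Nat.pos_of_ne_zero fun h => hx₀g (by
    rw [← hj, h, pow_zero, one_smul] at hx₀j
    rw [hx₀j, map_zero])
  have hmin : ∀ x, i • x = x → t ^ (j - 1) • x = 0 → g x = 0 := fun x h1 h2 => by
    by_contra h
    exact Nat.find_min hex (show j - 1 < Nat.find hex by omega) ⟨x, h1, h2, h⟩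
  have ham : a ^ m = 1 := hg.pow_eq_one Y fun h => hx₀g (by rw [h]; rfl)
  have ha0 : a ≠ 0 := fun h => by
    rw [h, zero_pow Y.pos.ne'] at ham; exact zero_ne_one ham
  -- the eigenvector
  set v : M := ((m : k) * g x₀)⁻¹ • ∑ n ∈ Finset.range m, (a⁻¹) ^ n • y ^ n • x₀ with hv
  have hvi : i • v = v := by
    rw [hv, smul_comm, Finset.smul_sum]
    congr 1
    refine Finset.sum_congr rfl fun n _ => ?_
    rw [smul_comm, ← mul_smul i, ← Y.pow_comm_i, mul_smul, hx₀i]
  have hyj : ∀ n (x : M), i • x = x → t ^ j • x = 0 → t ^ j • y ^ n • x = 0 := by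
    intro n x hx hxj
    obtain ⟨b, hbS, -, hb⟩ := Y.pow_smul_t (M := M) F ((m - 1) * n) j
    have h := hb (y ^ n • x) (by rw [← mul_smul, ← Y.pow_comm_i, mul_smul, hx])
    rw [← mul_smul (y ^ ((m - 1) * n)) (y ^ n), (Y.pow_mul_pred n).2, one_smul, ← mul_smul (t ^ j) b,
      F.pow_comm j hbS, mul_smul, hxj, smul_zero] at h
    have h2 := congrArg (fun z => y ^ n • z) h
    simpa only [smul_zero, ← mul_smul (y ^ n) (y ^ ((m - 1) * n)), (Y.pow_mul_pred n).1,
      one_smul] using h2
  have hvj : t ^ j • v = 0 := by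
    rw [hv, smul_comm, Finset.smul_sum, Finset.sum_eq_zero fun n _ => ?_, smul_zero]
    rw [smul_comm, hyj n x₀ hx₀i hx₀j, smul_zero]
  have hgv : g v = 1 := by
    rw [hv, map_smul, map_sum, smul_eq_mul]
    have : ∀ n ∈ Finset.range m, g ((a⁻¹) ^ n • y ^ n • x₀) = g x₀ := fun n _ => by
      rw [map_smul, hg.eig_pow, smul_eq_mul, ← mul_assoc, ← mul_pow, inv_mul_cancel₀ ha0, one_pow,
        one_mul]
    rw [Finset.sum_congr rfl this, Finset.sum_const, Finset.card_range, nsmul_eq_mul,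
      inv_mul_cancel₀ (mul_ne_zero Y.ne_zero hx₀g)]
  have hyv : y • v = a • v := by
    rw [hv, smul_comm y, smul_comm a]
    congr 1
    set f : ℕ → M := fun n => (a⁻¹) ^ n • y ^ n • x₀ with hf
    have h1 : ∀ n, y • f n = a • f (n + 1) := fun n => by
      simp only [hf]
      rw [smul_comm, ← mul_smul, ← pow_succ', smul_smul, pow_succ' a⁻¹, mul_inv_cancel_left₀ ha0]
    have h2 : f m = f 0 := by simp [hf, Y.pow, inv_pow, ham]
    rw [Finset.smul_sum, Finset.sum_congr rfl fun n _ => h1 n, ← Finset.smul_sum]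
    congr 1
    have h3 := (Finset.sum_range_succ' f m).symm.trans (Finset.sum_range_succ f m)
    rw [h2] at h3
    exact add_right_cancel h3
  refine ⟨j, v, hj1, hjN, hvi, hvj, hgv, hyv, hmin, ?_⟩
  intro M' _ _ _ _ v' hv'i hv'j hv'y
  -- the functional
  set U : Submodule k M := LinearMap.range (Algebra.lsmul k k M (t ^ j * i)) ⊔
    Submodule.span k (Set.range fun n : Fin (j - 1) => t ^ (n : ℕ) • v) with hU
  have hnot : t ^ (j - 1) • v ∉ U := by
    intro hmem
    obtain ⟨w, ⟨u, rfl⟩, w', hw', e⟩ := Submodule.mem_sup.1 hmem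
    obtain ⟨c, rfl⟩ := (Submodule.mem_span_range_iff_exists_fun k).1 hw'
    simp only [Algebra.lsmul_coe] at e
    set q := v - t • i • u with hq
    have hqi : i • q = q := by
      rw [hq, smul_sub, hvi, ← mul_smul i t, ← F.t_comm_i, mul_smul, ← mul_smul i i, F.idem]
    have hkill : ∀ q, j ≤ q → t ^ q • v = 0 := fun q hq => by
      rw [← Nat.sub_add_cancel hq, pow_add, mul_smul, hvj, smul_zero]
    -- the coefficients vanish
    have hc : ∀ n : Fin (j - 1), c n = 0 := by
      suffices H : ∀ q, ∀ n : Fin (j - 1), (n : ℕ) = q → c n = 0 from fun n => H _ n rfl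
      intro q
      induction q using Nat.strong_induction_on with | _ q ih => ?_
      intro n hn
      subst hn
      have hn1 : (n : ℕ) < j - 1 := n.2
      set r := j - 1 - (n : ℕ) with hr
      have h1 := congrArg (fun z => t ^ r • z) e
      simp only [smul_add, Finset.smul_sum] at h1
      rw [Finset.sum_eq_single n] at h1
      · have e1 : t ^ r • c n • t ^ (n : ℕ) • v = c n • t ^ (j - 1) • v := by
          rw [smul_comm, ← mul_smul, ← pow_add, hr, Nat.sub_add_cancel hn1.le]
        have e2 : t ^ r • (t ^ j * i) • u = t ^ (j - 1) • t ^ (j - (n : ℕ)) • i • u := by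
          rw [mul_smul (t ^ j) i, ← mul_smul (t ^ r), ← mul_smul (t ^ (j - 1)), ← pow_add, ← pow_add,
            show r + j = j - 1 + (j - (n : ℕ)) by omega]
        have e3 : t ^ r • t ^ (j - 1) • v = 0 := by
          rw [← mul_smul, ← pow_add]; exact hkill _ (by omega)
        rw [e1, e2, e3, smul_comm (c n), ← smul_add] at h1
        have h4 := hmin _ (by
          rw [smul_add, ← mul_smul i (t ^ _), ← F.pow_comm _ F.i_mem, mul_smul, ← mul_smul i i,
            F.idem, smul_comm i (c n), hvi]) h1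
        rw [map_add, g.map_smul, hgv, show j - (n : ℕ) = j - (n : ℕ) - 1 + 1 by omega, pow_succ',
          mul_smul, hg.kill, zero_add, smul_eq_mul, mul_one] at h4
        exact h4
      · intro n' _ hne
        rw [smul_comm, ← mul_smul, ← pow_add]
        rcases lt_or_gt_of_ne (Fin.val_ne_of_ne hne) with hlt | hlt
        · rw [ih _ hlt n' rfl, zero_smul]
        · rw [hkill _ (by omega), smul_zero]
      · simp
    rw [Finset.sum_eq_zero fun n _ => by rw [hc n, zero_smul], add_zero] at e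
    have h5 : t ^ (j - 1) • q = 0 := by
      rw [hq, smul_sub, ← mul_smul, ← pow_succ, Nat.sub_add_cancel hj1, ← mul_smul, e, sub_self]
    have h6 := hmin q hqi h5
    rw [hq, map_sub, hg.kill, hgv, sub_zero] at h6
    exact one_ne_zero h6
  obtain ⟨l, hl1, hl2⟩ := Submodule.exists_dual_map_eq_bot_of_notMem hnot inferInstance
  set l' : M →ₗ[k] k := (l (t ^ (j - 1) • v))⁻¹ • l with hl'
  have hl'v : l' (t ^ (j - 1) • v) = 1 := by simp [hl', hl1]
  have hl'U : ∀ w ∈ U, l' w = 0 := fun w hw => by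
    have : l w ∈ (⊥ : Submodule k k) := hl2 ▸ Submodule.mem_map_of_mem hw
    simp [hl', (Submodule.mem_bot k).1 this]
  set φ₀ : M →ₗ[k] M' := ∑ n ∈ Finset.range j,
    (l' ∘ₗ Algebra.lsmul k k M (t ^ (j - 1 - n) * i)).smulRight (t ^ n • v') with hφ₀
  have hφ₀h : CornerHom i t φ₀ := by
    refine ⟨fun x => ?_, fun x => ?_, fun x => ?_⟩
    · simp only [hφ₀, LinearMap.sum_apply, LinearMap.smulRight_apply, Finset.smul_sum]
      refine Finset.sum_congr rfl fun n _ => ?_
      rw [smul_comm, ← mul_smul i, ← F.pow_comm n F.i_mem, mul_smul, hv'i]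
    · simp only [hφ₀, LinearMap.sum_apply, LinearMap.smulRight_apply, LinearMap.comp_apply,
        Algebra.lsmul_coe, ← mul_smul, mul_assoc, F.idem]
    · simp only [hφ₀, LinearMap.sum_apply, LinearMap.smulRight_apply, LinearMap.comp_apply,
        Algebra.lsmul_coe, Finset.smul_sum, ← mul_smul]
      obtain ⟨j', hj'⟩ : ∃ j', j = j' + 1 := ⟨j - 1, (Nat.sub_add_cancel hj1).symm⟩
      have hl'j : l' ((t ^ (j' + 1) * i) • x) = 0 :=
        hl'U _ (Submodule.mem_sup_left ⟨x, by rw [hj']; rfl⟩)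
      rw [hj'] at hv'j ⊢
      simp only [Nat.add_sub_cancel]
      rw [Finset.sum_range_succ', Finset.sum_range_succ]
      refine congrArg₂ (· + ·) (Finset.sum_congr rfl fun n hn => ?_) ?_
      · have hn' := Finset.mem_range.1 hn
        rw [smul_comm t, ← mul_smul, ← pow_succ', mul_assoc, ← F.t_comm_i, ← mul_assoc,
          ← pow_succ, show j' - (n + 1) + 1 = j' - n by omega]
      · rw [Nat.sub_zero, Nat.sub_self, mul_assoc, ← F.t_comm_i, ← mul_assoc, ← pow_succ, hl'j, zero_smul, smul_comm, ← mul_smul, ← pow_succ', hv'j,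
          smul_zero]
  have hφ₀v : φ₀ v = v' := by
    simp only [hφ₀, LinearMap.sum_apply, LinearMap.smulRight_apply, LinearMap.comp_apply,
      Algebra.lsmul_coe]
    rw [Finset.sum_eq_single 0]
    · rw [Nat.sub_zero, mul_smul, hvi, hl'v, one_smul, pow_zero, one_smul]
    · intro n hn hn0
      rw [mul_smul, hvi, hl'U _ (Submodule.mem_sup_right (Submodule.subset_span
        ⟨⟨j - 1 - n, by have := Finset.mem_range.1 hn; omega⟩, rfl⟩)), zero_smul]
    · intro h; exact absurd (Finset.mem_range.2 hj1) h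
  set φ : M →ₗ[k] M' := (m : k)⁻¹ • ∑ n ∈ Finset.range m,
    Algebra.lsmul k k M' (y ^ n) ∘ₗ φ₀ ∘ₗ Algebra.lsmul k k M (y ^ ((m - 1) * n)) with hφ
  have happ : ∀ x, φ x = (m : k)⁻¹ • ∑ n ∈ Finset.range m,
      y ^ n • φ₀ (y ^ ((m - 1) * n) • x) := fun x => by
    simp only [hφ, LinearMap.smul_apply, LinearMap.sum_apply, LinearMap.comp_apply,
      Algebra.lsmul_coe]
  refine ⟨φ, ⟨fun x => ?_, fun x => ?_, fun x => ?_⟩, fun x => ?_, ?_, fun x => ?_⟩
  · rw [happ, smul_comm, Finset.smul_sum]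
    congr 1
    refine Finset.sum_congr rfl fun n _ => ?_
    rw [← mul_smul, ← Y.pow_comm_i, mul_smul, hφ₀h.left]
  · rw [happ, happ]
    congr 1
    refine Finset.sum_congr rfl fun n _ => ?_
    rw [← mul_smul _ i, Y.pow_comm_i, mul_smul i, hφ₀h.right]
  · rw [happ, happ, smul_comm t]
    congr 1
    rw [Finset.smul_sum]
    refine Finset.sum_congr rfl fun n _ => ?_
    obtain ⟨b, hb, hbe⟩ := Y.conj_t F ((m - 1) * n)
    have e1 : φ₀ (y ^ ((m - 1) * n) • t • x) =
        (t * (i * b * i)) • φ₀ (y ^ ((m - 1) * n) • x) := by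
      rw [← hφ₀h.right, ← mul_smul, ← mul_smul, ← Y.pow_comm_i, mul_assoc, ← F.t_comm_i,
        ← mul_assoc, hbe, mul_smul, mul_smul t, hφ₀h.comm, F.corner_smul hφ₀h hb, mul_smul t]
    rw [e1, ← mul_smul, ← mul_smul]
    conv_rhs => rw [← hφ₀h.left, ← mul_smul]
    congr 1
    calc y ^ n * (t * (i * b * i))
        = y ^ n * ((t * (i * b * i)) * y ^ ((m - 1) * n)) * y ^ n := by
          simp only [mul_assoc]
          rw [(Y.pow_mul_pred n).2, mul_one]
      _ = y ^ n * (y ^ ((m - 1) * n) * t * i) * y ^ n := by rw [hbe]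
      _ = t * i * y ^ n := by
          simp only [← mul_assoc]
          rw [(Y.pow_mul_pred n).1, one_mul]
      _ = t * y ^ n * i := by rw [mul_assoc, ← Y.pow_comm_i, ← mul_assoc]
  · rw [happ, happ, smul_comm y]
    congr 1
    set f : ℕ → M' := fun n => y ^ n • φ₀ (y ^ ((m - 1) * n) • y • x) with hf
    have h1 : ∀ n, y • y ^ n • φ₀ (y ^ ((m - 1) * n) • x) = f (n + 1) := fun n => by
      simp only [hf]
      rw [← mul_smul y, ← pow_succ', ← mul_smul (y ^ ((m - 1) * (n + 1))) y, ← pow_succ (n := (m - 1) * (n + 1)),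
        show (m - 1) * (n + 1) + 1 = (m - 1) * n + m by rw [Nat.mul_succ]; have := Y.pos; omega,
        pow_add y ((m - 1) * n) m, Y.pow, mul_one]
    have h2 : f m = f 0 := by
      simp only [hf]
      rw [mul_comm (m - 1) m, pow_mul, Y.pow, one_pow, mul_zero, pow_zero]
    rw [Finset.smul_sum, Finset.sum_congr rfl fun n _ => h1 n]
    have h3 := (Finset.sum_range_succ' f m).symm.trans (Finset.sum_range_succ f m)
    rw [h2] at h3
    exact (add_right_cancel h3).symm
  · rw [happ]
    have : ∀ n ∈ Finset.range m, y ^ n • φ₀ (y ^ ((m - 1) * n) • v) = v' := by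
      intro n _
      have hpv : ∀ n : ℕ, y ^ n • v = a ^ n • v := fun n => by
        induction n with
        | zero => simp
        | succ n ih => rw [pow_succ', mul_smul, ih, smul_comm, hyv, smul_smul, ← pow_succ]
      have hpv' : ∀ n : ℕ, y ^ n • v' = a ^ n • v' := fun n => by
        induction n with
        | zero => simp
        | succ n ih => rw [pow_succ', mul_smul, ih, smul_comm, hv'y, smul_smul, ← pow_succ]
      rw [hpv, map_smul, hφ₀v, smul_comm, hpv', smul_smul, ← pow_add,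
        show (m - 1) * n + n = m * n by
          rw [← Nat.succ_mul, Nat.succ_eq_add_one, Nat.sub_add_cancel Y.pos],
        pow_mul, ham, one_pow, one_smul]
    rw [Finset.sum_congr rfl this, Finset.sum_const, Finset.card_range, ← Nat.cast_smul_eq_nsmul k,
      smul_smul, inv_mul_cancel₀ Y.ne_zero, one_smul]
  · rw [happ]
    refine Submodule.smul_mem _ _ (Submodule.sum_mem _ fun n _ => ?_)
    simp only [hφ₀, LinearMap.sum_apply, LinearMap.smulRight_apply, Finset.smul_sum]
    refine Submodule.sum_mem _ fun q _ => ?_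
    rw [smul_comm]
    refine Submodule.smul_mem _ _ ?_
    obtain ⟨b, hbS, hbi, hbe⟩ := Y.pow_smul_t (M := M') F n q
    have hpv' : ∀ n : ℕ, y ^ n • v' = a ^ n • v' := fun n => by
      induction n with
      | zero => simp
      | succ n ih => rw [pow_succ', mul_smul, ih, smul_comm, hv'y, smul_smul, ← pow_succ]
    obtain ⟨c, hc⟩ := F.corner_eq hbS
    have hb' : b • v' = (i * b * i) • v' := by
      rw [mul_smul, mul_smul, hv'i, ← mul_smul, ← hbi, mul_smul, hv'i]
    rw [hbe v' hv'i, hpv', smul_comm (b : R), smul_comm (t ^ q), hb', hc, Finset.sum_smul,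
      Finset.smul_sum]
    refine Submodule.smul_mem _ _ (Submodule.sum_mem _ fun r _ => ?_)
    rw [smul_assoc, smul_comm, mul_smul, hv'i, ← mul_smul, ← pow_add]
    exact Submodule.smul_mem _ _ (Submodule.subset_span ⟨q + r, rfl⟩)

end Cfsg.Agent.BlockChar.Cyclic
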