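import Cfsg.Agent.BlockChar.Cyclic.Corner
import Cfsg.Agent.BlockThms.OrderP.LinAlg
import Mathlib.FieldTheory.IsAlgClosed.Basic

/-!
# Frames: free corners, central elements, dual coordinates
-/

set_option autoImplicit false

namespace Cfsg.Agent.BlockChar.Cyclic

variable {k R : Type*} [Field k] [Ring R] [Algebra k R]
variable {S : Subalgebra k R} {ε t i y : R} {N m : ℕ}
variable {M : Type*} [AddCommGroup M] [Module k M] [Module R M] [IsScalarTower k R M]

/-- Shifting the coordinates. -/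
theorem sum_shift {A V : Type*} [AddCommGroup A] [Zero V] (hN : 0 < N) (f : ℕ → V → A)
    (g : A →+ A) (hf0 : ∀ q, f q 0 = 0) (hsucc : ∀ q v, g (f q v) = f (q + 1) v)
    (hfN : ∀ v, f N v = 0) (c : Fin N → V) :
    ∑ j : Fin N, f j (if h : (j : ℕ) = 0 then 0 else c ⟨(j : ℕ) - 1, by omega⟩) =
      g (∑ j : Fin N, f j (c j)) := by
  obtain ⟨N', rfl⟩ : ∃ N', N = N' + 1 := ⟨N - 1, (Nat.sub_add_cancel hN).symm⟩
  rw [map_sum, Fin.sum_univ_succ, Fin.sum_univ_castSucc (f := fun j => g (f j (c j)))]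
  simp only [Fin.val_zero, reduceDIte, ↓reduceDIte, hf0, zero_add, Fin.val_succ, Nat.succ_ne_zero, dite_false,
    Fin.val_last, hsucc, hfN, add_zero, Fin.val_castSucc, Nat.add_sub_cancel]
  rfl

namespace Frame

/-- A nilpotent central element lies in `t S`. -/
theorem central_nilpotent_mem (F : Frame S ε t i N) {z : R} (hzS : z ∈ S)
    (hzc : ∀ s ∈ S, z * s = s * z) (hz : IsNilpotent z) : ∃ s ∈ S, z * ε = t * s := by
  obtain ⟨n, u, v, hu, hv, hgen⟩ := F.gen
  obtain ⟨c, b, hb, e⟩ := F.corner z hzS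
  have hzi : i * z * i = z * i := by rw [← hzc i F.i_mem, mul_assoc, F.idem]
  rw [hzi] at e
  have hib : i * b * i ∈ S := S.mul_mem (S.mul_mem F.i_mem hb) F.i_mem
  have hc : c = 0 := by
    obtain ⟨r, hr⟩ := hz
    have hn : ∀ q : ℕ, z ^ q * (t ^ (N - 1) * i) = c ^ q • (t ^ (N - 1) * i) := by
      intro q
      induction q with
      | zero => simp
      | succ q ih =>
        have h1 : z * (t ^ (N - 1) * i) = c • (t ^ (N - 1) * i) := by
          rw [← mul_assoc, ← F.pow_comm _ hzS, mul_assoc, e, mul_add, mul_smul_comm, ← mul_assoc,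
            ← pow_succ, Nat.sub_add_cancel F.pos, F.t_pow, zero_mul, add_zero]
        rw [pow_succ, mul_assoc, h1, mul_smul_comm, ih, smul_smul, pow_succ']
    have h := hn r
    rw [hr, zero_mul] at h
    rcases Nat.eq_zero_or_pos r with h0 | h0
    · rw [h0, pow_zero, one_smul] at h
      exact absurd h.symm F.t_top
    · exact pow_eq_zero_iff h0.ne' |>.1 ((smul_eq_zero.1 h.symm).resolve_right F.t_top)
  refine ⟨∑ a, u a * (i * b * i) * v a, S.sum_mem fun a _ => S.mul_mem (S.mul_mem (hu a) hib) (hv a), ?_⟩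
  rw [hgen, Finset.mul_sum, Finset.mul_sum]
  refine Finset.sum_congr rfl fun a _ => ?_
  rw [← mul_assoc, ← mul_assoc, hzc _ (hu a), mul_assoc (u a) z i, e, hc, zero_smul, zero_add,
    ← mul_assoc (u a) t, ← F.t_comm _ (hu a)]
  simp only [mul_assoc]

omit [IsScalarTower k R M] in
/-- In a free corner the kernel of a power of `t` is the image of the complementary power. -/
theorem ker_pow (F : Frame S ε t i N) (U : M → Prop)
    (hfree : ∀ x, U x → t ^ (N - 1) • x = 0 → ∃ w, U w ∧ t • w = x)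
    (hU : ∀ x, U x → U (t • x)) :
    ∀ n ≤ N, ∀ x, U x → t ^ n • x = 0 → ∃ w, U w ∧ t ^ (N - n) • w = x := by
  intro n
  induction h : N - n generalizing n with
  | zero => exact fun _ x hx _ => ⟨x, hx, by simp⟩
  | succ q ih =>
    intro hn x hx hxn
    obtain ⟨w, hw, e⟩ := hfree x hx (by
      rw [show N - 1 = N - 1 - n + n by omega, pow_add, mul_smul, hxn, smul_zero])
    obtain ⟨w', hw', e'⟩ := ih (n + 1) (by omega) (by omega) w hw (by
      rw [pow_succ, mul_smul, e, hxn])
    exact ⟨w', hw', by rw [pow_succ', mul_smul, e', e]⟩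

/-- A free corner has dual coordinates with values in `S`. -/
theorem exists_coords [FiniteDimensional k M] (F : Frame S ε t i N)
    (hfree : ∀ x : M, i • x = x → t ^ (N - 1) • x = 0 → ∃ w, i • w = w ∧ t • w = x) :
    ∃ (n : ℕ) (b : Fin n → M) (φ : Fin n → M →ₗ[k] R), (∀ r, CornerHom i t (φ r)) ∧
      (∀ r x, φ r x ∈ S) ∧ (∀ r, i • b r = b r) ∧ ∀ x, i • x = x → ∑ r, φ r x • b r = x := by
  classical
  let U : Submodule k M := LinearMap.range (Algebra.lsmul k k M i)
  have hU : ∀ x, x ∈ U ↔ i • x = x := fun x =>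
    ⟨fun ⟨w, hw⟩ => by rw [← hw]; exact (mul_smul i i w).symm.trans (by rw [F.idem]; rfl),
      fun hx => ⟨x, hx⟩⟩
  let τ : U →ₗ[k] U := (Algebra.lsmul k k M t).restrict fun x hx => (hU _).2 (by
    show i • t • x = t • x
    rw [← mul_smul, ← F.t_comm_i, mul_smul, (hU x).1 hx])
  have hτ : ∀ x : U, (τ x : M) = t • (x : M) := fun _ => rfl
  obtain ⟨W, hW⟩ := (LinearMap.range τ).exists_isCompl
  set b := Module.finBasis k W
  have hsplit : ∀ x : M, i • x = x → ∀ q : ℕ, ∃ (c : ℕ → Fin (Module.finrank k W) → k) (w : M),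
      i • w = w ∧
      x = ∑ j ∈ Finset.range q, t ^ j • (∑ r, c j r • ((b r : U) : M)) + t ^ q • w := by
    intro x hx q
    induction q with
    | zero => exact ⟨fun _ _ => 0, x, hx, by simp⟩
    | succ q ih =>
      obtain ⟨c, w, hw, e⟩ := ih
      have hmem : (⟨w, (hU w).2 hw⟩ : U) ∈ LinearMap.range τ ⊔ W := by
        rw [hW.sup_eq_top]; trivial
      obtain ⟨a, ⟨a', rfl⟩, a₂, ha₂, hsum⟩ := Submodule.mem_sup.1 hmem
      refine ⟨Function.update c q (fun r => b.repr ⟨a₂, ha₂⟩ r), a', (hU _).1 a'.2, ?_⟩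
      have h2 : ∑ r, b.repr ⟨a₂, ha₂⟩ r • ((b r : U) : M) = (a₂ : M) := by
        conv_rhs => rw [show a₂ = ((⟨a₂, ha₂⟩ : W) : U) from rfl, ← b.sum_repr ⟨a₂, ha₂⟩]
        simp only [Submodule.coe_sum, Submodule.coe_smul]
      have h3 : w = t • (a' : M) + (a₂ : M) := by
        have := congrArg (fun z : U => (z : M)) hsum
        simpa [hτ] using this.symm
      have h4 : ∑ j ∈ Finset.range q, t ^ j •
          (∑ r, Function.update c q (fun r => b.repr ⟨a₂, ha₂⟩ r) j r • ((b r : U) : M)) =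
          ∑ j ∈ Finset.range q, t ^ j • (∑ r, c j r • ((b r : U) : M)) :=
        Finset.sum_congr rfl fun j hj => by
          rw [Function.update_of_ne (Finset.mem_range.1 hj).ne]
      rw [Finset.sum_range_succ, Function.update_self, h4, h2, e, h3, smul_add, ← mul_smul,
        ← pow_succ]
      abel
  have hexp : ∀ x : M, i • x = x → ∃ c : Fin N → Fin (Module.finrank k W) → k,
      x = ∑ j : Fin N, t ^ (j : ℕ) • (∑ r, c j r • ((b r : U) : M)) := by
    intro x hx
    obtain ⟨c, w, -, e⟩ := hsplit x hx N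
    exact ⟨fun j => c j, by
      rw [e, F.t_pow, zero_smul, add_zero, Finset.sum_range fun j => t ^ j • ∑ r, c j r • _]⟩
  have hinj : ∀ c : Fin N → Fin (Module.finrank k W) → k,
      ∑ j : Fin N, t ^ (j : ℕ) • (∑ r, c j r • ((b r : U) : M)) = 0 → ∀ j r, c j r = 0 := by
    intro c hc
    suffices H : ∀ q, ∀ j : Fin N, (j : ℕ) = q → ∀ r, c j r = 0 from fun j => H _ j rfl
    intro q
    induction q using Nat.strong_induction_on with | _ q ih => ?_
    intro j hj
    subst hj
    have h1 := congrArg (fun z => t ^ (N - 1 - (j : ℕ)) • z) hc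
    rw [Finset.smul_sum, smul_zero] at h1
    have hjN := j.2
    rw [Finset.sum_eq_single j] at h1
    · rw [← mul_smul, ← pow_add,
        show N - 1 - (j : ℕ) + (j : ℕ) = N - 1 by omega] at h1
      obtain ⟨w, hw, e⟩ := hfree _ ((hU _).1 (U.sum_mem fun r _ => U.smul_mem _ (b r : U).2)) h1
      set a₂ : W := ∑ r, c j r • b r with ha₂
      have hmem : (a₂ : U) ∈ LinearMap.range τ := ⟨⟨w, (hU w).2 hw⟩, Subtype.ext (by
        rw [hτ, e, ha₂]; simp)⟩
      have hzero : a₂ = 0 := Subtype.ext (by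
        simpa using (Submodule.disjoint_def.1 hW.disjoint _ hmem a₂.2))
      have := congrArg b.repr hzero
      intro r
      have h4 := congrArg (fun f => f r) this
      simpa [ha₂, map_sum, Finsupp.single_apply] using h4
    · intro j' _ hne
      rcases lt_or_gt_of_ne (Fin.val_ne_of_ne hne) with hlt | hlt
      · rw [Finset.sum_eq_zero fun r _ => by rw [ih _ hlt j' rfl r, zero_smul], smul_zero,
          smul_zero]
      · rw [← mul_smul, ← pow_add,
          show N - 1 - (j : ℕ) + (j' : ℕ) = N + ((j' : ℕ) - j - 1) by omega,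
          pow_add, F.t_pow, zero_mul, zero_smul]
    · simp
  -- the coordinates
  let Φ : (Fin N → Fin (Module.finrank k W) → k) →ₗ[k] U :=
    { toFun := fun c => ⟨∑ j : Fin N, t ^ (j : ℕ) • (∑ r, c j r • ((b r : U) : M)),
        U.sum_mem fun j _ => (hU _).2 (by
          rw [← mul_smul, ← F.pow_comm _ F.i_mem, mul_smul,
            (hU _).1 (U.sum_mem fun r _ => U.smul_mem _ (b r : U).2)])⟩
      map_add' := fun c c' => Subtype.ext (by
        simp [add_smul, Finset.sum_add_distrib, smul_add])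
      map_smul' := fun a c => Subtype.ext (by
        simp only [Pi.smul_apply, smul_eq_mul, mul_smul, ← Finset.smul_sum, RingHom.id_apply,
          Submodule.coe_smul]
        rw [Finset.smul_sum]
        exact Finset.sum_congr rfl fun j _ => smul_comm _ _ _) }
  let e : (Fin N → Fin (Module.finrank k W) → k) ≃ₗ[k] U := LinearEquiv.ofBijective Φ
    ⟨(injective_iff_map_eq_zero _).2 fun c hc => funext fun j => funext fun r =>
        hinj c (congrArg Subtype.val hc) j r,
      fun x => by
        obtain ⟨c, hc⟩ := hexp x ((hU _).1 x.2)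
        exact ⟨c, Subtype.ext hc.symm⟩⟩
  let π : M →ₗ[k] U := (Algebra.lsmul k k M i).codRestrict U fun x => ⟨x, rfl⟩
  let φ : Fin (Module.finrank k W) → M →ₗ[k] R := fun r =>
    ∑ j : Fin N, ((LinearMap.proj r ∘ₗ LinearMap.proj j) ∘ₗ e.symm.toLinearMap ∘ₗ π).smulRight
      (t ^ (j : ℕ) * i)
  have hφ : ∀ r x, φ r x = ∑ j : Fin N, e.symm (π x) j r • (t ^ (j : ℕ) * i) := fun r x => by
    simp [φ, LinearMap.sum_apply]
  refine ⟨_, fun r => ((b r : U) : M), φ, fun r => ⟨fun x => ?_, fun x => ?_, fun x => ?_⟩,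
    fun r x => ?_, fun r => (hU _).1 (b r : U).2, fun x hx => ?_⟩
  · rw [hφ, Finset.smul_sum]
    refine Finset.sum_congr rfl fun j _ => ?_
    rw [smul_eq_mul, mul_smul_comm, ← mul_assoc, ← F.pow_comm _ F.i_mem, mul_assoc, F.idem]
  · rw [hφ, hφ]
    have : π (i • x) = π x := Subtype.ext (by
      show i • i • x = i • x
      rw [← mul_smul, F.idem])
    rw [this]
  · -- `t` shifts the coordinates
    set c := e.symm (π x) with hc
    let c' : Fin N → Fin (Module.finrank k W) → k := fun j =>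
      if h : (j : ℕ) = 0 then 0 else c ⟨(j : ℕ) - 1, by omega⟩
    have hc' : e c' = π (t • x) := by
      have h1 := congrArg Subtype.val (e.apply_symm_apply (π x))
      refine Subtype.ext ?_
      show (Φ c' : M) = i • t • x
      rw [← mul_smul, ← F.t_comm_i, mul_smul]
      have h1' : ∑ j : Fin N, t ^ (j : ℕ) • (∑ r, c j r • ((b r : U) : M)) = i • x := h1
      rw [← h1']
      exact sum_shift F.pos (fun q (v : Fin (Module.finrank k W) → k) => t ^ q • ∑ r, v r • ((b r : U) : M))
        (DistribSMul.toAddMonoidHom M t) (fun q => by simp)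
        (fun q v => by
          show t • t ^ q • (∑ r, v r • ((b r : U) : M)) = _
          rw [← mul_smul, ← pow_succ']) (fun v => by rw [F.t_pow, zero_smul]) c
    have hs : e.symm (π (t • x)) = c' := by rw [← hc', e.symm_apply_apply]
    rw [hφ, hφ, hs, smul_eq_mul]
    exact sum_shift F.pos (fun q (v : Fin (Module.finrank k W) → k) => v r • (t ^ q * i))
      (AddMonoidHom.mulLeft t) (fun q => zero_smul k _)
      (fun q v => by
        show t * (v r • (t ^ q * i)) = _
        rw [mul_smul_comm, ← mul_assoc, ← pow_succ'])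
      (fun v => by rw [F.t_pow, zero_mul, smul_zero]) c
  · rw [hφ]
    exact S.sum_mem fun j _ => S.smul_mem (S.mul_mem (S.pow_mem F.t_mem _) F.i_mem) _
  · simp only [hφ, Finset.sum_smul]
    rw [Finset.sum_comm]
    have h1 : (Φ (e.symm (π x)) : M) = i • x := congrArg Subtype.val (e.apply_symm_apply (π x))
    rw [hx] at h1
    refine Eq.trans (Finset.sum_congr rfl fun j _ => ?_) h1
    rw [Finset.smul_sum]
    refine Finset.sum_congr rfl fun r _ => ?_
    rw [smul_assoc, mul_smul, (hU _).1 (b r : U).2, smul_comm]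

/-- A kernel vector outside `t` gives a weight that is not trivial. -/
theorem exists_weight [IsAlgClosed k] [FiniteDimensional k M] (F : Frame S ε t i N)
    (Y : Twist (k := k) S i y m) {x : M} (hx : i • x = x) (hxN : t ^ (N - 1) • x = 0)
    (hxt : ∀ w, i • w = w → t • w ≠ x) :
    ∃ (a : k) (g : M →ₗ[k] k), IsWt i t y a g ∧ ¬ IsTriv i t N g := by
  classical
  set U : Submodule k M := LinearMap.range (Algebra.lsmul k k M (t * i)) with hU
  have hnot : x ∉ U := fun ⟨w, hw⟩ => hxt (i • w) (by rw [← mul_smul, F.idem]) (by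
    rw [← mul_smul]; exact hw)
  obtain ⟨l, hl1, hl2⟩ := Submodule.exists_dual_map_eq_bot_of_notMem hnot inferInstance
  set l' : M →ₗ[k] k := l ∘ₗ Algebra.lsmul k k M i with hl'
  have hl't : ∀ w, l' (t • w) = 0 := fun w => by
    have h : l (i • t • w) ∈ (⊥ : Submodule k k) := by
      rw [← hl2, ← mul_smul, ← F.t_comm_i]
      exact Submodule.mem_map_of_mem ⟨w, rfl⟩
    exact (Submodule.mem_bot k).1 h
  have hl'x : l' x ≠ 0 := by
    show l (i • x) ≠ 0
    rwa [hx]
  have : NeZero (m : k) := ⟨Y.ne_zero⟩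
  obtain ⟨ω, hω⟩ := HasEnoughRootsOfUnity.exists_primitiveRoot k m
  have hω0 : ω ≠ 0 := hω.ne_zero Y.pos.ne'
  set E : ℕ → M →ₗ[k] k := fun j =>
    ∑ n ∈ Finset.range m, (ω ^ j) ^ n • (l' ∘ₗ Algebra.lsmul k k M (y ^ n)) with hE
  have hsum : ∑ j ∈ Finset.range m, E j = (m : k) • l' := by
    simp only [hE]
    rw [Finset.sum_comm, Finset.sum_eq_single 0]
    · simp only [pow_zero, map_one, one_smul, Finset.sum_const, Finset.card_range,
        Nat.cast_smul_eq_nsmul]
      rfl
    · intro n hn hn0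
      rw [← Finset.sum_smul]
      simp only [← pow_mul, mul_comm _ n]
      simp only [pow_mul]
      rw [BlockThms.OrderP.geom_eq_zero hω (Nat.pos_of_ne_zero hn0) (Finset.mem_range.1 hn),
        zero_smul]
    · intro h; exact absurd (Finset.mem_range.2 Y.pos) h
  obtain ⟨j, -, hj⟩ : ∃ j ∈ Finset.range m, E j x ≠ 0 := by
    by_contra h
    push Not at h
    have := LinearMap.congr_fun hsum x
    rw [LinearMap.sum_apply, Finset.sum_eq_zero h, LinearMap.smul_apply, smul_eq_mul] at this
    exact hl'x ((mul_eq_zero.1 this.symm).resolve_left Y.ne_zero)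
  refine ⟨(ω ^ j)⁻¹, E j, ⟨fun w => ?_, fun w => ?_, fun w => ?_⟩, fun h => hj (h x hx hxN)⟩
  · simp only [hE, LinearMap.sum_apply, LinearMap.smul_apply, LinearMap.comp_apply,
      Algebra.lsmul_coe]
    refine Finset.sum_congr rfl fun n _ => ?_
    congr 1
    rw [← mul_smul, Y.pow_comm_i, mul_smul]
    show l (i • i • y ^ n • w) = l (i • y ^ n • w)
    rw [← mul_smul i i, F.idem]
  · simp only [hE, LinearMap.sum_apply, LinearMap.smul_apply, LinearMap.comp_apply,
      Algebra.lsmul_coe]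
    refine Finset.sum_eq_zero fun n _ => ?_
    obtain ⟨b, -, hb⟩ := Y.conj_t F n
    have h1 : l' (y ^ n • t • w) = l' ((y ^ n * t * i) • w) := by
      show l (i • y ^ n • t • w) = l (i • (y ^ n * t * i) • w)
      simp only [← mul_smul]
      congr 2
      have e0 : i * (y ^ n * t * i) = y ^ n * t * i := by
        rw [← mul_assoc, ← mul_assoc, ← Y.pow_comm_i, mul_assoc (y ^ n) i t, ← F.t_comm_i,
          ← mul_assoc (y ^ n) t i, mul_assoc (y ^ n * t) i i, F.idem]
      rw [e0, ← mul_assoc, ← Y.pow_comm_i, mul_assoc (y ^ n) i t, ← F.t_comm_i, ← mul_assoc]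
    rw [h1, hb, mul_smul, mul_smul t, hl't, smul_zero]
  · simp only [hE, LinearMap.sum_apply, LinearMap.smul_apply, LinearMap.comp_apply,
      Algebra.lsmul_coe, smul_eq_mul, Finset.mul_sum]
    set f : ℕ → k := fun n => (ω ^ j)⁻¹ * ((ω ^ j) ^ n * l' (y ^ n • w)) with hf
    have h1 : ∀ n, (ω ^ j) ^ n * l' (y ^ n • y • w) = f (n + 1) := fun n => by
      simp only [hf]
      rw [← mul_smul, ← pow_succ, pow_succ' (ω ^ j), mul_assoc,
        inv_mul_cancel_left₀ (pow_ne_zero _ hω0)]
    have h2 : f m = f 0 := by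
      have : (ω ^ j) ^ m = 1 := by rw [← pow_mul, mul_comm, pow_mul, hω.pow_eq_one, one_pow]
      simp [hf, Y.pow, this]
    rw [Finset.sum_congr rfl fun n _ => h1 n]
    have h3 := (Finset.sum_range_succ' f m).symm.trans (Finset.sum_range_succ f m)
    rw [h2] at h3
    exact add_right_cancel h3

end Frame

end Cfsg.Agent.BlockChar.Cyclic
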