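import Cfsg.Agent.BlockChar.Cyclic.OrdConseq

/-!
# Dade's theorem, packaged
-/

set_option autoImplicit false

namespace Cfsg.Agent.BlockChar.Cyclic

open Cfsg.Agent Cfsg.Agent.Blocks Cfsg.Agent.BrauerPairs Cfsg.Agent.BlockChar
open Cfsg.Agent.Blocks.Star
open scoped ComplexConjugate

universe u

variable {G : Type u} [Group G] [Fintype G] {p : ℕ} {M : Ideal Cfsg.AlgInt} [Fact p.Prime]

local notation "CG[" Q "]" => Subgroup.centralizer (SetLike.coe Q)

/-- Two forms of the stabilizer of a block of the centralizer. -/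
theorem stab_iff {D : Subgroup G} (b : Set (Cfsg.IrrCharacter CG[D])) {g : G}
    (hgN : g ∈ Subgroup.normalizer (D : Set G)) :
    Cfsg.StabilizesBlock CG[D] b g ↔ ∀ θ ∈ b, ∀ θ' : Cfsg.IrrCharacter CG[D],
      (∀ h h' : CG[D], (h' : G) = g * h * g⁻¹ →
        (θ' : CG[D] → ℂ) h' = (θ : CG[D] → ℂ) h) → θ' ∈ b := by
  have h := mem_centralizer_iff_of_mem_normalizer hgN
  obtain ⟨φ, hφ⟩ : ∃ φ, φ = BlockChar.conjIso CG[D] CG[D] g h := ⟨_, rfl⟩
  have hφval : ∀ k k' : CG[D], (k' : G) = g * (k : G) * g⁻¹ → φ k = k' := fun k k' hk => by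
    subst hφ
    exact Subtype.ext hk.symm
  constructor
  · rintro ⟨-, hst⟩ θ hθ θ' hθ'
    obtain ⟨χ', hχ', hc⟩ := hst θ hθ
    have : θ' = χ' := Subtype.ext (funext fun k' => by
      have hk : (k' : G) = g * ((φ.symm k' : CG[D]) : G) * g⁻¹ := by
        conv_lhs => rw [← MulEquiv.apply_symm_apply φ k']
        rw [hφ]
        rfl
      exact (hθ' _ k' hk).trans (hc _ k' hk).symm)
    exact this ▸ hχ'
  · intro hst
    refine ⟨Subgroup.mem_normalizer_iff.2 h, fun χ hχ => ?_⟩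
    have hc : ∀ k k' : CG[D], (k' : G) = g * (k : G) * g⁻¹ →
        (compIrr φ.symm χ : _ → ℂ) k' = (χ : _ → ℂ) k := fun k k' hk => by
      rw [compIrr_apply, ← hφval k k' hk, MulEquiv.symm_apply_apply]
    exact ⟨_, hst χ hχ _ hc, hc⟩

variable {B : Set (Cfsg.IrrCharacter G)} {D : Subgroup G} {c : Set (Cfsg.IrrCharacter CG[D])}
  {T : Subgroup G}
variable (hM : Cfsg.IsPModular p M) (hmax : Cfsg.IsMaximalBrauerPair p M B D c) (hcyc : IsCyclic D)
  (hT : ∀ g : G, g ∈ T ↔ g ∈ Subgroup.normalizer (D : Set G) ∧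
    Cfsg.StabilizesBlock CG[D] c g)
include hM hmax hcyc hT

/-- Dade's theorem. -/
theorem dade (hD1 : D ≠ ⊥) :
    ∃ (X Y : Set (Cfsg.IrrCharacter G)) (v : Cfsg.IrrCharacter G → ℤ) (ε : ℤ),
      B = X ∪ Y ∧ Disjoint X Y ∧ Nat.card X = (CG[D]).relIndex T ∧
      (CG[D]).relIndex T * Nat.card Y = Nat.card D - 1 ∧
      (∀ χ ∈ B, Cfsg.blockHeight p B (χ : G → ℂ) = 0) ∧
      (∀ χ ∈ X, v χ = 1 ∨ v χ = -1) ∧ (ε = 1 ∨ ε = -1) ∧
      (∀ ψ ∈ Y, ∀ g : G, ¬ p ∣ orderOf g →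
        (ε : ℂ) * (ψ : G → ℂ) g + ∑ᶠ χ ∈ X, (v χ : ℂ) * (χ : G → ℂ) g = 0) ∧
      (∀ χ ∈ X, ∀ χ' ∈ X, v χ * (Cfsg.charDegree (χ : G → ℂ) : ℤ) ≡
        v χ' * (Cfsg.charDegree (χ' : G → ℂ) : ℤ) [ZMOD (Nat.card D : ℤ)]) ∧
      (∀ ψ ∈ Y, ∀ χ ∈ X, (Cfsg.charDegree (ψ : G → ℂ) : ℤ) ≡
        -(((CG[D]).relIndex T : ℤ) * ε * v χ * (Cfsg.charDegree (χ : G → ℂ) : ℤ))
          [ZMOD (Nat.card D : ℤ)]) := by
  classical
  obtain ⟨Q, θ', ex, β, -, -, hex, -, hN, hβ, hsect, hinv⟩ := exists_coords hM hmax hcyc hT hD1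
  obtain ⟨X, Y, v, ε, y, -, -, hd⟩ :=
    exists_tree_data hM hmax hcyc hT hex hN hsect hβ hinv hD1
  refine ⟨X, Y, v, ε, hd.union, hd.disjoint, hd.card_X, hd.card_Y,
    fun χ hχ => height_zero hM hmax hcyc hT hex hN hsect hβ hD1 hd hχ,
    hd.sign_X, hd.sign, hd.relation, fun χ hχ χ' hχ' => ?_, fun ψ hψ χ hχ => ?_⟩
  · by_cases hne : χ = χ'
    · subst hne; exact Int.ModEq.refl _
    have h := dvd_degree_of_ev hM hmax hex hsect {χ, χ'}
      (fun w hw => by
        rw [hd.union]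
        simp only [Finset.mem_insert, Finset.mem_singleton] at hw
        rcases hw with rfl | rfl <;> exact Or.inl ‹_›)
      (fun w => if w = χ then v χ else -v χ') fun x hx => by
        rw [Finset.sum_pair hne, if_pos rfl, if_neg (Ne.symm hne), hd.ev_X χ hχ x hx,
          hd.ev_X χ' hχ' x hx]
        rcases hd.sign_X χ hχ with a | a <;> rcases hd.sign_X χ' hχ' with b | b <;> simp [a, b]
    rw [Finset.sum_pair hne, if_pos rfl, if_neg (Ne.symm hne)] at h
    exact (Int.modEq_iff_dvd.2 (by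
      convert h using 1
      ring)).symm
  · obtain ⟨e, he⟩ : ∃ e, e = (CG[D]).relIndex T := ⟨_, rfl⟩
    rw [← he]
    have hcard := hd.card_Y
    rw [← he] at hcard
    have hXY : χ ∉ Y := fun h => Set.disjoint_left.1 hd.disjoint hχ h
    let Yf := (Set.toFinite Y).toFinset
    have h := dvd_degree_of_ev hM hmax hex hsect (insert χ Yf)
      (fun w hw => by
        rw [hd.union]
        rcases Finset.mem_insert.1 hw with rfl | hw
        · exact Or.inl hχ
        · exact Or.inr ((Set.Finite.mem_toFinset _).1 hw))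
      (fun w => if w = χ then -v χ else ε) fun x hx => by
        rw [Finset.sum_insert (by simp [Yf, hXY]), if_pos rfl,
          Finset.sum_congr rfl (g := fun w => (ε : ℂ) * ev (β w) x) fun w hw => by
            rw [if_neg fun e : w = χ => hXY (e ▸ (Set.Finite.mem_toFinset _).1 hw)],
          ← Finset.mul_sum, ← finsum_mem_eq_finite_toFinset_sum, hd.ev_sum_Y x hx,
          hd.ev_X χ hχ x hx]
        rcases hd.sign_X χ hχ with a | a <;> rcases hd.sign with b | b <;> simp [a, b]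
    have hdeg : ∀ w ∈ Yf, (if w = χ then -v χ else ε) * (Cfsg.charDegree (w : G → ℂ) : ℤ) =
        ε * (Cfsg.charDegree (ψ : G → ℂ) : ℤ) := fun w hw => by
      have hwY := (Set.Finite.mem_toFinset _).1 hw
      rw [if_neg fun e : w = χ => hXY (e ▸ hwY)]
      have h1 := hd.relation w hwY 1 (by simp [hM.1.ne_one])
      have h2 := hd.relation ψ hψ 1 (by simp [hM.1.ne_one])
      have h3 := h1.trans h2.symm
      rw [add_left_inj] at h3
      obtain ⟨n, -, hn⟩ := Char.IsIrr.degree w.2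
      obtain ⟨n', -, hn'⟩ := Char.IsIrr.degree ψ.2
      rw [hn, hn'] at h3
      rw [Blocks.charDegree_eq hn, Blocks.charDegree_eq hn']
      exact_mod_cast h3
    rw [Finset.sum_insert (by simp [Yf, hXY]), if_pos rfl, Finset.sum_congr rfl hdeg,
      Finset.sum_const, nsmul_eq_mul] at h
    have hYf : (Yf.card : ℤ) = (Nat.card Y : ℤ) := by
      rw [Nat.card_coe_set_eq, Set.ncard_eq_toFinset_card _ (Set.toFinite Y)]
    rw [hYf] at h
    obtain ⟨k, hk⟩ := h
    have hc : (e : ℤ) * (Nat.card Y : ℤ) = (Nat.card D : ℤ) - 1 := by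
      have h1 : 1 ≤ Nat.card D := Nat.card_pos
      rw [← Nat.cast_mul, hcard, Nat.cast_sub h1, Nat.cast_one]
    have hεε : ε * ε = 1 := by rcases hd.sign with h | h <;> simp [h]
    refine Int.modEq_iff_dvd.2 ⟨(e : ℤ) * ε * k - (Cfsg.charDegree (ψ : G → ℂ) : ℤ), ?_⟩
    have h4 := congrArg (fun z : ℤ => (e : ℤ) * ε * z) hk
    linear_combination h4 - (ε * ε * (Cfsg.charDegree (ψ : G → ℂ) : ℤ)) * hc
      - ((Nat.card D : ℤ) - 1) * (Cfsg.charDegree (ψ : G → ℂ) : ℤ) * hεε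

end Cfsg.Agent.BlockChar.Cyclic
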