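import Cfsg.Agent.BlockChar.Cyclic.IsoData
import Cfsg.Agent.BlockChar.Cyclic.OrdStatement
import Cfsg.Agent.BrauerPairs.FirstMain
import Cfsg.Agent.BlockChar.KleinFour
import Cfsg.Agent.BlockThms.Eta
import Cfsg.Agent.Blocks.SecondMain

/-!
# A block with cyclic defect group and its correspondent
-/

set_option autoImplicit false

namespace Cfsg.Agent.BlockChar.Cyclic

open Cfsg.Agent Cfsg.Agent.Blocks Cfsg.Agent.BrauerPairs Cfsg.Agent.BlockChar

universe u

variable {G : Type u} [Group G] [Finite G] {p : ℕ} {M : Ideal Cfsg.AlgInt} [Fact p.Prime]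

local notation "CG[" Q "]" => Subgroup.centralizer (SetLike.coe Q)

/-- Induction of blocks is transitive, from a centralizer through a subgroup containing it. -/
theorem isInducedBlock_upBlock (hM : Cfsg.IsPModular p M) {H P : Subgroup G} (hPH : P ≤ H)
    (hCP : CG[P] ≤ H) {e : Set (Cfsg.IrrCharacter CG[P])} {c : Set (Cfsg.IrrCharacter H)}
    {B : Set (Cfsg.IrrCharacter G)} (he : Cfsg.IsPBlock M e)
    (h1 : Cfsg.IsInducedBlock M CG[P.subgroupOf H] (resBlock hPH hCP e) c)
    (h2 : Cfsg.IsInducedBlock M H c B) : Cfsg.IsInducedBlock M CG[P] e B := by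
  classical
  letI := Fintype.ofFinite G
  letI := Fintype.ofFinite H
  letI := Fintype.ofFinite CG[P]
  letI := Fintype.ofFinite CG[P.subgroupOf H]
  refine ⟨he, h2.2.1, fun ξ hξ χ hχ g => ?_⟩
  obtain ⟨χ', hχ'⟩ := IsPBlock.nonempty hM h1.2.1
  have hξ' : compIrr (centIso hPH hCP) ξ ∈ resBlock hPH hCP e := by
    show compIrr (centIso hPH hCP).symm (compIrr (centIso hPH hCP) ξ) ∈ e
    rw [show compIrr (centIso hPH hCP).symm (compIrr (centIso hPH hCP) ξ) = ξ from
      (compIrrEquiv (centIso hPH hCP)).symm_apply_apply ξ]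
    exact hξ
  have e1 := BlockThms.memLocalIdeal_omega_res_sub hM CG[P.subgroupOf H]
    (ξ := (compIrr (centIso hPH hCP) ξ : CG[P.subgroupOf H] → ℂ))
    (χ := (χ' : H → ℂ)) (f := fun a : H => classInd g (a : G))
    (Char.isClassFunction_of_isIrr χ'.2) (isClassFunction_classInd_comp H.subtype g)
    (fun a => by
      show Cfsg.MemLocalRing M (classInd g (a : G))
      rw [classInd_apply]; split_ifs
      · exact (localRing hM).one_mem
      · exact (localRing hM).zero_mem)
    (h1.2.2 _ hξ' χ' hχ')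
  have e2 := h2.2.2 χ' hχ' χ hχ g
  rw [inducedCentralChar_eq_omega] at e2
  have e3 : omega (compIrr (centIso hPH hCP) ξ : CG[P.subgroupOf H] → ℂ)
      (fun a : CG[P.subgroupOf H] => classInd g ((a : H) : G)) =
      Cfsg.inducedCentralChar CG[P] (ξ : CG[P] → ℂ) g := by
    rw [inducedCentralChar_eq_omega, omega, omega]
    congr 1
    exact Fintype.sum_equiv (centIso hPH hCP).toEquiv _ _ fun a => rfl
  rw [e3] at e1
  simpa using memLocalIdeal_add hM e1 e2

/-- Blocks with corresponding maximal pairs, seen in a subgroup containing the normalizer of the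
defect group, are perfectly isometric. -/
theorem isometry_of_pairs (hM : Cfsg.IsPModular p M) {B : Set (Cfsg.IrrCharacter G)} {P : Subgroup G}
    (hP1 : P ≠ ⊥) (hcyc : IsCyclic P) {H : Subgroup G}
    (hH : Subgroup.normalizer (P : Set G) ≤ H) (hPH : P ≤ H) (hCP : CG[P] ≤ H)
    {e : Set (Cfsg.IrrCharacter CG[P])} {c : Set (Cfsg.IrrCharacter H)}
    (hmax : Cfsg.IsMaximalBrauerPair p M B P e)
    (hmax' : Cfsg.IsMaximalBrauerPair p M c (P.subgroupOf H) (resBlock hPH hCP e)) :
    Cfsg.blockRank p c = Cfsg.blockRank p B ∧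
      ∃ (I : Cfsg.IrrCharacter H → Cfsg.IrrCharacter G) (σ : Cfsg.IrrCharacter H → ℤ),
        Cfsg.IsPerfectIsometry p M c B I σ := by
  classical
  letI := Fintype.ofFinite G
  letI := Fintype.ofFinite H
  have : M.IsMaximal := hM.2.1
  have he := hmax.1.1.2
  have hT := mem_pairStab (p := p) hM hmax.1.1.2
  have hT' := mem_pairStab (p := p) hM hmax'.1.1.2
  obtain ⟨T, hTdef⟩ : ∃ T, T = pairStab (⟨P, e⟩ : Cfsg.BrauerPairIdx G) := ⟨_, rfl⟩
  obtain ⟨T', hT'def⟩ : ∃ T', T' = pairStab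
      (⟨P.subgroupOf H, resBlock hPH hCP e⟩ : Cfsg.BrauerPairIdx H) := ⟨_, rfl⟩
  rw [← hTdef] at hT
  rw [← hT'def] at hT'
  have hcyc' : IsCyclic (P.subgroupOf H) := (Subgroup.subgroupOfEquivOfLe hPH).isCyclic.2 hcyc
  have hP1' : P.subgroupOf H ≠ ⊥ := fun h => hP1 (Subgroup.card_eq_one.1 (by
    rw [← Nat.card_congr (Subgroup.subgroupOfEquivOfLe hPH).toEquiv, h, Subgroup.card_bot]))
  -- the two inertial indices agree
  have hTeq : T' = T.subgroupOf H := by
    ext g
    refine ⟨fun hg => ?_, fun hg => ?_⟩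
    · obtain ⟨h1, h2⟩ := (hT' g).1 hg
      exact (hT _).2 (stab_of_local_stab hM he hPH hCP h1 h2)
    · obtain ⟨h1, h2⟩ := (hT _).1 (Subgroup.mem_subgroupOf.1 hg)
      have hn : g ∈ Subgroup.normalizer ((P.subgroupOf H : Subgroup H) : Set H) :=
        Subgroup.mem_normalizer_iff.2 fun r => by
          simp only [Subgroup.mem_subgroupOf, Subgroup.coe_mul, Subgroup.coe_inv]
          exact Subgroup.mem_normalizer_iff.1 h1 (r : G)
      refine (hT' g).2 ((conjPair_eq_iff hM hmax'.1.1.2 g).1 (idx_ext (map_conj_eq hn) fun x => ?_))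
      have hfix := (conjPair_eq_iff hM he (g : G)).2 ⟨h1, h2⟩
      have h3 := sbc_conjPair (g : G) (⟨P, e⟩ : Cfsg.BrauerPairIdx G) (x : G)
      rw [hfix] at h3
      rw [sbc_conjPair]
      show Cfsg.subgroupBlockCoeff _ (resBlock hPH hCP e) (g⁻¹ * x * g) =
        Cfsg.subgroupBlockCoeff _ (resBlock hPH hCP e) x
      rw [sbc_resBlock, sbc_resBlock]
      simpa using h3.symm
  have hTH : T ≤ H := fun g hg => hH ((hT g).1 hg).1
  have hidx : (Subgroup.centralizer ((P.subgroupOf H : Subgroup H) : Set H)).relIndex T' =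
      (CG[P]).relIndex T := by
    have hC : Subgroup.centralizer ((P.subgroupOf H : Subgroup H) : Set H) =
        (CG[P]).subgroupOf H := by
      ext a
      simp only [Subgroup.mem_subgroupOf, Subgroup.mem_centralizer_iff]
      exact ⟨fun h b hb => congrArg Subtype.val (h ⟨b, hPH hb⟩ hb),
        fun h b hb => Subtype.ext (h b hb)⟩
    rw [hC, hTeq, Subgroup.relIndex_subgroupOf hTH]
  refine ⟨(blockRank_eq_relIndex hM hmax' hcyc' hT').trans
    (hidx.trans (blockRank_eq_relIndex hM hmax hcyc hT).symm), ?_⟩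
  obtain ⟨d⟩ := nonempty_isoData hM hmax hcyc hT hP1
  have h' := nonempty_isoData hM hmax' hcyc' hT' hP1'
  rw [hidx] at h'
  obtain ⟨d'⟩ := h'
  obtain ⟨k, hk⟩ := hmax.1.1.1.exists_card_eq
  have hφ := exists_inertial_match hM.1 hcyc hk d.pos (relIndex_dvd hM hmax hcyc hT hP1)
    (Subgroup.subgroupOfEquivOfLe hPH) d.α d.orderOf_α d'.α
    (orderOf_dvd_iff_pow_eq_one.1 d'.orderOf_α.dvd)
  obtain ⟨I, σ, hiso, -, -⟩ := perfect_isometry d d' hM (Subgroup.subgroupOfEquivOfLe hPH)
    (comm_of_cyclic hcyc') hφ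
  exact ⟨I, σ, hiso⟩

/-- A block with cyclic defect group and its correspondent in a subgroup containing the normalizer
of the defect group are perfectly isometric. -/
theorem correspondent (hM : Cfsg.IsPModular p M) {B : Set (Cfsg.IrrCharacter G)} {P : Subgroup G}
    (hPD : Cfsg.IsDefectGroup p M B P) (hP1 : P ≠ ⊥) (hcyc : IsCyclic P) {H : Subgroup G}
    (hH : Subgroup.normalizer (P : Set G) ≤ H) {c : Set (Cfsg.IrrCharacter H)}
    (hcD : Cfsg.IsDefectGroup p M c (P.subgroupOf H)) (hc : Cfsg.IsInducedBlock M H c B) :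
    Cfsg.blockRank p c = Cfsg.blockRank p B ∧
      ∃ (I : Cfsg.IrrCharacter H → Cfsg.IrrCharacter G) (σ : Cfsg.IrrCharacter H → ℤ),
        Cfsg.IsPerfectIsometry p M c B I σ := by
  classical
  letI := Fintype.ofFinite G
  letI := Fintype.ofFinite H
  have : M.IsMaximal := hM.2.1
  have hPH : P ≤ H := Subgroup.le_normalizer.trans hH
  have hCP : CG[P] ≤ H := (Subgroup.centralizer_le_normalizer _).trans hH
  obtain ⟨e', hmax'⟩ := exists_maximal_on hM hc.1 hcD
  obtain ⟨e, rfl⟩ : ∃ e, resBlock hPH hCP e = e' :=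
    ⟨upBlock hPH hCP e', resBlock_upBlock hPH hCP e'⟩
  have he : Cfsg.IsPBlock M e := by
    have := isPBlock_upBlock (M := M) hPH hCP hmax'.1.1.2
    rwa [upBlock_resBlock] at this
  have hind := isInducedBlock_upBlock hM hPH hCP he (isInducedBlock_of_pair hM hmax'.1) hc
  have hmax := maximal_of_isInducedBlock hM hPD hind
  exact isometry_of_pairs hM hP1 hcyc hH hPH hCP hmax hmax'

end Cfsg.Agent.BlockChar.Cyclic
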