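import Cfsg.Agent.BlockChar.Cyclic.IsoData
import Cfsg.Agent.BlockChar.Cyclic.OrdStatement
import Cfsg.Agent.BrauerPairs.FirstMain
import Cfsg.Agent.BlockThms.FirstMain

/-!
# Blocks with a defect group of order `p`: the degrees modulo `p`
-/

set_option autoImplicit false

namespace Cfsg.Agent.BlockChar.Cyclic

open Cfsg.Agent Cfsg.Agent.Blocks Cfsg.Agent.BrauerPairs Cfsg.Agent.BlockChar
open Cfsg.Agent.Blocks.Star
open scoped ComplexConjugate

universe u

variable {p : ℕ} {M : Ideal Cfsg.AlgInt} [Fact p.Prime]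

/-- A block whose defect group of order `p` is central: `p` characters agreeing on the regular
elements. -/
theorem central_block {C : Type u} [Group C] [Finite C] (hM : Cfsg.IsPModular p M)
    {b : Set (Cfsg.IrrCharacter C)} (hb : Cfsg.IsPBlock M b) {D : Subgroup C}
    (hD : Cfsg.IsDefectGroup p M b D) (hcard : Nat.card D = p)
    (hcen : ∀ a : C, a ∈ Subgroup.centralizer (D : Set C)) :
    Nat.card b = p ∧ Cfsg.blockDefect p b = 1 ∧
      ∀ η ∈ b, ∀ η' ∈ b, ∀ a : C, ¬ p ∣ orderOf a → (η : C → ℂ) a = (η' : C → ℂ) a := by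
  classical
  letI := Fintype.ofFinite C
  have : M.IsMaximal := hM.2.1
  have hp := hM.1
  have hd1 : Cfsg.blockDefect p b = 1 := by
    have h := BlockChar.card_defectGroup hM hb hD
    rw [hcard] at h
    exact (Nat.pow_eq_self_iff hp.one_lt).1 h.symm
  obtain ⟨c, hmax⟩ := exists_maximal_on hM hb hD
  have hT := mem_pairStab (p := p) hM hmax.1.1.2
  have hD1 : D ≠ ⊥ := fun h => by rw [h, Subgroup.card_bot] at hcard; exact hp.ne_one hcard.symm
  have hcyc : IsCyclic D := isCyclic_of_prime_card hcard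
  have he : (Subgroup.centralizer (D : Set C)).relIndex
      (pairStab (⟨D, c⟩ : Cfsg.BrauerPairIdx C)) = 1 :=
    Subgroup.relIndex_eq_one.2 fun a _ => hcen a
  have hd := nonempty_isoData hM hmax hcyc hT hD1
  rw [he] at hd
  obtain ⟨d⟩ := hd
  have hY : Nat.card d.Y = p - 1 := by
    have := d.card_Y; rwa [one_mul, hcard] at this
  refine ⟨?_, hd1, ?_⟩
  · have h1 : (d.X ∪ d.Y).ncard = Nat.card b := by
      rw [Nat.card_coe_set_eq]; exact (congrArg Set.ncard d.union).symm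
    rw [← h1, Set.ncard_union_eq d.disjoint (Set.toFinite _) (Set.toFinite _),
      ← Nat.card_coe_set_eq, ← Nat.card_coe_set_eq, d.card_X, hY]
    have := hp.two_le
    omega
  obtain ⟨χ₀, hχ₀⟩ := Set.ncard_eq_one.1 (by rw [← Nat.card_coe_set_eq]; exact d.card_X)
  have hsgn := d.sgn_eq_neg_eps hp rfl (by rw [hcard]; exact hp.one_lt) (χ := χ₀) (by rw [hχ₀]; rfl)
  have key : ∀ η ∈ b, ∀ a : C, ¬ p ∣ orderOf a → (η : C → ℂ) a = (χ₀ : C → ℂ) a := by
    intro η hη a ha
    rw [d.union] at hη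
    rcases hη with hη | hη
    · rw [hχ₀] at hη; rw [Set.mem_singleton_iff.1 hη]
    · have h := d.relation η hη a ha
      rw [hχ₀, finsum_mem_singleton, hsgn, Int.cast_neg, neg_mul, ← sub_eq_add_neg, sub_eq_zero] at h
      exact mul_left_cancel₀ (Int.cast_ne_zero.2 (by rcases d.sign with s | s <;> omega)) h
  exact fun η hη η' hη' a ha => (key η hη a ha).trans (key η' hη' a ha).symm

variable {G : Type u} [Group G] [Fintype G]

local notation "CG[" Q "]" => Subgroup.centralizer (SetLike.coe Q)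
local notation "sbc" => Cfsg.subgroupBlockCoeff

variable {B : Set (Cfsg.IrrCharacter G)} {x : G}
  {c : Set (Cfsg.IrrCharacter CG[Subgroup.zpowers x])} {T : Subgroup G}

open scoped Classical in
/-- The degree modulo `p` of a non-exceptional character. -/
theorem degree_congr_X (hM : Cfsg.IsPModular p M) (hx : orderOf x = p)
    (hmax : Cfsg.IsMaximalBrauerPair p M B (Subgroup.zpowers x) c)
    (hT : ∀ g : G, g ∈ T ↔ g ∈ Subgroup.normalizer (Subgroup.zpowers x : Set G) ∧
      Cfsg.StabilizesBlock CG[Subgroup.zpowers x] c g)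
    {Q : Subgroup G} {θ' : Cfsg.IrrCharacter CG[Q]} {ex : Subgroup.zpowers x → G → ℂ}
    {β : Cfsg.IrrCharacter G → Cfsg.IrrCharacter (Subgroup.zpowers x) → ℤ}
    (hex : ∀ a : Subgroup.zpowers x, Below p M (Subgroup.zpowers x) c (a : G) (ex a))
    (hN : ∀ a : Subgroup.zpowers x, (a : G) ≠ 1 → (Nat.card (Subgroup.zpowers x) : ℂ) /
        (Nat.card CG[Subgroup.zpowers (a : G)] : ℂ) *
      (∑ y ∈ regC p (a : G),
        sect (Cfsg.extendByZero CG[Q] (θ' : CG[Q] → ℂ)) (a : G) (ex a) y *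
          conj (sect (Cfsg.extendByZero CG[Q] (θ' : CG[Q] → ℂ)) (a : G) (ex a) y)) = 1)
    (hsect : ∀ χ : Cfsg.IrrCharacter G, ∀ a : Subgroup.zpowers x, (a : G) ≠ 1 → ∀ y ∈ regC p (a : G),
      sect (χ : G → ℂ) (a : G) (ex a) y = ev (β χ) a *
        sect (Cfsg.extendByZero CG[Q] (θ' : CG[Q] → ℂ)) (a : G) (ex a) y)
    {χ : Cfsg.IrrCharacter G} (hχ : χ ∈ B) {v : ℤ} (hv : v = 1 ∨ v = -1)
    (hev : ∀ a : Subgroup.zpowers x, (a : G) ≠ 1 → ev (β χ) a = -(v : ℂ))
    (hcp : Nat.card c = p) (hcd : Cfsg.blockDefect p c = 1)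
    {θ : Cfsg.IrrCharacter CG[Subgroup.zpowers x]} (hθ : θ ∈ c)
    (hall : ∀ η ∈ c, ∀ a : CG[Subgroup.zpowers x], ¬ p ∣ orderOf a →
      (η : CG[Subgroup.zpowers x] → ℂ) a = (θ : CG[Subgroup.zpowers x] → ℂ) a) :
    ∃ s : ℤ, (s = 1 ∨ s = -1) ∧ (Cfsg.charDegree (χ : G → ℂ) : ℤ) ≡
      s * (((T.relIndex (Subgroup.normalizer (Subgroup.zpowers x : Set G))) *
        Cfsg.charDegree (θ : CG[Subgroup.zpowers x] → ℂ) : ℕ) : ℤ) [ZMOD p] := by
  have : M.IsMaximal := hM.2.1
  have hp := hM.1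
  letI := Fintype.ofFinite CG[Subgroup.zpowers x]
  have hcP : Cfsg.IsPBlock M c := hmax.1.1.2
  have hxk : ∃ k, orderOf x = p ^ k := ⟨1, by rw [pow_one, hx]⟩
  have hH := mem_zpowers_centralizer' (G := G) x
  have hcyc : IsCyclic (Subgroup.zpowers x) := inferInstance
  have hx1 : x ≠ 1 := fun h => hp.ne_one (by rw [← hx, h, orderOf_one])
  obtain ⟨n₁, hn₁pos, hn₁⟩ := Char.IsIrr.degree θ.2
  rw [Blocks.charDegree_eq hn₁]
  let e₀ : G → ℂ := sbc CG[Subgroup.zpowers x] c
  let r : Cfsg.IrrCharacter CG[Subgroup.zpowers x] → ℕ := fun η => Blocks.resMult χ η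
  let lam : Cfsg.IrrCharacter CG[Subgroup.zpowers x] → ℂ := fun η => shiftScalar hH η
  let cf := (Set.toFinite c).toFinset
  obtain ⟨R, hR⟩ : ∃ R : ℤ, R = ∑ η ∈ cf, (r η : ℤ) := ⟨_, rfl⟩
  have hlam : ∀ η, IsIntegral ℤ (lam η) ∧ Cfsg.MemLocalIdeal M (lam η - 1) := fun η =>
    shiftScalar_congr hH hM η hxk
  have hlamR : ∀ η, Cfsg.MemLocalRing M (lam η) := fun η => memLocalRing_of_isIntegral hM (hlam η).1
  have hlami : ∀ η (i : ℕ), Cfsg.MemLocalIdeal M (lam η ^ i - 1) := by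
    intro η i
    induction i with
    | zero => rw [pow_zero, sub_self]; exact memLocalIdeal_zero hM
    | succ i ih =>
      rw [show lam η ^ (i + 1) - 1 = (lam η ^ i - 1) * lam η + (lam η - 1) by rw [pow_succ]; ring]
      exact memLocalIdeal_add hM (memLocalIdeal_mul_right hM ih (hlamR η)) (hlam η).2
  -- the coefficient at `x`
  obtain ⟨A, hA⟩ : ∃ A, A = ∑ η ∈ cf, lam η * (r η : ℂ) := ⟨_, rfl⟩
  have hsA : ∀ y ∈ regC p x, ∀ hy : y ∈ CG[Subgroup.zpowers x],
      sect (χ : G → ℂ) x e₀ y = A * (θ : CG[Subgroup.zpowers x] → ℂ) ⟨y, hy⟩ := by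
    intro y hy hyC
    refine (sect_eq_sum χ c ⟨y, hyC⟩).trans ?_
    rw [hA, Finset.sum_mul]
    refine Finset.sum_congr rfl fun η hη => ?_
    rw [shiftCoef_eq hH, hall η ((Set.Finite.mem_toFinset _).1 hη) _
      (by rw [Subgroup.orderOf_mk]; exact (mem_zpowers_centralizer_of_regC hy).2)]
  -- the norm of `θ` on the regular elements
  have hnorm : (p : ℂ) * ∑ a : CG[Subgroup.zpowers x], (if p ∣ orderOf a then 0 else
      (θ : CG[Subgroup.zpowers x] → ℂ) a * conj ((θ : CG[Subgroup.zpowers x] → ℂ) a)) =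
      (Nat.card CG[Subgroup.zpowers x] : ℂ) := by
    have hreg : ∀ ψ ∈ c, regM p c θ ψ = regM p c θ θ := by
      intro ψ hψ
      simp only [regM, regSum]
      refine congrArg _ (Finset.sum_congr rfl fun a _ => ?_)
      split_ifs with ha
      · rw [hall ψ hψ a ha]
      · rfl
    have hθ0 : (θ : CG[Subgroup.zpowers x] → ℂ) 1 ≠ 0 := Char.IsIrr.one_ne_zero θ.2
    have h := sum_regM_mul hM hcP hθ (1 : CG[Subgroup.zpowers x])
    rw [if_pos (by simp [Cfsg.IsPRegular, hp.ne_one]), hcd, pow_one, ← Finset.sum_filter,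
      show Finset.univ.filter (fun ψ => ψ ∈ c) = cf by ext; simp [cf],
      Finset.sum_congr rfl (g := fun _ => regM p c θ θ * (θ : CG[Subgroup.zpowers x] → ℂ) 1)
        fun ψ hψ => by
          rw [hreg ψ ((Set.Finite.mem_toFinset _).1 hψ),
            hall ψ ((Set.Finite.mem_toFinset _).1 hψ) 1 (by simp [hp.ne_one])],
      Finset.sum_const, ← Set.ncard_eq_toFinset_card, ← Nat.card_coe_set_eq, hcp, nsmul_eq_mul] at h
    have h1 : regM p c θ θ = 1 := mul_right_cancel₀ hθ0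
      ((mul_left_cancel₀ (Nat.cast_ne_zero.2 hp.ne_zero) h).trans (one_mul _).symm)
    rw [regM, regSum, hcd, pow_one, div_mul_eq_mul_div,
      div_eq_one_iff_eq (Nat.cast_ne_zero.2 Nat.card_pos.ne')] at h1
    rw [← h1]
    congr 1
    exact Finset.sum_congr rfl fun a _ => by
      by_cases ha : p ∣ orderOf a <;> simp [Cfsg.IsPRegular, ha]
  -- `A` has norm one
  have hbel : ∀ a : G, Subgroup.zpowers a = Subgroup.zpowers x →
      Below p M (Subgroup.zpowers x) c a e₀ := by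
    intro a ha
    have : ∀ R : Subgroup G, R = Subgroup.zpowers x → ∃ f,
        Cfsg.SubpairLE p M R f (Subgroup.zpowers x) c ∧ sbc CG[R] f = sbc CG[Subgroup.zpowers x] c := by
      rintro R rfl
      exact ⟨c, Relation.ReflTransGen.refl, rfl⟩
    exact this _ ha
  obtain ⟨x₀, hx₀⟩ : ∃ x₀ : Subgroup.zpowers x, (x₀ : G) = x := ⟨⟨x, Subgroup.mem_zpowers x⟩, rfl⟩
  have hAA : A * conj A = 1 := by
    have hx₀1 : (x₀ : G) ≠ 1 := hx₀.symm ▸ hx1
    have he : ex x₀ = e₀ := (hex x₀).unique hM hmax (hx₀.symm ▸ hbel x rfl)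
    have h := sect_mul_eq hM hmax hcyc hT hex hN hsect χ χ hx₀1
    rw [he, hev x₀ hx₀1, hx₀] at h
    rw [map_neg, map_intCast, neg_mul_neg, show (v : ℂ) * (v : ℂ) = 1 by
      rcases hv with h | h <;> simp [h], mul_one, Nat.card_zpowers, hx, sum_regC_eq] at h
    rw [Finset.sum_congr rfl (g := fun a : CG[Subgroup.zpowers x] => A * conj A *
        (if p ∣ orderOf a then 0 else
          (θ : CG[Subgroup.zpowers x] → ℂ) a * conj ((θ : CG[Subgroup.zpowers x] → ℂ) a)))
      fun a _ => ?_, ← Finset.mul_sum, mul_left_comm, hnorm] at h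
    · exact (mul_eq_right₀ (Nat.cast_ne_zero.2 Nat.card_pos.ne')).1 h
    · split_ifs with ha
      · rw [mul_zero]
      · have hy : (a : G) ∈ regC p x := by
          simp only [regC, Finset.mem_filter, Finset.mem_univ, true_and]
          exact ⟨by rwa [Subgroup.orderOf_coe], mem_zpowers_centralizer.1 a.2⟩
        rw [hsA _ hy a.2, map_mul]
        ring
  have hsq : (p : ℤ) ∣ (R - 1) * (R + 1) := by
    refine (memLocalIdeal_intCast_iff hM _).1 ?_
    have hdiff : Cfsg.MemLocalIdeal M (A - (R : ℂ)) := by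
      rw [hA, hR]
      simp only [Int.cast_sum, Int.cast_natCast]
      rw [← Finset.sum_sub_distrib]
      refine memLocalIdeal_sum hM _ fun η _ => ?_
      rw [show lam η * (r η : ℂ) - (r η : ℂ) = (lam η - 1) * (r η : ℂ) by ring]
      exact memLocalIdeal_mul_right hM (hlam η).2 (memLocalRing_natCast hM _)
    have hinv : ∀ η, lam η ^ (p - 1) * lam η = 1 := fun η => by
      rw [← pow_succ, Nat.sub_add_cancel hp.one_lt.le]
      exact shiftScalar_pow hH η (hx ▸ pow_orderOf_eq_one x)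
    have hconj : ∀ η, conj (lam η) = lam η ^ (p - 1) := by
      intro η
      have hn : ‖lam η‖ = 1 := Complex.norm_eq_one_of_pow_eq_one (n := p)
        (shiftScalar_pow hH η (hx ▸ pow_orderOf_eq_one x)) hp.ne_zero
      have h2 : lam η * conj (lam η) = 1 := by
        rw [Complex.mul_conj, Complex.normSq_eq_norm_sq, hn]; simp
      calc conj (lam η) = lam η ^ (p - 1) * lam η * conj (lam η) := by rw [hinv, one_mul]
        _ = lam η ^ (p - 1) := by rw [mul_assoc, h2, mul_one]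
    have hdiff' : Cfsg.MemLocalIdeal M (conj A - (R : ℂ)) := by
      rw [hA, hR, map_sum]
      simp only [Int.cast_sum, Int.cast_natCast]
      rw [← Finset.sum_sub_distrib]
      refine memLocalIdeal_sum hM _ fun η _ => ?_
      rw [map_mul, Complex.conj_natCast, hconj,
        show lam η ^ (p - 1) * (r η : ℂ) - (r η : ℂ) = (lam η ^ (p - 1) - 1) * (r η : ℂ) by ring]
      exact memLocalIdeal_mul_right hM (hlami η _) (memLocalRing_natCast hM _)
    have hAR : Cfsg.MemLocalRing M (A : ℂ) := by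
      rw [hA]
      exact (localRing hM).sum_mem fun η _ => (localRing hM).mul_mem (hlamR η) (memLocalRing_natCast hM _)
    push_cast
    rw [show ((R : ℂ) - 1) * ((R : ℂ) + 1) =
      -(A * (conj A - (R : ℂ)) + (A - (R : ℂ)) * (R : ℂ)) by linear_combination hAA]
    exact memLocalIdeal_neg (memLocalIdeal_add hM (memLocalIdeal_mul_left hM hAR hdiff')
      (memLocalIdeal_mul_right hM hdiff (memLocalRing_of_isIntegral hM (_root_.isIntegral_intCast R))))
  -- every term is congruent to `R θ(1)`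
  have hterm : ∀ i : ℕ, Cfsg.MemLocalIdeal M
      (sect (χ : G → ℂ) (x ^ i) e₀ 1 - (R : ℂ) * (n₁ : ℂ)) := by
    intro i
    have he : sect (χ : G → ℂ) (x ^ i) e₀ 1 = ∑ η ∈ cf, lam η ^ i * (r η : ℂ) * (n₁ : ℂ) := by
      rw [sect, ← Finset.sum_subset (Finset.subset_univ
          (Finset.univ.filter fun g => g ∈ CG[Subgroup.zpowers x])) fun g _ hg => by
            rw [show e₀ g = 0 from sbc_of_notMem _ fun h => hg (Finset.mem_filter.2 ⟨Finset.mem_univ _, h⟩),
              zero_mul],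
        Finset.sum_subtype (p := fun g => g ∈ CG[Subgroup.zpowers x]) _ (by simp)]
      calc ∑ a : CG[Subgroup.zpowers x], e₀ (a : G) * (χ : G → ℂ) (x ^ i * 1 * (a : G))
          = ∑ a : CG[Subgroup.zpowers x], ∑ η : Cfsg.IrrCharacter CG[Subgroup.zpowers x],
              lam η ^ i * (r η : ℂ) * (Cfsg.blockCoeff c a * (η : CG[Subgroup.zpowers x] → ℂ) a) := by
            refine Finset.sum_congr rfl fun a _ => ?_
            rw [show x ^ i * 1 * (a : G) =
              (((⟨x, self_mem_centralizer hH⟩ : CG[Subgroup.zpowers x]) ^ i * a :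
                CG[Subgroup.zpowers x]) : G) by simp,
              Blocks.res_eq_sum_resMult χ, Finset.mul_sum]
            refine Finset.sum_congr rfl fun η _ => ?_
            rw [irr_shift_pow hH, show e₀ (a : G) = Cfsg.blockCoeff c a from sbc_apply c a]
            ring
        _ = _ := by
            rw [Finset.sum_comm]
            have : ∀ η : Cfsg.IrrCharacter CG[Subgroup.zpowers x],
                ∑ a : CG[Subgroup.zpowers x], Cfsg.blockCoeff c a * (η : CG[Subgroup.zpowers x] → ℂ) a =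
                  if η ∈ c then (n₁ : ℂ) else 0 := by
              intro η
              have h := omega_blockCoeff c η
              rw [omega, div_eq_iff (Char.IsIrr.one_ne_zero η.2)] at h
              rw [h]
              split_ifs with hη
              · rw [one_mul, hall η hη 1 (by simp [hp.ne_one]), hn₁]
              · rw [zero_mul]
            simp only [← Finset.mul_sum, this, mul_ite, mul_zero]
            rw [← Finset.sum_filter]
            exact Finset.sum_congr (by ext; simp [cf]) fun η _ => rfl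
    rw [he, hR]
    simp only [Int.cast_sum, Int.cast_natCast]
    rw [Finset.sum_mul, ← Finset.sum_sub_distrib]
    refine memLocalIdeal_sum hM _ fun η _ => ?_
    rw [show lam η ^ i * (r η : ℂ) * (n₁ : ℂ) - (r η : ℂ) * (n₁ : ℂ) =
      (lam η ^ i - 1) * ((r η * n₁ : ℕ) : ℂ) by push_cast; ring]
    exact memLocalIdeal_mul_right hM (hlami η i) (memLocalRing_natCast hM _)
  -- the pairs above `x`
  obtain ⟨N, hNdef⟩ : ∃ N, N = Subgroup.normalizer (Subgroup.zpowers x : Set G) := ⟨_, rfl⟩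
  rw [← hNdef]
  have hNpow : ∀ g ∈ N, Subgroup.zpowers (g * x * g⁻¹) = Subgroup.zpowers x := by
    intro g hg
    rw [show g * x * g⁻¹ = (MulAut.conj g).toMonoidHom x from rfl, ← MonoidHom.map_zpowers]
    exact map_conj_eq (hNdef ▸ hg)
  let S : Finset (G → ℂ) := (Finset.univ.filter fun g => g ∈ N).image fun g => conjF g e₀
  have hSBk : ∀ e ∈ S, e ∈ Bk M x := by
    intro e he
    obtain ⟨g, hg, rfl⟩ := Finset.mem_image.1 he
    obtain ⟨b, hb, hbe⟩ := hbel (g⁻¹ * x * g⁻¹⁻¹) (hNpow g⁻¹ (inv_mem (Finset.mem_filter.1 hg).2))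
    have hpair := (isBrauerPairOf_iff_of_subpairLE hM hb B).1 hmax.1
    have h := conjF_mem_Bk (mem_Bk.2 ⟨b, hpair.1.2, hbe⟩) g
    rwa [show g * (g⁻¹ * x * g⁻¹⁻¹) * g⁻¹ = x by group] at h
  have hconjF : ∀ g ∈ N, ∀ h ∈ N, (conjF g e₀ = conjF h e₀ ↔ h⁻¹ * g ∈ T) := by
    intro g hg h hh
    have hk : h⁻¹ * g ∈ N := mul_mem (inv_mem hh) hg
    have e1 : conjF g e₀ = conjF h e₀ ↔ conjF (h⁻¹ * g) e₀ = e₀ := by
      constructor <;> intro heq
      · rw [← conjF_conjF, heq, conjF_conjF, inv_mul_cancel, conjF_one]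
      · conv_rhs => rw [← heq, conjF_conjF, mul_inv_cancel_left]
    rw [e1, hT, ← conjPair_eq_iff hM hcP]
    constructor <;> intro heq
    · exact idx_ext (map_conj_eq (hNdef ▸ hk)) fun a => (sbc_conjPair _ _ a).trans (congrFun heq a)
    · funext a
      have h2 := sbc_conjPair (h⁻¹ * g) (⟨Subgroup.zpowers x, c⟩ : Cfsg.BrauerPairIdx G) a
      rw [heq] at h2
      exact h2.symm
  have hTN : T ≤ N := fun g hg => hNdef ▸ ((hT g).1 hg).1
  have hScard : S.card = T.relIndex N := by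
    refine mul_right_cancel₀ (b := Nat.card T) Nat.card_pos.ne' ?_
    have h1 : T.relIndex N * Nat.card T = Nat.card N := by
      rw [Subgroup.relIndex, ← Nat.card_congr (Subgroup.subgroupOfEquivOfLe hTN).toEquiv, mul_comm,
        Subgroup.card_mul_index]
    rw [h1, Nat.card_eq_fintype_card (α := N), Fintype.card_subtype,
      Finset.card_eq_sum_card_fiberwise (t := S) (fun g hg => Finset.mem_image_of_mem _ hg)]
    rw [← smul_eq_mul, ← Finset.sum_const]
    refine Finset.sum_congr rfl fun e he => ?_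
    obtain ⟨g, hg, rfl⟩ := Finset.mem_image.1 he
    have hgN := (Finset.mem_filter.1 hg).2
    rw [Nat.card_eq_fintype_card, Fintype.card_subtype]
    refine Finset.card_bij' (fun t _ => g * t) (fun h _ => g⁻¹ * h) (fun t ht => ?_) (fun h hh => ?_)
      (fun t _ => inv_mul_cancel_left g t) fun h _ => mul_inv_cancel_left g h
    · have htT := (Finset.mem_filter.1 ht).2
      refine Finset.mem_filter.2 ⟨Finset.mem_filter.2 ⟨Finset.mem_univ _, mul_mem hgN (hTN htT)⟩, ?_⟩
      exact (hconjF _ (mul_mem hgN (hTN htT)) _ hgN).2 (by rwa [inv_mul_cancel_left])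
    · obtain ⟨hhN, hhe⟩ := Finset.mem_filter.1 hh
      exact Finset.mem_filter.2 ⟨Finset.mem_univ _,
        (hconjF _ (Finset.mem_filter.1 hhN).2 _ hgN).1 hhe⟩
  have h1reg : (1 : G) ∈ regC p x := by simp [regC, hp.ne_one]
  have hsum : (χ : G → ℂ) x = ∑ e ∈ S, sect (χ : G → ℂ) x e 1 := by
    conv_lhs => rw [← mul_one x, apply_section hM χ hxk h1reg]
    refine (Finset.sum_subset hSBk fun e he hne => ?_).symm
    obtain ⟨b, hb, rfl⟩ := mem_Bk.1 he
    by_contra hz
    obtain ⟨t, ht⟩ := (exists_below_iff hM hmax b).2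
      (pair_of_sect_ne_zero hM hmax.1.2.1 hχ hxk hb h1reg hz)
    have hxeq : Subgroup.zpowers (t * x * t⁻¹) = Subgroup.zpowers x :=
      Subgroup.eq_of_le_of_card_ge (Subgroup.zpowers_le.2 ht.mem) (by
        rw [Nat.card_zpowers, Nat.card_zpowers,
          show orderOf (t * x * t⁻¹) = orderOf x from
            orderOf_injective (MulAut.conj t).toMonoidHom (MulAut.conj t).injective x])
    have htN : t ∈ N := by
      rw [hNdef, ← inv_inv t]
      refine inv_mem (mem_normalizer_of_conj_le fun u hu => ?_)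
      obtain ⟨i, rfl⟩ := Subgroup.mem_zpowers_iff.1 hu
      rw [inv_inv, ← conj_zpow]
      exact zpow_mem (hxeq ▸ Subgroup.mem_zpowers (t * x * t⁻¹)) i
    have heq := ht.unique hM hmax (hbel _ hxeq)
    refine hne (Finset.mem_image.2 ⟨t⁻¹, Finset.mem_filter.2 ⟨Finset.mem_univ _, inv_mem htN⟩, ?_⟩)
    rw [← heq, conjF_conjF, inv_mul_cancel, conjF_one]
  have hkey : Cfsg.MemLocalIdeal M
      ((χ : G → ℂ) 1 - ((T.relIndex N : ℤ) * R * (n₁ : ℤ) : ℤ)) := by
    have h1 : Cfsg.MemLocalIdeal M ((χ : G → ℂ) x - ((T.relIndex N : ℤ) * R * (n₁ : ℤ) : ℤ)) := by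
      push_cast
      rw [hsum, ← hScard, mul_assoc, ← nsmul_eq_mul, ← Finset.sum_const, ← Finset.sum_sub_distrib]
      refine memLocalIdeal_sum hM _ fun e he => ?_
      obtain ⟨g, hg, rfl⟩ := Finset.mem_image.1 he
      have hgN := (Finset.mem_filter.1 hg).2
      obtain ⟨i, hi⟩ := (mem_powers_iff_mem_zpowers).2
        (hNpow g⁻¹ (inv_mem hgN) ▸ Subgroup.mem_zpowers (g⁻¹ * x * g⁻¹⁻¹))
      have hi' : x ^ i = g⁻¹ * x * g := by simpa using hi
      rw [← show sect (χ : G → ℂ) (x ^ i) e₀ 1 = sect (χ : G → ℂ) x (conjF g e₀) 1 by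
        rw [← sect_conjF (Char.isClassFunction_of_isIrr χ.2) (x ^ i) 1 g, mul_one, mul_inv_cancel,
          hi', show g * (g⁻¹ * x * g) * g⁻¹ = x by group]]
      exact hterm i
    have h2 := memLocalIdeal_char_sub_degree hM (Char.IsIrr.isCharacter χ.2) hxk
    simpa using memLocalIdeal_sub hM h1 h2
  obtain ⟨n₂, -, hn₂⟩ := Char.IsIrr.degree χ.2
  rw [hn₂, ← Int.cast_natCast (n₂ : ℕ), ← Int.cast_sub, memLocalIdeal_intCast_iff hM] at hkey
  have hkey' : (n₂ : ℤ) ≡ (T.relIndex N : ℤ) * R * (n₁ : ℤ) [ZMOD p] :=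
    (Int.modEq_iff_dvd.2 hkey).symm
  rw [Blocks.charDegree_eq hn₂]
  rcases (Nat.prime_iff_prime_int.1 hp).dvd_or_dvd hsq with h | h
  · refine ⟨1, Or.inl rfl, hkey'.trans ?_⟩
    push_cast
    rw [one_mul]
    have h1 : R ≡ 1 [ZMOD p] := (Int.modEq_iff_dvd.2 h).symm
    simpa using ((Int.ModEq.refl (T.relIndex N : ℤ)).mul h1).mul_right (n₁ : ℤ)
  · refine ⟨-1, Or.inr rfl, hkey'.trans ?_⟩
    push_cast
    have h1 : R ≡ -1 [ZMOD p] := (Int.modEq_iff_dvd.2 (by simpa [sub_eq_add_neg] using h)).symm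
    simpa using ((Int.ModEq.refl (T.relIndex N : ℤ)).mul h1).mul_right (n₁ : ℤ)

open scoped Classical in
/-- The degrees in a block whose defect group is a Sylow subgroup of order `p`. -/
theorem degree_congr (hM : Cfsg.IsPModular p M) {D : Subgroup G} (hD : Nat.card D = p)
    (hsyl : (Nat.card G).factorization p = 1) {B : Set (Cfsg.IrrCharacter G)}
    (hBD : Cfsg.IsDefectGroup p M B D) {b : Set (Cfsg.IrrCharacter CG[D])}
    (hind : Cfsg.IsInducedBlock M CG[D] b B) {θ : Cfsg.IrrCharacter CG[D]} (hθ : θ ∈ b)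
    (hθD : ∀ a : CG[D], (a : G) ∈ D → (θ : CG[D] → ℂ) a = (θ : CG[D] → ℂ) 1)
    {T : Subgroup G} (hT : ∀ g : G, g ∈ T ↔ g ∈ Subgroup.normalizer (D : Set G) ∧
      ∀ k k' : CG[D], (k' : G) = g * k * g⁻¹ → (θ : CG[D] → ℂ) k' = (θ : CG[D] → ℂ) k)
    {e f : ℕ} (he : (CG[D]).relIndex T = e)
    (hf : (CG[D]).relIndex (Subgroup.normalizer (D : Set G)) = f) :
    e ∣ p - 1 ∧ Nat.card B = e + (p - 1) / e ∧ ∃ X Y : Set (Cfsg.IrrCharacter G),
      B = X ∪ Y ∧ Disjoint X Y ∧ Nat.card X = e ∧ Nat.card Y = (p - 1) / e ∧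
      (∀ χ ∈ X, (Cfsg.charDegree (χ : G → ℂ) : ℤ) ≡
          ((f / e * Cfsg.charDegree (θ : CG[D] → ℂ) : ℕ) : ℤ) [ZMOD p] ∨
        (Cfsg.charDegree (χ : G → ℂ) : ℤ) ≡
          -((f / e * Cfsg.charDegree (θ : CG[D] → ℂ) : ℕ) : ℤ) [ZMOD p]) ∧
      (∃ ε : ℤ, (ε = 1 ∨ ε = -1) ∧ ∀ ψ ∈ Y, (Cfsg.charDegree (ψ : G → ℂ) : ℤ) ≡
        ε * ((f * Cfsg.charDegree (θ : CG[D] → ℂ) : ℕ) : ℤ) [ZMOD p]) ∧
      ∀ ψ ∈ Y, ∀ ψ' ∈ Y, ∀ g : G, ¬ p ∣ orderOf g → (ψ : G → ℂ) g = (ψ' : G → ℂ) g := by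
  have : M.IsMaximal := hM.2.1
  have hp := hM.1
  have hcycD : IsCyclic D := isCyclic_of_prime_card hD
  obtain ⟨x₀, hx₀⟩ := hcycD.exists_generator
  obtain ⟨x, hxdef⟩ : ∃ x : G, x = (x₀ : G) := ⟨_, rfl⟩
  have hDeq : D = Subgroup.zpowers x := hxdef ▸ le_antisymm (fun a ha => by
      obtain ⟨i, hi⟩ := Subgroup.mem_zpowers_iff.1 (hx₀ ⟨a, ha⟩)
      exact Subgroup.mem_zpowers_iff.2 ⟨i, by simpa using congrArg Subtype.val hi⟩)
    (Subgroup.zpowers_le.2 x₀.2)
  clear hx₀ hxdef x₀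
  subst hDeq
  have hordx : orderOf x = p := by rw [← Nat.card_zpowers, hD]
  have hcyc : IsCyclic (Subgroup.zpowers x) := inferInstance
  have hmax := maximal_of_isInducedBlock hM hBD hind
  letI := Fintype.ofFinite CG[Subgroup.zpowers x]
  have hDC : Subgroup.zpowers x ≤ CG[Subgroup.zpowers x] :=
    le_centralizer_of_cyclic hcyc
  obtain ⟨hbp, hbd, hagree⟩ := central_block hM hind.1
    (DefectThms.isDefectGroup_of_induced hM hDC (Subgroup.centralizer_le_normalizer _)
      hmax.1.2.1 hBD hind)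
    (by rw [Nat.card_congr (Subgroup.subgroupOfEquivOfLe hDC).toEquiv, hD]) fun a => by
      rw [Subgroup.mem_centralizer_iff]
      exact fun u hu => Subtype.ext (Subgroup.mem_centralizer_iff.1 a.2 (u : G) hu)
  have hH := mem_zpowers_centralizer' (G := G) x
  have huniq : ∀ η ∈ b, (∀ a : CG[Subgroup.zpowers x], (a : G) ∈ Subgroup.zpowers x →
      (η : CG[Subgroup.zpowers x] → ℂ) a = (η : CG[Subgroup.zpowers x] → ℂ) 1) → η = θ := by
    intro η hη hηD
    refine Subtype.ext (funext fun a => ?_)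
    obtain ⟨z, hz⟩ : ∃ z, z = Blocks.pPartOf p a := ⟨_, rfl⟩
    have hzD : (z : G) ∈ Subgroup.zpowers x := by
      have hnorm : ((Subgroup.zpowers x).subgroupOf CG[Subgroup.zpowers x]).Normal :=
        (Subgroup.normal_subgroupOf_iff_le_normalizer hDC).2 (Subgroup.centralizer_le_normalizer _)
      refine Subgroup.mem_subgroupOf.1 ((QuotientGroup.eq_one_iff z).1 ?_)
      rw [← orderOf_eq_one_iff]
      obtain ⟨j, hj⟩ := Blocks.orderOf_pPartOf hp a
      have h1 : orderOf (z : CG[Subgroup.zpowers x] ⧸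
          (Subgroup.zpowers x).subgroupOf CG[Subgroup.zpowers x]) ∣ p ^ j :=
        hj ▸ hz ▸ orderOf_map_dvd (QuotientGroup.mk' _) _
      have h2 := orderOf_dvd_natCard (z : CG[Subgroup.zpowers x] ⧸
          (Subgroup.zpowers x).subgroupOf CG[Subgroup.zpowers x])
      refine Nat.eq_one_of_dvd_coprimes ((hp.coprime_iff_not_dvd.2 fun hd => ?_).pow_left j) h1 h2
      have h3 : p ^ 2 ∣ Nat.card G := by
        refine dvd_trans ?_ (Subgroup.card_subgroup_dvd_card CG[Subgroup.zpowers x])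
        rw [Subgroup.card_eq_card_quotient_mul_card_subgroup
          ((Subgroup.zpowers x).subgroupOf CG[Subgroup.zpowers x]),
          Nat.card_congr (Subgroup.subgroupOfEquivOfLe hDC).toEquiv, hD, pow_two]
        exact Nat.mul_dvd_mul_right hd p
      have h4 := (hp.pow_dvd_iff_le_factorization Nat.card_pos.ne').1 h3
      omega
    have hs := Blocks.not_dvd_orderOf_pPrimePartOf hp a
    have hker : ∀ ξ : Cfsg.IrrCharacter CG[Subgroup.zpowers x],
        (∀ u : CG[Subgroup.zpowers x], (u : G) ∈ Subgroup.zpowers x →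
          (ξ : CG[Subgroup.zpowers x] → ℂ) u = (ξ : CG[Subgroup.zpowers x] → ℂ) 1) →
        (ξ : CG[Subgroup.zpowers x] → ℂ) a =
          (ξ : CG[Subgroup.zpowers x] → ℂ) (Blocks.pPrimePartOf p a) := by
      intro ξ hξ
      obtain ⟨i, hi⟩ := (mem_powers_iff_mem_zpowers).2 hzD
      have hzi : z = (⟨x, self_mem_centralizer hH⟩ : CG[Subgroup.zpowers x]) ^ i :=
        Subtype.ext (by simpa using hi.symm)
      have e1 := irr_shift_pow hH ξ i (1 : CG[Subgroup.zpowers x])
      rw [mul_one, hξ _ (by rw [← hzi]; exact hzD)] at e1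
      have h1 : shiftScalar hH ξ ^ i = 1 :=
        mul_right_cancel₀ (Char.IsIrr.one_ne_zero ξ.2) (e1.symm.trans (one_mul _).symm)
      conv_lhs => rw [← Blocks.pPartOf_mul_pPrimePartOf hp a, ← hz, hzi]
      rw [irr_shift_pow hH, h1, one_mul]
    rw [hker η hηD, hker θ hθD, hagree η hη θ hθ _ hs]
  have hT' : ∀ g : G, g ∈ T ↔ g ∈ Subgroup.normalizer (Subgroup.zpowers x : Set G) ∧
      Cfsg.StabilizesBlock CG[Subgroup.zpowers x] b g := by
    intro g
    rw [hT g]
    refine and_congr_right fun hg => ?_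
    have hC := mem_centralizer_iff_of_mem_normalizer hg
    obtain ⟨φ, hφ⟩ : ∃ φ, φ = BlockChar.conjIso CG[Subgroup.zpowers x]
        CG[Subgroup.zpowers x] g hC := ⟨_, rfl⟩
    have hφval : ∀ k k' : CG[Subgroup.zpowers x], (k' : G) = g * (k : G) * g⁻¹ → φ k = k' :=
      fun k k' hk => by subst hφ; exact Subtype.ext hk.symm
    constructor
    · intro hst
      have hcj : ∀ χ : Cfsg.IrrCharacter CG[Subgroup.zpowers x],
          ∀ k k' : CG[Subgroup.zpowers x], (k' : G) = g * (k : G) * g⁻¹ →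
          (compIrr φ.symm χ : _ → ℂ) k' = (χ : _ → ℂ) k := fun χ k k' hk => by
        rw [compIrr_apply, ← hφval k k' hk, MulEquiv.symm_apply_apply]
      have hfix : compIrr φ θ = θ := Subtype.ext (funext fun k => by
        rw [compIrr_apply]
        exact hst k (φ k) (by subst hφ; rfl))
      have hblk : mapBlock φ b = b := by
        have h1 : θ ∈ mapBlock φ b := by show compIrr φ θ ∈ b; rw [hfix]; exact hθ
        rw [IsPBlock.eq_blockOf hM (isPBlock_mapBlock φ hind.1) h1,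
          ← IsPBlock.eq_blockOf hM hind.1 hθ]
      refine ⟨Subgroup.mem_normalizer_iff.2 hC, fun χ hχ => ⟨compIrr φ.symm χ, ?_, hcj χ⟩⟩
      rw [← hblk]
      show compIrr φ (compIrr φ.symm χ) ∈ b
      rwa [show compIrr φ (compIrr φ.symm χ) = χ from (compIrrEquiv φ).apply_symm_apply χ]
    · rintro ⟨-, hst⟩ k k' hk
      obtain ⟨θ₂, hθ₂, hc⟩ := hst θ hθ
      have hθ₂θ : θ₂ = θ := by
        refine huniq θ₂ hθ₂ fun a ha => ?_
        have hh := fun u => hc (φ.symm u) u (by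
          conv_lhs => rw [← MulEquiv.apply_symm_apply φ u]
          rw [hφ]
          rfl)
        rw [hh a, hh 1, map_one]
        refine hθD _ ?_
        subst hφ
        exact (Subgroup.mem_normalizer_iff.1 hg _).2 (by
          show g * (g⁻¹ * (a : G) * g) * g⁻¹ ∈ _
          simpa [mul_assoc] using ha)
      have := hc k k' hk
      rwa [hθ₂θ] at this
  have hD1 : Subgroup.zpowers x ≠ ⊥ := fun h => by
    rw [h, Subgroup.card_bot] at hD; exact hp.ne_one hD.symm
  obtain ⟨Q, θ', ex, β, -, -, hex, -, hN, hβ, hsect, hinv⟩ := exists_coords hM hmax hcyc hT' hD1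
  obtain ⟨X, Y, v, ε, y, -, -, hd⟩ := exists_tree_data hM hmax hcyc hT' hex hN hsect hβ hinv hD1
  have hdvd : e ∣ p - 1 := he ▸ relIndex_dvd hM hmax hcyc hT' hD1
  have hTN : T ≤ Subgroup.normalizer (Subgroup.zpowers x : Set G) := fun g hg => ((hT g).1 hg).1
  have hCT : CG[Subgroup.zpowers x] ≤ T := (stabilizer_props hM hmax.1.1.2 hT').2.1
  have hefn : e * T.relIndex (Subgroup.normalizer (Subgroup.zpowers x : Set G)) = f := by
    rw [← he, ← hf]; exact Subgroup.relIndex_mul_relIndex _ _ _ hCT hTN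
  have hepos : 0 < e := Nat.pos_of_ne_zero fun h => by
    rw [h] at hdvd
    have := Nat.eq_zero_of_zero_dvd hdvd
    have := hp.two_le
    omega
  have hfe : f / e = T.relIndex (Subgroup.normalizer (Subgroup.zpowers x : Set G)) := by
    rw [← hefn, Nat.mul_div_cancel_left _ hepos]
  have hcX : Nat.card X = e := he ▸ hd.card_X
  have hcY : Nat.card Y = (p - 1) / e := by
    have h := hd.card_Y
    rw [he, hD] at h
    rw [← h, Nat.mul_div_cancel_left _ hepos]
  have hX : ∀ χ ∈ X, ∃ s : ℤ, (s = 1 ∨ s = -1) ∧ (Cfsg.charDegree (χ : G → ℂ) : ℤ) ≡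
      s * ((T.relIndex (Subgroup.normalizer (Subgroup.zpowers x : Set G)) *
        Cfsg.charDegree (θ : CG[Subgroup.zpowers x] → ℂ) : ℕ) : ℤ) [ZMOD p] :=
    fun χ hχ => degree_congr_X hM hordx hmax hT' hex hN hsect (hd.union ▸ Or.inl hχ)
      (hd.sign_X χ hχ) (hd.ev_X χ hχ) hbp hbd hθ (fun η hη => hagree η hη θ hθ)
  refine ⟨hdvd, ?_, X, Y, hd.union, hd.disjoint, hcX, hcY, fun χ hχ => ?_, ?_, ?_⟩
  · rw [hd.union, Nat.card_coe_set_eq, Set.ncard_union_eq hd.disjoint (Set.toFinite _) (Set.toFinite _),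
      ← Nat.card_coe_set_eq, ← Nat.card_coe_set_eq, hcX, hcY]
  · obtain ⟨s, hs, hcong⟩ := hX χ hχ
    rw [hfe]
    rcases hs with rfl | rfl
    · exact Or.inl (by simpa using hcong)
    · exact Or.inr (by simpa using hcong)
  · obtain ⟨χ₀, hχ₀⟩ : X.Nonempty := Set.nonempty_coe_sort.1
      (Nat.card_pos_iff.1 (by rw [hcX]; exact hepos)).1
    obtain ⟨s, hs, hcong⟩ := hX χ₀ hχ₀
    refine ⟨-(ε * v χ₀ * s), ?_, fun ψ hψ => ?_⟩
    · rcases hd.sign with a | a <;> rcases hd.sign_X χ₀ hχ₀ with b | b <;> rcases hs with c | c <;>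
        simp [a, b, c]
    let Yf := (Set.toFinite Y).toFinset
    have hXY : χ₀ ∉ Y := fun h => Set.disjoint_left.1 hd.disjoint hχ₀ h
    have h := dvd_degree_of_ev hM hmax hex hsect (insert χ₀ Yf)
      (fun w hw => by
        rw [hd.union]
        rcases Finset.mem_insert.1 hw with rfl | hw
        · exact Or.inl hχ₀
        · exact Or.inr ((Set.Finite.mem_toFinset _).1 hw))
      (fun w => if w = χ₀ then -v χ₀ else ε) fun a ha => by
        rw [Finset.sum_insert (by simp [Yf, hXY]), if_pos rfl,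
          Finset.sum_congr rfl (g := fun w => (ε : ℂ) * ev (β w) a) fun w hw => by
            rw [if_neg fun e : w = χ₀ => hXY (e ▸ (Set.Finite.mem_toFinset _).1 hw)],
          ← Finset.mul_sum, ← finsum_mem_eq_finite_toFinset_sum, hd.ev_sum_Y a ha,
          hd.ev_X χ₀ hχ₀ a ha]
        rcases hd.sign_X χ₀ hχ₀ with a | a <;> rcases hd.sign with b | b <;> simp [a, b]
    have hdeg : ∀ w ∈ Yf, (if w = χ₀ then -v χ₀ else ε) * (Cfsg.charDegree (w : G → ℂ) : ℤ) =
        ε * (Cfsg.charDegree (ψ : G → ℂ) : ℤ) := fun w hw => by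
      have hwY := (Set.Finite.mem_toFinset _).1 hw
      rw [if_neg fun e : w = χ₀ => hXY (e ▸ hwY)]
      have h3 := (hd.relation w hwY 1 (by simp [hp.ne_one])).trans
        (hd.relation ψ hψ 1 (by simp [hp.ne_one])).symm
      rw [add_left_inj] at h3
      obtain ⟨n, -, hn⟩ := Char.IsIrr.degree w.2
      obtain ⟨n', -, hn'⟩ := Char.IsIrr.degree ψ.2
      rw [hn, hn'] at h3
      rw [Blocks.charDegree_eq hn, Blocks.charDegree_eq hn']
      exact_mod_cast h3
    rw [Finset.sum_insert (by simp [Yf, hXY]), if_pos rfl, Finset.sum_congr rfl hdeg,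
      Finset.sum_const, nsmul_eq_mul, ← Set.ncard_eq_toFinset_card, ← Nat.card_coe_set_eq, hD] at h
    obtain ⟨k, hk⟩ := h
    obtain ⟨k', hk'⟩ := Int.modEq_iff_dvd.1 hcong
    have hεε : ε * ε = 1 := by rcases hd.sign with h | h <;> simp [h]
    have hm := hd.card_Y
    rw [he, hD] at hm
    have hm' : (e : ℤ) * (Nat.card Y : ℤ) = (p : ℤ) - 1 := by
      rw [← Nat.cast_mul, hm, Nat.cast_sub hp.one_lt.le, Nat.cast_one]
    refine Int.modEq_iff_dvd.2
      ⟨(e : ℤ) * ε * k - (e : ℤ) * ε * v χ₀ * k' * 1 - (Cfsg.charDegree (ψ : G → ℂ) : ℤ), ?_⟩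
    rw [← hefn]
    push_cast at hk hk' ⊢
    linear_combination (e : ℤ) * ε * hk - (e : ℤ) * ε * v χ₀ * hk'
      - (ε * ε * (Cfsg.charDegree (ψ : G → ℂ) : ℤ)) * hm'
      - ((p : ℤ) - 1) * (Cfsg.charDegree (ψ : G → ℂ) : ℤ) * hεε
  · intro ψ hψ ψ' hψ' g hg
    have h := (hd.relation ψ hψ g hg).trans (hd.relation ψ' hψ' g hg).symm
    rw [add_left_inj] at h
    exact mul_left_cancel₀ (Int.cast_ne_zero.2 (by rcases hd.sign with s | s <;> omega)) h

end Cfsg.Agent.BlockChar.Cyclic
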