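import Cfsg.Agent.BlockChar.Cyclic.PrimeShape
import Cfsg.Agent.Invol.Section942

/-!
# Brauer's bound on faithful degrees when `p` divides the order to the first power

A faithful character of degree `n` with `2n + 1 < p` forces a normal subgroup of order `p`.
-/

set_option autoImplicit false

namespace Cfsg.Agent.BlockChar.DegreeBound

open Cfsg.Agent Cfsg.Agent.Blocks Cfsg.Agent.BlockChar Cfsg.Agent.BlockChar.Cyclic
open Cfsg.Agent.BlockChar.PrimeShape
open scoped ComplexConjugate

universe u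

variable {G : Type u} [Group G] [Fintype G] {p : ℕ} [Fact p.Prime]

omit [Fintype G] [Fact p.Prime] in
/-- The trivial character of a subgroup. -/
theorem exists_trivIrr [Finite G] (P : Subgroup G) :
    ∃ μ : Cfsg.IrrCharacter P, ∀ x : P, (μ : P → ℂ) x = 1 :=
  ⟨⟨fun x => (((1 : P →* ℂˣ) x : ℂˣ) : ℂ), Char.isIrrCharacter_hom 1⟩, fun x => by simp⟩

open scoped Classical in
/-- The sum over `P` counts the trivial constituent. -/
theorem sum_eq_mult (P : Subgroup G) [Fintype P] (ψ : Cfsg.IrrCharacter G)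
    {t : Cfsg.IrrCharacter P} (ht : ∀ x : P, (t : P → ℂ) x = 1) :
    ∑ x : P, (ψ : G → ℂ) (x : G) = (Nat.card P : ℂ) * (Blocks.resMult ψ t : ℂ) := by
  rw [← Blocks.resMult_spec]
  simp only [Cfsg.classInner, ht, map_one, mul_one]
  rw [mul_inv_cancel_left₀ (Nat.cast_ne_zero.2 Nat.card_pos.ne')]

variable {P : Subgroup G} (hP : Nat.card P = p)

include hP in
open scoped Classical in
/-- Where the constituents on `P` are a single orbit, each with the same multiplicity. -/
theorem exists_single_orbit (hsq : ¬ p ^ 2 ∣ Nat.card G) (ξ : Cfsg.IrrCharacter G) [Fintype P]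
    (hdeg : 2 * Cfsg.charDegree (ξ : G → ℂ) + 1 < p)
    (hnt : ∃ x : P, (ξ : G → ℂ) (x : G) ≠ (ξ : G → ℂ) 1) :
    ∃ (η₀ : Cfsg.IrrCharacter P) (d : ℕ), ¬ (∀ x : P, (η₀ : P → ℂ) x = 1) ∧
      2 * (orb η₀).card ≤ p - 1 ∧
      Cfsg.charDegree (ξ : G → ℂ) = (orb η₀).card * d ∧
      ∀ x : P, (ξ : G → ℂ) (x : G) = (d : ℂ) * ∑ η ∈ orb η₀, (η : P → ℂ) x := by
  have hp : p.Prime := Fact.out
  have hab := comm_of_card hP
  set n := Cfsg.charDegree (ξ : G → ℂ) with hn
  have hnpos : 0 < n := Blocks.charDegree_pos ξ.2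
  obtain ⟨M, hM⟩ := Blocks.exists_isPModular p hp
  obtain ⟨η₀, hout, -⟩ := exists_shape hP hsq hM ξ (fun h => by
    have := Nat.le_of_dvd hnpos h
    omega)
  obtain ⟨tr, htr⟩ := exists_trivIrr P
  have hsum := degree_eq_sum hP ξ
  rw [← hn] at hsum
  have hcardirr := card_irr hP
  -- a character which is the sum of equally many of all non-trivial ones and trivial ones is trivial
  have hkill : (∀ η : Cfsg.IrrCharacter P, η ≠ tr → Blocks.resMult ξ η = 0) → False := by
    intro h
    obtain ⟨x, hx⟩ := hnt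
    refine hx ?_
    have h1 := Blocks.res_eq_sum_resMult ξ x
    have h2 := Blocks.res_eq_sum_resMult ξ (1 : P)
    rw [OneMemClass.coe_one] at h2
    rw [h1, h2]
    refine Finset.sum_congr rfl fun η _ => ?_
    by_cases he : η = tr
    · rw [he, htr, htr]
    · simp [h η he]
  by_cases hη₀ : ∀ x : P, (η₀ : P → ℂ) x = 1
  · exfalso
    refine hkill fun η hη => ?_
    have horb : ∀ μ : Cfsg.IrrCharacter P, μ ≠ tr → μ ∉ orb η₀ := by
      intro μ hμ hmem
      obtain ⟨g, hg, rfl⟩ := mem_orb.1 hmem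
      refine hμ (Subtype.ext (funext fun x => ?_))
      rw [twistIrr_apply _ hg x ⟨_, (Subgroup.mem_normalizer_iff.1 hg _).1 x.2⟩ rfl, hη₀, htr]
    by_contra hne
    have hall : ∀ μ ∈ Finset.univ.erase tr, Blocks.resMult ξ η = Blocks.resMult ξ μ := fun μ hμ =>
      hout η μ (horb η hη) (horb μ (Finset.ne_of_mem_erase hμ))
    have h1 : (p - 1) * Blocks.resMult ξ η ≤ n := by
      rw [hsum, ← hcardirr, ← Finset.card_univ, ← Finset.card_erase_of_mem (Finset.mem_univ tr),
        ← smul_eq_mul, ← Finset.sum_const, Finset.sum_congr rfl hall]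
      exact Finset.sum_le_sum_of_subset (Finset.erase_subset _ _)
    have h2 := Nat.le_mul_of_pos_right (p - 1) (Nat.pos_of_ne_zero hne)
    omega
  have htrout : tr ∉ orb η₀ := by
    intro h
    obtain ⟨g, hg, he⟩ := mem_orb.1 (mem_orb_symm h)
    refine hη₀ fun x => ?_
    rw [he, twistIrr_apply _ hg x ⟨_, (Subgroup.mem_normalizer_iff.1 hg _).1 x.2⟩ rfl, htr]
  have hconst : ∀ η ∈ orb η₀, Blocks.resMult ξ η = Blocks.resMult ξ η₀ := by
    intro η hη
    obtain ⟨g, hg, rfl⟩ := mem_orb.1 hη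
    exact resMult_twist hP ξ η₀ hg
  have horbsum : (orb η₀).card * Blocks.resMult ξ η₀ ≤ n := by
    rw [hsum, ← smul_eq_mul, ← Finset.sum_const, ← Finset.sum_congr rfl hconst]
    exact Finset.sum_le_sum_of_subset (Finset.subset_univ _)
  have hsmall : 2 * (orb η₀).card ≤ p - 1 := by
    by_contra hbig
    have hcover : ∀ μ : Cfsg.IrrCharacter P, μ ≠ tr → μ ∈ orb η₀ := by
      intro μ hμ
      by_contra hμo
      have hμ1 : ¬ ∀ x : P, (μ : P → ℂ) x = 1 := fun h =>
        hμ (Subtype.ext (funext fun x => (h x).trans (htr x).symm))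
      have hdis : Disjoint (orb η₀) (orb μ) := Finset.disjoint_left.2 fun ν h1 h2 =>
        hμo (mem_orb_trans h1 (mem_orb_symm h2))
      have hle : (orb η₀ ∪ orb μ).card ≤ (Finset.univ.erase tr).card := by
        refine Finset.card_le_card fun ν hν => Finset.mem_erase.2 ⟨?_, Finset.mem_univ _⟩
        rintro rfl
        rcases Finset.mem_union.1 hν with h | h
        · exact htrout h
        · obtain ⟨g, hg, he⟩ := mem_orb.1 (mem_orb_symm h)
          refine hμ1 fun x => ?_
          rw [he, twistIrr_apply _ hg x ⟨_, (Subgroup.mem_normalizer_iff.1 hg _).1 x.2⟩ rfl, htr]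
      rw [Finset.card_union_of_disjoint hdis, Finset.card_erase_of_mem (Finset.mem_univ _),
        Finset.card_univ, hcardirr] at hle
      have := card_orb_le hP (μ := η₀) hμ1
      omega
    have hzero : Blocks.resMult ξ η₀ = 0 := by
      by_contra h
      have := Nat.le_mul_of_pos_right (orb η₀).card (Nat.pos_of_ne_zero h)
      omega
    exact hkill fun η hη => (hconst η (hcover η hη)).trans hzero
  have ha : Blocks.resMult ξ tr = 0 := by
    by_contra h
    have hge : (Finset.univ \ orb η₀).card * Blocks.resMult ξ tr ≤ n := by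
      rw [hsum, ← smul_eq_mul, ← Finset.sum_const,
        Finset.sum_congr rfl fun η hη => hout tr η htrout (Finset.mem_sdiff.1 hη).2]
      exact Finset.sum_le_sum_of_subset (Finset.subset_univ _)
    have h1 := Nat.le_mul_of_pos_right (Finset.univ \ orb η₀).card (Nat.pos_of_ne_zero h)
    rw [Finset.card_sdiff_of_subset (Finset.subset_univ _), Finset.card_univ, hcardirr] at h1 hge
    omega
  refine ⟨η₀, Blocks.resMult ξ η₀, hη₀, hsmall, ?_, fun x => ?_⟩
  · rw [hsum, ← Finset.sum_subset (Finset.subset_univ (orb η₀)) fun η _ hη => by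
      rw [← hout tr η htrout hη, ha], Finset.sum_congr rfl hconst, Finset.sum_const, smul_eq_mul]
  · rw [Blocks.res_eq_sum_resMult ξ x, ← Finset.sum_subset (Finset.subset_univ (orb η₀))
      fun η _ hη => by rw [← hout tr η htrout hη, ha, Nat.cast_zero, zero_mul], Finset.mul_sum]
    exact Finset.sum_congr rfl fun η hη => by rw [hconst η hη]

variable [Fintype P]

include hP in
/-- A non-trivial irreducible character of the principal block without invariants on `P` is trivial
at the `p'`-elements centralising `P`. -/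
theorem eq_degree_of_no_invariants {M : Ideal Cfsg.AlgInt} (hM : Cfsg.IsPModular p M)
    (hsq : ¬ p ^ 2 ∣ Nat.card G) {ψ : Cfsg.IrrCharacter G}
    (hψ : ψ ∈ Cfsg.principalBlock M G) (hT : ∑ x : P, (ψ : G → ℂ) (x : G) = 0)
    {y : G} (hy : y ∈ Subgroup.centralizer (P : Set G)) (hyr : ¬ p ∣ orderOf y) :
    (ψ : G → ℂ) y = (ψ : G → ℂ) 1 := by
  classical
  have hp : p.Prime := Fact.out
  obtain ⟨n, ρ, -, hρ⟩ := ψ.2
  let ρP : Representation ℂ P (Fin n → ℂ) := ρ.comp P.subtype
  have hne : (Nat.card P : ℂ) ≠ 0 := Nat.cast_ne_zero.2 Nat.card_pos.ne'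
  have : Invertible (Nat.card P : ℂ) := invertibleOfNonzero hne
  have h1 := ρP.card_inv_mul_sum_char_eq_finrank
  have h2 : ∑ u : P, ρP.character u = 0 := by
    rw [← hT, ← hρ]
    rfl
  rw [h2, mul_zero] at h1
  have hbot : ρP.invariants = ⊥ := Submodule.finrank_eq_zero.1 (by exact_mod_cast h1.symm)
  have hE : ∑ u : P, ρ (u : G) = 0 := by
    refine LinearMap.ext fun v => ?_
    have hv : (∑ u : P, ρ (u : G)) v ∈ ρP.invariants := by
      intro a
      simp only [LinearMap.sum_apply, map_sum]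
      refine Fintype.sum_equiv (Equiv.mulLeft a) _ _ fun u => ?_
      show ρ (a : G) (ρ (u : G) v) = ρ ((a * u : P) : G) v
      rw [Subgroup.coe_mul, map_mul, Module.End.mul_apply]
    rw [hbot, Submodule.mem_bot] at hv
    rw [hv, LinearMap.zero_apply]
  have hsum : ∑ u : P, (ψ : G → ℂ) ((u : G) * y) = 0 := by
    rw [← hρ]
    show ∑ u : P, LinearMap.trace ℂ _ (ρ ((u : G) * y)) = 0
    simp only [map_mul]
    rw [← map_sum, ← Finset.sum_mul, hE, zero_mul, map_zero]
  -- the sections
  have hfac : (Nat.card G).factorization p = 1 := by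
    have h1 : ¬ 2 ≤ (Nat.card G).factorization p := fun h =>
      hsq ((hp.pow_dvd_iff_le_factorization Nat.card_pos.ne').2 h)
    have h2 : 1 ≤ (Nat.card G).factorization p :=
      (hp.pow_dvd_iff_le_factorization Nat.card_pos.ne').1 (by
        rw [pow_one, ← hP]; exact Subgroup.card_subgroup_dvd_card P)
    omega
  let S : Sylow p G := Sylow.ofCard P (by rw [hP, hfac, pow_one])
  have hS : BlockThms.OrderP.Setup S ((Subgroup.centralizer (P : Set G)).relIndex
      (Subgroup.normalizer (P : Set G))) := ⟨hP, rfl⟩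
  have hconst : ∀ u : P, (u : G) ≠ 1 → (ψ : G → ℂ) ((u : G) * y) = (ψ : G → ℂ) (u : G) := by
    intro u hu
    have hCz : Subgroup.centralizer ({(u : G)} : Set G) = Subgroup.centralizer (P : Set G) :=
      hS.centralizer_eq u.2 hu
    have hu' : ∃ k, orderOf (u : G) = p ^ k := ⟨1, by
      rw [pow_one, ← Nat.card_zpowers, zpowers_eq hP u.2 hu, hP]⟩
    set K := Cfsg.pPrimeCore p (Subgroup.centralizer ({(u : G)} : Set G) : Subgroup G) with hK
    have hcomp : Cfsg.HasNormalPComplement p
        (Subgroup.centralizer ({(u : G)} : Set G) : Subgroup G) := by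
      rw [hCz]; exact hS.complement
    obtain ⟨L, hL, hc, j, hj⟩ := Fusion.hasNormalPComplement_iff_exists.1 hcomp
    obtain ⟨k, -, hk⟩ := (Nat.dvd_prime_pow hp).1
      (hj ▸ Subgroup.index_dvd_of_le (Core.le_pPrimeCore (p := p) hc))
    exact Invol.section_constant hM hu' K Core.not_dvd_card_pPrimeCore hψ
      (v := ⟨y, hCz ▸ hy⟩)
      (BlockThms.mem_of_regular hp ⟨k, hk⟩ (show ¬ p ∣ orderOf _ by
        rwa [← Subgroup.orderOf_coe]))
  rw [← Finset.add_sum_erase _ _ (Finset.mem_univ (1 : P))] at hsum hT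
  rw [Finset.sum_congr rfl fun u hu => hconst u fun h => Finset.ne_of_mem_erase hu (Subtype.ext h)]
    at hsum
  rw [← hsum, OneMemClass.coe_one, one_mul] at hT
  exact (add_right_cancel hT).symm

/-- A function vanishing at the `p`-regular elements has block parts of degree zero. -/
theorem blockPart_one_eq_zero {M : Ideal Cfsg.AlgInt} (hM : Cfsg.IsPModular p M)
    {B : Set (Cfsg.IrrCharacter G)} (hB : Cfsg.IsPBlock M B) {F : G → ℂ}
    (hF : ∀ g, ¬ p ∣ orderOf g → F g = 0) :
    ∑ᶠ ψ ∈ B, Cfsg.classInner F (ψ : G → ℂ) * (ψ : G → ℂ) 1 = 0 := by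
  classical
  have hp : p.Prime := Fact.out
  rw [finsum_mem_eq_finite_toFinset_sum _ (Set.toFinite B)]
  simp only [Cfsg.classInner, Finset.mul_sum, Finset.sum_mul]
  rw [Finset.sum_comm]
  refine Finset.sum_eq_zero fun g _ => ?_
  by_cases hg : p ∣ orderOf g
  · have h := Blocks.weak_orthogonality hM hB (x := (1 : G)) (by simp [hp.ne_one]) hg
    rw [finsum_mem_eq_finite_toFinset_sum _ (Set.toFinite B)] at h
    rw [Finset.sum_congr rfl (g := fun ψ : Cfsg.IrrCharacter G => ((Nat.card G : ℂ)⁻¹ * F g) *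
      ((ψ : G → ℂ) 1 * conj ((ψ : G → ℂ) g))) fun ψ _ => by ring, ← Finset.mul_sum, h, mul_zero]
  · exact Finset.sum_eq_zero fun ψ _ => by rw [hF g hg]; ring

omit [Fintype G] in
/-- With `p` dividing the order once, a normal subgroup of order divisible by `p` holds all the
elements of order dividing `p`. -/
theorem mem_of_pow_eq_one [Finite G] {H : Type u} [Group H] [Finite H] (hsq : ¬ p ^ 2 ∣ Nat.card H)
    (N : Subgroup H) [N.Normal] (hN : p ∣ Nat.card N) {u : H} (hu : u ^ p = 1) : u ∈ N := by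
  have hp : p.Prime := Fact.out
  rw [← QuotientGroup.eq_one_iff]
  have h1 : orderOf (u : H ⧸ N) ∣ p := orderOf_dvd_of_pow_eq_one (by
    rw [← QuotientGroup.mk_pow, hu, QuotientGroup.mk_one])
  rcases (Nat.dvd_prime hp).1 h1 with h | h
  · exact orderOf_eq_one_iff.1 h
  · exfalso
    refine hsq ?_
    rw [sq, Subgroup.card_eq_card_quotient_mul_card_subgroup N]
    exact mul_dvd_mul (h ▸ orderOf_dvd_natCard _) hN

include hP in
/-- The core of the argument: `P` is not central, and the proper normal subgroups are central of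
order prime to `p` unless they split off `P`. -/
theorem false_of_small_degree (hsq : ¬ p ^ 2 ∣ Nat.card G)
    (hnorm : ∀ N : Subgroup G, N.Normal → N ≠ ⊤ →
      ¬ p ∣ Nat.card N ∧ (N ⊔ P ≠ ⊤ → N ≤ Subgroup.center G))
    (ξ : Cfsg.IrrCharacter G) (hdeg : 2 * Cfsg.charDegree (ξ : G → ℂ) + 1 < p)
    {x : P} {g : G}
    (hne : (ξ : G → ℂ) ((x : G) * g * (x : G)⁻¹ * g⁻¹) ≠ (ξ : G → ℂ) 1) : False := by
  classical
  have hp : p.Prime := Fact.out
  have hab := comm_of_card hP
  obtain ⟨M, hM⟩ := Blocks.exists_isPModular p hp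
  obtain ⟨nρ, ρ, -, hρ⟩ := ξ.2
  have hρdeg : (ξ : G → ℂ) 1 = (nρ : ℂ) := by
    rw [← hρ, ρ.char_one, Module.finrank_fin_fun]
  have hρid : ∀ a : G, ρ a = LinearMap.id → (ξ : G → ℂ) a = (ξ : G → ℂ) 1 := by
    intro a ha
    rw [hρdeg, ← hρ]
    have := (Char.character_eq_finrank_iff ρ a).2 ha
    rwa [Module.finrank_fin_fun] at this
  have hnt : ∃ u : P, (ξ : G → ℂ) (u : G) ≠ (ξ : G → ℂ) 1 := by
    refine ⟨x, fun h => hne (hρid _ ?_)⟩
    rw [← hρ, ρ.char_one] at h
    have hx1 : ρ (x : G) = 1 := (Char.character_eq_finrank_iff ρ _).1 h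
    have hx2 : ρ (x : G)⁻¹ = 1 := by
      have h2 := map_mul ρ (x : G) (x : G)⁻¹
      rw [mul_inv_cancel, map_one, hx1, one_mul] at h2
      exact h2.symm
    rw [map_mul, map_mul, map_mul, hx1, hx2, one_mul, mul_one, ← map_mul, mul_inv_cancel, map_one]
    rfl
  obtain ⟨η₀, d, hη₀, hs, hn, hval⟩ := exists_single_orbit hP hsq ξ hdeg hnt
  set O := orb η₀ with hO
  set n := Cfsg.charDegree (ξ : G → ℂ) with hndef
  have hnpos : 0 < n := Blocks.charDegree_pos ξ.2
  have hdpos : 0 < d := Nat.pos_of_ne_zero fun h => by rw [hn, h, mul_zero] at hnpos; omega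
  -- the orbit has at least two members
  have hs2 : 2 ≤ O.card := by
    by_contra h
    have hO1 : O = {η₀} := (Finset.eq_of_subset_of_card_le
      (show {η₀} ⊆ O from Finset.singleton_subset_iff.2 (self_mem_orb η₀))
      (by rw [Finset.card_singleton]; omega)).symm
    have hxv := hval x
    rw [hO1, Finset.sum_singleton] at hxv
    obtain ⟨l, hl⟩ := Char.IsChar.exists_hom (Char.IsIrr.isCharacter η₀.2)
      (irr_mul_of_comm hab η₀).1
    have hl1 : ‖(η₀ : P → ℂ) x‖ = 1 := by
      rw [hl]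
      refine Complex.norm_eq_one_of_pow_eq_one (n := Nat.card P) ?_ Nat.card_pos.ne'
      rw [← Units.val_pow_eq_pow_val, ← map_pow, pow_card_eq_one', map_one, Units.val_one]
    have hnd : nρ = d := by
      have h1 : (nρ : ℂ) = (n : ℂ) := by
        rw [← hρdeg, hndef, Blocks.charDegree_cast (Char.IsIrr.isCharacter ξ.2)]
      rw [hn, hO1, Finset.card_singleton, one_mul] at h1
      exact_mod_cast h1
    obtain ⟨ω, hω, -⟩ := Char.scalar_of_norm_character_eq ρ (x : G) (by
      rw [hρ, hxv, norm_mul, hl1, mul_one, Complex.norm_natCast, Module.finrank_fin_fun, hnd])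
    have hω0 : ρ (x : G) * ρ g = ρ g * ρ (x : G) := by
      rw [hω]
      ext v
      simp
    refine hne (hρid _ ?_)
    rw [map_mul, map_mul, map_mul, hω0, mul_assoc (ρ g), ← map_mul ρ (x : G), mul_inv_cancel,
      map_one, mul_one, ← map_mul, mul_inv_cancel, map_one]
    rfl
  -- a Galois conjugate with disjoint support
  obtain ⟨tr, htr⟩ := exists_trivIrr P
  obtain ⟨μ, hμO, hμtr⟩ : ∃ μ : Cfsg.IrrCharacter P, μ ∉ O ∧ μ ≠ tr := by
    by_contra! hall
    have h1 : (Finset.univ : Finset (Cfsg.IrrCharacter P)).card ≤ (insert tr O).card :=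
      Finset.card_le_card fun ν _ => by
        by_cases hν : ν ∈ O
        · exact Finset.mem_insert_of_mem hν
        · rw [hall ν hν]; exact Finset.mem_insert_self _ _
    rw [Finset.card_univ, card_irr hP] at h1
    have := Finset.card_insert_le tr O
    omega
  obtain ⟨k, hkp, hk⟩ := exists_pow_eq hP hη₀ μ
  have hk0 : k ≠ 0 := fun h => hμtr (Subtype.ext (funext fun u => by
    rw [hk, h, pow_zero, htr]))
  obtain ⟨m, hm⟩ : p ∣ Nat.card G := hP ▸ Subgroup.card_subgroup_dvd_card P
  have hcop : p.Coprime m := hp.coprime_iff_not_dvd.2 fun h => hsq (by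
    rw [hm, sq]; exact mul_dvd_mul_left p h)
  obtain ⟨K, hK1, hK2⟩ := Nat.chineseRemainder hcop k 1
  have hKcop : K.Coprime (Nat.card G) := by
    rw [hm]
    refine Nat.Coprime.mul_right ?_ ?_
    · rw [Nat.coprime_comm, hp.coprime_iff_not_dvd, Nat.dvd_iff_mod_eq_zero]
      rw [Nat.ModEq, Nat.mod_eq_of_lt hkp] at hK1
      omega
    · have := hK2.gcd_eq
      rw [Nat.coprime_iff_gcd_eq_one, this, Nat.gcd_one_left]
  let ξK : Cfsg.IrrCharacter G := ⟨_, Char.isIrr_comp_pow K hKcop ξ.2⟩
  have hξKreg : ∀ a : G, ¬ p ∣ orderOf a → (ξK : G → ℂ) a = (ξ : G → ℂ) a := by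
    intro a ha
    have hd : orderOf a ∣ m := ((hp.coprime_iff_not_dvd.2 ha).symm).dvd_of_dvd_mul_left
      (hm ▸ orderOf_dvd_natCard a)
    show (ξ : G → ℂ) (a ^ K) = _
    rw [show a ^ K = a ^ 1 from pow_eq_pow_iff_modEq.2 (hK2.of_dvd hd), pow_one]
  choose f hf using fun η => exists_powIrr hab η k
  have hξKval : ∀ u : P, (ξK : G → ℂ) (u : G) = (d : ℂ) * ∑ η ∈ O, (f η : P → ℂ) u := by
    intro u
    show (ξ : G → ℂ) ((u : G) ^ K) = _
    have hou : orderOf u ∣ p := hP ▸ orderOf_dvd_natCard u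
    rw [← SubgroupClass.coe_pow, show u ^ K = u ^ k from pow_eq_pow_iff_modEq.2 (hK1.of_dvd hou),
      hval]
    congr 1
    refine Finset.sum_congr rfl fun η _ => ?_
    obtain ⟨l, hl⟩ := Char.IsChar.exists_hom (Char.IsIrr.isCharacter η.2)
      (irr_mul_of_comm hab η).1
    rw [hf, hl]
    simp
  let φ₀ : G → ℂ := (ξ : G → ℂ) * fun a => conj ((ξ : G → ℂ) a)
  let φ : G → ℂ := (ξ : G → ℂ) * fun a => conj ((ξK : G → ℂ) a)
  have hφ₀c : Cfsg.IsCharacter G φ₀ :=
    Char.isCharacter_mul (Char.IsIrr.isCharacter ξ.2) (Char.isCharacter_conj (Char.IsIrr.isCharacter ξ.2))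
  have hφc : Cfsg.IsCharacter G φ :=
    Char.isCharacter_mul (Char.IsIrr.isCharacter ξ.2)
      (Char.isCharacter_conj (Char.IsIrr.isCharacter ξK.2))
  choose a ha using fun ψ : Cfsg.IrrCharacter G =>
    Char.classInner_isCharacter_eq_natCast hφ₀c (Char.IsIrr.isCharacter ψ.2)
  choose b hb using fun ψ : Cfsg.IrrCharacter G =>
    Char.classInner_isCharacter_eq_natCast hφc (Char.IsIrr.isCharacter ψ.2)
  have hexp₀ : ∀ z, φ₀ z = ∑ ψ : Cfsg.IrrCharacter G, (a ψ : ℂ) * (ψ : G → ℂ) z := fun z => by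
    rw [congrFun (Char.classFun_expansion (Char.isClassFunction_of_isCharacter hφ₀c)) z,
      Finset.sum_apply]
    exact Finset.sum_congr rfl fun ψ _ => by rw [Pi.smul_apply, smul_eq_mul, ha]
  have hexp : ∀ z, φ z = ∑ ψ : Cfsg.IrrCharacter G, (b ψ : ℂ) * (ψ : G → ℂ) z := fun z => by
    rw [congrFun (Char.classFun_expansion (Char.isClassFunction_of_isCharacter hφc)) z,
      Finset.sum_apply]
    exact Finset.sum_congr rfl fun ψ _ => by rw [Pi.smul_apply, smul_eq_mul, hb]
  set T : Cfsg.IrrCharacter G → ℕ := fun ψ => Blocks.resMult ψ tr with hTdef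
  have hTsum : ∀ ψ : Cfsg.IrrCharacter G,
      ∑ u : P, (ψ : G → ℂ) (u : G) = (p : ℂ) * (T ψ : ℂ) := fun ψ => by
    rw [sum_eq_mult P ψ htr, hP]
  have hlin : ∀ η ν : Cfsg.IrrCharacter P, ∑ i : P, (η : P → ℂ) i * conj ((ν : P → ℂ) i) =
      if η = ν then (Nat.card P : ℂ) else 0 := fun η ν => by convert sum_linear_eq hab η ν
  have hT0 : ∑ ψ : Cfsg.IrrCharacter G, b ψ * T ψ = 0 := by
    have h1 : ∑ u : P, φ (u : G) = 0 := by
      simp only [φ, Pi.mul_apply, hξKval, hval, map_mul, map_sum, Complex.conj_natCast,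
        Finset.mul_sum, Finset.sum_mul]
      rw [Finset.sum_comm]
      refine Finset.sum_eq_zero fun η hη => ?_
      rw [Finset.sum_comm]
      refine Finset.sum_eq_zero fun ν hν => ?_
      rw [Finset.sum_congr rfl (g := fun u : P => (d : ℂ) * d * ((ν : P → ℂ) u *
        conj ((f η : P → ℂ) u))) fun u _ => by ring, ← Finset.mul_sum, hlin, if_neg, mul_zero]
      rintro rfl
      obtain ⟨h, hh, rfl⟩ := mem_orb.1 hη
      refine hμO (mem_orb_trans hν (mem_orb_symm (mem_orb.2 ⟨h, hh, ?_⟩)))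
      refine Subtype.ext (funext fun u => ?_)
      have hu : h * (u : G) * h⁻¹ ∈ P := (Subgroup.mem_normalizer_iff.1 hh _).1 u.2
      rw [hf, twistIrr_apply _ hh u ⟨_, hu⟩ rfl, twistIrr_apply _ hh u ⟨_, hu⟩ rfl, hk]
    simp only [hexp] at h1
    rw [Finset.sum_comm] at h1
    simp only [← Finset.mul_sum, hTsum] at h1
    rw [Finset.sum_congr rfl (g := fun ψ => (p : ℂ) * ((b ψ * T ψ : ℕ) : ℂ)) fun ψ _ => by
      push_cast; ring, ← Finset.mul_sum, ← Nat.cast_sum, mul_eq_zero, Nat.cast_eq_zero,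
      Nat.cast_eq_zero] at h1
    exact h1.resolve_left hp.ne_zero
  have hatriv : a (Blocks.triv G) = 1 := by
    have h := ha (Blocks.triv G)
    rw [show Cfsg.classInner φ₀ ((Blocks.triv G : Cfsg.IrrCharacter G) : G → ℂ) =
      Cfsg.classInner (ξ : G → ℂ) (ξ : G → ℂ) by simp [Cfsg.classInner, φ₀, Blocks.triv],
      Char.classInner_irr_self ξ.2] at h
    exact_mod_cast h.symm
  -- the elements of order prime to `p` centralising `P` are central
  have hcentral : ∀ y ∈ Subgroup.centralizer (P : Set G), ¬ p ∣ orderOf y →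
      y ∈ Subgroup.center G := by
    intro y hy hyr
    have hB0 := Blocks.isPBlock_principalBlock (G := G) M
    obtain ⟨ψ, hψB, hψb⟩ : ∃ ψ ∈ Cfsg.principalBlock M G, b ψ ≠ 0 := by
      by_contra! hall
      have h := blockPart_one_eq_zero hM hB0 (F := fun z => φ₀ z - φ z) fun z hz => by
        simp [φ₀, φ, hξKreg z hz]
      have e1 : ∀ ψ : Cfsg.IrrCharacter G,
          Cfsg.classInner (fun z => φ₀ z - φ z) (ψ : G → ℂ) = (a ψ : ℂ) - (b ψ : ℂ) := fun ψ => by
        rw [← ha, ← hb]
        simp only [Cfsg.classInner, sub_mul, Finset.sum_sub_distrib, mul_sub]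
      rw [finsum_mem_eq_finite_toFinset_sum _ (Set.toFinite _),
        Finset.sum_congr rfl (g := fun ψ => ((a ψ * Cfsg.charDegree (ψ : G → ℂ) : ℕ) : ℂ))
          fun ψ hψ => by
            rw [e1, hall ψ ((Set.Finite.mem_toFinset _).1 hψ), Nat.cast_zero, sub_zero, Nat.cast_mul,
              Blocks.charDegree_cast (Char.IsIrr.isCharacter ψ.2)],
        ← Nat.cast_sum, Nat.cast_eq_zero, Finset.sum_eq_zero_iff] at h
      have h2 := h (Blocks.triv G) ((Set.Finite.mem_toFinset _).2
        (Blocks.triv_mem_principalBlock hM))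
      rw [hatriv, one_mul] at h2
      exact (Blocks.charDegree_pos (Blocks.triv G).2).ne' h2
    have hTψ : T ψ = 0 := by
      have h := Finset.sum_eq_zero_iff.1 hT0 ψ (Finset.mem_univ _)
      exact (Nat.mul_eq_zero.1 h).resolve_left hψb
    have hT' : ∑ u : P, (ψ : G → ℂ) (u : G) = 0 := by rw [hTsum, hTψ, Nat.cast_zero, mul_zero]
    have hyker := eq_degree_of_no_invariants hP hM hsq hψB hT' hy hyr
    obtain ⟨nψ, ρψ, -, hρψ⟩ := ψ.2
    rw [← hρψ, ρψ.char_one] at hyker
    have hy1 : ρψ y = 1 := (Char.character_eq_finrank_iff ρψ y).1 hyker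
    have hkerne : ρψ.ker ≠ ⊤ := by
      intro htop
      have hall : ∀ u : P, (ψ : G → ℂ) (u : G) = (ψ : G → ℂ) 1 := fun u => by
        have hu : (u : G) ∈ ρψ.ker := htop ▸ Subgroup.mem_top _
        rw [MonoidHom.mem_ker] at hu
        rw [← hρψ]
        show LinearMap.trace ℂ _ (ρψ u) = LinearMap.trace ℂ _ (ρψ 1)
        rw [hu, map_one ρψ]
      rw [Finset.sum_congr rfl fun u _ => hall u, Finset.sum_const, nsmul_eq_mul,
        mul_eq_zero] at hT'
      rcases hT' with h | h
      · rw [Finset.card_univ, Nat.cast_eq_zero] at h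
        exact Fintype.card_pos.ne' h
      · obtain ⟨e, he, he'⟩ := Char.IsIrr.degree ψ.2
        rw [he', Nat.cast_eq_zero] at h
        omega
    obtain ⟨hkp', hkc⟩ := hnorm ρψ.ker inferInstance hkerne
    refine hkc (fun htop => ?_) (MonoidHom.mem_ker.2 hy1)
    -- otherwise the normalizer centralises `P`
    have : O.card ≤ 1 := by
      refine (Finset.card_le_one).2 fun η hη ν hν => ?_
      have hsing : ∀ η ∈ O, η = η₀ := by
        intro η hη
        obtain ⟨h, hh, rfl⟩ := mem_orb.1 hη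
        refine Subtype.ext (funext fun u => ?_)
        have hu : h * (u : G) * h⁻¹ ∈ P := (Subgroup.mem_normalizer_iff.1 hh _).1 u.2
        rw [twistIrr_apply _ hh u ⟨_, hu⟩ rfl]
        refine congrArg _ (Subtype.ext ?_)
        show h * (u : G) * h⁻¹ = (u : G)
        have hmap : Subgroup.map (QuotientGroup.mk' ρψ.ker) P = ⊤ := by
          have h1 := congrArg (Subgroup.map (QuotientGroup.mk' ρψ.ker)) htop
          rw [Subgroup.map_sup, QuotientGroup.map_mk'_self, bot_sup_eq,
            Subgroup.map_top_of_surjective _ (QuotientGroup.mk'_surjective _)] at h1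
          exact h1
        obtain ⟨w, hw, hwh⟩ : (QuotientGroup.mk' ρψ.ker h) ∈ Subgroup.map (QuotientGroup.mk' ρψ.ker) P :=
          hmap ▸ Subgroup.mem_top _
        have hker : h * (u : G) * h⁻¹ * (u : G)⁻¹ ∈ ρψ.ker := by
          rw [← QuotientGroup.eq_one_iff]
          show QuotientGroup.mk' ρψ.ker (h * (u : G) * h⁻¹ * (u : G)⁻¹) = 1
          rw [map_mul, map_mul, map_mul, map_inv, map_inv, ← hwh, ← map_inv, ← map_inv, ← map_mul,
            ← map_mul, ← map_mul, hab w hw u u.2, mul_inv_cancel_right, mul_inv_cancel, map_one]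
        have hPm : h * (u : G) * h⁻¹ * (u : G)⁻¹ ∈ P := mul_mem hu (inv_mem u.2)
        have hone : h * (u : G) * h⁻¹ * (u : G)⁻¹ = 1 := by
          by_contra hne1
          refine hkp' ?_
          rw [← hP, ← zpowers_eq hP hPm hne1]
          exact Subgroup.card_dvd_of_le (Subgroup.zpowers_le.2 hker)
        exact mul_inv_eq_one.1 hone
      rw [hsing η hη, hsing ν hν]
    omega
  -- the centralizer of `P` is abelian and fixed by the normalizer off `P`
  have hCP : ∀ c ∈ Subgroup.centralizer (P : Set G),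
      ∃ u ∈ P, ∃ z ∈ Subgroup.center G, c = u * z := by
    intro c hc
    refine ⟨pPartOf p c, ?_, pPrimePartOf p c,
      hcentral _ (pow_mem hc _) (not_dvd_orderOf_pPrimePartOf hp c),
      (pPartOf_mul_pPrimePartOf hp c).symm⟩
    obtain ⟨j, hj⟩ := orderOf_pPartOf hp c
    have hj1 : j ≤ 1 := by
      by_contra h
      exact hsq ((pow_dvd_pow p (show 2 ≤ j by omega)).trans (hj ▸ orderOf_dvd_natCard _))
    have hup : pPartOf p c ^ p = 1 := by
      rw [← orderOf_dvd_iff_pow_eq_one, hj]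
      exact (pow_dvd_pow p hj1).trans (pow_one p).dvd
    set C := Subgroup.centralizer (P : Set G) with hC
    haveI : (P.subgroupOf C).Normal := ⟨fun w hw v => by
      rw [Subgroup.mem_subgroupOf] at hw ⊢
      show (v : G) * (w : G) * (v : G)⁻¹ ∈ P
      rw [← Subgroup.mem_centralizer_iff.1 v.2 (w : G) hw, mul_inv_cancel_right]
      exact hw⟩
    have hPC : P ≤ C := fun w hw => Subgroup.mem_centralizer_iff.2 fun v hv => hab v hv w hw
    have hmem := mem_of_pow_eq_one (G := G) (H := C)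
      (fun h => hsq (h.trans (Subgroup.card_subgroup_dvd_card C))) (P.subgroupOf C)
      (by rw [Nat.card_congr (Subgroup.subgroupOfEquivOfLe hPC).toEquiv, hP])
      (u := ⟨pPartOf p c, pow_mem hc _⟩) (Subtype.ext hup)
    exact Subgroup.mem_subgroupOf.1 hmem
  have hCab : ∀ c ∈ Subgroup.centralizer (P : Set G), ∀ c' ∈ Subgroup.centralizer (P : Set G),
      c * c' = c' * c := by
    intro c hc c' hc'
    obtain ⟨u, hu, z, hz, rfl⟩ := hCP c hc
    obtain ⟨u', hu', z', hz', rfl⟩ := hCP c' hc'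
    calc u * z * (u' * z') = u * (z * u') * z' := by group
      _ = u * (u' * z) * z' := by rw [Subgroup.mem_center_iff.1 hz u']
      _ = (u * u') * (z * z') := by group
      _ = (u' * u) * (z' * z) := by rw [hab u hu u' hu', Subgroup.mem_center_iff.1 hz z']
      _ = u' * (u * z') * z := by group
      _ = u' * (z' * u) * z := by rw [Subgroup.mem_center_iff.1 hz' u]
      _ = u' * z' * (u * z) := by group
  have hfix : ∀ h ∈ Subgroup.normalizer (P : Set G), ∀ z ∈ Subgroup.centralizer (P : Set G),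
      ¬ p ∣ orderOf z → h * z * h⁻¹ = z := fun h _ z hz hzr => by
    rw [Subgroup.mem_center_iff.1 (hcentral z hz hzr) h, mul_inv_cancel_right]
  -- the bound for the constituents
  have hbound : ∀ ψ : Cfsg.IrrCharacter G, ψ ≠ Blocks.triv G →
      (p + 1) * T ψ ≤ 2 * Cfsg.charDegree (ψ : G → ℂ) := by
    intro ψ hψ
    set e := Cfsg.charDegree (ψ : G → ℂ) with he
    by_cases hd : p ∣ e
    · have hcod : ¬ p ∣ Nat.card G / e := by
        intro h
        refine hsq ?_
        have hdG : e ∣ Nat.card G :=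
          Char.IsIrr.degree_dvd_card ψ.2 (Blocks.charDegree_cast (Char.IsIrr.isCharacter ψ.2)).symm
        rw [sq, ← Nat.mul_div_cancel' hdG]
        exact mul_dvd_mul hd h
      have h := hTsum ψ
      rw [Finset.sum_eq_single (1 : P) (fun u _ hu => BlockThms.eq_zero_of_not_dvd_codegree hM ψ hcod
        fun hreg => hreg (by
          rw [← Nat.card_zpowers, zpowers_eq hP u.2 fun h => hu (Subtype.ext h), hP])) (by simp),
        OneMemClass.coe_one, ← Blocks.charDegree_cast (Char.IsIrr.isCharacter ψ.2), ← he,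
        ← Nat.cast_mul, Nat.cast_inj] at h
      rw [h, ← mul_assoc]
      exact Nat.mul_le_mul_right _ (by have := hp.one_lt; omega)
    · obtain ⟨η₁, hout, hk1⟩ := exists_shape hP hsq hM ψ hd
      have hsum := degree_eq_sum hP ψ
      rw [← he] at hsum
      by_cases h1 : ∀ u : P, (η₁ : P → ℂ) u = 1
      · have hη1 : η₁ = tr := Subtype.ext (funext fun u => (h1 u).trans (htr u).symm)
        subst hη1
        have horb : ∀ ν : Cfsg.IrrCharacter P, ν ≠ η₁ → ν ∉ orb η₁ := by
          intro ν hν hmem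
          obtain ⟨h, hh, rfl⟩ := mem_orb.1 hmem
          refine hν (Subtype.ext (funext fun u => ?_))
          rw [twistIrr_apply _ hh u ⟨_, (Subgroup.mem_normalizer_iff.1 hh _).1 u.2⟩ rfl, h1, h1]
        have hμ1 : μ ∉ orb η₁ := horb μ hμtr
        set A := Blocks.resMult ψ μ with hA
        have hle : T ψ ≤ A + 1 := hk1 hCab hfix h1 μ hμ1
        have hTe : e = T ψ + (p - 1) * A := by
          rw [hsum, ← Finset.add_sum_erase _ _ (Finset.mem_univ η₁), ← card_irr hP (P := P),
            ← Finset.card_univ, ← Finset.card_erase_of_mem (Finset.mem_univ η₁), ← smul_eq_mul,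
            ← Finset.sum_const]
          exact congrArg _ (Finset.sum_congr rfl fun ν hν =>
            hout ν μ (horb ν (Finset.ne_of_mem_erase hν)) hμ1)
        have hA0 : A ≠ 0 := by
          intro hA0
          have hall : ∀ u : P, (ψ : G → ℂ) (u : G) = (ψ : G → ℂ) 1 := by
            intro u
            have h2 := Blocks.res_eq_sum_resMult ψ (1 : P)
            rw [OneMemClass.coe_one] at h2
            rw [Blocks.res_eq_sum_resMult ψ u, h2]
            refine Finset.sum_congr rfl fun ν _ => ?_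
            by_cases hν : ν = η₁
            · rw [hν, h1, h1]
            · rw [hout ν μ (horb ν hν) hμ1, ← hA, hA0]; simp
          obtain ⟨nψ, ρψ, -, hρψ⟩ := ψ.2
          have hPker : P ≤ ρψ.ker := fun u hu => by
            rw [MonoidHom.mem_ker]
            have h2 := hall ⟨u, hu⟩
            rw [← hρψ, ρψ.char_one] at h2
            exact (Char.character_eq_finrank_iff ρψ u).1 h2
          have htop : ρψ.ker = ⊤ := by
            by_contra hne'
            exact (hnorm _ inferInstance hne').1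
              (hP ▸ Subgroup.card_dvd_of_le hPker)
          have hψ1 : ∀ z : G, (ψ : G → ℂ) z = (ψ : G → ℂ) 1 := fun z => by
            have hz : z ∈ ρψ.ker := htop ▸ Subgroup.mem_top _
            rw [MonoidHom.mem_ker] at hz
            rw [← hρψ]
            show LinearMap.trace ℂ _ (ρψ z) = LinearMap.trace ℂ _ (ρψ 1)
            rw [hz, map_one ρψ]
          have h3 := Char.classInner_irrChar ψ (Blocks.triv G)
          rw [if_neg hψ] at h3
          simp only [Cfsg.classInner, Blocks.triv, map_one, mul_one] at h3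
          rw [Finset.sum_congr rfl fun z _ => hψ1 z, Finset.sum_const, Finset.card_univ,
            ← Nat.card_eq_fintype_card, nsmul_eq_mul,
            inv_mul_cancel_left₀ (Nat.cast_ne_zero.2 Nat.card_pos.ne')] at h3
          obtain ⟨e', he', he''⟩ := Char.IsIrr.degree ψ.2
          rw [he'', Nat.cast_eq_zero] at h3
          omega
        rw [hTe]
        obtain ⟨p', rfl⟩ : ∃ p', p = p' + 1 := ⟨p - 1, by have := hp.one_lt; omega⟩
        rw [Nat.add_sub_cancel]
        have : 1 ≤ A := Nat.pos_of_ne_zero hA0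
        nlinarith
      · have htrout : tr ∉ orb η₁ := by
          intro h
          obtain ⟨h', hh, he'⟩ := mem_orb.1 (mem_orb_symm h)
          refine h1 fun u => ?_
          rw [he', twistIrr_apply _ hh u ⟨_, (Subgroup.mem_normalizer_iff.1 hh _).1 u.2⟩ rfl, htr]
        have hsize : (orb η₁).card ≤ O.card := card_orb_le hP hη₀
        have hge : (Finset.univ \ orb η₁).card * T ψ ≤ e := by
          rw [hsum, ← smul_eq_mul, ← Finset.sum_const,
            Finset.sum_congr rfl fun η hη => hout tr η htrout (Finset.mem_sdiff.1 hη).2]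
          exact Finset.sum_le_sum_of_subset (Finset.subset_univ _)
        rw [Finset.card_sdiff_of_subset (Finset.subset_univ _), Finset.card_univ, card_irr hP] at hge
        refine le_trans ?_ (Nat.mul_le_mul_left 2 hge)
        rw [← mul_assoc]
        exact Nat.mul_le_mul_right _ (by omega)
  -- the count
  have hT₀ : ∑ ψ : Cfsg.IrrCharacter G, a ψ * T ψ = d ^ 2 * O.card := by
    have h1 : ∑ u : P, φ₀ (u : G) = ((p * (d ^ 2 * O.card) : ℕ) : ℂ) := by
      simp only [φ₀, Pi.mul_apply, hval, map_mul, map_sum, Complex.conj_natCast, Finset.mul_sum,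
        Finset.sum_mul]
      rw [Finset.sum_comm, Finset.sum_congr rfl (g := fun _ => ((d : ℂ) * d * p)) fun η hη => by
        rw [Finset.sum_comm, Finset.sum_congr rfl (g := fun ν => (d : ℂ) * d *
            (if ν = η then (p : ℂ) else 0)) fun ν _ => by
          rw [← hP, ← hlin, Finset.mul_sum]
          exact Finset.sum_congr rfl fun u _ => by ring]
        rw [← Finset.mul_sum, Finset.sum_ite_eq', if_pos hη]]
      rw [Finset.sum_const, nsmul_eq_mul]
      push_cast
      ring
    simp only [hexp₀] at h1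
    rw [Finset.sum_comm] at h1
    simp only [← Finset.mul_sum, hTsum] at h1
    rw [Finset.sum_congr rfl (g := fun ψ => (p : ℂ) * ((a ψ * T ψ : ℕ) : ℂ)) fun ψ _ => by
      push_cast; ring, ← Finset.mul_sum, ← Nat.cast_sum, Nat.cast_mul,
      mul_right_inj' (Nat.cast_ne_zero.2 hp.ne_zero), Nat.cast_inj] at h1
    exact h1
  have hdeg₀ : ∑ ψ : Cfsg.IrrCharacter G, a ψ * Cfsg.charDegree (ψ : G → ℂ) = n ^ 2 := by
    refine Nat.cast_injective (R := ℂ) ?_
    push_cast
    rw [Finset.sum_congr rfl fun ψ _ => by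
      rw [Blocks.charDegree_cast (Char.IsIrr.isCharacter ψ.2)], ← hexp₀]
    show (ξ : G → ℂ) 1 * conj ((ξ : G → ℂ) 1) = _
    rw [← Blocks.charDegree_cast (Char.IsIrr.isCharacter ξ.2), Complex.conj_natCast, ← hndef, sq]
  have hT1 : T (Blocks.triv G) = 1 := by
    have h := hTsum (Blocks.triv G)
    simp only [Blocks.triv, Finset.sum_const, Finset.card_univ, ← Nat.card_eq_fintype_card, hP,
      nsmul_eq_mul, mul_one] at h
    have h2 : p = p * T (Blocks.triv G) := by exact_mod_cast h
    nlinarith [hp.one_lt]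
  have hd1 : Cfsg.charDegree ((Blocks.triv G : Cfsg.IrrCharacter G) : G → ℂ) = 1 :=
    Blocks.charDegree_eq (by simp [Blocks.triv])
  rw [← Finset.add_sum_erase _ _ (Finset.mem_univ (Blocks.triv G)), hatriv, one_mul] at hT₀ hdeg₀
  rw [hT1] at hT₀
  rw [hd1] at hdeg₀
  obtain ⟨A, hA⟩ : ∃ A, A = ∑ ψ ∈ Finset.univ.erase (Blocks.triv G), a ψ * T ψ := ⟨_, rfl⟩
  obtain ⟨D, hD⟩ : ∃ D, D = ∑ ψ ∈ Finset.univ.erase (Blocks.triv G),
      a ψ * Cfsg.charDegree (ψ : G → ℂ) := ⟨_, rfl⟩
  have hAD : (p + 1) * A ≤ 2 * D := by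
    rw [hA, hD, Finset.mul_sum, Finset.mul_sum]
    refine Finset.sum_le_sum fun ψ hψ => ?_
    calc (p + 1) * (a ψ * T ψ) = a ψ * ((p + 1) * T ψ) := by ring
      _ ≤ a ψ * (2 * Cfsg.charDegree (ψ : G → ℂ)) :=
          Nat.mul_le_mul_left _ (hbound ψ (Finset.ne_of_mem_erase hψ))
      _ = 2 * (a ψ * Cfsg.charDegree (ψ : G → ℂ)) := by ring
  rw [← hA] at hT₀
  rw [← hD, hn] at hdeg₀
  rw [hn] at hdeg
  obtain ⟨s, hsdef⟩ : ∃ s, s = O.card := ⟨_, rfl⟩
  rw [← hsdef] at hT₀ hdeg₀ hs2 hdeg
  have h5 : (2 * (s * d) + 3) * A ≤ 2 * D := le_trans (Nat.mul_le_mul_right _ (by omega)) hAD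
  have h6 : 2 ≤ s * d := le_trans hs2 (Nat.le_mul_of_pos_right s hdpos)
  nlinarith [Nat.mul_le_mul_left (s * d) hdpos, Nat.mul_le_mul_left (s * d * s * d) hdpos]

end Cfsg.Agent.BlockChar.DegreeBound
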