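import Cfsg.Agent.BlockChar.Cyclic.DegreeBound

set_option autoImplicit false

namespace Cfsg.Agent.BlockChar.DegreeBound

open Cfsg.Agent Cfsg.Agent.Blocks Cfsg.Agent.BlockChar

universe u

/-- Brauer's bound, by induction on the order. -/
theorem exists_normal_of_card {p : ℕ} [Fact p.Prime] (N : ℕ) :
    ∀ (G : Type u) [Group G] [Finite G], Nat.card G = N → p ∣ Nat.card G → ¬ p ^ 2 ∣ Nat.card G →
      ∀ χ : G → ℂ, Cfsg.IsCharacter G χ → (∀ g : G, χ g = χ 1 → g = 1) →
        2 * Cfsg.charDegree χ + 1 < p → ∃ H : Subgroup G, H.Normal ∧ Nat.card H = p := by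
  induction N using Nat.strong_induction_on with
  | _ N ih =>
  intro G _ _ hN hdiv hsq χ hχ hfaith hdeg
  classical
  have := Fintype.ofFinite G
  have hp : p.Prime := Fact.out
  obtain ⟨z, hz⟩ := exists_prime_orderOf_dvd_card' (G := G) p hdiv
  set P : Subgroup G := Subgroup.zpowers z with hPdef
  have hP : Nat.card P = p := by rw [hPdef, Nat.card_zpowers, hz]
  by_contra hno
  have hpow : ∀ x ∈ P, x ^ p = 1 := fun x hx => by
    have h : (⟨x, hx⟩ : P) ^ Nat.card P = 1 := pow_card_eq_one'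
    rw [hP] at h
    exact congrArg Subtype.val h
  -- proper subgroups containing `P` normalise it
  have hloc : ∀ H : Subgroup G, P ≤ H → H ≠ ⊤ → H ≤ Subgroup.normalizer (P : Set G) := by
    intro H hPH hH
    have hlt : Nat.card H < N := hN ▸ lt_of_le_of_ne (Subgroup.card_le_card_group H)
      (fun h => hH ((Subgroup.card_eq_iff_eq_top H).1 h))
    have hres : Cfsg.IsCharacter H (fun h : H => χ (h : G)) := Char.isCharacter_res H hχ
    have hdegH : Cfsg.charDegree (fun h : H => χ (h : G)) = Cfsg.charDegree χ := by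
      rw [Cfsg.charDegree, Cfsg.charDegree, OneMemClass.coe_one]
    have hsqH : ¬ p ^ 2 ∣ Nat.card H := fun h => hsq (h.trans (Subgroup.card_subgroup_dvd_card H))
    obtain ⟨K, hKn, hK⟩ := ih _ hlt H rfl (hP ▸ Subgroup.card_dvd_of_le hPH) hsqH _ hres
      (fun h hh => Subtype.ext (hfaith h (hh.trans (by rw [OneMemClass.coe_one])))) (hdegH ▸ hdeg)
    have heq : P.subgroupOf H = K := Subgroup.eq_of_le_of_card_ge (fun x hx =>
      mem_of_pow_eq_one (G := G) hsqH K (dvd_of_eq hK.symm) (Subtype.ext (hpow _ hx)))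
      (by rw [Nat.card_congr (Subgroup.subgroupOfEquivOfLe hPH).toEquiv, hP, hK])
    exact (Subgroup.normal_subgroupOf_iff_le_normalizer hPH).1 (heq ▸ hKn)
  have hPn : ¬ P.Normal := fun h => hno ⟨P, h, hP⟩
  -- proper normal subgroups
  have hnorm : ∀ M : Subgroup G, M.Normal → M ≠ ⊤ →
      ¬ p ∣ Nat.card M ∧ (M ⊔ P ≠ ⊤ → M ≤ Subgroup.center G) := by
    have hfirst : ∀ M : Subgroup G, M.Normal → M ≠ ⊤ → ¬ p ∣ Nat.card M := by
      intro M hM hM' hd
      have hPM : P ≤ M := fun x hx => mem_of_pow_eq_one (G := G) hsq M hd (hpow x hx)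
      have hMN := hloc M hPM hM'
      refine hPn ⟨fun x hx g => ?_⟩
      haveI : (P.subgroupOf M).Normal := (Subgroup.normal_subgroupOf_iff_le_normalizer hPM).2 hMN
      have hxM : g * x * g⁻¹ ∈ M := hM.conj_mem x (hPM hx) g
      have h2 := mem_of_pow_eq_one (G := G) (H := M)
        (fun h => hsq (h.trans (Subgroup.card_subgroup_dvd_card M))) (P.subgroupOf M)
        (by rw [Nat.card_congr (Subgroup.subgroupOfEquivOfLe hPM).toEquiv, hP])
        (u := ⟨g * x * g⁻¹, hxM⟩) (Subtype.ext (by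
          show (g * x * g⁻¹) ^ p = 1
          rw [conj_pow, hpow x hx, mul_one, mul_inv_cancel]))
      exact Subgroup.mem_subgroupOf.1 h2
    intro M hM hM'
    refine ⟨hfirst M hM hM', fun hsup => ?_⟩
    have hMN : M ≤ Subgroup.normalizer (P : Set G) := le_sup_left.trans (hloc _ le_sup_right hsup)
    have hMC : ∀ m ∈ M, ∀ x ∈ P, m * x = x * m := by
      intro m hm x hx
      by_contra hne
      have h1 : m * x * m⁻¹ * x⁻¹ ≠ 1 := fun h => hne (by
        calc m * x = m * x * m⁻¹ * x⁻¹ * (x * m) := by group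
          _ = x * m := by rw [h, one_mul])
      have h2 : m * x * m⁻¹ * x⁻¹ ∈ P :=
        mul_mem ((Subgroup.mem_normalizer_iff.1 (hMN hm) x).1 hx) (inv_mem hx)
      have h3 : m * x * m⁻¹ * x⁻¹ ∈ M := by
        rw [show m * x * m⁻¹ * x⁻¹ = m * (x * m⁻¹ * x⁻¹) by group]
        exact mul_mem hm (hM.conj_mem _ (inv_mem hm) x)
      refine hfirst M hM hM' ?_
      rw [← hP, ← PrimeShape.zpowers_eq hP h2 h1]
      exact Subgroup.card_dvd_of_le (Subgroup.zpowers_le.2 h3)
    haveI := hM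
    have hCtop : Subgroup.centralizer (M : Set G) = ⊤ := by
      by_contra h
      refine hfirst _ inferInstance h (hP ▸ Subgroup.card_dvd_of_le ?_)
      exact fun x hx => Subgroup.mem_centralizer_iff.2 fun m hm => hMC m hm x hx
    intro m hm
    refine Subgroup.mem_center_iff.2 fun g => ?_
    exact (Subgroup.mem_centralizer_iff.1 (hCtop ▸ Subgroup.mem_top g :
      g ∈ Subgroup.centralizer (M : Set G)) m hm).symm
  -- a constituent moving `P`
  obtain ⟨x, g, hxg⟩ : ∃ (x : P) (g : G), (x : G) * g * (x : G)⁻¹ * g⁻¹ ≠ 1 := by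
    by_contra! hall
    refine hPn ⟨fun x hx g => ?_⟩
    have h := hall ⟨x, hx⟩ g
    have : g * x * g⁻¹ = x := by
      calc g * x * g⁻¹ = (x * g * x⁻¹ * g⁻¹) * (g * x * g⁻¹) := by rw [show x * g * x⁻¹ * g⁻¹ = 1 from h, one_mul]
        _ = x := by group
    rwa [this]
  choose a ha using fun ψ : Cfsg.IrrCharacter G =>
    Char.classInner_isCharacter_eq_natCast hχ (Char.IsIrr.isCharacter ψ.2)
  have hexp : ∀ w, χ w = ∑ ψ : Cfsg.IrrCharacter G, (a ψ : ℂ) * (ψ : G → ℂ) w := fun w => by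
    rw [congrFun (Char.classFun_expansion (Char.isClassFunction_of_isCharacter hχ)) w,
      Finset.sum_apply]
    exact Finset.sum_congr rfl fun ψ _ => by rw [Pi.smul_apply, smul_eq_mul, ha]
  have hdegsum : Cfsg.charDegree χ = ∑ ψ : Cfsg.IrrCharacter G, a ψ * Cfsg.charDegree (ψ : G → ℂ) := by
    refine Nat.cast_injective (R := ℂ) ?_
    push_cast
    rw [Blocks.charDegree_cast hχ, hexp 1]
    exact Finset.sum_congr rfl fun ψ _ => by rw [Blocks.charDegree_cast (Char.IsIrr.isCharacter ψ.2)]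
  obtain ⟨ξ, hξa, hξ⟩ : ∃ ξ : Cfsg.IrrCharacter G, a ξ ≠ 0 ∧
      (ξ : G → ℂ) ((x : G) * g * (x : G)⁻¹ * g⁻¹) ≠ (ξ : G → ℂ) 1 := by
    by_contra! hall
    refine hxg (hfaith _ ?_)
    rw [hexp, hexp 1]
    refine Finset.sum_congr rfl fun ψ _ => ?_
    by_cases h : a ψ = 0
    · simp [h]
    · rw [hall ψ h]
  refine false_of_small_degree hP hsq hnorm ξ ?_ hξ
  have h1 : a ξ * Cfsg.charDegree (ξ : G → ℂ) ≤ Cfsg.charDegree χ := by
    rw [hdegsum]
    exact Finset.single_le_sum (f := fun ψ : Cfsg.IrrCharacter G => a ψ * Cfsg.charDegree (ψ : G → ℂ))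
      (fun _ _ => Nat.zero_le _) (Finset.mem_univ ξ)
  have h2 := Nat.le_mul_of_pos_left (Cfsg.charDegree (ξ : G → ℂ)) (Nat.pos_of_ne_zero hξa)
  omega

end Cfsg.Agent.BlockChar.DegreeBound
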