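import Mathlib

/-!
# Density for a family of pairwise different simple modules
-/

set_option autoImplicit false

namespace Cfsg.Agent.BlockChar.Cyclic

universe u v w

variable {k : Type w} [Field k] [IsAlgClosed k] {R : Type u} [Ring R] [Algebra k R]

/-- Any tuple of endomorphisms of pairwise different simple modules comes from the algebra. -/
theorem exists_smul_eq {ι : Type*} [Fintype ι] (V : ι → Type v) [∀ j, AddCommGroup (V j)]
    [∀ j, Module k (V j)] [∀ j, Module R (V j)] [∀ j, IsScalarTower k R (V j)]
    [∀ j, FiniteDimensional k (V j)] [∀ j, IsSimpleModule R (V j)]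
    (hne : ∀ i j, i ≠ j → ∀ T : V i →ₗ[R] V j, T = 0) (F : ∀ j, Module.End k (V j)) :
    ∃ a : R, ∀ j (x : V j), a • x = F j x := by
  classical
  have hsem : IsSemisimpleModule R (∀ j, V j) :=
    isSemisimpleModule_of_isSemisimpleModule_submodule'
      (fun j => IsSemisimpleModule.congr
        (LinearEquiv.ofInjective (LinearMap.single R V j) (Pi.single_injective j)).symm)
      (LinearMap.iSup_range_single R V)
  have hscalar : ∀ (u : Module.End R (∀ j, V j)) (j : ι), ∃ c : k,
      ∀ x : ∀ j, V j, u x j = c • x j := by
    intro u j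
    have : Nontrivial (V j) := IsSimpleModule.nontrivial R (V j)
    set uj : V j →ₗ[R] V j := LinearMap.proj j ∘ₗ u ∘ₗ LinearMap.single R V j with huj
    obtain ⟨c, hc⟩ := Module.End.exists_eigenvalue (uj.restrictScalars k)
    obtain ⟨v, hv⟩ := hc.exists_hasEigenvector
    refine ⟨c, fun x => ?_⟩
    have hzero : uj - c • LinearMap.id = 0 :=
      (LinearMap.bijective_or_eq_zero _).resolve_left fun hb => hv.2 (hb.1 (by
        simp only [LinearMap.sub_apply, LinearMap.smul_apply, LinearMap.id_apply, map_zero,
          smul_zero, sub_zero]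
        rw [sub_eq_zero]
        exact hv.apply_eq_smul))
    have hdec : u x = ∑ l, u (LinearMap.single R V l (x l)) := by
      rw [← map_sum]
      congr 1
      exact (Finset.univ_sum_single x).symm
    rw [hdec, Finset.sum_apply, Finset.sum_eq_single j]
    · have := LinearMap.congr_fun hzero (x j)
      simp only [LinearMap.sub_apply, LinearMap.smul_apply, LinearMap.id_apply,
        LinearMap.zero_apply, sub_eq_zero] at this
      exact this
    · intro l _ hl
      exact LinearMap.congr_fun (hne l j hl
        (LinearMap.proj j ∘ₗ u ∘ₗ LinearMap.single R V l)) (x l)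
    · intro h; exact absurd (Finset.mem_univ j) h
  let F' : Module.End (Module.End R (∀ j, V j)) (∀ j, V j) :=
    { toFun := fun x j => F j (x j)
      map_add' := fun x y => funext fun j => map_add (F j) _ _
      map_smul' := fun u x => funext fun j => by
        obtain ⟨c, hc⟩ := hscalar u j
        simp only [RingHom.id_apply, Module.End.smul_def, hc, map_smul] }
  let bs := Module.finBasis k (∀ j, V j)
  obtain ⟨a, ha⟩ := jacobson_density F' (Finset.univ.image bs)
  refine ⟨a, fun j x => ?_⟩
  have hlin : (Algebra.lsmul k k (∀ l, V l) a : Module.End k (∀ l, V l)) =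
      LinearMap.pi fun l => F l ∘ₗ LinearMap.proj l :=
    bs.ext fun l => (ha _ (Finset.mem_image.2 ⟨l, Finset.mem_univ _, rfl⟩)).symm
  have h := congrFun (LinearMap.congr_fun hlin (Pi.single j x)) j
  simpa using h

/-- A simple module over an algebraically closed field: the algebra maps onto its endomorphisms. -/
theorem exists_smul_eq_end {V : Type v} [AddCommGroup V] [Module k V] [Module R V]
    [IsScalarTower k R V] [FiniteDimensional k V] [IsSimpleModule R V] (F : Module.End k V) :
    ∃ a : R, ∀ x : V, a • x = F x := by
  obtain ⟨a, ha⟩ := exists_smul_eq (k := k) (R := R) (ι := Unit) (fun _ => V)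
    (fun i j h => absurd (Subsingleton.elim i j) h) (fun _ => F)
  exact ⟨a, ha ()⟩

/-- An endomorphism of a simple module is a scalar. -/
theorem exists_scalar {V : Type v} [AddCommGroup V] [Module k V] [Module R V]
    [IsScalarTower k R V] [FiniteDimensional k V] [IsSimpleModule R V] (T : V →ₗ[R] V) :
    ∃ c : k, ∀ x, T x = c • x := by
  have : Nontrivial V := IsSimpleModule.nontrivial R V
  obtain ⟨c, hc⟩ := Module.End.exists_eigenvalue (T.restrictScalars k)
  obtain ⟨v, hv⟩ := hc.exists_hasEigenvector
  refine ⟨c, fun x => ?_⟩
  have hzero : T - c • LinearMap.id = 0 :=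
    (LinearMap.bijective_or_eq_zero _).resolve_left fun hb => hv.2 (hb.1 (by
      simp only [LinearMap.sub_apply, LinearMap.smul_apply, LinearMap.id_apply, map_zero,
        smul_zero, sub_zero]
      rw [sub_eq_zero]
      exact hv.apply_eq_smul))
  simpa [sub_eq_zero] using LinearMap.congr_fun hzero x

end Cfsg.Agent.BlockChar.Cyclic
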