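import Cfsg.Agent.BlockChar.Cyclic.Residue
import Cfsg.Agent.BlockChar.Cyclic.Corner
import Cfsg.Agent.BlockChar.Cyclic.Brauer
import Cfsg.Agent.BrauerPairs.Nilpotent
import Cfsg.Agent.BrauerPairs.Maximal
import Cfsg.Agent.BlockThms.DefectGroup

/-!
# Subgroup algebras, idempotents of their blocks and trace roots
-/

set_option autoImplicit false

namespace Cfsg.Agent.BlockChar.Cyclic

open scoped ComplexConjugate
open Cfsg.Agent Cfsg.Agent.Blocks Cfsg.Agent.BrauerPairs Cfsg.Agent.BlockChar.ResidueBlock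

universe u w

section Emb

variable (k : Type w) [Field k] {G : Type u} [Group G]

/-- The group algebra of a subgroup inside that of the group. -/
noncomputable def emb (K : Subgroup G) : MonoidAlgebra k K →ₐ[k] MonoidAlgebra k G :=
  MonoidAlgebra.mapDomainAlgHom k k K.subtype

variable {K : Subgroup G}

theorem coeff_emb (x : MonoidAlgebra k K) :
    (emb k K x).coeff = Finsupp.mapDomain K.subtype x.coeff := rfl

theorem coeff_emb_coe (x : MonoidAlgebra k K) (h : K) :
    (emb k K x).coeff (h : G) = x.coeff h := by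
  rw [coeff_emb]
  exact Finsupp.mapDomain_apply K.subtype_injective _ h

theorem emb_mem (x : MonoidAlgebra k K) : emb k K x ∈ kSub k K := fun g hg => by
  rw [coeff_emb]
  refine Finsupp.mapDomain_notin_range _ _ ?_
  rintro ⟨h, rfl⟩
  exact hg h.2

theorem emb_injective : Function.Injective (emb k K) := fun x y h =>
  MonoidAlgebra.coeff_injective (Finsupp.ext fun a => by
    rw [← coeff_emb_coe, ← coeff_emb_coe, h])

theorem emb_of (h : K) :
    emb k K (MonoidAlgebra.of k K h) = MonoidAlgebra.of k G (h : G) := by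
  refine MonoidAlgebra.coeff_injective ?_
  rw [coeff_emb]
  simp [MonoidAlgebra.of_apply, Finsupp.mapDomain_single]

theorem exists_emb_eq [Finite K] {x : MonoidAlgebra k G} (hx : x ∈ kSub k K) :
    ∃ y, emb k K y = x := by
  classical
  have := Fintype.ofFinite K
  refine ⟨∑ h : K, MonoidAlgebra.single h (x.coeff (h : G)), ?_⟩
  refine MonoidAlgebra.coeff_injective (Finsupp.ext fun g => ?_)
  by_cases hg : g ∈ K
  · rw [← Subgroup.coe_mk K g hg, coeff_emb_coe, MonoidAlgebra.coeff_sum,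
      Finsupp.finsetSum_apply]
    simp [Finsupp.single_apply]
  · rw [hx g hg, emb_mem k _ g hg]

theorem emb_conjRep (h : K) (x : MonoidAlgebra k K) :
    emb k K (conjRep k h x) = conjRep k (h : G) (emb k K x) := by
  rw [conjRep_apply, conjRep_apply, map_mul, map_mul, emb_of, emb_of]
  rfl

/-- A frame of the subgroup algebra is a frame inside the group algebra. -/
theorem emb_frame [Finite K] {ε t i : MonoidAlgebra k K} {N : ℕ}
    (F : Frame (⊤ : Subalgebra k (MonoidAlgebra k K)) ε t i N) :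
    Frame (kSub k K) (emb k K ε) (emb k K t) (emb k K i) N where
  eps_mem := emb_mem k _
  t_mem := emb_mem k _
  i_mem := emb_mem k _
  idem := by rw [← map_mul, F.idem]
  eps_comm s hs := by
    obtain ⟨y, rfl⟩ := exists_emb_eq k hs
    rw [← map_mul, ← map_mul, F.eps_comm y trivial]
  t_comm s hs := by
    obtain ⟨y, rfl⟩ := exists_emb_eq k hs
    rw [← map_mul, ← map_mul, F.t_comm y trivial]
  eps_i := by rw [← map_mul, F.eps_i]
  t_pow := by rw [← map_pow, F.t_pow, map_zero]
  t_top h := F.t_top (emb_injective k (by rw [map_mul, map_pow, h, map_zero]))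
  corner a ha := by
    obtain ⟨y, rfl⟩ := exists_emb_eq k ha
    obtain ⟨c, b, -, e⟩ := F.corner y trivial
    exact ⟨c, emb k K b, emb_mem k _, by
      simp only [← map_mul, ← map_smul, ← map_add, e]⟩
  gen := by
    obtain ⟨n, u, v, -, -, e⟩ := F.gen
    exact ⟨n, fun a => emb k K (u a), fun a => emb k K (v a), fun a => emb_mem k _,
      fun a => emb_mem k _, by simp only [← map_mul, ← map_sum, e]⟩

theorem emb_relTr [Finite G] {P : Subgroup G} {x : MonoidAlgebra k K}
    (hx : Fixed (conjRep k) (P.subgroupOf K) x) (hPK : P ≤ K) :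
    emb k K (relTr (conjRep k) (P.subgroupOf K) ⊤ x) = relTr (conjRep k) P K (emb k K x) := by
  classical
  have := Fintype.ofFinite ((⊤ : Subgroup K) ⧸ (P.subgroupOf K).subgroupOf ⊤)
  have := Fintype.ofFinite (K ⧸ P.subgroupOf K)
  rw [relTr_apply, relTr_apply, map_sum]
  refine Finset.sum_bij (fun q _ => (((q.out : (⊤ : Subgroup K)) : K) : K ⧸ P.subgroupOf K))
    (fun q _ => Finset.mem_univ _) ?_ ?_ ?_
  · intro q _ q' _ h
    rw [← QuotientGroup.out_eq' q, ← QuotientGroup.out_eq' q', QuotientGroup.eq,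
      Subgroup.mem_subgroupOf]
    exact (QuotientGroup.eq (s := P.subgroupOf K)).1 h
  · intro q _
    refine ⟨((⟨q.out, Subgroup.mem_top _⟩ : (⊤ : Subgroup K)) :
      (⊤ : Subgroup K) ⧸ (P.subgroupOf K).subgroupOf ⊤), Finset.mem_univ _, ?_⟩
    obtain ⟨n, hn⟩ := QuotientGroup.mk_out_eq_mul ((P.subgroupOf K).subgroupOf ⊤)
      (⟨q.out, Subgroup.mem_top _⟩ : (⊤ : Subgroup K))
    rw [hn]
    conv_rhs => rw [← QuotientGroup.out_eq' q]
    rw [QuotientGroup.eq, Subgroup.coe_mul, mul_inv_rev, mul_assoc, inv_mul_cancel, mul_one]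
    exact inv_mem (Subgroup.mem_subgroupOf.1 n.2)
  · intro q _
    rw [emb_conjRep]
    have hfix : Fixed (conjRep k) P (emb k K x) := fun u hu => by
      rw [← show ((⟨u, hPK hu⟩ : K) : G) = u from rfl, ← emb_conjRep, hx _ (by exact hu)]
    exact (apply_out hfix ((q.out : (⊤ : Subgroup K)) : K)).symm

end Emb

attribute [local instance] Ideal.Quotient.field

set_option synthInstance.maxHeartbeats 400000

section Residue

variable {G : Type u} [Group G] [Fintype G] {p : ℕ} {M : Ideal Cfsg.AlgInt}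

/-- The reduced idempotent of a block of a subgroup, inside the group algebra. -/
noncomputable def eElt (hM : Cfsg.IsPModular p M) (K : Subgroup G)
    (f : Set (Cfsg.IrrCharacter K)) : MonoidAlgebra (Cfsg.AlgInt ⧸ M) G :=
  res hM (Cfsg.subgroupBlockCoeff K f)

variable [M.IsMaximal] (hM : Cfsg.IsPModular p M) {K : Subgroup G}
  {f f' : Set (Cfsg.IrrCharacter K)}
include hM

omit [M.IsMaximal] in
theorem resFun_zero' : resFun hM (0 : ℂ) = 0 := by simpa using resFun_coe hM (0 : Cfsg.AlgInt)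

theorem res_zero : res hM (0 : G → ℂ) = 0 := by
  refine MonoidAlgebra.coeff_injective (Finsupp.ext fun g => ?_)
  rw [coeff_res, Pi.zero_apply, resFun_zero' hM]
  simp

theorem emb_res [Fintype K] (F : K → ℂ) (F' : G → ℂ) (h : ∀ a : K, F' a = F a)
    (h0 : ∀ g, g ∉ K → F' g = 0) :
    emb (Cfsg.AlgInt ⧸ M) K (res hM F) = res hM F' := by
  refine MonoidAlgebra.coeff_injective (Finsupp.ext fun g => ?_)
  rw [coeff_res]
  by_cases hg : g ∈ K
  · rw [← Subgroup.coe_mk K g hg, coeff_emb_coe, coeff_res, h]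
  · rw [h0 g hg, resFun_zero' hM, emb_mem _ _ g hg]

theorem emb_bElt [Fintype K] : emb (Cfsg.AlgInt ⧸ M) K (bElt hM f) = eElt hM K f :=
  emb_res hM _ _ (fun a => sbc_apply f a) fun _ hg => sbc_of_notMem f hg

theorem eElt_mem : eElt hM K f ∈ kSub (Cfsg.AlgInt ⧸ M) K := fun g hg => by
  rw [eElt, coeff_res, sbc_of_notMem f hg, resFun_zero' hM]

theorem eElt_idem (hf : Cfsg.IsPBlock M f) : eElt hM K f * eElt hM K f = eElt hM K f := by
  have := Fintype.ofFinite K
  rw [← emb_bElt hM, ← map_mul, bElt_idem hM hf]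

theorem eElt_comm {s : MonoidAlgebra (Cfsg.AlgInt ⧸ M) G}
    (hs : s ∈ kSub (Cfsg.AlgInt ⧸ M) K) : eElt hM K f * s = s * eElt hM K f := by
  have := Fintype.ofFinite K
  obtain ⟨y, rfl⟩ := exists_emb_eq _ hs
  rw [← emb_bElt hM, ← map_mul, ← map_mul, bElt_central hM]

theorem conjRep_eElt (g : G) : conjRep (Cfsg.AlgInt ⧸ M) g (eElt hM K f) =
    res hM (fun x => Cfsg.subgroupBlockCoeff K f (g⁻¹ * x * g)) := by
  refine MonoidAlgebra.coeff_injective (Finsupp.ext fun z => ?_)
  rw [coeff_conjRep, eElt, coeff_res, coeff_res]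

theorem eElt_fixed {T : Subgroup G}
    (h : IsInv (T : Set G) (Cfsg.subgroupBlockCoeff K f)) :
    Fixed (conjRep (Cfsg.AlgInt ⧸ M)) T (eElt hM K f) := fun g hg => by
  rw [conjRep_eElt, eElt]
  exact congrArg (res hM) (funext fun x => h.conj_inv hg x)

theorem eElt_orth (hf : Cfsg.IsPBlock M f) (hf' : Cfsg.IsPBlock M f') (hne : f ≠ f') :
    eElt hM K f * eElt hM K f' = 0 := by
  have hd : Disjoint f f' := Set.disjoint_left.2 fun ξ h h' => hne (eq_of_mem hM hf hf' h h')
  rw [eElt, eElt, ← res_conv hM (memLocalRing_sbc hM hf) (memLocalRing_sbc hM hf'),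
    conv_sbc_disjoint hd, res_zero hM]

theorem bElt_ne_zero {B : Set (Cfsg.IrrCharacter G)} (hB : Cfsg.IsPBlock M B) :
    bElt hM B ≠ 0 := by
  classical
  intro h
  obtain ⟨χ, hχ⟩ := IsPBlock.nonempty hM hB
  have h1 := congr_of_res_eq hM (memLocalRing_blockCoeff hM hB) (f' := 0)
    (fun _ => (localRing hM).zero_mem) (h.trans (res_zero hM).symm)
  simp only [Pi.zero_apply, sub_zero] at h1
  have h2 := omega_ideal hM χ.2 (isClassFunction_blockCoeff B) h1
  rw [omega_blockCoeff, if_pos hχ] at h2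
  exact not_memLocalIdeal_one hM h2

theorem eElt_ne_zero (hf : Cfsg.IsPBlock M f) : eElt hM K f ≠ 0 := by
  have := Fintype.ofFinite K
  rw [← emb_bElt hM]
  exact fun h => bElt_ne_zero hM hf (emb_injective _ (by rw [h, map_zero]))

end Residue

section Pairs

variable {G : Type u} [Group G] [Fintype G] {p : ℕ} {M : Ideal Cfsg.AlgInt} [M.IsMaximal]
  (hM : Cfsg.IsPModular p M) {Q : Subgroup G}
  {f : Set (Cfsg.IrrCharacter (Subgroup.centralizer (Q : Set G)))}
include hM

/-- Conjugates outside the stabilizer are orthogonal. -/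
theorem eElt_conj_mul_eq_zero (hf : Cfsg.IsPBlock M f) {g : G}
    (hg : g ∈ Subgroup.normalizer (Q : Set G))
    (hst : ¬ Cfsg.StabilizesBlock (Subgroup.centralizer (Q : Set G)) f g) :
    conjRep (Cfsg.AlgInt ⧸ M) g (eElt hM (Subgroup.centralizer (Q : Set G)) f) *
      eElt hM (Subgroup.centralizer (Q : Set G)) f = 0 := by
  have hC : ∀ y, y ∈ Subgroup.centralizer (Q : Set G) ↔
      g * y * g⁻¹ ∈ Subgroup.centralizer (Q : Set G) :=
    fun y => mem_centralizer_iff_of_mem_normalizer hg y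
  set f' := mapBlock (BlockChar.conjIso _ _ g hC) f with hf'def
  have hsbc : ∀ x, Cfsg.subgroupBlockCoeff (Subgroup.centralizer (Q : Set G)) f' x =
      Cfsg.subgroupBlockCoeff (Subgroup.centralizer (Q : Set G)) f (g⁻¹ * x * g) :=
    fun x => sbc_mapBlock _ _ g hC f x
  have h1 : conjRep (Cfsg.AlgInt ⧸ M) g (eElt hM (Subgroup.centralizer (Q : Set G)) f) =
      eElt hM (Subgroup.centralizer (Q : Set G)) f' := by
    rw [conjRep_eElt, eElt]
    exact congrArg (res hM) (funext fun x => (hsbc x).symm)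
  rw [h1]
  refine eElt_orth hM (isPBlock_mapBlock _ hf) hf fun he => hst ?_
  refine ((conjPair_eq_iff hM hf g).1 (idx_ext (map_conj_eq hg) fun x => ?_)).2
  rw [sbc_conjPair]
  have := hsbc x
  rw [show f' = f from he] at this
  exact this.symm

/-- The idempotent of a block of a pair lies in the Brauer image of the block. -/
theorem trunc_bElt_mul_eElt [Fact p.Prime] {B : Set (Cfsg.IrrCharacter G)}
    (h : Cfsg.IsBrauerPairOf p M B Q f) :
    trunc (Cfsg.AlgInt ⧸ M) (Subgroup.centralizer (Q : Set G)) (bElt hM B) *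
      eElt hM (Subgroup.centralizer (Q : Set G)) f =
        eElt hM (Subgroup.centralizer (Q : Set G)) f := by
  classical
  have := charP_residueField hM
  have hB := h.2.1
  have hf := h.1.2
  have := Fintype.ofFinite (Subgroup.centralizer (Q : Set G))
  set v : (Subgroup.centralizer (Q : Set G)) → ℂ := fun a => Cfsg.blockCoeff B (a : G) with hv
  have hvc : Cfsg.IsClassFunction (Subgroup.centralizer (Q : Set G)) v := fun a c => by
    simpa [hv] using isClassFunction_blockCoeff B (a : G) (c : G)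
  have hvR : ∀ a, Cfsg.MemLocalRing M (v a) := fun a => memLocalRing_blockCoeff hM hB _
  have htr : emb (Cfsg.AlgInt ⧸ M) (Subgroup.centralizer (Q : Set G)) (res hM v) = trunc (Cfsg.AlgInt ⧸ M) (Subgroup.centralizer (Q : Set G)) (bElt hM B) := by
    refine MonoidAlgebra.coeff_injective (Finsupp.ext fun g => ?_)
    rw [coeff_trunc]
    split_ifs with hg
    · rw [← Subgroup.coe_mk (Subgroup.centralizer (Q : Set G)) g hg, coeff_emb_coe, coeff_res, bElt, coeff_res]
    · exact emb_mem _ _ g hg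
  have hfix : Fixed (conjRep (Cfsg.AlgInt ⧸ M)) Q (bElt hM B) := fun u _ => by
    rw [conjRep_apply, ← bElt_central hM, mul_assoc, ← map_mul, mul_inv_cancel, map_one, mul_one]
  have hvidem : res hM v * res hM v = res hM v := emb_injective _ (by
    rw [map_mul, htr, ← trunc_mul_of_fixed _ h.1.1 hfix hfix, bElt_idem hM hB])
  rcases eq_zero_or_eq_bElt hM hf (z := res hM v * bElt hM f) (fun x => by
      rw [mul_assoc, bElt_central hM x, ← mul_assoc, res_central hM hvc, mul_assoc]) (by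
      rw [mul_assoc, ← mul_assoc (bElt hM f), bElt_central hM, mul_assoc, bElt_idem hM hf,
        ← mul_assoc, hvidem]) (by
      rw [← mul_assoc, bElt_central hM, mul_assoc, bElt_idem hM hf]) with h0 | h0
  · exfalso
    obtain ⟨ξ, hξ⟩ := IsPBlock.nonempty hM hf
    have hfR := memLocalRing_blockCoeff hM hf
    have h1 := congr_of_res_eq hM (memLocalRing_conv hM hvR hfR) (f' := 0)
      (fun _ => (localRing hM).zero_mem)
      (((res_conv hM hvR hfR).trans h0).trans (res_zero hM).symm)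
    simp only [Pi.zero_apply, sub_zero] at h1
    have h2 := omega_ideal hM ξ.2 (isClassFunction_conv hvc (isClassFunction_blockCoeff f)) h1
    rw [omega_conv ξ.2 hvc (isClassFunction_blockCoeff f), omega_blockCoeff, if_pos hξ,
      mul_one] at h2
    have h3 := h.2.2 ξ hξ
    rw [brauerOmega_eq] at h3
    refine not_memLocalIdeal_one hM ?_
    simpa [hv] using memLocalIdeal_sub hM h2 h3
  · rw [← htr, ← emb_bElt hM, ← map_mul, h0]

end Pairs

section Root

variable {G : Type u} [Group G] [Fintype G] {p : ℕ} {M : Ideal Cfsg.AlgInt} [M.IsMaximal]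

/-- The idempotent of a block is a trace from a defect group. -/
theorem exists_trace_root [Fact p.Prime] (hM : Cfsg.IsPModular p M)
    {B : Set (Cfsg.IrrCharacter G)} (hB : Cfsg.IsPBlock M B) {D : Subgroup G}
    (hD : Cfsg.IsDefectGroup p M B D) :
    ∃ b, Fixed (conjRep (Cfsg.AlgInt ⧸ M)) D b ∧
      relTr (conjRep (Cfsg.AlgInt ⧸ M)) D ⊤ b = bElt hM B := by
  classical
  have := charP_residueField hM
  obtain ⟨g₀, hg₀, hgD⟩ := DefectThms.isDefectGroup_iff.1 hD
  let S : Submodule (Cfsg.AlgInt ⧸ M) (MonoidAlgebra (Cfsg.AlgInt ⧸ M) G) :=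
    { carrier := {y | ∃ b, Fixed (conjRep (Cfsg.AlgInt ⧸ M)) D b ∧
        relTr (conjRep (Cfsg.AlgInt ⧸ M)) D ⊤ b = y}
      add_mem' := by
        rintro _ _ ⟨b, hb, rfl⟩ ⟨b', hb', rfl⟩
        exact ⟨b + b', fun u hu => by rw [map_add, hb u hu, hb' u hu], map_add _ _ _⟩
      zero_mem' := ⟨0, fun u _ => map_zero _, map_zero _⟩
      smul_mem' := by
        rintro r _ ⟨b, hb, rfl⟩
        exact ⟨r • b, fun u hu => by rw [map_smul, hb u hu], map_smul _ _ _⟩ }
  suffices bElt hM B ∈ S from this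
  have : Finite (ConjClasses G) := Quotient.finite _
  have := Fintype.ofFinite (ConjClasses G)
  set cs : G → MonoidAlgebra (Cfsg.AlgInt ⧸ M) G := fun g =>
    ∑ x ∈ Finset.univ.filter (fun x => IsConj g x), MonoidAlgebra.of _ G x with hcs
  have hexp : bElt hM B = ∑ C : ConjClasses G,
      resFun hM (Cfsg.blockCoeff B C.out) • cs C.out := by
    refine MonoidAlgebra.coeff_injective (Finsupp.ext fun z => ?_)
    rw [bElt, coeff_res, MonoidAlgebra.coeff_sum, Finsupp.finsetSum_apply,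
      Finset.sum_eq_single (ConjClasses.mk z)]
    · have hz : IsConj (ConjClasses.mk z).out z :=
        ConjClasses.mk_eq_mk_iff_isConj.1 (Quotient.out_eq _)
      obtain ⟨c, hc⟩ := isConj_iff.1 hz
      rw [MonoidAlgebra.coeff_smul_apply, hcs, MonoidAlgebra.coeff_sum, Finsupp.finsetSum_apply]
      simp only [MonoidAlgebra.of_apply, MonoidAlgebra.coeff_single, Finsupp.single_apply]
      rw [Finset.sum_ite_eq', if_pos (Finset.mem_filter.2 ⟨Finset.mem_univ _, hz⟩), smul_eq_mul,
        mul_one]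
      conv_lhs => rw [← hc, isClassFunction_blockCoeff B]
    · intro C _ hne
      rw [MonoidAlgebra.coeff_smul_apply, hcs, MonoidAlgebra.coeff_sum, Finsupp.finsetSum_apply]
      simp only [MonoidAlgebra.of_apply, MonoidAlgebra.coeff_single, Finsupp.single_apply]
      rw [Finset.sum_ite_eq', if_neg, smul_zero]
      intro hz
      refine hne ?_
      rw [← Quotient.out_eq C]
      exact ConjClasses.mk_eq_mk_iff_isConj.2 (Finset.mem_filter.1 hz).2
    · exact fun h => absurd (Finset.mem_univ _) h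
  rw [hexp]
  refine Submodule.sum_mem _ fun C _ => ?_
  by_cases hC : Cfsg.MemLocalIdeal M (Cfsg.blockCoeff B C.out)
  · convert S.zero_mem using 1
    rw [(resFun_eq_zero_iff hM (memLocalRing_blockCoeff hM hB _)).2 hC]
    exact zero_smul (Cfsg.AlgInt ⧸ M) (cs C.out)
  refine S.smul_mem _ ?_
  obtain ⟨S₀, hS₀⟩ := DefectThms.exists_isSylC p C.out
  obtain ⟨c, hc⟩ := DefectThms.exists_conj_le_of_unit_coeff hM hB hg₀ hgD hC hS₀
  have hR := hS₀.conj c
  have hcsconj : cs C.out = cs (c * C.out * c⁻¹) := by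
    have hk : IsConj C.out (c * C.out * c⁻¹) := isConj_iff.2 ⟨c, rfl⟩
    simp only [hcs]
    exact Finset.sum_congr (Finset.filter_congr fun x _ =>
      ⟨fun h => hk.symm.trans h, fun h => hk.trans h⟩) fun _ _ => rfl
  rw [hcsconj]
  generalize c * C.out * c⁻¹ = g at hR ⊢
  generalize S₀.map (MulAut.conj c).toMonoidHom = R at hR hc
  obtain ⟨Cg, hCg⟩ : ∃ Cg : Subgroup G, Cg = Subgroup.centralizer ({g} : Set G) := ⟨_, rfl⟩
  have hR1 : R ≤ Cg := hCg ▸ hR.1
  have hR2 := hR.2.2
  rw [← hCg] at hR2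
  have hmem : ∀ u, u ∈ Cg ↔ u * g = g * u := fun u => by
    rw [hCg]; exact Subgroup.mem_centralizer_singleton_iff
  have := Fintype.ofFinite (Cg ⧸ R.subgroupOf Cg)
  have := Fintype.ofFinite ((⊤ : Subgroup G) ⧸ Cg.subgroupOf ⊤)
  have hofg : Fixed (conjRep (Cfsg.AlgInt ⧸ M)) Cg (MonoidAlgebra.of _ G g) := fun u hu => by
    rw [conjRep_apply, ← map_mul, ← map_mul,
      (hmem u).1 hu, mul_inv_cancel_right]
  have hfixR : Fixed (conjRep (Cfsg.AlgInt ⧸ M)) R (MonoidAlgebra.of _ G g) :=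
    fun u hu => hofg u (hR1 hu)
  have hclass : relTr (conjRep (Cfsg.AlgInt ⧸ M)) Cg ⊤ (MonoidAlgebra.of _ G g) = cs g := by
    rw [relTr_apply, hcs]
    refine Finset.sum_bij (fun q _ => ((q.out : (⊤ : Subgroup G)) : G) * g *
      ((q.out : (⊤ : Subgroup G)) : G)⁻¹) ?_ ?_ ?_ ?_
    · exact fun q _ => Finset.mem_filter.2 ⟨Finset.mem_univ _, isConj_iff.2 ⟨_, rfl⟩⟩
    · intro q _ q' _ h
      rw [← QuotientGroup.out_eq' q, ← QuotientGroup.out_eq' q', QuotientGroup.eq,
        Subgroup.mem_subgroupOf, hmem]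
      have h' : ((q.out : (⊤ : Subgroup G)) : G)⁻¹ *
          (((q'.out : (⊤ : Subgroup G)) : G) * g * ((q'.out : (⊤ : Subgroup G)) : G)⁻¹) *
          ((q.out : (⊤ : Subgroup G)) : G) = g := by rw [← h]; group
      rw [Subgroup.coe_mul, Subgroup.coe_inv]
      conv_rhs => rw [← h']
      group
    · intro x hx
      obtain ⟨d, rfl⟩ := isConj_iff.1 (Finset.mem_filter.1 hx).2
      refine ⟨((⟨d, Subgroup.mem_top _⟩ : (⊤ : Subgroup G)) :
        (⊤ : Subgroup G) ⧸ Cg.subgroupOf ⊤), Finset.mem_univ _, ?_⟩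
      obtain ⟨n, hn⟩ := QuotientGroup.mk_out_eq_mul (Cg.subgroupOf ⊤)
        (⟨d, Subgroup.mem_top _⟩ : (⊤ : Subgroup G))
      have h1 := (hmem _).1 (Subgroup.mem_subgroupOf.1 n.2)
      rw [hn, Subgroup.coe_mul, mul_inv_rev]
      calc d * ((n : (⊤ : Subgroup G)) : G) * g * (((n : (⊤ : Subgroup G)) : G)⁻¹ * d⁻¹)
          = d * (((n : (⊤ : Subgroup G)) : G) * g * ((n : (⊤ : Subgroup G)) : G)⁻¹) * d⁻¹ := by
            group
        _ = d * g * d⁻¹ := by rw [h1, mul_inv_cancel_right]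
    · intro q _
      rw [conjRep_apply, ← map_mul, ← map_mul]
  have hm : ((Nat.card (Cg ⧸ R.subgroupOf Cg) : ℕ) : Cfsg.AlgInt ⧸ M) ≠ 0 := by
    intro h
    rw [CharP.cast_eq_zero_iff (Cfsg.AlgInt ⧸ M) p] at h
    have hcard : Nat.card (Cg ⧸ R.subgroupOf Cg) * Nat.card R = Nat.card Cg := by
      rw [← Nat.card_congr (Subgroup.subgroupOfEquivOfLe hR1).toEquiv]
      exact (Subgroup.card_eq_card_quotient_mul_card_subgroup _).symm
    refine Nat.pow_succ_factorization_not_dvd (n := Nat.card Cg) Nat.card_pos.ne'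
      (Fact.out : p.Prime) ?_
    rw [pow_succ']
    conv_rhs => rw [← hcard, hR2]
    exact mul_dvd_mul h dvd_rfl
  have htrR : relTr (conjRep (Cfsg.AlgInt ⧸ M)) R Cg (MonoidAlgebra.of _ G g) =
      ((Nat.card (Cg ⧸ R.subgroupOf Cg) : ℕ) : Cfsg.AlgInt ⧸ M) • MonoidAlgebra.of _ G g := by
    rw [relTr_apply, Finset.sum_congr rfl fun q _ => hofg _ (q.out : Cg).2, Finset.sum_const,
      Finset.card_univ, ← Nat.card_eq_fintype_card, ← Nat.cast_smul_eq_nsmul (Cfsg.AlgInt ⧸ M)]
  refine ⟨((Nat.card (Cg ⧸ R.subgroupOf Cg) : ℕ) : Cfsg.AlgInt ⧸ M)⁻¹ •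
    relTr (conjRep (Cfsg.AlgInt ⧸ M)) R D (MonoidAlgebra.of _ G g),
    fun u hu => by rw [map_smul, relTr_fixed hfixR u hu], ?_⟩
  rw [map_smul, relTr_trans hc le_top hfixR, ← relTr_trans hR1 le_top hfixR, htrR, map_smul,
    inv_smul_smul₀ hm, hclass]

end Root

end Cfsg.Agent.BlockChar.Cyclic
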