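import Cfsg.Agent.BlockChar.Cyclic.Isometry
import Mathlib.RingTheory.ZMod.UnitsCyclic
import Mathlib.GroupTheory.SpecificGroups.Cyclic

/-!
# The data of a perfect isometry, for every block with cyclic defect group
-/

set_option autoImplicit false

namespace Cfsg.Agent.BlockChar.Cyclic

open Cfsg.Agent Cfsg.Agent.Blocks Cfsg.Agent.BrauerPairs Cfsg.Agent.BlockChar
open Cfsg.Agent.Blocks.Star

universe u v

variable {G : Type u} [Group G] [Fintype G] {p : ℕ} {M : Ideal Cfsg.AlgInt} [Fact p.Prime]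

local notation "CG[" Q "]" => Subgroup.centralizer (SetLike.coe Q)

variable {B : Set (Cfsg.IrrCharacter G)} {D : Subgroup G} {c : Set (Cfsg.IrrCharacter CG[D])}
  {T : Subgroup G}
variable (hM : Cfsg.IsPModular p M) (hmax : Cfsg.IsMaximalBrauerPair p M B D c) (hcyc : IsCyclic D)
  (hT : ∀ g : G, g ∈ T ↔ g ∈ Subgroup.normalizer (D : Set G) ∧
    Cfsg.StabilizesBlock CG[D] c g)
include hM hmax hcyc hT

/-- Every block with non-trivial cyclic defect group has the data. -/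
theorem nonempty_isoData (hD1 : D ≠ ⊥) : Nonempty (IsoData p M B D ((CG[D]).relIndex T)) := by
  classical
  have : M.IsMaximal := hM.2.1
  have hTN : T ≤ Subgroup.normalizer (D : Set G) := fun g hg => ((hT g).1 hg).1
  obtain ⟨Q, θ', ex, β, -, -, hex, -, hN, hβ, hsect, hinv⟩ := exists_coords hM hmax hcyc hT hD1
  obtain ⟨X, Y, v, ε, y₀, hy₀T, -, hd⟩ :=
    exists_tree_data hM hmax hcyc hT hex hN hsect hβ hinv hD1
  obtain ⟨y, hyT, -, hypow, hygen, hpe⟩ := exists_generator hM hmax hcyc hD1 hT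
  obtain ⟨e, he⟩ : ∃ e, e = (CG[D]).relIndex T := ⟨_, rfl⟩
  rw [← he] at hd hypow hygen hpe ⊢
  have hepos : 0 < e := Nat.pos_of_ne_zero fun h => hpe (h ▸ dvd_zero p)
  let α : MulAut D := BlockChar.conjIso D D y (Subgroup.mem_normalizer_iff.1 (hTN hyT))
  have hα : ∀ (j : ℕ) (a : D), (((α ^ j : MulAut D) a : D) : G) = y ^ j * (a : G) * (y ^ j)⁻¹ := by
    intro j
    induction j with
    | zero => simp
    | succ n ih =>
      intro a
      rw [pow_succ', MulAut.mul_apply, pow_succ']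
      show y * (((α ^ n : MulAut D) a : D) : G) * y⁻¹ = _
      rw [ih]
      group
  have hone : ∀ j, α ^ j = 1 ↔ e ∣ j := by
    intro j
    rw [← hypow, Subgroup.mem_centralizer_iff]
    constructor
    · intro hj a ha
      have h := hα j ⟨a, ha⟩
      rw [hj] at h
      conv_lhs => rw [show a = y ^ j * a * (y ^ j)⁻¹ from h]
      group
    · intro hj
      refine MulEquiv.ext fun a => Subtype.ext ?_
      rw [hα, ← hj _ a.2, mul_inv_cancel_right]
      rfl
  have hord : orderOf α = e := Nat.dvd_antisymm (orderOf_dvd_of_pow_eq_one ((hone e).2 dvd_rfl))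
    ((hone _).1 (pow_orderOf_eq_one α))
  have himp : ∀ ψ ∈ Y, ∀ η η' : Cfsg.IrrCharacter D, β ψ η ≠ 0 → β ψ η' ≠ 0 →
      ∃ j, j < e ∧ ∀ a : D, (η' : D → ℂ) a = (η : D → ℂ) ((α ^ j : MulAut D) a) := by
    intro ψ hψ η η' h h'
    have hyN : ∀ j : ℕ, y₀ ^ j ∈ Subgroup.normalizer (D : Set G) := fun j => hTN (pow_mem hy₀T j)
    obtain ⟨j, -, rfl⟩ := hd.orbit_eq ψ hψ η η' h h' y₀ hyN rfl
    obtain ⟨i, hi, hic⟩ := hygen _ (pow_mem hy₀T j)
    refine ⟨i, hi, fun a => twistIrr_apply η (hyN j) a _ ?_⟩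
    rw [hα]
    calc y ^ i * (a : G) * (y ^ i)⁻¹
        = y ^ i * ((y ^ i)⁻¹ * y₀ ^ j * (a : G) * ((y ^ i)⁻¹ * y₀ ^ j)⁻¹) * (y ^ i)⁻¹ := by
          rw [← Subgroup.mem_centralizer_iff.1 hic _ a.2, mul_inv_cancel_right]
      _ = y₀ ^ j * (a : G) * (y₀ ^ j)⁻¹ := by group
  obtain ⟨χ₀, hχ₀⟩ : X.Nonempty := Set.nonempty_coe_sort.1
    (Nat.card_pos_iff.1 (by rw [hd.card_X]; exact hepos)).1
  refine ⟨⟨X, Y, v, ε, β, α, hd.union, hd.disjoint, hd.card_X, hd.card_Y, hepos, hord, hd.sign_X,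
    hd.sign, fun ψ η hne hall => hne (hβ ψ η hall), hd.coeff_Y, hd.orbit, hd.card_orbit,
    fun ψ hψ η η' hη => ⟨himp ψ hψ η η' hη, ?_⟩, hd.ev_X, hd.ev_sum_Y,
    fun g hg => isRep_singular hM hmax hcyc hex hsect (hd.sign_X χ₀ hχ₀) (hd.ev_X χ₀ hχ₀) hg,
    hd.relation⟩⟩
  rintro ⟨j, hj, hjη⟩
  let S := Finset.univ.filter fun ξ : Cfsg.IrrCharacter D => β ψ ξ ≠ 0
  let O := (Finset.range e).image fun j => compIrr (α ^ j : MulAut D) η
  have hsub : S ⊆ O := fun ξ hξ => by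
    obtain ⟨i, hi, hiξ⟩ := himp ψ hψ η ξ hη (Finset.mem_filter.1 hξ).2
    exact Finset.mem_image.2 ⟨i, Finset.mem_range.2 hi,
      Subtype.ext (funext fun a => by rw [compIrr_apply, hiξ])⟩
  have hS : S.card = e := by
    refine Eq.trans ?_ (hd.card_orbit ψ hψ)
    rw [Nat.card_eq_fintype_card, Fintype.card_subtype]
  have heq := Finset.eq_of_subset_of_card_le hsub
    (Finset.card_image_le.trans (by rw [Finset.card_range, hS]))
  have hm : η' ∈ O := Finset.mem_image.2 ⟨j, Finset.mem_range.2 hj,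
    Subtype.ext (funext fun a => by rw [compIrr_apply, hjη])⟩
  rw [← heq] at hm
  exact (Finset.mem_filter.1 hm).2

end Cfsg.Agent.BlockChar.Cyclic

namespace Cfsg.Agent.BlockChar.Cyclic

open Cfsg.Agent

universe u v

open scoped Classical in
/-- With inertial index one the sign of the non-exceptional character is opposite. -/
theorem IsoData.sgn_eq_neg_eps {Γ : Type u} [Group Γ] [Finite Γ] {p : ℕ} {M : Ideal Cfsg.AlgInt}
    {B : Set (Cfsg.IrrCharacter Γ)} {D : Subgroup Γ} {e : ℕ} (d : IsoData p M B D e)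
    (hp : p.Prime) (he : e = 1) (hD : 1 < Nat.card D) {χ : Cfsg.IrrCharacter Γ} (hχ : χ ∈ d.X) :
    d.sgn χ = -d.eps := by
  have := Fintype.ofFinite Γ
  obtain ⟨ψ, hψ⟩ : d.Y.Nonempty := Set.nonempty_coe_sort.1 (Nat.card_pos_iff.1
    (Nat.pos_of_ne_zero fun h0 => by have := d.card_Y; rw [h0] at this; omega)).1
  obtain ⟨a, ha⟩ := Set.ncard_eq_one.1 (by rw [← Nat.card_coe_set_eq]; exact d.card_X.trans he)
  have h1 := d.relation ψ hψ 1 (by simp [hp.ne_one])
  rw [ha, finsum_mem_singleton] at h1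
  obtain rfl : χ = a := by rw [ha] at hχ; exact hχ
  obtain ⟨n, hn0, hn⟩ := Char.IsIrr.degree χ.2
  obtain ⟨n', hn0', hn'⟩ := Char.IsIrr.degree ψ.2
  rw [hn, hn'] at h1
  have h2 : d.eps * (n' : ℤ) + d.sgn χ * (n : ℤ) = 0 := by exact_mod_cast h1
  rcases d.sign_X χ hχ with s | s <;> rcases d.sign with t | t <;> rw [s, t] at h2 ⊢ <;> omega

/-- In the automorphism group of a cyclic `p`-group an element killed by `e ∣ p - 1` is a power of
any element of order `e`. -/
theorem exists_inertial_match {p : ℕ} (hp : p.Prime) {A : Type u} {A' : Type v} [Group A] [Group A']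
    [Finite A] (hA : IsCyclic A) {k : ℕ} (hcard : Nat.card A = p ^ k) {e : ℕ} (he0 : 0 < e)
    (he : e ∣ p - 1) (φ : A' ≃* A) (α : MulAut A) (hα : orderOf α = e) (α' : MulAut A')
    (hα' : α' ^ e = 1) :
    ∀ j : ℕ, ∃ i, i < e ∧ ∀ a, φ ((α' ^ j : MulAut A') a) = (α ^ i : MulAut A) (φ a) := by
  classical
  intro j
  obtain ⟨γ, hγdef⟩ : ∃ γ : MulAut A, γ = MulAut.congr φ (α' ^ j) := ⟨_, rfl⟩
  suffices h : γ ∈ Submonoid.powers α by
    obtain ⟨n, hn⟩ := h
    refine ⟨n % e, Nat.mod_lt _ he0, fun a => ?_⟩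
    have hn' : α ^ n = γ := hn
    have h1 : α ^ (n % e) = α ^ n := by rw [← hα]; exact pow_mod_orderOf α n
    rw [h1, hn', hγdef]
    simp [MulAut.congr]
  have hγ : γ ^ e = 1 := by
    rw [hγdef, ← map_pow, ← pow_mul, mul_comm, pow_mul, hα', one_pow, map_one]
  by_cases hp2 : p = 2
  · subst hp2
    obtain rfl : e = 1 := Nat.dvd_one.1 he
    rw [pow_one] at hγ
    exact hγ ▸ one_mem _
  have hcyc : IsCyclic (MulAut A) := by
    have h1 : IsCyclic (ZMod (Nat.card A))ˣ := by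
      rw [hcard]; exact ZMod.isCyclic_units_of_prime_pow p hp hp2 k
    exact (IsCyclic.mulAutMulEquiv (G := A)).isCyclic.2 h1
  have : Finite (MulAut A) := Finite.of_injective _ (DFunLike.coe_injective (F := A ≃* A))
  have := Fintype.ofFinite (MulAut A)
  let S := Finset.univ.filter fun x : MulAut A => x ^ e = 1
  let P := (Finset.range e).image fun i => α ^ i
  have hPS : P ⊆ S := fun x hx => by
    obtain ⟨i, -, rfl⟩ := Finset.mem_image.1 hx
    refine Finset.mem_filter.2 ⟨Finset.mem_univ _, ?_⟩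
    rw [← pow_mul, mul_comm, pow_mul, ← hα, pow_orderOf_eq_one, one_pow]
  have hP : P.card = e := by
    rw [Finset.card_image_of_injOn, Finset.card_range]
    intro a ha b hb hab
    exact pow_injOn_Iio_orderOf (by simpa [hα] using ha) (by simpa [hα] using hb) hab
  have heq := Finset.eq_of_subset_of_card_le hPS ((IsCyclic.card_pow_eq_one_le he0).trans_eq hP.symm)
  have hm : γ ∈ S := Finset.mem_filter.2 ⟨Finset.mem_univ _, hγ⟩
  rw [← heq] at hm
  obtain ⟨i, -, hi⟩ := Finset.mem_image.1 hm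
  exact ⟨i, hi⟩

end Cfsg.Agent.BlockChar.Cyclic
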