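import Cfsg.Agent.BlockChar.Cyclic.OrdMain

/-!
# The singular values of a block with cyclic defect group are divisible

At a `p`-singular element `g` the characters of the block are combinations, with coefficients not
depending on the character, of the coordinates `ev (β ·) x`; the coefficients times `#D` are
divisible by the order of the centralizer of `g`.
-/

set_option autoImplicit false

namespace Cfsg.Agent.BlockChar.Cyclic

open Cfsg.Agent Cfsg.Agent.Blocks Cfsg.Agent.BrauerPairs Cfsg.Agent.BlockChar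
open Cfsg.Agent.Blocks.Star
open scoped ComplexConjugate

universe u

variable {G : Type u} [Group G] [Fintype G] {p : ℕ} {M : Ideal Cfsg.AlgInt} [Fact p.Prime]

local notation "CG[" Q "]" => Subgroup.centralizer (SetLike.coe Q)
local notation "sbc" => Cfsg.subgroupBlockCoeff

omit [Fintype G] [Fact p.Prime] in
/-- The local integers are divisible by the numbers prime to `p`. -/
theorem memLocalRing_div_natCast (hM : Cfsg.IsPModular p M) {a : ℂ} {n : ℕ} (hn : n ≠ 0)
    (h : Cfsg.MemLocalRing M (a * (((p ^ n.factorization p : ℕ) : ℂ))⁻¹)) :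
    Cfsg.MemLocalRing M (a / (n : ℂ)) := by
  have hsplit : ((p ^ n.factorization p : ℕ) : ℂ) * ((n / p ^ n.factorization p : ℕ) : ℂ) = (n : ℂ) := by
    rw [← Nat.cast_mul, Nat.ordProj_mul_ordCompl_eq_self]
  rw [← hsplit, div_eq_mul_inv, mul_inv, ← mul_assoc]
  refine (localRing hM).mul_mem h (memLocalRing_inv (memLocalRing_natCast hM _) fun hd => ?_)
  exact Nat.not_dvd_ordCompl hM.1 hn ((memLocalIdeal_natCast_iff hM _).1 hd)

/-- The centralizer of `x * s` is the centralizer of `s` inside the centralizer of `x`. -/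
theorem card_centralizer_mul (hp : p.Prime) {x s : G} (hx : ∃ k, orderOf x = p ^ k)
    (hs : ¬ p ∣ orderOf s) (hc : Commute x s) (hsC : s ∈ CG[Subgroup.zpowers x]) :
    Nat.card (Subgroup.centralizer ({x * s} : Set G)) =
      Nat.card (Subgroup.centralizer ({(⟨s, hsC⟩ : CG[Subgroup.zpowers x])} :
        Set CG[Subgroup.zpowers x])) := by
  obtain ⟨e1, e2⟩ := parts_mul hp hc hx hs
  have key : ∀ a : G, a ∈ Subgroup.centralizer ({x * s} : Set G) → x * a = a * x ∧ a * s = s * a := by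
    intro a ha
    have h : Commute a (x * s) := Subgroup.mem_centralizer_singleton_iff.1 ha
    have h1 : Commute a (pPartOf p (x * s)) := h.pow_right _
    have h2 : Commute a (pPrimePartOf p (x * s)) := h.pow_right _
    rw [e1] at h1
    rw [e2] at h2
    exact ⟨h1.eq.symm, h2.eq⟩
  refine Nat.card_congr
    { toFun := fun a => ⟨⟨(a : G), mem_zpowers_centralizer.2 (key a a.2).1⟩,
        Subgroup.mem_centralizer_singleton_iff.2 (Subtype.ext (key a a.2).2)⟩
      invFun := fun a => ⟨((a : CG[Subgroup.zpowers x]) : G), ?_⟩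
      left_inv := fun a => rfl
      right_inv := fun a => rfl }
  refine Subgroup.mem_centralizer_singleton_iff.2 ?_
  have h1 : Commute ((a : CG[Subgroup.zpowers x]) : G) x :=
    (mem_zpowers_centralizer.1 (a : CG[Subgroup.zpowers x]).2).symm
  have h2 : Commute ((a : CG[Subgroup.zpowers x]) : G) s :=
    congrArg Subtype.val (Subgroup.mem_centralizer_singleton_iff.1 a.2)
  exact (h1.mul_right h2).eq

variable {B : Set (Cfsg.IrrCharacter G)} {D : Subgroup G} {c : Set (Cfsg.IrrCharacter CG[D])}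
  {T : Subgroup G}

open scoped Classical in
/-- `#D` times a section below the maximal pair is divisible by the centralizer. -/
theorem memLocalRing_sect_div (hM : Cfsg.IsPModular p M)
    (hmax : Cfsg.IsMaximalBrauerPair p M B D c) (hcyc : IsCyclic D) (χ : Cfsg.IrrCharacter G)
    {x : G} (hx : x ∈ D) {e : G → ℂ} (he : Below p M D c x e) {s : G} (hs : s ∈ regC p x) :
    Cfsg.MemLocalRing M (sect (χ : G → ℂ) x e s) ∧
    Cfsg.MemLocalRing M ((Nat.card D : ℂ) * sect (χ : G → ℂ) x e s /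
      (Nat.card (Subgroup.centralizer ({x * s} : Set G)) : ℂ)) := by
  have : M.IsMaximal := hM.2.1
  have hp := hM.1
  obtain ⟨b, hb, rfl⟩ := he
  letI := Fintype.ofFinite CG[Subgroup.zpowers x]
  obtain ⟨hsC, hsr⟩ := mem_zpowers_centralizer_of_regC hs
  have hxs : Commute x s := mem_zpowers_centralizer.1 hsC
  obtain ⟨k, hk⟩ := IsPGroup.iff_orderOf.1 hmax.1.1.1 ⟨x, hx⟩
  have hxk : ∃ k, orderOf x = p ^ k := ⟨k, by rw [← hk, Subgroup.orderOf_mk]⟩
  -- the local block has the defect of `B`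
  have hRD : Subgroup.zpowers x ≤ D := Subgroup.zpowers_le.2 hx
  obtain ⟨b', hle, hn⟩ := exists_local_pair hM hmax hcyc hRD
  obtain rfl : b' = b := (existsUnique_subpairLE hM hmax.1.1 hRD).unique hle hb
  have hCK : CG[D] ≤ CG[Subgroup.zpowers x] := Subgroup.centralizer_le hRD
  have hDK : D ≤ CG[Subgroup.zpowers x] := (le_centralizer_of_cyclic hcyc).trans hCK
  have hmaxK := maximal_local hM hmax hn hDK hCK
  have hbP : Cfsg.IsPBlock M b' := hmaxK.1.2.1
  have hq : (Nat.card D : ℂ) = ((p ^ Cfsg.blockDefect p b' : ℕ) : ℂ) := by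
    rw [← BlockChar.card_defectGroup hM hbP (isDefectGroup_of_maximal hM hmaxK),
      Nat.card_congr (Subgroup.subgroupOfEquivOfLe hDK).toEquiv]
  have hint := fun η => memLocalRing_of_isIntegral hM (isIntegral_shiftCoef hM hxk χ η)
  rw [show s = ((⟨s, hsC⟩ : CG[Subgroup.zpowers x]) : G) from rfl, sect_eq_sum]
  refine ⟨(localRing hM).sum_mem fun η _ => (localRing hM).mul_mem (hint η) (memLocalRing_irr hM η _),
    ?_⟩
  rw [card_centralizer_mul hp hxk hsr hxs hsC]
  refine memLocalRing_div_natCast hM Nat.card_pos.ne' ?_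
  let coef : Cfsg.IrrCharacter CG[Subgroup.zpowers x] → ℂ := fun ψ =>
    ∑ η ∈ (Set.toFinite b').toFinset, if ψ ∈ b' then
      shiftCoef x CG[Subgroup.zpowers x] χ η * regM p b' η ψ else 0
  have hF : ∀ w : CG[Subgroup.zpowers x],
      ∑ ψ : Cfsg.IrrCharacter CG[Subgroup.zpowers x], coef ψ * (ψ : _ → ℂ) w =
        if Cfsg.IsPRegular p w then (Nat.card D : ℂ) * ∑ η ∈ (Set.toFinite b').toFinset,
          shiftCoef x CG[Subgroup.zpowers x] χ η * (η : _ → ℂ) w else 0 := by
    intro w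
    simp only [coef, Finset.sum_mul]
    rw [Finset.sum_comm, Finset.mul_sum]
    rw [Finset.sum_congr rfl (g := fun η => shiftCoef x CG[Subgroup.zpowers x] χ η *
      if Cfsg.IsPRegular p w then (Nat.card D : ℂ) * (η : _ → ℂ) w else 0) fun η hη => ?_]
    · split_ifs
      · exact Finset.sum_congr rfl fun η _ => by ring
      · simp
    · rw [hq, ← sum_regM_mul hM hbP ((Set.Finite.mem_toFinset _).1 hη) w, Finset.mul_sum]
      exact Finset.sum_congr rfl fun ψ _ => by split_ifs <;> ring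
  have h := memLocalRing_div_of_vanish hM Finset.univ coef (fun ψ => (ψ : _ → ℂ))
    (fun ψ _ => (localRing hM).sum_mem fun η hη => ?_) (fun ψ _ => Char.IsIrr.isCharacter ψ.2)
    (fun w hw => (hF w).trans (if_neg (by simp [Cfsg.IsPRegular, hw])))
    (g := (⟨s, hsC⟩ : CG[Subgroup.zpowers x])) (by rwa [Subgroup.orderOf_mk])
  · rw [hF, if_pos (by show ¬ p ∣ _; rwa [Subgroup.orderOf_mk])] at h
    exact h
  · split_ifs
    · obtain ⟨j, hj⟩ := exists_int_regM hM ((Set.Finite.mem_toFinset _).1 hη) ψ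
      rw [hj]
      exact (localRing hM).mul_mem (hint η) (memLocalRing_of_isIntegral hM (_root_.isIntegral_intCast j))
    · exact (localRing hM).zero_mem

variable (hM : Cfsg.IsPModular p M) (hmax : Cfsg.IsMaximalBrauerPair p M B D c) (hcyc : IsCyclic D)
  {Q : Subgroup G} {θ' : Cfsg.IrrCharacter CG[Q]} {ex : D → G → ℂ}
  {β : Cfsg.IrrCharacter G → Cfsg.IrrCharacter D → ℤ}
  (hex : ∀ x : D, Below p M D c (x : G) (ex x))
  (hsect : ∀ χ : Cfsg.IrrCharacter G, ∀ x : D, (x : G) ≠ 1 → ∀ y ∈ regC p (x : G),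
    sect (χ : G → ℂ) (x : G) (ex x) y = ev (β χ) x *
      sect (Cfsg.extendByZero CG[Q] (θ' : CG[Q] → ℂ)) (x : G) (ex x) y)

/-- The coefficients of the values at the `p`-singular element `g`. -/
def IsRep (p : ℕ) (M : Ideal Cfsg.AlgInt) (B : Set (Cfsg.IrrCharacter G)) (D : Subgroup G)
    (β : Cfsg.IrrCharacter G → Cfsg.IrrCharacter D → ℤ) (g : G)
    (f : Cfsg.IrrCharacter G → ℂ) : Prop :=
  ∃ w : D → ℂ, (∀ x : D, (x : G) = 1 → w x = 0) ∧ (∀ x, Cfsg.MemLocalRing M (w x)) ∧
    (∀ x, Cfsg.MemLocalRing M ((Nat.card D : ℂ) * w x /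
      (Nat.card (Subgroup.centralizer ({g} : Set G)) : ℂ))) ∧
    ∀ χ ∈ B, f χ = ∑ᶠ x : D, w x * ev (β χ) x

include hM hmax hcyc hex hsect in
open scoped Classical in
/-- The values at singular elements. -/
theorem isRep_singular {χ₀ : Cfsg.IrrCharacter G} {v₀ : ℤ} (hv₀ : v₀ = 1 ∨ v₀ = -1)
    (h₀ : ∀ x : D, (x : G) ≠ 1 → ev (β χ₀) x = -(v₀ : ℂ)) {g : G} (hg : p ∣ orderOf g) :
    IsRep p M B D β g fun χ => (χ : G → ℂ) g := by
  have : M.IsMaximal := hM.2.1
  have hp := hM.1
  have hB := hmax.1.2.1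
  obtain ⟨z, hzdef⟩ : ∃ z, z = pPartOf p g := ⟨_, rfl⟩
  obtain ⟨s, hsdef⟩ : ∃ s, s = pPrimePartOf p g := ⟨_, rfl⟩
  have hgzs : z * s = g := hzdef ▸ hsdef ▸ pPartOf_mul_pPrimePartOf hp g
  have hz : ∃ k, orderOf z = p ^ k := hzdef ▸ orderOf_pPartOf hp g
  have hz1 : z ≠ 1 := fun h => (pPartOf_eq_one_iff hp g).1 (hzdef ▸ h) hg
  have hs : s ∈ regC p z := by
    simp only [regC, Finset.mem_filter, Finset.mem_univ, true_and]
    exact ⟨hsdef ▸ not_dvd_orderOf_pPrimePartOf hp g,
      hzdef ▸ hsdef ▸ (commute_pPartOf_pPrimePartOf g).eq⟩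
  have hzero : IsRep p M B D β g fun _ => 0 := ⟨0, fun _ _ => rfl, fun _ => (localRing hM).zero_mem,
    fun x => by rw [Pi.zero_apply, mul_zero, zero_div]; exact (localRing hM).zero_mem,
    fun χ _ => by simp⟩
  have hadd : ∀ f f' : Cfsg.IrrCharacter G → ℂ, IsRep p M B D β g f → IsRep p M B D β g f' →
      IsRep p M B D β g (f + f') := by
    rintro f f' ⟨w, h1, h2, h3, h4⟩ ⟨w', h1', h2', h3', h4'⟩
    refine ⟨w + w', fun x hx => by rw [Pi.add_apply, h1 x hx, h1' x hx, add_zero],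
      fun x => (localRing hM).add_mem (h2 x) (h2' x), fun x => ?_, fun χ hχ => ?_⟩
    · rw [Pi.add_apply, mul_add, add_div]
      exact (localRing hM).add_mem (h3 x) (h3' x)
    · rw [Pi.add_apply, h4 χ hχ, h4' χ hχ]
      simp only [finsum_eq_sum_of_fintype, ← Finset.sum_add_distrib, Pi.add_apply, add_mul]
  rw [show (fun χ : Cfsg.IrrCharacter G => (χ : G → ℂ) g) =
      ∑ e ∈ Bk M z, fun χ : Cfsg.IrrCharacter G => sect (χ : G → ℂ) z e s from funext fun χ => by
    rw [Finset.sum_apply, ← apply_section hM χ hz hs, hgzs]]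
  refine Finset.sum_induction _ _ hadd hzero fun e he => ?_
  obtain ⟨b, hb, rfl⟩ := mem_Bk.1 he
  by_cases hpair : Cfsg.IsBrauerPairOf p M B (Subgroup.zpowers z) b
  · obtain ⟨t, ht⟩ := (exists_below_iff hM hmax b).2 hpair
    obtain ⟨x, hx⟩ : ∃ x : D, (x : G) = t * z * t⁻¹ := ⟨⟨_, ht.mem⟩, rfl⟩
    rw [← hx] at ht
    have hx1 : (x : G) ≠ 1 := fun h => hz1 (by rw [hx] at h; simpa using h)
    have hexx := (hex x).unique hM hmax ht
    have hs' : t * s * t⁻¹ ∈ regC p (x : G) := by rw [hx]; exact regC_conj hs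
    obtain ⟨hl, hd⟩ := memLocalRing_sect_div hM hmax hcyc χ₀ x.2 (hex x) hs'
    obtain ⟨a, ha⟩ : ∃ a : ℂ,
        a = -(v₀ : ℂ) * sect (χ₀ : G → ℂ) (x : G) (ex x) (t * s * t⁻¹) := ⟨_, rfl⟩
    have hv : Cfsg.MemLocalRing M (-(v₀ : ℂ)) :=
      memLocalRing_of_isIntegral hM (_root_.isIntegral_intCast v₀).neg
    have hcard : Nat.card (Subgroup.centralizer ({(x : G) * (t * s * t⁻¹)} : Set G)) =
        Nat.card (Subgroup.centralizer ({g} : Set G)) := by
      rw [hx, show t * z * t⁻¹ * (t * s * t⁻¹) = t * g * t⁻¹ by rw [← hgzs]; group]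
      refine (Nat.card_congr (Equiv.subtypeEquiv (MulAut.conj t).toEquiv fun y => ?_)).symm
      simp only [Subgroup.mem_centralizer_singleton_iff, MulEquiv.toEquiv_eq_coe,
        EquivLike.coe_coe, MulAut.conj_apply]
      rw [show t * y * t⁻¹ * (t * g * t⁻¹) = t * (y * g) * t⁻¹ by group,
        show t * g * t⁻¹ * (t * y * t⁻¹) = t * (g * y) * t⁻¹ by group, mul_left_inj, mul_right_inj]
    rw [hcard] at hd
    refine ⟨fun x' => if x' = x then a else 0, fun x' hx' => ?_, fun x' => ?_, fun x' => ?_,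
      fun χ _ => ?_⟩
    · exact if_neg fun h => hx1 (by rw [← h, hx'])
    · dsimp only
      split_ifs
      · rw [ha]; exact (localRing hM).mul_mem hv hl
      · exact (localRing hM).zero_mem
    · dsimp only
      split_ifs
      · rw [ha, mul_left_comm, mul_div_assoc]
        exact (localRing hM).mul_mem hv hd
      · rw [mul_zero, zero_div]; exact (localRing hM).zero_mem
    · rw [finsum_eq_sum_of_fintype]
      simp only [ite_mul, zero_mul, Finset.sum_ite_eq', Finset.mem_univ, if_true]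
      show sect (χ : G → ℂ) z _ s = _
      have h1 := hsect χ₀ x hx1 _ hs'
      rw [h₀ x hx1] at h1
      rw [← sect_conjF (Char.isClassFunction_of_isIrr χ.2) z s t, ← hx, ← hexx, hsect χ x hx1 _ hs',
        ha, h1]
      rcases hv₀ with h | h <;> simp [h] <;> ring
  · obtain ⟨w, h1, h2, h3, h4⟩ := hzero
    refine ⟨w, h1, h2, h3, fun χ hχ => (?_ : _ = (0 : ℂ)).trans (h4 χ hχ)⟩
    by_contra hne
    exact hpair (pair_of_sect_ne_zero hM hB hχ hz hb hs hne)

end Cfsg.Agent.BlockChar.Cyclic
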