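import Cfsg.Agent.BlockChar.Cyclic.IsoLocal

/-!
# Perfect isometries between blocks with cyclic defect groups

Two blocks with the same tree data up to an isomorphism of the defect groups that carries one
inertial automorphism group onto the other are perfectly isometric.
-/

set_option autoImplicit false

namespace Cfsg.Agent.BlockChar.Cyclic

open Cfsg.Agent Cfsg.Agent.Blocks Cfsg.Agent.BrauerPairs Cfsg.Agent.BlockChar

universe u v

/-- Composition with an isomorphism between groups in possibly different universes. -/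
noncomputable def isoIrr {A : Type u} {A' : Type v} [Group A] [Group A'] (f : A ≃* A')
    (χ : Cfsg.IrrCharacter A') : Cfsg.IrrCharacter A :=
  ⟨fun a => (χ : A' → ℂ) (f a), (Char.isIrrCharacter_comp_equiv f).2 χ.2⟩

theorem isoIrr_apply {A : Type u} {A' : Type v} [Group A] [Group A'] (f : A ≃* A')
    (χ : Cfsg.IrrCharacter A') (a : A) : (isoIrr f χ : A → ℂ) a = (χ : A' → ℂ) (f a) := rfl

/-- Composition with an isomorphism as a bijection. -/
noncomputable def isoIrrEquiv {A : Type u} {A' : Type v} [Group A] [Group A'] (f : A ≃* A') :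
    Cfsg.IrrCharacter A' ≃ Cfsg.IrrCharacter A where
  toFun := isoIrr f
  invFun := isoIrr f.symm
  left_inv χ := Subtype.ext (funext fun b => by simp [isoIrr])
  right_inv χ := Subtype.ext (funext fun b => by simp [isoIrr])

/-- What the perfect isometries need to know about a block with cyclic defect group. -/
structure IsoData {G : Type u} [Group G] (p : ℕ) (M : Ideal Cfsg.AlgInt)
    (B : Set (Cfsg.IrrCharacter G)) (D : Subgroup G) (e : ℕ) where
  X : Set (Cfsg.IrrCharacter G)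
  Y : Set (Cfsg.IrrCharacter G)
  sgn : Cfsg.IrrCharacter G → ℤ
  eps : ℤ
  β : Cfsg.IrrCharacter G → Cfsg.IrrCharacter D → ℤ
  α : MulAut D
  union : B = X ∪ Y
  disjoint : Disjoint X Y
  card_X : Nat.card X = e
  card_Y : e * Nat.card Y = Nat.card D - 1
  pos : 0 < e
  orderOf_α : orderOf α = e
  sign_X : ∀ χ ∈ X, sgn χ = 1 ∨ sgn χ = -1
  sign : eps = 1 ∨ eps = -1
  nontriv : ∀ ψ (η : Cfsg.IrrCharacter D), β ψ η ≠ 0 → ¬ ∀ x : D, (η : D → ℂ) x = 1
  coeff_Y : ∀ ψ ∈ Y, ∀ η : Cfsg.IrrCharacter D, β ψ η = 0 ∨ β ψ η = eps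
  orbit : ∀ η : Cfsg.IrrCharacter D, (¬ ∀ x : D, (η : D → ℂ) x = 1) → ∃! ψ, ψ ∈ Y ∧ β ψ η = eps
  card_orbit : ∀ ψ ∈ Y, Nat.card {η : Cfsg.IrrCharacter D // β ψ η ≠ 0} = e
  orbit_pow : ∀ ψ ∈ Y, ∀ η η' : Cfsg.IrrCharacter D, β ψ η ≠ 0 →
    (β ψ η' ≠ 0 ↔ ∃ j, j < e ∧ ∀ a : D, (η' : D → ℂ) a = (η : D → ℂ) ((α ^ j : MulAut D) a))
  ev_X : ∀ χ ∈ X, ∀ x : D, (x : G) ≠ 1 → ev (β χ) x = -(sgn χ : ℂ)
  ev_sum_Y : ∀ x : D, (x : G) ≠ 1 → ∑ᶠ ψ ∈ Y, ev (β ψ) x = -(eps : ℂ)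
  rep : ∀ g : G, p ∣ orderOf g → IsRep p M B D β g fun χ => (χ : G → ℂ) g
  relation : ∀ ψ ∈ Y, ∀ g : G, ¬ p ∣ orderOf g →
    (eps : ℂ) * (ψ : G → ℂ) g + ∑ᶠ χ ∈ X, (sgn χ : ℂ) * (χ : G → ℂ) g = 0

namespace IsoData

variable {G : Type u} [Group G] [Fintype G] {p : ℕ} {M : Ideal Cfsg.AlgInt}
  {B : Set (Cfsg.IrrCharacter G)} {D : Subgroup G} {e : ℕ} (h : IsoData p M B D e)

/-- The common value on the characters in `X`. -/
theorem singular_pattern {g : G} (hg : p ∣ orderOf g) :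
    ∃ A : ℂ, (∀ χ ∈ h.X, (χ : G → ℂ) g = (h.sgn χ : ℂ) * A) ∧
      ∑ᶠ ψ ∈ h.Y, (h.eps : ℂ) * (ψ : G → ℂ) g = A := by
  classical
  obtain ⟨w, hw1, -, -, hw⟩ := h.rep g hg
  simp only at hw
  refine ⟨-∑ x : D, w x, fun χ hχ => ?_, ?_⟩
  · have := hw χ (h.union ▸ Or.inl hχ)
    rw [this, finsum_eq_sum_of_fintype, mul_neg, Finset.mul_sum, ← Finset.sum_neg_distrib]
    refine Finset.sum_congr rfl fun x _ => ?_
    by_cases hx : (x : G) = 1
    · simp [hw1 x hx]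
    · rw [h.ev_X χ hχ x hx]; ring
  · rw [finsum_mem_eq_finite_toFinset_sum _ (Set.toFinite h.Y)]
    rw [Finset.sum_congr rfl (g := fun ψ => ∑ x : D, (h.eps : ℂ) * (w x * ev (h.β ψ) x))
      fun ψ hψ => by
        have : (ψ : G → ℂ) g = ∑ᶠ x : D, w x * ev (h.β ψ) x := hw ψ (h.union ▸ Or.inr ((Set.Finite.mem_toFinset _).1 hψ))
        rw [this, finsum_eq_sum_of_fintype, Finset.mul_sum]]
    rw [Finset.sum_comm, ← Finset.sum_neg_distrib]
    refine Finset.sum_congr rfl fun x _ => ?_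
    by_cases hx : (x : G) = 1
    · simp [hw1 x hx]
    have hY := h.ev_sum_Y x hx
    rw [finsum_mem_eq_finite_toFinset_sum _ (Set.toFinite h.Y)] at hY
    rw [← Finset.mul_sum, ← Finset.mul_sum, hY]
    rcases h.sign with e' | e' <;> simp [e']

theorem ev_Y_eq {ψ : Cfsg.IrrCharacter G} (hψ : ψ ∈ h.Y) (x : D)
    [DecidablePred fun η : Cfsg.IrrCharacter D => h.β ψ η ≠ 0] :
    ev (h.β ψ) x = (h.eps : ℂ) *
      ∑ η ∈ Finset.univ.filter (fun η : Cfsg.IrrCharacter D => h.β ψ η ≠ 0), (η : D → ℂ) x := by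
  rw [ev, finsum_eq_sum_of_fintype, Finset.mul_sum, Finset.sum_filter]
  refine Finset.sum_congr rfl fun η _ => ?_
  rcases h.coeff_Y ψ hψ η with h0 | h0
  · simp [h0]
  · rw [if_pos (by rw [h0]; rcases h.sign with e' | e' <;> simp [e']), h0]

end IsoData

/-- A bijection between two finite sets of the same size, as a map of the ambient types. -/
theorem exists_bijOn_of_card_eq {α : Type u} {β : Type v} [Finite α] [Finite β] {s : Set α}
    {t : Set β} (h : Nat.card s = Nat.card t) (hs : s.Nonempty) :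
    ∃ f : α → β, Set.BijOn f s t := by
  classical
  obtain ⟨σ⟩ := Finite.card_eq.1 h
  obtain ⟨a₀, ha₀⟩ := hs
  refine ⟨fun a => if ha : a ∈ s then (σ ⟨a, ha⟩ : β) else (σ ⟨a₀, ha₀⟩ : β), fun a ha => ?_,
    fun a ha b hb hab => ?_, fun b hb => ⟨(σ.symm ⟨b, hb⟩ : α), (σ.symm ⟨b, hb⟩).2, ?_⟩⟩
  · simp only [dif_pos ha, Subtype.coe_prop]
  · simp only [dif_pos ha, dif_pos hb] at hab
    exact congrArg Subtype.val (σ.injective (Subtype.ext hab))
  · simp

variable {G : Type u} [Group G] [Fintype G] {H : Type v} [Group H] [Fintype H] {p : ℕ}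
  {M : Ideal Cfsg.AlgInt} [Fact p.Prime] {B : Set (Cfsg.IrrCharacter G)}
  {B' : Set (Cfsg.IrrCharacter H)} {D : Subgroup G} {D' : Subgroup H} {e : ℕ}
  (h : IsoData p M B D e) (h' : IsoData p M B' D' e)

/-- Matching the exceptional characters along an isomorphism of defect groups. -/
theorem exists_orbit_match (φ : D' ≃* D)
    (hφ : ∀ j : ℕ, ∃ i, i < e ∧ ∀ a, φ ((h'.α ^ j : MulAut D') a) = (h.α ^ i : MulAut D) (φ a)) :
    ∃ f : Cfsg.IrrCharacter H → Cfsg.IrrCharacter G, Set.BijOn f h'.Y h.Y ∧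
      ∀ ψ ∈ h'.Y, ∀ η : Cfsg.IrrCharacter D',
        (h.β (f ψ) (isoIrr φ.symm η) ≠ 0 ↔ h'.β ψ η ≠ 0) := by
  classical
  have hnt : ∀ η : Cfsg.IrrCharacter D', (¬ ∀ x : D', (η : D' → ℂ) x = 1) →
      ¬ ∀ x : D, ((isoIrr φ.symm η : Cfsg.IrrCharacter D) : D → ℂ) x = 1 := fun η hη hall =>
    hη fun x => by
      have := hall (φ x)
      rwa [isoIrr_apply, MulEquiv.symm_apply_apply] at this
  have hpick : ∀ ψ : Cfsg.IrrCharacter H, ψ ∈ h'.Y → ∃ η, h'.β ψ η ≠ 0 := fun ψ hψ => by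
    have hc := h'.card_orbit ψ hψ
    by_contra hno
    push Not at hno
    have : IsEmpty {η : Cfsg.IrrCharacter D' // h'.β ψ η ≠ 0} := ⟨fun η => η.2 (hno η)⟩
    rw [Nat.card_of_isEmpty] at hc
    exact h'.pos.ne hc
  choose pick hpick using hpick
  have htarget : ∀ ψ (hψ : ψ ∈ h'.Y), ∃! χ, χ ∈ h.Y ∧ h.β χ (isoIrr φ.symm (pick ψ hψ)) = h.eps :=
    fun ψ hψ => h.orbit _ (hnt _ (h'.nontriv ψ _ (hpick ψ hψ)))
  have hdef : Nonempty (Cfsg.IrrCharacter G) := by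
    obtain ⟨χ, -⟩ : h.X.Nonempty := Set.nonempty_coe_sort.1 (Nat.card_pos_iff.1 (by rw [h.card_X]; exact h.pos)).1
    exact ⟨χ⟩
  let f : Cfsg.IrrCharacter H → Cfsg.IrrCharacter G := fun ψ =>
    if hψ : ψ ∈ h'.Y then (htarget ψ hψ).exists.choose else Classical.arbitrary _
  have hf : ∀ ψ (hψ : ψ ∈ h'.Y), f ψ ∈ h.Y ∧ h.β (f ψ) (isoIrr φ.symm (pick ψ hψ)) = h.eps :=
    fun ψ hψ => by
      simp only [f, dif_pos hψ]
      exact (htarget ψ hψ).exists.choose_spec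
  have heps : h.eps ≠ 0 := by rcases h.sign with a | a <;> omega
  have himp : ∀ ψ ∈ h'.Y, ∀ η : Cfsg.IrrCharacter D', h'.β ψ η ≠ 0 →
      h.β (f ψ) (isoIrr φ.symm η) ≠ 0 := by
    intro ψ hψ η hη
    obtain ⟨j, -, hj⟩ := (h'.orbit_pow ψ hψ (pick ψ hψ) η (hpick ψ hψ)).1 hη
    obtain ⟨i, hi, hi'⟩ := hφ j
    refine (h.orbit_pow (f ψ) (hf ψ hψ).1 (isoIrr φ.symm (pick ψ hψ)) _
      ((hf ψ hψ).2 ▸ heps)).2 ⟨i, hi, fun a => ?_⟩
    have := hi' (φ.symm a)
    rw [MulEquiv.apply_symm_apply] at this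
    rw [isoIrr_apply, isoIrr_apply, hj, ← this, MulEquiv.symm_apply_apply]
  have hiff : ∀ ψ ∈ h'.Y, ∀ η : Cfsg.IrrCharacter D',
      (h.β (f ψ) (isoIrr φ.symm η) ≠ 0 ↔ h'.β ψ η ≠ 0) := by
    intro ψ hψ η
    let S := Finset.univ.filter fun η : Cfsg.IrrCharacter D' => h'.β ψ η ≠ 0
    let S₁ := Finset.univ.filter fun η : Cfsg.IrrCharacter D' => h.β (f ψ) (isoIrr φ.symm η) ≠ 0
    have hsub : S ⊆ S₁ := fun η hη => Finset.mem_filter.2 ⟨Finset.mem_univ _,
      himp ψ hψ η (Finset.mem_filter.1 hη).2⟩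
    have hS : S.card = e := by
      rw [← h'.card_orbit ψ hψ, Nat.card_eq_fintype_card, Fintype.card_subtype]
    have hS₁ : S₁.card = e := by
      rw [← h.card_orbit (f ψ) (hf ψ hψ).1, Nat.card_eq_fintype_card, Fintype.card_subtype]
      exact Finset.card_equiv (isoIrrEquiv φ.symm) fun η => by
        simp only [S₁, Finset.mem_filter, Finset.mem_univ, true_and]
        rfl
    have heq := Finset.eq_of_subset_of_card_le hsub (le_of_eq (hS₁.trans hS.symm))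
    refine ⟨fun hne => ?_, himp ψ hψ η⟩
    have hm : η ∈ S₁ := Finset.mem_filter.2 ⟨Finset.mem_univ _, hne⟩
    rw [← heq] at hm
    exact (Finset.mem_filter.1 hm).2
  have hinj : Set.InjOn f h'.Y := by
    intro a ha b hb hab
    have hb' : h'.β b (pick a ha) ≠ 0 := (hiff b hb _).1 (hab ▸ (hf a ha).2 ▸ heps)
    exact (h'.orbit _ (h'.nontriv a _ (hpick a ha))).unique
      ⟨ha, (h'.coeff_Y a ha _).resolve_left (hpick a ha)⟩
      ⟨hb, (h'.coeff_Y b hb _).resolve_left hb'⟩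
  refine ⟨f, ⟨fun ψ hψ => (hf ψ hψ).1, hinj, ?_⟩, hiff⟩
  intro χ hχ
  have himg : f '' h'.Y = h.Y := by
    refine Set.eq_of_subset_of_ncard_le (by rintro _ ⟨ψ, hψ, rfl⟩; exact (hf ψ hψ).1) (le_of_eq ?_)
    rw [Set.ncard_image_of_injOn hinj, ← Nat.card_coe_set_eq, ← Nat.card_coe_set_eq]
    refine mul_left_cancel₀ h.pos.ne' ?_
    rw [h.card_Y, h'.card_Y, Nat.card_congr φ.toEquiv]
  exact himg.symm ▸ hχ

open scoped Classical in
/-- The kernel at two singular elements: `#D` times integral combinations. -/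
theorem kernel_singular (φ : D' ≃* D) (I : Cfsg.IrrCharacter H → Cfsg.IrrCharacter G)
    (σ : Cfsg.IrrCharacter H → ℤ) (hbX : Set.BijOn I h'.X h.X) (hbY : Set.BijOn I h'.Y h.Y)
    (hσX : ∀ χ ∈ h'.X, σ χ = h.sgn (I χ) * h'.sgn χ) (hσY : ∀ ψ ∈ h'.Y, σ ψ = h.eps * h'.eps)
    (hmatch : ∀ ψ ∈ h'.Y, ∀ η : Cfsg.IrrCharacter D',
      (h.β (I ψ) (isoIrr φ.symm η) ≠ 0 ↔ h'.β ψ η ≠ 0))
    (hab : ∀ a ∈ D', ∀ b ∈ D', a * b = b * a)
    (w : D → ℂ) (w' : D' → ℂ) (hw1 : ∀ a : D, (a : G) = 1 → w a = 0)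
    (hw1' : ∀ b : D', (b : H) = 1 → w' b = 0) (F : Cfsg.IrrCharacter G → ℂ)
    (F' : Cfsg.IrrCharacter H → ℂ) (hw : ∀ χ ∈ B, F χ = ∑ᶠ a : D, w a * ev (h.β χ) a)
    (hw' : ∀ η ∈ B', F' η = ∑ᶠ b : D', w' b * ev (h'.β η) b) :
    ∃ N : D → D' → ℕ, ∑ᶠ η ∈ B', (σ η : ℂ) * F (I η) * F' η =
      ∑ a : D, ∑ b : D', (Nat.card D : ℂ) * (w a * w' b * (N a b : ℂ)) := by
  obtain ⟨N, hNdef⟩ : ∃ N : D → D' → ℕ, N = fun a b =>
      ((Finset.range e).filter fun j => φ.symm a * (h'.α ^ j : MulAut D') b = 1).card := ⟨_, rfl⟩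
  refine ⟨N, ?_⟩
  have hI : ∀ η ∈ B', I η ∈ B := fun η hη => by
    rw [h'.union] at hη
    rw [h.union]
    exact hη.imp (fun a => hbX.mapsTo a) fun a => hbY.mapsTo a
  rw [finsum_mem_eq_finite_toFinset_sum _ (Set.toFinite B')]
  rw [Finset.sum_congr rfl (g := fun η => ∑ a : D, ∑ b : D',
      w a * w' b * ((σ η : ℂ) * ev (h.β (I η)) a * ev (h'.β η) b)) fun η hη => by
    have hη' := (Set.Finite.mem_toFinset _).1 hη
    rw [hw _ (hI η hη'), hw' η hη', finsum_eq_sum_of_fintype, finsum_eq_sum_of_fintype,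
      mul_assoc, Finset.sum_mul_sum, Finset.mul_sum]
    refine Finset.sum_congr rfl fun a _ => ?_
    rw [Finset.mul_sum]
    exact Finset.sum_congr rfl fun b _ => by ring,
    Finset.sum_comm]
  refine Finset.sum_congr rfl fun a _ => ?_
  rw [Finset.sum_comm]
  refine Finset.sum_congr rfl fun b _ => ?_
  by_cases ha : (a : G) = 1
  · simp [hw1 a ha]
  by_cases hb : (b : H) = 1
  · simp [hw1' b hb]
  rw [← Finset.mul_sum, mul_left_comm (Nat.card D : ℂ)]
  congr 1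
  obtain ⟨a', ha'⟩ : ∃ a', a' = φ.symm a := ⟨_, rfl⟩
  rw [← finsum_mem_eq_finite_toFinset_sum (hs := Set.toFinite B')]
  have e1 : ∑ᶠ η ∈ B', (σ η : ℂ) * ev (h.β (I η)) a * ev (h'.β η) b =
      (∑ᶠ η ∈ h'.X, (1 : ℂ)) + ∑ᶠ ψ ∈ h'.Y, ∑ η : Cfsg.IrrCharacter D',
        if h'.β ψ η ≠ 0 then
          (η : D' → ℂ) a' * ∑ j ∈ Finset.range e, (η : D' → ℂ) ((h'.α ^ j : MulAut D') b) else 0 := by
    refine (finsum_mem_congr h'.union fun _ _ => rfl).trans
      ((finsum_mem_union h'.disjoint (Set.toFinite _) (Set.toFinite _)).trans ?_)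
    congr 1
    · refine finsum_mem_congr rfl fun χ hχ => ?_
      rw [h.ev_X _ (hbX.mapsTo hχ) a ha, h'.ev_X χ hχ b hb, hσX χ hχ]
      rcases h.sign_X _ (hbX.mapsTo hχ) with s | s <;> rcases h'.sign_X χ hχ with s' | s' <;>
        simp [s, s']
    · refine finsum_mem_congr rfl fun ψ hψ => ?_
      have hS : ∀ η₀ : Cfsg.IrrCharacter D', h'.β ψ η₀ ≠ 0 →
          ∑ η ∈ Finset.univ.filter (fun η : Cfsg.IrrCharacter D' => h'.β ψ η ≠ 0), (η : D' → ℂ) b =
            ∑ j ∈ Finset.range e, (η₀ : D' → ℂ) ((h'.α ^ j : MulAut D') b) := by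
        intro η₀ hη₀
        obtain ⟨S, hS⟩ : ∃ S, S = Finset.univ.filter
            (fun η : Cfsg.IrrCharacter D' => h'.β ψ η ≠ 0) := ⟨_, rfl⟩
        rw [← hS]
        have himg : (Finset.range e).image (fun j => compIrr (h'.α ^ j : MulAut D') η₀) = S := by
          ext η
          simp only [hS, Finset.mem_image, Finset.mem_filter, Finset.mem_univ, true_and,
            Finset.mem_range]
          rw [h'.orbit_pow ψ hψ η₀ η hη₀]
          refine exists_congr fun j => and_congr_right fun _ =>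
            ⟨fun hj x => by rw [← hj, compIrr_apply], fun hj => ?_⟩
          exact Subtype.ext (funext fun x => by rw [compIrr_apply]; exact (hj x).symm)
        have hcard : S.card = e := by
          refine Eq.trans ?_ (h'.card_orbit ψ hψ)
          rw [hS, Nat.card_eq_fintype_card, Fintype.card_subtype]
        rw [← himg, Finset.sum_image (Finset.card_image_iff.1 (by rw [himg, hcard, Finset.card_range]))]
        exact Finset.sum_congr rfl fun j _ => compIrr_apply _ _ _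
      rw [h.ev_Y_eq (hbY.mapsTo hψ), h'.ev_Y_eq hψ, hσY ψ hψ]
      have hA : ∑ η ∈ Finset.univ.filter (fun η : Cfsg.IrrCharacter D => h.β (I ψ) η ≠ 0),
          (η : D → ℂ) a =
          ∑ η ∈ Finset.univ.filter (fun η : Cfsg.IrrCharacter D' => h'.β ψ η ≠ 0),
            (η : D' → ℂ) a' := by
        refine (Finset.sum_equiv (isoIrrEquiv φ.symm) (fun η => ?_) fun η _ => ?_).symm
        · simp only [Finset.mem_filter, Finset.mem_univ, true_and]
          exact (hmatch ψ hψ η).symm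
        · show _ = (isoIrr φ.symm η : D → ℂ) a
          rw [isoIrr_apply, ha']
      rw [hA]
      push_cast
      rw [show (h.eps : ℂ) * (h'.eps : ℂ) *
        ((h.eps : ℂ) * ∑ η ∈ Finset.univ.filter (fun η : Cfsg.IrrCharacter D' => h'.β ψ η ≠ 0),
          (η : D' → ℂ) a') *
        ((h'.eps : ℂ) * ∑ η ∈ Finset.univ.filter (fun η : Cfsg.IrrCharacter D' => h'.β ψ η ≠ 0),
          (η : D' → ℂ) b) =
        (∑ η ∈ Finset.univ.filter (fun η : Cfsg.IrrCharacter D' => h'.β ψ η ≠ 0),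
          (η : D' → ℂ) a') *
        ∑ η ∈ Finset.univ.filter (fun η : Cfsg.IrrCharacter D' => h'.β ψ η ≠ 0),
          (η : D' → ℂ) b by
        rcases h.sign with s | s <;> rcases h'.sign with s' | s' <;> simp [s, s'],
        Finset.sum_mul, Finset.sum_filter]
      refine Finset.sum_congr rfl fun η _ => ?_
      split_ifs with hη
      · rw [hS η hη]
      · rfl
  rw [e1]
  have e2 : ∑ᶠ η ∈ h'.X, (1 : ℂ) = (e : ℂ) := by
    rw [finsum_mem_eq_finite_toFinset_sum _ (Set.toFinite _), Finset.sum_const, nsmul_one,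
      ← Set.ncard_eq_toFinset_card, ← Nat.card_coe_set_eq, h'.card_X]
  have hmul := fun η : Cfsg.IrrCharacter D' => irr_mul_of_comm hab η
  have e3 : ∑ᶠ ψ ∈ h'.Y, ∑ η : Cfsg.IrrCharacter D', (if h'.β ψ η ≠ 0 then
      (η : D' → ℂ) a' * ∑ j ∈ Finset.range e, (η : D' → ℂ) ((h'.α ^ j : MulAut D') b) else 0) =
      ∑ j ∈ Finset.range e, ∑ η : Cfsg.IrrCharacter D',
        (if ∀ x : D', (η : D' → ℂ) x = 1 then 0 else (η : D' → ℂ) (a' * (h'.α ^ j : MulAut D') b)) := by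
    rw [finsum_mem_eq_finite_toFinset_sum _ (Set.toFinite _), Finset.sum_comm,
      Finset.sum_comm (s := Finset.range e)]
    refine Finset.sum_congr rfl fun η _ => ?_
    by_cases hη : ∀ x : D', (η : D' → ℂ) x = 1
    · rw [Finset.sum_eq_zero fun ψ _ => if_neg fun hne => h'.nontriv ψ η hne hη,
        Finset.sum_eq_zero fun j _ => if_pos hη]
    obtain ⟨ψ₀, ⟨hψ₀, hval⟩, huniq⟩ := h'.orbit η hη
    rw [Finset.sum_eq_single_of_mem ψ₀ ((Set.Finite.mem_toFinset _).2 hψ₀) fun ψ hψ hne =>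
      if_neg fun hne0 => hne (huniq ψ ⟨(Set.Finite.mem_toFinset _).1 hψ,
        (h'.coeff_Y ψ ((Set.Finite.mem_toFinset _).1 hψ) η).resolve_left hne0⟩),
      if_pos (by rw [hval]; rcases h'.sign with s | s <;> omega), Finset.mul_sum]
    exact Finset.sum_congr rfl fun j _ => by rw [if_neg hη, (hmul η).2]
  let one : Cfsg.IrrCharacter D' :=
    ⟨fun x => (((1 : D' →* ℂˣ) x : ℂˣ) : ℂ), Char.isIrrCharacter_hom 1⟩
  have e4 : ∀ z : D', ∑ η : Cfsg.IrrCharacter D',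
      (if ∀ x : D', (η : D' → ℂ) x = 1 then 0 else (η : D' → ℂ) z) =
        (if z = 1 then (Nat.card D : ℂ) else 0) - 1 := by
    intro z
    have hr := Char.regular_eq_sum z
    simp only [(hmul _).1, one_mul] at hr
    rw [show (Nat.card D : ℂ) = (Nat.card D' : ℂ) by rw [Nat.card_congr φ.toEquiv], ← hr,
      Finset.sum_congr rfl (g := fun η : Cfsg.IrrCharacter D' =>
        (η : D' → ℂ) z - if η = one then 1 else 0) fun η _ => ?_,
      Finset.sum_sub_distrib, Finset.sum_ite_eq', if_pos (Finset.mem_univ _)]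
    by_cases hη : η = one
    · subst hη; simp [one]
    · rw [if_neg fun h1 => hη (Subtype.ext (funext fun x => by simp [one, h1 x])), if_neg hη, sub_zero]
  rw [e2, e3, Finset.sum_congr rfl fun j _ => e4 _, Finset.sum_sub_distrib, ← Finset.sum_filter,
    Finset.sum_const, Finset.sum_const, Finset.card_range, hNdef]
  simp only [nsmul_eq_mul, ha']
  ring

/-- The theorem. -/
theorem perfect_isometry (hM : Cfsg.IsPModular p M) (φ : D' ≃* D)
    (hab' : ∀ a ∈ D', ∀ b ∈ D', a * b = b * a)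
    (hφ : ∀ j : ℕ, ∃ i, i < e ∧ ∀ a, φ ((h'.α ^ j : MulAut D') a) = (h.α ^ i : MulAut D) (φ a)) :
    ∃ (I : Cfsg.IrrCharacter H → Cfsg.IrrCharacter G) (σ : Cfsg.IrrCharacter H → ℤ),
      Cfsg.IsPerfectIsometry p M B' B I σ ∧
      (∀ χ ∈ h'.X, I χ ∈ h.X ∧ σ χ = h.sgn (I χ) * h'.sgn χ) ∧
      ∀ ψ ∈ h'.Y, I ψ ∈ h.Y ∧ σ ψ = h.eps * h'.eps := by
  classical
  obtain ⟨fY, hfY, hmatch⟩ := exists_orbit_match h h' φ hφ
  obtain ⟨fX, hfX⟩ := exists_bijOn_of_card_eq (h'.card_X.trans h.card_X.symm)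
    (Set.nonempty_coe_sort.1 (Nat.card_pos_iff.1 (h'.card_X.symm ▸ h'.pos)).1)
  let I : Cfsg.IrrCharacter H → Cfsg.IrrCharacter G := fun η => if η ∈ h'.X then fX η else fY η
  let σ : Cfsg.IrrCharacter H → ℤ := fun η =>
    if η ∈ h'.X then h.sgn (fX η) * h'.sgn η else h.eps * h'.eps
  have hX : ∀ χ ∈ h'.X, I χ = fX χ ∧ σ χ = h.sgn (fX χ) * h'.sgn χ := fun χ hχ =>
    ⟨if_pos hχ, if_pos hχ⟩
  have hY : ∀ ψ ∈ h'.Y, I ψ = fY ψ ∧ σ ψ = h.eps * h'.eps := fun ψ hψ =>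
    ⟨if_neg fun hc => Set.disjoint_left.1 h'.disjoint hc hψ,
      if_neg fun hc => Set.disjoint_left.1 h'.disjoint hc hψ⟩
  have hbX : Set.BijOn I h'.X h.X := hfX.congr fun χ hχ => (hX χ hχ).1.symm
  have hbY : Set.BijOn I h'.Y h.Y := hfY.congr fun χ hχ => (hY χ hχ).1.symm
  have hbij : Set.BijOn I B' B := by
    rw [h.union, h'.union]
    refine hbX.union hbY (Set.injOn_union h'.disjoint |>.2 ⟨hbX.injOn, hbY.injOn, fun a ha b hb hab =>
      Set.disjoint_left.1 h.disjoint (hbX.mapsTo ha) (hab ▸ hbY.mapsTo hb)⟩)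
  have hσ : ∀ η ∈ B', σ η = 1 ∨ σ η = -1 := by
    intro η hη
    rw [h'.union] at hη
    rcases hη with hη | hη
    · rw [(hX η hη).2]
      rcases h.sign_X _ (hfX.mapsTo hη) with a | a <;> rcases h'.sign_X η hη with b | b <;> simp [a, b]
    · rw [(hY η hη).2]
      rcases h.sign with a | a <;> rcases h'.sign with b | b <;> simp [a, b]
  refine ⟨I, σ, ⟨hbij, hσ, ?_⟩, fun χ hχ => ⟨hbX.mapsTo hχ, by rw [(hX χ hχ).1]; exact (hX χ hχ).2⟩,
    fun ψ hψ => ⟨hbY.mapsTo hψ, (hY ψ hψ).2⟩⟩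
  have hεε : (h.eps : ℂ) * (h.eps : ℂ) = 1 := by rcases h.sign with a | a <;> simp [a]
  have hεε' : (h'.eps : ℂ) * (h'.eps : ℂ) = 1 := by rcases h'.sign with a | a <;> simp [a]
  -- sums over the blocks
  have hker : ∀ (f : Cfsg.IrrCharacter G → ℂ) (g : Cfsg.IrrCharacter H → ℂ),
      ∑ᶠ η ∈ B', (σ η : ℂ) * f (I η) * g η =
        (∑ᶠ χ ∈ h'.X, ((h.sgn (I χ) : ℂ) * f (I χ)) * ((h'.sgn χ : ℂ) * g χ)) +
          ∑ᶠ ψ ∈ h'.Y, ((h.eps : ℂ) * f (I ψ)) * ((h'.eps : ℂ) * g ψ) := by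
    intro f g
    have e1 : ∑ᶠ η ∈ B', (σ η : ℂ) * f (I η) * g η =
        (∑ᶠ η ∈ h'.X, (σ η : ℂ) * f (I η) * g η) + ∑ᶠ η ∈ h'.Y, (σ η : ℂ) * f (I η) * g η := by
      exact (finsum_mem_congr h'.union fun _ _ => rfl).trans
        (finsum_mem_union h'.disjoint (Set.toFinite _) (Set.toFinite _))
    rw [e1]
    congr 1
    · refine finsum_mem_congr rfl fun χ hχ => ?_
      rw [(hX χ hχ).2, (hX χ hχ).1]; push_cast; ring
    · refine finsum_mem_congr rfl fun χ hχ => ?_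
      rw [(hY χ hχ).2]; push_cast; ring
  -- mixed pairs
  have hmixed : ∀ x : G, ∀ y : H, ¬ (Cfsg.IsPRegular p x ↔ Cfsg.IsPRegular p y) →
      Cfsg.signedBijectionKernel B' I σ x y = 0 := by
    intro x y hxy
    rw [Cfsg.signedBijectionKernel,
      hker (fun χ => (χ : G → ℂ) x) (fun η => (η : H → ℂ) y)]
    by_cases hx : p ∣ orderOf x
    · have hy : ¬ p ∣ orderOf y := fun hy => hxy ⟨fun a => absurd hx a, fun a => absurd hy a⟩
      obtain ⟨A, hA, hAY⟩ := h.singular_pattern hx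
      obtain ⟨R, hR⟩ : ∃ R, R = ∑ᶠ χ ∈ h'.X, (h'.sgn χ : ℂ) * (χ : H → ℂ) y := ⟨_, rfl⟩
      have e1 : ∑ᶠ χ ∈ h'.X, ((h.sgn (I χ) : ℂ) * (I χ : G → ℂ) x) *
          ((h'.sgn χ : ℂ) * (χ : H → ℂ) y) = A * R := by
        rw [hR, mul_finsum_mem]
        refine finsum_mem_congr rfl fun χ hχ => ?_
        rw [hA _ (hbX.mapsTo hχ)]
        rcases h.sign_X _ (hbX.mapsTo hχ) with a | a <;> simp [a]
      have e2 : ∑ᶠ ψ ∈ h'.Y, ((h.eps : ℂ) * (I ψ : G → ℂ) x) * ((h'.eps : ℂ) * (ψ : H → ℂ) y) =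
          A * -R := by
        rw [← hAY, ← finsum_mem_eq_of_bijOn (f := fun ψ : Cfsg.IrrCharacter H => (h.eps : ℂ) * (I ψ : G → ℂ) x)
          (g := fun ψ : Cfsg.IrrCharacter G => (h.eps : ℂ) * (ψ : G → ℂ) x) I hbY (fun ψ _ => rfl), finsum_mem_mul]
        exact finsum_mem_congr rfl fun ψ hψ => by
          rw [eq_neg_of_add_eq_zero_left (h'.relation ψ hψ y hy), hR]
      rw [e1, e2]
      ring
    · have hy : p ∣ orderOf y := by
        by_contra hy
        exact hxy (iff_of_true hx hy)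
      obtain ⟨A, hA, hAY⟩ := h'.singular_pattern hy
      obtain ⟨R, hR⟩ : ∃ R, R = ∑ᶠ χ ∈ h.X, (h.sgn χ : ℂ) * (χ : G → ℂ) x := ⟨_, rfl⟩
      have e1 : ∑ᶠ χ ∈ h'.X, ((h.sgn (I χ) : ℂ) * (I χ : G → ℂ) x) *
          ((h'.sgn χ : ℂ) * (χ : H → ℂ) y) = R * A := by
        rw [hR, ← finsum_mem_eq_of_bijOn (f := fun χ : Cfsg.IrrCharacter H => (h.sgn (I χ) : ℂ) * (I χ : G → ℂ) x)
          (g := fun χ : Cfsg.IrrCharacter G => (h.sgn χ : ℂ) * (χ : G → ℂ) x) I hbX (fun χ _ => rfl),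
          finsum_mem_mul]
        refine finsum_mem_congr rfl fun χ hχ => ?_
        rw [hA χ hχ]
        rcases h'.sign_X χ hχ with a | a <;> simp [a]
      have e2 : ∑ᶠ ψ ∈ h'.Y, ((h.eps : ℂ) * (I ψ : G → ℂ) x) * ((h'.eps : ℂ) * (ψ : H → ℂ) y) =
          -R * A := by
        rw [← hAY, mul_finsum_mem]
        exact finsum_mem_congr rfl fun ψ hψ => by
          rw [eq_neg_of_add_eq_zero_left (h.relation _ (hbY.mapsTo hψ) x hx), hR]
      rw [e1, e2]
      ring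
  have hsigma : ∀ η, Cfsg.MemLocalRing M (σ η : ℂ) := fun η =>
    memLocalRing_of_isIntegral hM (_root_.isIntegral_intCast _)
  have hsum : ∀ x y, Cfsg.signedBijectionKernel B' I σ x y = ∑ η ∈ (Set.toFinite B').toFinset,
      (σ η : ℂ) * (I η : G → ℂ) x * (η : H → ℂ) y := fun x y => by
    rw [Cfsg.signedBijectionKernel, finsum_mem_eq_finite_toFinset_sum]
  intro x y
  by_cases hxy : Cfsg.IsPRegular p x ↔ Cfsg.IsPRegular p y
  swap
  · rw [hmixed x y hxy, zero_div, zero_div]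
    exact ⟨(localRing hM).zero_mem, (localRing hM).zero_mem, Or.inr rfl⟩
  refine ⟨?_, ?_, Or.inl hxy⟩ <;> by_cases hx : p ∣ orderOf x
  rotate_right
  · -- both regular, the second argument
    have hy : ¬ p ∣ orderOf y := hxy.1 hx
    refine memLocalRing_div_natCast hM Nat.card_pos.ne' ?_
    rw [hsum]
    refine memLocalRing_div_of_vanish hM (Set.toFinite B').toFinset
      (fun η => (σ η : ℂ) * (I η : G → ℂ) x) (fun η => (η : H → ℂ))
      (fun η _ => (localRing hM).mul_mem (hsigma η) (memLocalRing_irr hM _ _))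
      (fun η _ => Char.IsIrr.isCharacter η.2) (fun y' hy' => ?_) hy
    rw [← hsum]
    exact hmixed x y' fun h2 => (h2.1 hx) hy'
  rotate_left
  · -- both regular, the first argument
    have hy : ¬ p ∣ orderOf y := hxy.1 hx
    refine memLocalRing_div_natCast hM Nat.card_pos.ne' ?_
    rw [hsum, Finset.sum_congr rfl (g := fun η =>
      (σ η : ℂ) * (η : H → ℂ) y * (I η : G → ℂ) x) fun η _ => by ring]
    refine memLocalRing_div_of_vanish hM (Set.toFinite B').toFinset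
      (fun η => (σ η : ℂ) * (η : H → ℂ) y) (fun η => (I η : G → ℂ))
      (fun η _ => (localRing hM).mul_mem (hsigma η) (memLocalRing_irr hM _ _))
      (fun η _ => Char.IsIrr.isCharacter (I η).2) (fun x' hx' => ?_) hx
    rw [Finset.sum_congr rfl (g := fun η =>
      (σ η : ℂ) * (I η : G → ℂ) x' * (η : H → ℂ) y) fun η _ => by ring, ← hsum]
    exact hmixed x' y fun h2 => (h2.2 hy) hx'
  all_goals
    have hy : p ∣ orderOf y := by_contra fun hy => (hxy.2 hy) hx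
    obtain ⟨w, hw1, hwl, hwd, hw⟩ := h.rep x hx
    obtain ⟨w', hw1', hwl', hwd', hw'⟩ := h'.rep y hy
    obtain ⟨N, hN⟩ := kernel_singular h h' φ I σ hbX hbY
      (fun χ hχ => by rw [(hX χ hχ).1]; exact (hX χ hχ).2) (fun ψ hψ => (hY ψ hψ).2)
      (fun ψ hψ η => (hY ψ hψ).1.symm ▸ hmatch ψ hψ η) hab' w w' hw1 hw1' _ _ hw hw'
    rw [Cfsg.signedBijectionKernel, hN, Finset.sum_div]
    refine (localRing hM).sum_mem fun a _ => ?_
    rw [Finset.sum_div]
    refine (localRing hM).sum_mem fun b _ => ?_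
  · rw [show (Nat.card D : ℂ) * (w a * w' b * (N a b : ℂ)) /
        (Nat.card (Subgroup.centralizer ({y} : Set H)) : ℂ) =
        ((Nat.card D' : ℂ) * w' b / (Nat.card (Subgroup.centralizer ({y} : Set H)) : ℂ)) *
          w a * (N a b : ℂ) by rw [Nat.card_congr φ.toEquiv]; ring]
    exact (localRing hM).mul_mem ((localRing hM).mul_mem (hwd' b) (hwl a)) (memLocalRing_natCast hM _)
  · rw [show (Nat.card D : ℂ) * (w a * w' b * (N a b : ℂ)) /
        (Nat.card (Subgroup.centralizer ({x} : Set G)) : ℂ) =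
        ((Nat.card D : ℂ) * w a / (Nat.card (Subgroup.centralizer ({x} : Set G)) : ℂ)) *
          w' b * (N a b : ℂ) by ring]
    exact (localRing hM).mul_mem ((localRing hM).mul_mem (hwd a) (hwl' b)) (memLocalRing_natCast hM _)

end Cfsg.Agent.BlockChar.Cyclic
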