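import Cfsg.Agent.BlockChar.Cyclic.Brauer
import Cfsg.Agent.BlockChar.Cyclic.Density
import Cfsg.Agent.BlockChar.Cyclic.CornerFix
import Cfsg.Agent.BlockThms.OrderP.Stable

/-!
# The local situation at a subgroup of order `p` and the lifting of stable maps
-/

set_option autoImplicit false

namespace Cfsg.Agent.BlockChar.Cyclic

universe u v v' w

namespace Frame

variable {k R : Type*} [Field k] [Ring R] [Algebra k R]
variable {S : Subalgebra k R} {ε t i : R} {N : ℕ}

/-- A corner scalar killed by a power of `t`. -/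
theorem sum_eq_pow_mul (F : Frame S ε t i N) {c : ℕ → k} {n : ℕ} (hn : n ≤ N)
    (h : t ^ n * ∑ j ∈ Finset.range N, c j • (t ^ j * i) = 0) : ∀ j < N - n, c j = 0 := by
  intro j
  induction j using Nat.strong_induction_on with | _ j ih => ?_
  intro hj
  have h1 := congrArg (t ^ (N - n - 1 - j) * ·) h
  simp only [mul_zero, ← mul_assoc, ← pow_add, Finset.mul_sum, mul_smul_comm] at h1
  rw [Finset.sum_eq_single j] at h1
  · rw [show N - n - 1 - j + (n + j) = N - 1 by omega] at h1
    exact (smul_eq_zero.1 h1).resolve_right F.t_top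
  · intro l hl hne
    rcases lt_or_gt_of_ne hne with hlt | hlt
    · rw [ih l hlt (by omega), zero_smul]
    · rw [show N - n - 1 - j + (n + l) = N + (l - j - 1) by omega, pow_add, F.t_pow, zero_mul,
        zero_mul, smul_zero]
  · intro hni
    exact absurd (Finset.mem_range.2 (by omega)) hni

/-- An element of `i S` killed by a power of `t` is a multiple of the complementary power. -/
theorem mem_pow_of_kill (F : Frame S ε t i N) {z : R} (hz : z ∈ S) (hiz : i * z = z) {n : ℕ}
    (hn : n ≤ N) (h : t ^ n * z = 0) : ∃ s ∈ S, z = t ^ (N - n) * s := by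
  obtain ⟨r, u, v, hu, hv, hgen⟩ := F.gen
  have hc : ∀ a, ∃ s ∈ S, z * u a * i = t ^ (N - n) * s := by
    intro a
    obtain ⟨c, hc⟩ := F.corner_eq (S.mul_mem hz (hu a))
    have e : i * (z * u a) * i = z * u a * i := by rw [← mul_assoc, hiz]
    rw [e] at hc
    have h2 : t ^ n * (z * u a * i) = 0 := by
      rw [← mul_assoc, ← mul_assoc, h, zero_mul, zero_mul]
    rw [hc] at h2
    have hz0 := F.sum_eq_pow_mul hn h2
    refine ⟨∑ j ∈ Finset.range N, c j • (t ^ (j - (N - n)) * i), S.sum_mem fun j _ =>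
      S.smul_mem (S.mul_mem (S.pow_mem F.t_mem _) F.i_mem) _, ?_⟩
    rw [hc, Finset.mul_sum]
    refine Finset.sum_congr rfl fun j _ => ?_
    rw [mul_smul_comm, ← mul_assoc, ← pow_add]
    rcases lt_or_ge j (N - n) with hj | hj
    · rw [hz0 j hj, zero_smul, zero_smul]
    · rw [Nat.add_sub_cancel' hj]
  choose s hs hse using hc
  refine ⟨∑ a, s a * v a, S.sum_mem fun a _ => S.mul_mem (hs a) (hv a), ?_⟩
  calc z = z * ε := by rw [← F.eps_comm z hz, ← hiz, ← mul_assoc, F.eps_i]
    _ = ∑ a, z * u a * i * v a := by rw [hgen, Finset.mul_sum]; simp only [mul_assoc]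
    _ = _ := by rw [Finset.mul_sum]; simp only [hse, mul_assoc]

end Frame

section Rep

variable {k : Type w} [Field k] {G : Type u} [Group G]


variable (k) in
/-- The representation on a module of the group algebra. -/
noncomputable def rep (V : Type v) [AddCommGroup V] [Module k V] [Module (MonoidAlgebra k G) V]
    [IsScalarTower k (MonoidAlgebra k G) V] : Representation k G V :=
  ((Algebra.lsmul k k V).toMonoidHom : (MonoidAlgebra k G) →* Module.End k V).comp (MonoidAlgebra.of k G)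

theorem rep_apply {V : Type v} [AddCommGroup V] [Module k V] [Module (MonoidAlgebra k G) V] [IsScalarTower k (MonoidAlgebra k G) V]
    (g : G) (x : V) : rep k V g x = MonoidAlgebra.of k G g • x := rfl

variable {V : Type v} [AddCommGroup V] [Module k V] [Module (MonoidAlgebra k G) V] [IsScalarTower k (MonoidAlgebra k G) V]
  {V' : Type v'} [AddCommGroup V'] [Module k V'] [Module (MonoidAlgebra k G) V'] [IsScalarTower k (MonoidAlgebra k G) V']

variable (k) in
/-- The action on linear maps. -/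
noncomputable def homRep (V : Type v) [AddCommGroup V] [Module k V] [Module (MonoidAlgebra k G) V]
    [IsScalarTower k (MonoidAlgebra k G) V] (V' : Type v') [AddCommGroup V'] [Module k V'] [Module (MonoidAlgebra k G) V']
    [IsScalarTower k (MonoidAlgebra k G) V'] : Representation k G (V →ₗ[k] V') :=
  Representation.linHom (rep k V) (rep k V')

theorem homRep_apply (g : G) (X : V →ₗ[k] V') (x : V) :
    homRep k V V' g X x = MonoidAlgebra.of k G g • X (MonoidAlgebra.of k G g⁻¹ • x) := rfl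

theorem of_smul_inv (g : G) (x : V) :
    MonoidAlgebra.of k G g • MonoidAlgebra.of k G g⁻¹ • x = x := by
  rw [← mul_smul, ← map_mul, mul_inv_cancel, map_one, one_smul]

/-- An equivariant linear map is fixed. -/
theorem homRep_eq_self {φ : V →ₗ[k] V'} {g : G}
    (h : ∀ x, φ (MonoidAlgebra.of k G g • x) = MonoidAlgebra.of k G g • φ x) :
    homRep k V V' g φ = φ :=
  LinearMap.ext fun x => by rw [homRep_apply, ← h, of_smul_inv]

theorem comm_of_homRep_eq_self {φ : V →ₗ[k] V'} {g : G} (h : homRep k V V' g φ = φ) (x : V) :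
    φ (MonoidAlgebra.of k G g • x) = MonoidAlgebra.of k G g • φ x := by
  conv_lhs => rw [← h, homRep_apply, ← mul_smul, ← map_mul, inv_mul_cancel, map_one, one_smul]

/-- A map commuting with the group is linear over the group algebra. -/
noncomputable def toHom (φ : V →ₗ[k] V')
    (h : ∀ g : G, ∀ x, φ (MonoidAlgebra.of k G g • x) = MonoidAlgebra.of k G g • φ x) :
    V →ₗ[MonoidAlgebra k G] V' :=
  { φ with
    map_smul' := fun a x => by
      induction a using MonoidAlgebra.induction_on with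
      | of g => exact h g x
      | add a b ha hb =>
        simp only [RingHom.id_apply] at ha hb ⊢
        simp only [AddHom.toFun_eq_coe, LinearMap.coe_toAddHom] at ha hb ⊢
        rw [add_smul, add_smul, map_add, ha, hb]
      | smul r a ha =>
        simp only [RingHom.id_apply] at ha ⊢
        simp only [AddHom.toFun_eq_coe, LinearMap.coe_toAddHom] at ha ⊢
        rw [smul_assoc, smul_assoc, map_smul, ha] }

/-- The action of a fixed element composed with an equivariant map. -/
theorem lsmul_homRep (g : G) (a : (MonoidAlgebra k G)) (X : V →ₗ[k] V') :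
    homRep k V V' g (Algebra.lsmul k k V' a ∘ₗ X) =
      Algebra.lsmul k k V' (conjRep k g a) ∘ₗ homRep k V V' g X := by
  refine LinearMap.ext fun x => ?_
  simp only [LinearMap.comp_apply, homRep_apply, Algebra.lsmul_coe, conjRep_apply, mul_smul]
  congr 2
  rw [← mul_smul (MonoidAlgebra.of k G g⁻¹), ← map_mul, inv_mul_cancel, map_one, one_smul]

theorem lsmul_end (g : G) (a : (MonoidAlgebra k G)) :
    homRep k V V g (Algebra.lsmul k k V a) = Algebra.lsmul k k V (conjRep k g a) := by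
  refine LinearMap.ext fun x => ?_
  simp only [homRep_apply, Algebra.lsmul_coe, conjRep_apply, mul_smul]

end Rep

/-- The local situation: a subgroup `Q` of order `p`, its centralizer `K`, the stabilizer `T` of
an idempotent `e₁` of `K` and the idempotent `ε` of a block. -/
structure LocalData {k : Type w} [Field k] {G : Type u} [Group G] [Fintype G] (p : ℕ)
    (Q P K T : Subgroup G) (y : G) (o e : ℕ) (ε e₁ b t i : MonoidAlgebra k G) (N : ℕ) :
    Prop where
  centralizer_eq : K = Subgroup.centralizer (Q : Set G)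
  isPGroup : IsPGroup p Q
  ne_bot : Q ≠ ⊥
  Q_le : Q ≤ P
  P_le : P ≤ K
  T_le : T ≤ Subgroup.normalizer (Q : Set G)
  K_le : K ≤ T
  mem_normalizer : ∀ g : G, ∀ u ∈ P, u ≠ 1 → g⁻¹ * u * g ∈ P →
    g ∈ Subgroup.normalizer (Q : Set G)
  y_mem : y ∈ T
  y_pow : y ^ o = 1
  o_ne : (o : k) ≠ 0
  e_ne : (e : k) ≠ 0
  y_gen : ∀ g ∈ T, ∃ j < e, g * (y ^ j)⁻¹ ∈ K
  y_pow_mem : ∀ j, y ^ j ∈ K ↔ e ∣ j
  index_eq : Nat.card (T ⧸ K.subgroupOf T) = e
  eps_idem : ε * ε = ε
  eps_central : ∀ x, ε * x = x * ε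
  eps_local : ∀ z, (∀ x, z * x = x * z) → ε * z = z →
    IsNilpotent z ∨ ∃ z', (∀ x, z' * x = x * z') ∧ z * z' = ε
  trunc_eps : trunc k K ε * e₁ = e₁
  e₁_fixed : Fixed (conjRep k) T e₁
  e₁_orth : ∀ g ∈ Subgroup.normalizer (Q : Set G), g ∉ T → conjRep k g e₁ * e₁ = 0
  b_mem : b ∈ kSub k K
  b_fixed : Fixed (conjRep k) P b
  e₁_b : e₁ * b = b
  b_e₁ : b * e₁ = b
  b_trace : relTr (conjRep k) P K b = e₁
  frame : Frame (kSub k K) e₁ t i N
  y_i : MonoidAlgebra.of k G y * i = i * MonoidAlgebra.of k G y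
  one_lt : 1 < N

namespace LocalData

variable {k : Type w} [Field k] {G : Type u} [Group G] [Fintype G] {p : ℕ}
  {Q P K T : Subgroup G} {y : G} {o e : ℕ} {ε e₁ b t i : MonoidAlgebra k G} {N : ℕ}


variable (L : LocalData p Q P K T y o e ε e₁ b t i N)
include L

theorem P_le_T : P ≤ T := L.P_le.trans L.K_le

theorem normal_conj {g : G} (hg : g ∈ T) {h : G} (hh : h ∈ K) : g * h * g⁻¹ ∈ K := by
  have hN := L.T_le hg
  rw [L.centralizer_eq, Subgroup.mem_centralizer_iff] at hh ⊢
  intro u hu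
  have h' := hh _ ((Subgroup.mem_normalizer_iff''.1 hN u).1 hu)
  calc u * (g * h * g⁻¹) = g * ((g⁻¹ * u * g) * h) * g⁻¹ := by group
    _ = g * (h * (g⁻¹ * u * g)) * g⁻¹ := by rw [h']
    _ = g * h * g⁻¹ * u := by group

theorem conj_mem {g : G} (hg : g ∈ T) {x : (MonoidAlgebra k G)} (hx : x ∈ kSub k K) :
    conjRep k g x ∈ kSub k K := fun z hz => by
  rw [coeff_conjRep]
  refine hx _ fun h => hz ?_
  have := L.normal_conj hg h
  simpa [mul_assoc] using this

theorem twist : Twist (k := k) (kSub k K) i (MonoidAlgebra.of k G y) o where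
  pow := by rw [← map_pow, L.y_pow, map_one]
  ne_zero := L.o_ne
  comm_i := L.y_i
  conj s hs := ⟨conjRep k y s, L.conj_mem L.y_mem hs, by
    rw [conjRep_apply, mul_assoc, ← map_mul, inv_mul_cancel, map_one, mul_one]⟩

theorem e₁_ne_zero : e₁ ≠ 0 := fun h => L.frame.t_top (by
  rw [← L.frame.eps_i, h, zero_mul, mul_zero])

theorem trunc_pow {z : (MonoidAlgebra k G)} (hz : ∀ x, z * x = x * z) [Fact p.Prime] [CharP k p] (n : ℕ) :
    trunc k K (z ^ n) = trunc k K z ^ n := by
  have hfix : ∀ w : (MonoidAlgebra k G), (∀ x, w * x = x * w) → Fixed (conjRep k) Q w := fun w hw u _ => by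
    rw [conjRep_apply, ← hw, mul_assoc, ← map_mul, mul_inv_cancel, map_one, mul_one]
  induction n with
  | zero => rw [pow_zero, pow_zero, trunc_of_mem k (Subalgebra.one_mem _)]
  | succ n ih =>
    rw [pow_succ, pow_succ, L.centralizer_eq,
      trunc_mul_of_fixed k L.isPGroup (hfix _ fun x => (show Commute z x from hz x).pow_left n)
        (hfix z hz), ← L.centralizer_eq, ih]

theorem trunc_mul_e₁ {z w : (MonoidAlgebra k G)} (hz : ∀ x, z * x = x * z) (hw : ∀ x, w * x = x * w)
    [Fact p.Prime] [CharP k p] : trunc k K (z * w) = trunc k K z * trunc k K w := by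
  have hfix : ∀ w : (MonoidAlgebra k G), (∀ x, w * x = x * w) → Fixed (conjRep k) Q w := fun w hw u _ => by
    rw [conjRep_apply, ← hw, mul_assoc, ← map_mul, mul_inv_cancel, map_one, mul_one]
  rw [L.centralizer_eq, trunc_mul_of_fixed k L.isPGroup (hfix z hz) (hfix w hw)]

/-- The trace of the idempotent to `T`. -/
theorem relTr_b : relTr (conjRep k) P T b = (e : k) • e₁ := by
  have := Fintype.ofFinite (T ⧸ K.subgroupOf T)
  rw [← relTr_trans L.P_le L.K_le L.b_fixed, L.b_trace, relTr_apply,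
    Finset.sum_congr rfl fun q _ => L.e₁_fixed _ (q.out : T).2, Finset.sum_const,
    Finset.card_univ, ← Nat.card_eq_fintype_card, L.index_eq, ← Nat.cast_smul_eq_nsmul k]

/-- A map commuting with `K` and `y` commutes with `T`. -/
theorem comm_T {V : Type v} [AddCommGroup V] [Module k V] [Module (MonoidAlgebra k G) V] [IsScalarTower k (MonoidAlgebra k G) V]
    {V' : Type v'} [AddCommGroup V'] [Module k V'] [Module (MonoidAlgebra k G) V'] [IsScalarTower k (MonoidAlgebra k G) V']
    {φ : V →ₗ[k] V'} (hS : ∀ s ∈ kSub k K, ∀ x, φ (s • x) = s • φ x)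
    (hy : ∀ x, φ (MonoidAlgebra.of k G y • x) = MonoidAlgebra.of k G y • φ x) {g : G} (hg : g ∈ T) (x : V) :
    φ (MonoidAlgebra.of k G g • x) = MonoidAlgebra.of k G g • φ x := by
  obtain ⟨j, -, hj⟩ := L.y_gen g hg
  have hyj : ∀ (n : ℕ) x, φ (MonoidAlgebra.of k G (y ^ n) • x) = MonoidAlgebra.of k G (y ^ n) • φ x := fun n => by
    induction n with
    | zero => intro x; simp only [pow_zero, map_one, one_smul]
    | succ n ih =>
      intro x
      rw [pow_succ, map_mul, mul_smul, ih, hy, mul_smul]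
  rw [show g = g * (y ^ j)⁻¹ * y ^ j by group, map_mul, mul_smul,
    hS _ (of_mem_kSub k hj), hyj, mul_smul]

/-- A map commuting with `K` and `y` is the corner of a module map, up to a trace. -/
theorem exists_hom {V : Type v} [AddCommGroup V] [Module k V] [Module (MonoidAlgebra k G) V] [IsScalarTower k (MonoidAlgebra k G) V]
    {V' : Type v'} [AddCommGroup V'] [Module k V'] [Module (MonoidAlgebra k G) V'] [IsScalarTower k (MonoidAlgebra k G) V']
    [FiniteDimensional k V'] {φ : V →ₗ[k] V'}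
    (hS : ∀ s ∈ kSub k K, ∀ x, φ (s • x) = s • φ x)
    (hy : ∀ x, φ (MonoidAlgebra.of k G y • x) = MonoidAlgebra.of k G y • φ x) (hε : ∀ x, e₁ • φ x = φ x) :
    ∃ F : V →ₗ[MonoidAlgebra k G] V', ∀ n ≤ N, ∀ x : V, i • x = x → t ^ n • x = 0 →
      ∃ w : V', i • w = w ∧ i • F x - φ x = t ^ (N - n) • w := by
  classical
  set σ := homRep (G := G) k V V' with hσ
  have hfixφ : ∀ g ∈ T, σ g φ = φ := fun g hg => homRep_eq_self (L.comm_T hS hy hg)
  set c : (MonoidAlgebra k G) := (e : k)⁻¹ • b with hc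
  have hcS : c ∈ kSub k K := Subalgebra.smul_mem _ L.b_mem _
  have hcfix : Fixed (conjRep k) P c := fun u hu => by rw [hc, map_smul, L.b_fixed u hu]
  set X₀ : V →ₗ[k] V' := φ ∘ₗ Algebra.lsmul k k V c with hX₀
  have hX₀' : X₀ = Algebra.lsmul k k V' c ∘ₗ φ :=
    LinearMap.ext fun x => hS c hcS x
  have hX₀fix : Fixed σ P X₀ := fun u hu => by
    rw [hX₀', hσ, lsmul_homRep, hcfix u hu, ← hσ, hfixφ u (L.P_le_T hu)]
  set T₀ := relTr σ P ⊤ X₀ with hT₀
  have hT₀fix : Fixed σ ⊤ T₀ := relTr_fixed hX₀fix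
  refine ⟨toHom T₀ fun g => comm_of_homRep_eq_self (hT₀fix g (Subgroup.mem_top g)), ?_⟩
  intro n hn x hix htx
  show ∃ w : V', i • w = w ∧ i • T₀ x - φ x = _
  have hex : e₁ • x = x := by rw [← hix, ← mul_smul, L.frame.eps_i]
  -- left multiplication by `e₁`
  set Le : (V →ₗ[k] V') →ₗ[k] (V →ₗ[k] V') :=
    LinearMap.llcomp k V V' V' (Algebra.lsmul k k V' e₁) with hLe
  have hLea : ∀ (X : V →ₗ[k] V') (x : V), Le X x = e₁ • X x := fun _ _ => rfl
  have hLeT : ∀ g ∈ T, ∀ X, Le (σ g X) = σ g (Le X) := fun g hg X => by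
    show Algebra.lsmul k k V' e₁ ∘ₗ σ g X = σ g (Algebra.lsmul k k V' e₁ ∘ₗ X)
    rw [hσ, lsmul_homRep, L.e₁_fixed g hg]
  have hLeφ : Le φ = φ := LinearMap.ext fun x => hε x
  -- the trace over `T`
  have hTpart : relTr σ P T X₀ = Algebra.lsmul k k V' e₁ ∘ₗ φ := by
    let f : (MonoidAlgebra k G) →ₗ[k] (V →ₗ[k] V') :=
      { toFun := fun a => Algebra.lsmul k k V' a ∘ₗ φ
        map_add' := fun a a' => by rw [map_add, LinearMap.add_comp]
        map_smul' := fun r a => by rw [map_smul, LinearMap.smul_comp, RingHom.id_apply] }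
    have h1 := map_relTr (conjRep k) σ f (P := P) (H := T) (fun g hg a => by
      show Algebra.lsmul k k V' (conjRep k g a) ∘ₗ φ = σ g (Algebra.lsmul k k V' a ∘ₗ φ)
      rw [hσ, lsmul_homRep, ← hσ, hfixφ g hg]) c
    have hetr : relTr (conjRep k) P T c = e₁ := by
      rw [hc, map_smul, L.relTr_b, smul_smul, inv_mul_cancel₀ L.e_ne, one_smul]
    rw [hetr] at h1
    rw [hX₀']
    exact h1.symm
  -- split the cosets
  have := Fintype.ofFinite ((⊤ : Subgroup G) ⧸ P.subgroupOf ⊤)
  have := Fintype.ofFinite (T ⧸ P.subgroupOf T)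
  set F₀ : (⊤ : Subgroup G) ⧸ P.subgroupOf ⊤ → (V →ₗ[k] V') :=
    fun q => Le (σ ((q.out : (⊤ : Subgroup G)) : G) X₀) with hF₀
  set inT : (⊤ : Subgroup G) ⧸ P.subgroupOf ⊤ → Prop :=
    fun q => ((q.out : (⊤ : Subgroup G)) : G) ∈ T with hinT
  have hin : ∑ q ∈ Finset.univ.filter inT, F₀ q = φ ∘ₗ Algebra.lsmul k k V e₁ := by
    have e0 : φ ∘ₗ Algebra.lsmul k k V e₁ = Le (relTr σ P T X₀) := by
      rw [hTpart]
      refine LinearMap.ext fun x => ?_
      show φ (e₁ • x) = e₁ • e₁ • φ x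
      rw [hS _ L.frame.eps_mem, hε, hε]
    simp only [hF₀, hinT]
    rw [e0, ← map_sum, sum_filter_coset L.P_le_T hX₀fix]
  -- the free orbits
  let F₁ : (⊤ : Subgroup G) ⧸ P.subgroupOf ⊤ → (V →ₗ[k] V') :=
    fun q => if inT q then 0 else F₀ q
  let ι : P →* (⊤ : Subgroup G) := Subgroup.inclusion le_top
  letI : MulAction P ((⊤ : Subgroup G) ⧸ P.subgroupOf ⊤) := MulAction.compHom _ ι
  have hout' : ∀ (v : P) (q : (⊤ : Subgroup G) ⧸ P.subgroupOf ⊤), ∃ u ∈ P,
      (((v • q).out : (⊤ : Subgroup G)) : G) = (v : G) * ((q.out : (⊤ : Subgroup G)) : G) * u := by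
    intro v q
    have hq : v • q = ((ι v * q.out : (⊤ : Subgroup G)) :
        (⊤ : Subgroup G) ⧸ P.subgroupOf ⊤) := by
      show ι v • q = _
      conv_lhs => rw [← QuotientGroup.out_eq' q]
      rfl
    rw [hq]
    obtain ⟨u, hu⟩ := QuotientGroup.mk_out_eq_mul (P.subgroupOf ⊤) (ι v * q.out)
    exact ⟨_, Subgroup.mem_subgroupOf.1 u.2, by rw [hu]; rfl⟩
  have hequiv : ∀ (v : P) q, F₁ (v • q) = (σ (v : G)).toAddMonoidHom (F₁ q) := by
    intro v q
    obtain ⟨u, hu, hu'⟩ := hout' v q
    have hiff : inT (v • q) ↔ inT q := by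
      simp only [hinT]
      rw [hu', Subgroup.mul_mem_cancel_right T (L.P_le_T hu),
        Subgroup.mul_mem_cancel_left T (L.P_le_T v.2)]
    simp only [F₁]
    rw [if_congr hiff rfl rfl, apply_ite (σ (v : G)).toAddMonoidHom, map_zero]
    refine if_congr Iff.rfl rfl ?_
    show F₀ (v • q) = σ (v : G) (F₀ q)
    simp only [hF₀]
    rw [hu', map_mul, map_mul, Module.End.mul_apply, Module.End.mul_apply, hX₀fix u hu,
      hLeT _ (L.P_le_T v.2)]
  have hzero : ∀ (v : P) q, v ≠ 1 → v • q = q → F₁ q = 0 := by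
    intro v q hv hq
    simp only [F₁]
    split_ifs with h
    · rfl
    set g := ((q.out : (⊤ : Subgroup G)) : G) with hg
    have hgP : g⁻¹ * (v : G) * g ∈ P := by
      have h1 : ι v • q = q := hq
      rw [← QuotientGroup.out_eq' q, MulAction.Quotient.smul_coe, QuotientGroup.eq,
        Subgroup.mem_subgroupOf] at h1
      have h2 := inv_mem h1
      simpa [ι, hg, mul_assoc] using h2
    have hgN : g ∈ Subgroup.normalizer (Q : Set G) :=
      L.mem_normalizer g v v.2 (fun e => hv (Subtype.ext e)) hgP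
    have horth := L.e₁_orth g⁻¹ (inv_mem hgN) fun h' => h (by
      have := inv_mem h'
      rwa [inv_inv] at this)
    refine LinearMap.ext fun x => ?_
    show e₁ • σ g X₀ x = 0
    rw [hσ, homRep_apply]
    show e₁ • MonoidAlgebra.of k G g • φ (Algebra.lsmul k k V c _) = 0
    rw [← hε, ← mul_smul, ← mul_smul,
      show e₁ * MonoidAlgebra.of k G g * e₁ = MonoidAlgebra.of k G g * (conjRep k g⁻¹ e₁ * e₁) by
        rw [conjRep_apply, inv_inv, ← mul_assoc, ← mul_assoc, ← mul_assoc, ← map_mul,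
          mul_inv_cancel, map_one, one_mul],
      horth, mul_zero, zero_smul]
  have := Fintype.ofFinite P
  obtain ⟨Y, hY⟩ := exists_sum_eq_trace (fun v : P => (σ (v : G)).toAddMonoidHom) F₁ hequiv hzero
  set Z : V →ₗ[k] V' := Le T₀ - φ ∘ₗ Algebra.lsmul k k V e₁ with hZ
  have hZY : Z = groupSum σ P Y := by
    rw [hZ, groupSum_apply, hT₀, relTr_apply, map_sum]
    rw [← Finset.sum_filter_add_sum_filter_not Finset.univ inT, hin, add_sub_cancel_left,
      Finset.sum_filter]
    refine (Finset.sum_congr rfl fun q _ => ?_).trans hY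
    simp only [F₁]
    split_ifs <;> rfl
  have hZfix : ∀ g ∈ T, σ g Z = Z := fun g hg => by
    have e1 : φ ∘ₗ Algebra.lsmul k k V e₁ = Algebra.lsmul k k V' e₁ ∘ₗ φ :=
      LinearMap.ext fun x => hS _ L.frame.eps_mem x
    rw [hZ, map_sub, ← hLeT g hg, hT₀fix g (Subgroup.mem_top g), e1]
    congr 1
    rw [hσ, lsmul_homRep, L.e₁_fixed g hg, ← hσ, hfixφ g hg]
  have hZe : Le Z = Z := by
    rw [hZ, map_sub]
    congr 1
    · exact LinearMap.ext fun x => by
        rw [hLea, hLea, ← mul_smul, L.frame.eps_idem]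
    · exact LinearMap.ext fun x => by
        rw [hLea]; exact hε _
  have hcomp : ∀ a : (MonoidAlgebra k G), (LinearMap.llcomp k V V' V' (Algebra.lsmul k k V' a)) Z =
      Algebra.lsmul k k V' a ∘ₗ Z := fun _ => rfl
  have hZT : Z = groupSum σ T (Algebra.lsmul k k V' c ∘ₗ Y) := by
    let f : (MonoidAlgebra k G) →ₗ[k] (V →ₗ[k] V') :=
      { toFun := fun a => Algebra.lsmul k k V' a ∘ₗ Z
        map_add' := fun a a' => by rw [map_add, LinearMap.add_comp]
        map_smul' := fun r a => by rw [map_smul, LinearMap.smul_comp, RingHom.id_apply] }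
    have h1 := map_relTr (conjRep k) σ f (P := P) (H := T) (fun g hg a => by
      show Algebra.lsmul k k V' (conjRep k g a) ∘ₗ Z = σ g (Algebra.lsmul k k V' a ∘ₗ Z)
      rw [hσ, lsmul_homRep, ← hσ, hZfix g hg]) c
    have hetr : relTr (conjRep k) P T c = e₁ := by
      rw [hc, map_smul, L.relTr_b, smul_smul, inv_mul_cancel₀ L.e_ne, one_smul]
    rw [hetr] at h1
    have h2 : f c = groupSum σ P (Algebra.lsmul k k V' c ∘ₗ Y) := by
      show Algebra.lsmul k k V' c ∘ₗ Z = _
      rw [hZY]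
      exact map_groupSum σ σ (LinearMap.llcomp k V V' V' (Algebra.lsmul k k V' c))
        (fun g hg X => by
          show Algebra.lsmul k k V' c ∘ₗ σ g X = σ g (Algebra.lsmul k k V' c ∘ₗ X)
          rw [hσ, lsmul_homRep, hcfix g hg]) Y
    rw [h2, ← groupSum_eq σ L.P_le_T] at h1
    rw [← h1]
    exact hZe.symm
  -- over `K`
  obtain ⟨W, hW⟩ : ∃ W, Z = groupSum σ K W := by
    set X := Algebra.lsmul k k V' c ∘ₗ Y with hX
    have := Fintype.ofFinite T
    have := Fintype.ofFinite K
    have := Fintype.ofFinite (T ⧸ K.subgroupOf T)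
    refine ⟨∑ q : T ⧸ K.subgroupOf T, σ (((q.out : T) : G)⁻¹) X, ?_⟩
    rw [hZT, groupSum_apply, groupSum_apply]
    simp only [map_sum]
    rw [Finset.sum_comm, ← Fintype.sum_prod_type' (fun (q : T ⧸ K.subgroupOf T) (h : K) =>
      σ (h : G) (σ (((q.out : T) : G)⁻¹) X))]
    refine (Fintype.sum_bijective
      (fun qh : (T ⧸ K.subgroupOf T) × K =>
        (⟨(qh.2 : G), L.K_le qh.2.2⟩ * qh.1.out⁻¹ : T)) ?_ _ _ fun qh => ?_).symm
    · constructor
      · rintro ⟨q, h⟩ ⟨q', h'⟩ hh
        have h1 : (h : G) * ((q.out : T) : G)⁻¹ = (h' : G) * ((q'.out : T) : G)⁻¹ :=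
          congrArg Subtype.val hh
        have hq : q = q' := by
          rw [← QuotientGroup.out_eq' q, ← QuotientGroup.out_eq' q', QuotientGroup.eq,
            Subgroup.mem_subgroupOf, Subgroup.coe_mul, Subgroup.coe_inv,
            show ((q.out : T) : G)⁻¹ = (h : G)⁻¹ * ((h : G) * ((q.out : T) : G)⁻¹) by group, h1]
          simpa [mul_assoc] using mul_mem (inv_mem h.2) h'.2
        subst hq
        exact Prod.ext rfl (Subtype.ext (mul_right_cancel h1))
      · intro g
        set q : T ⧸ K.subgroupOf T := ((g⁻¹ : T) : T ⧸ K.subgroupOf T) with hq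
        have hk : ((g * q.out : T) : G) ∈ K := by
          have h1 := Subgroup.mem_subgroupOf.1
            (QuotientGroup.eq.1 (QuotientGroup.out_eq' q).symm)
          simpa using h1
        exact ⟨(q, ⟨_, hk⟩), Subtype.ext (by simp)⟩
    · rw [Subgroup.coe_mul, map_mul, Module.End.mul_apply, Subgroup.coe_inv]
  -- the coefficients
  have := Fintype.ofFinite K
  let β := Module.finBasis k V'
  let hr : Fin (Module.finrank k V') → V → (MonoidAlgebra k G) := fun r v =>
    ∑ h : K, β.repr (W (MonoidAlgebra.of k G ((h : G)⁻¹) • v)) r • MonoidAlgebra.of k G (h : G)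
  have hrS : ∀ r v, hr r v ∈ kSub k K := fun r v =>
    Subalgebra.sum_mem _ fun h _ => Subalgebra.smul_mem _ (of_mem_kSub k h.2) _
  have hrK : ∀ r (g : G), g ∈ K → ∀ v, hr r (MonoidAlgebra.of k G g • v) = MonoidAlgebra.of k G g * hr r v := by
    intro r g hg v
    simp only [hr, Finset.mul_sum, mul_smul_comm]
    refine Fintype.sum_equiv (Equiv.mulLeft (⟨g, hg⟩ : K)⁻¹) _ _ fun h => ?_
    simp only [Equiv.coe_mulLeft, Subgroup.coe_mul, Subgroup.coe_inv, mul_inv_rev, inv_inv,
      ← mul_smul, ← map_mul, mul_inv_cancel_left]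
  have hrlin : ∀ r (v : V) (a : (MonoidAlgebra k G)), a ∈ kSub k K → hr r (a • v) = a * hr r v := by
    intro r v a ha
    have hadd : ∀ v v' : V, hr r (v + v') = hr r v + hr r v' := fun v v' => by
      simp [hr, add_smul, Finset.sum_add_distrib, smul_add]
    have hsmul : ∀ (s : k) (v : V), hr r (s • v) = s • hr r v := fun s v => by
      simp only [hr, Finset.smul_sum]
      refine Finset.sum_congr rfl fun h _ => ?_
      rw [smul_comm (MonoidAlgebra.of k G ((h : G)⁻¹)) s v, map_smul, map_smul, Finsupp.smul_apply, smul_eq_mul,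
        mul_smul]
    have hzero' : hr r 0 = 0 := by simp [hr]
    let Φ : V →+ (MonoidAlgebra k G) := { toFun := hr r, map_zero' := hzero', map_add' := hadd }
    have hexp : a = ∑ g ∈ a.coeff.support, a.coeff g • MonoidAlgebra.of k G g := by
      refine MonoidAlgebra.coeff_injective (Finsupp.ext fun z => ?_)
      rw [MonoidAlgebra.coeff_sum, Finsupp.finsetSum_apply]
      simp [MonoidAlgebra.of_apply, Finsupp.single_apply, Finset.sum_ite_eq']
    rw [hexp, Finset.sum_smul, Finset.sum_mul]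
    show Φ _ = _
    rw [map_sum]
    refine Finset.sum_congr rfl fun g hg => ?_
    show hr r _ = _
    rw [smul_assoc, hsmul, hrK r g ?_, smul_mul_assoc]
    by_contra h
    exact Finsupp.mem_support_iff.1 hg (ha g h)
  have hZr : Z x = ∑ r, hr r x • β r := by
    rw [hW, groupSum_apply, LinearMap.sum_apply]
    simp only [hr, Finset.sum_smul]
    rw [Finset.sum_comm]
    refine Finset.sum_congr rfl fun h _ => ?_
    rw [hσ, homRep_apply]
    conv_lhs => rw [← β.sum_repr (W _)]
    rw [Finset.smul_sum]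
    exact Finset.sum_congr rfl fun r _ => by rw [smul_comm, smul_assoc]
  have hdiv : ∀ r, ∃ s ∈ kSub k K, hr r x = t ^ (N - n) * s := fun r =>
    L.frame.mem_pow_of_kill (hrS r x) (by rw [← hrlin r x i L.frame.i_mem, hix]) hn (by
      rw [← hrlin r x _ (Subalgebra.pow_mem _ L.frame.t_mem n), htx]
      simp [hr])
  choose s hs hse using hdiv
  set w₀ := ∑ r, s r • β r with hw₀
  have hZw : Z x = t ^ (N - n) • w₀ := by
    rw [hZr, hw₀, Finset.smul_sum]
    exact Finset.sum_congr rfl fun r _ => by rw [hse, mul_smul]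
  refine ⟨i • w₀, by rw [← mul_smul, L.frame.idem], ?_⟩
  rw [← mul_smul (t ^ (N - n)), L.frame.pow_comm _ L.frame.i_mem, mul_smul, ← hZw]
  show _ = i • (e₁ • T₀ x - φ (e₁ • x))
  rw [smul_sub, ← mul_smul, L.frame.i_eps, hex, ← hS _ L.frame.i_mem, hix]

end LocalData

end Cfsg.Agent.BlockChar.Cyclic
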