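import Cfsg.Agent.BlockChar.Cyclic.Correspondent
import Cfsg.Agent.BlockThms.FirstMain

/-!
# The characters of degree prime to `p` when the Sylow `p`-subgroup has order `p`
-/

set_option autoImplicit false

namespace Cfsg.Agent.BlockChar.Cyclic

open Cfsg.Agent Cfsg.Agent.Blocks Cfsg.Agent.BrauerPairs Cfsg.Agent.BlockChar

universe u

variable {G : Type u} [Group G] [Finite G] {p : ℕ} {M : Ideal Cfsg.AlgInt} [Fact p.Prime]

local notation "CG[" Q "]" => Subgroup.centralizer (SetLike.coe Q)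

/-- The first main theorem for a cyclic defect group matches blocks of equal size. -/
theorem card_eq_of_congr (hM : Cfsg.IsPModular p M) {P H : Subgroup G} (hP : IsPGroup p P)
    (hP1 : P ≠ ⊥) (hcyc : IsCyclic P) (hH : Subgroup.normalizer (P : Set G) ≤ H)
    {c : Set (Cfsg.IrrCharacter H)} (hc : Cfsg.IsPBlock M c)
    (hD : Cfsg.IsDefectGroup p M c (P.subgroupOf H)) {B : Set (Cfsg.IrrCharacter G)}
    (hB : Cfsg.IsPBlock M B) (hBD : Cfsg.IsDefectGroup p M B P)
    (hcong : ∀ x : G, x ∈ CG[P] →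
      Cfsg.MemLocalIdeal M (Cfsg.blockCoeff B x - Cfsg.subgroupBlockCoeff H c x)) :
    Nat.card c = Nat.card B := by
  classical
  have hPH : P ≤ H := Subgroup.le_normalizer.trans hH
  have hCP : CG[P] ≤ H := (Subgroup.centralizer_le_normalizer _).trans hH
  obtain ⟨e', hmax'⟩ := exists_maximal_on hM hc hD
  obtain ⟨e, rfl⟩ : ∃ e, resBlock hPH hCP e = e' :=
    ⟨upBlock hPH hCP e', resBlock_upBlock hPH hCP e'⟩
  have he : Cfsg.IsPBlock M e := by
    have := isPBlock_upBlock (M := M) hPH hCP hmax'.1.1.2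
    rwa [upBlock_resBlock] at this
  obtain ⟨B₀, hB₀⟩ := exists_isBrauerPairOf hM (⟨hP, he⟩ : Cfsg.IsBrauerPair p M P e)
  have hmax := maximal_up hM hH hPH hCP hmax' hB₀
  obtain rfl : B₀ = B := (existsUnique_up hM hH hP hc hD).unique
    ⟨hB₀.2.1, isDefectGroup_of_maximal hM hmax,
      fun x hx => congr_of_maximal hM hmax hH hPH hCP hmax' hx⟩ ⟨hB, hBD, hcong⟩
  obtain ⟨-, I, σ, hiso⟩ := isometry_of_pairs hM hP1 hcyc hH hPH hCP hmax hmax'
  exact Nat.card_congr (Set.BijOn.equiv I hiso.1)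

/-- In a block with defect group of order `p`, the full `p`-part, no degree is divisible by `p`. -/
theorem not_dvd_degree_of_defect (hM : Cfsg.IsPModular p M) {B : Set (Cfsg.IrrCharacter G)}
    {P : Subgroup G} (hBP : Cfsg.IsDefectGroup p M B P) (hB : Cfsg.IsPBlock M B) (hP : Nat.card P = p)
    (ha : (Nat.card G).factorization p = 1) {χ : Cfsg.IrrCharacter G} (hχ : χ ∈ B) :
    ¬ p ∣ Cfsg.charDegree (χ : G → ℂ) := by
  classical
  letI := Fintype.ofFinite G
  have : M.IsMaximal := hM.2.1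
  have hp := hM.1
  obtain ⟨e, hmax⟩ := exists_maximal_on hM hB hBP
  have hT := mem_pairStab (p := p) hM hmax.1.1.2
  have hP1 : P ≠ ⊥ := fun h => by rw [h, Subgroup.card_bot] at hP; exact hp.ne_one hP.symm
  have hcyc : IsCyclic P := isCyclic_of_prime_card hP
  obtain ⟨Q, θ', ex, β, -, -, hex, -, hN, hβ, hsect, hinv⟩ := exists_coords hM hmax hcyc hT hP1
  obtain ⟨X, Y, v, ε, y, -, -, hd⟩ := exists_tree_data hM hmax hcyc hT hex hN hsect hβ hinv hP1
  have h0 := height_zero hM hmax hcyc hT hex hN hsect hβ hP1 hd hχ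
  have hd1 : Cfsg.blockDefect p B = 1 := by
    have h := BlockChar.card_defectGroup hM hB hBP
    rw [hP] at h
    exact ((Nat.pow_eq_self_iff hp.one_lt).1 h.symm)
  rw [blockHeight_eq] at h0
  rw [blockDefect_eq, ha] at hd1
  have hle := minVal_le (p := p) hχ
  have hv : (Cfsg.charDegree (χ : G → ℂ)).factorization p = 0 := by omega
  intro hdvd
  have := hp.factorization_pos_of_dvd (CharArith.irr_degree_spec χ).2.ne' hdvd
  omega

/-- Characters of degree prime to `p` and classes of the normalizer of a Sylow `p`-subgroup. -/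
theorem card_degree_prime_to (hM : Cfsg.IsPModular p M) (ha : (Nat.card G).factorization p = 1)
    (P : Sylow p G) :
    Nat.card {χ : Cfsg.IrrCharacter G // ¬ p ∣ Cfsg.charDegree (χ : G → ℂ)} =
      Nat.card (ConjClasses (Subgroup.normalizer ((P : Subgroup G) : Set G))) := by
  classical
  letI := Fintype.ofFinite G
  have hp := hM.1
  obtain ⟨H, hHdef⟩ : ∃ H, H = Subgroup.normalizer ((P : Subgroup G) : Set G) := ⟨_, rfl⟩
  rw [← hHdef]
  letI := Fintype.ofFinite H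
  have hP : Nat.card (P : Subgroup G) = p := by rw [P.card_eq_multiplicity, ha, pow_one]
  have hP1 : (P : Subgroup G) ≠ ⊥ := fun h => by rw [h, Subgroup.card_bot] at hP; exact hp.ne_one hP.symm
  have hcyc : IsCyclic (P : Subgroup G) := isCyclic_of_prime_card hP
  have hH : Subgroup.normalizer ((P : Subgroup G) : Set G) ≤ H := hHdef ▸ le_rfl
  have hPH : (P : Subgroup G) ≤ H := Subgroup.le_normalizer.trans hH
  have hn : ((P : Subgroup G).subgroupOf H).Normal :=
    (Subgroup.normal_subgroupOf_iff_le_normalizer hPH).2 (hHdef ▸ le_rfl)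
  have hdefH : ∀ β : Set (Cfsg.IrrCharacter H), Cfsg.IsPBlock M β →
      Cfsg.IsDefectGroup p M β ((P : Subgroup G).subgroupOf H) := by
    intro β hβ
    obtain ⟨E, hE⟩ := DefectThms.exists_defectGroup hM hβ
    have hEp := DefectThms.isPGroup_of_isDefectGroup hE
    have hle := DefectThms.le_defectGroup_of_normal hM hβ hE ((P : Subgroup G).subgroupOf H)
      P.isPGroup'.comap_subtype
    rwa [Subgroup.eq_of_le_of_card_ge hle ?_]
    rw [Nat.card_congr (Subgroup.subgroupOfEquivOfLe hPH).toEquiv, hP]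
    obtain ⟨k, hk⟩ := hEp.exists_card_eq
    have h1 : p ^ k ∣ Nat.card G :=
      hk ▸ (Subgroup.card_subgroup_dvd_card E).trans (Subgroup.card_subgroup_dvd_card H)
    have h2 := (hp.pow_dvd_iff_le_factorization Nat.card_pos.ne').1 h1
    rw [hk, ha] at *
    calc p ^ k ≤ p ^ 1 := Nat.pow_le_pow_right hp.pos h2
      _ = p := pow_one p
  let 𝒩 := {β : Set (Cfsg.IrrCharacter H) // Cfsg.IsPBlock M β}
  let 𝒢 := {B : Set (Cfsg.IrrCharacter G) //
    Cfsg.IsPBlock M B ∧ Cfsg.IsDefectGroup p M B (P : Subgroup G)}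
  have hup := fun β : 𝒩 => existsUnique_up hM hH P.isPGroup' β.2 (hdefH β.1 β.2)
  let Φ : 𝒩 → 𝒢 := fun β => ⟨(hup β).exists.choose, (hup β).exists.choose_spec.1,
    (hup β).exists.choose_spec.2.1⟩
  have hΦ : ∀ β, ∀ x : G, x ∈ CG[(P : Subgroup G)] →
      Cfsg.MemLocalIdeal M (Cfsg.blockCoeff (Φ β).1 x - Cfsg.subgroupBlockCoeff H β.1 x) :=
    fun β => (hup β).exists.choose_spec.2.2
  have hbij : Function.Bijective Φ := by
    refine ⟨fun β β' h => Subtype.ext ?_, fun B => ?_⟩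
    · refine (existsUnique_down hM hH (Φ β).2.1 (Φ β).2.2).unique
        ⟨β.2, hdefH _ β.2, hΦ β⟩ ⟨β'.2, hdefH _ β'.2, ?_⟩
      rw [h]
      exact hΦ β'
    · obtain ⟨c, hc, hcD, hcong⟩ := (existsUnique_down hM hH B.2.1 B.2.2).exists
      exact ⟨⟨c, hc⟩, Subtype.ext ((hup ⟨c, hc⟩).unique
        ⟨(Φ ⟨c, hc⟩).2.1, (Φ ⟨c, hc⟩).2.2, hΦ ⟨c, hc⟩⟩ ⟨B.2.1, B.2.2, hcong⟩)⟩
  have hfib : ∀ β : 𝒩, Nonempty (β.1 ≃ (Φ β).1) := fun β => Finite.card_eq.1
    (card_eq_of_congr hM P.isPGroup' hP1 hcyc hH β.2 (hdefH _ β.2) (Φ β).2.1 (Φ β).2.2 (hΦ β))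
  rw [← Char.card_irrCharacter]
  refine Nat.card_congr (Equiv.trans ?_ ((Equiv.sigmaCongr (Equiv.ofBijective Φ hbij)
    (fun β => (hfib β).some) : (Σ β : 𝒩, β.1) ≃ Σ B : 𝒢, B.1).symm.trans ?_))
  · refine (Equiv.ofBijective (fun x : Σ B : 𝒢, B.1 => (⟨x.2.1,
      not_dvd_degree_of_defect hM x.1.2.2 x.1.2.1 hP ha x.2.2⟩ :
        {χ : Cfsg.IrrCharacter G // ¬ p ∣ Cfsg.charDegree (χ : G → ℂ)})) ⟨?_, ?_⟩).symm
    · rintro ⟨⟨B, hB⟩, χ, hχ⟩ ⟨⟨B', hB'⟩, χ', hχ'⟩ h
      obtain rfl : χ = χ' := congrArg Subtype.val h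
      obtain rfl : B = B' :=
        (IsPBlock.eq_blockOf hM hB.1 hχ).trans (IsPBlock.eq_blockOf hM hB'.1 hχ').symm
      rfl
    · rintro ⟨χ, hχ⟩
      have hB : Cfsg.IsPBlock M (Cfsg.blockOf M (χ : G → ℂ)) := isPBlock_blockOf χ
      have hmem := mem_blockOf_self hM χ
      obtain ⟨D, hD⟩ := DefectThms.exists_defectGroup hM hB
      obtain ⟨g, hg⟩ := (DefectThms.isPGroup_of_isDefectGroup hD).exists_le_sylow
      obtain ⟨k, hk⟩ := MulAction.exists_smul_eq G g P
      have hDcard : Nat.card D = p := by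
        rw [BlockChar.card_defectGroup hM hB hD, blockDefect_eq, ha]
        have hv : (Cfsg.charDegree (χ : G → ℂ)).factorization p = 0 :=
          Nat.factorization_eq_zero_of_not_dvd hχ
        have hm : minVal p (Cfsg.blockOf M (χ : G → ℂ)) = 0 := by
          have := minVal_le (p := p) hmem; omega
        rw [hm]
        exact pow_one p
      have hDP : D.map (MulAut.conj k).toMonoidHom = (P : Subgroup G) := by
        refine Subgroup.eq_of_le_of_card_ge ?_ (by rw [hP, DefectThms.card_map_conj, hDcard])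
        rw [← hk, Sylow.coe_subgroup_smul]
        exact Subgroup.map_mono hg
      exact ⟨⟨⟨_, hB, hDP ▸ DefectThms.isDefectGroup_conj hD k⟩, χ, hmem⟩, rfl⟩
  · exact Equiv.ofBijective (fun x : Σ β : 𝒩, β.1 => x.2.1)
      ⟨fun x y h => by
        obtain ⟨⟨β, hβ⟩, ψ, hψ⟩ := x
        obtain ⟨⟨β', hβ'⟩, ψ', hψ'⟩ := y
        obtain rfl : ψ = ψ' := h
        obtain rfl : β = β' :=
          (IsPBlock.eq_blockOf hM hβ hψ).trans (IsPBlock.eq_blockOf hM hβ' hψ').symm
        rfl, fun ψ => ⟨⟨⟨_, isPBlock_blockOf ψ⟩, ψ, mem_blockOf_self hM ψ⟩, rfl⟩⟩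

end Cfsg.Agent.BlockChar.Cyclic
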