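import Cfsg.Agent.BlockChar.Cyclic.OrdLocal

/-!
# An invariant base point among the twists

The inertial group acts on the characters of the local block, which form a torsor for the
characters of `D`; as it acts freely on `D` it fixes one of them.
-/

set_option autoImplicit false

namespace Cfsg.Agent.BlockChar.Cyclic

open Cfsg.Agent Cfsg.Agent.Blocks Cfsg.Agent.BrauerPairs Cfsg.Agent.BlockChar
open Cfsg.Agent.Blocks.Star
open scoped ComplexConjugate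

universe u

variable {G : Type u} [Group G] [Fintype G] {p : ℕ} {M : Ideal Cfsg.AlgInt}

local notation "CG[" Q "]" => Subgroup.centralizer (SetLike.coe Q)
local notation "sbc" => Cfsg.subgroupBlockCoeff

/-- Sections are equivariant. -/
theorem sect_conj_fun {F F' : G → ℂ} {g : G} (h : ∀ a, F' (g * a * g⁻¹) = F a) (x z : G)
    (e : G → ℂ) : sect F' (g * x * g⁻¹) (conjF g e) (g * z * g⁻¹) = sect F x e z := by
  rw [sect, sect]
  refine (Fintype.sum_equiv (MulAut.conj g).toEquiv _ _ fun a => ?_).symm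
  show e a * F (x * z * a) = conjF g e (g * a * g⁻¹) *
    F' (g * x * g⁻¹ * (g * z * g⁻¹) * (g * a * g⁻¹))
  rw [show g * x * g⁻¹ * (g * z * g⁻¹) * (g * a * g⁻¹) = g * (x * z * a) * g⁻¹ by group, h, conjF,
    show g⁻¹ * (g * a * g⁻¹) * g = a by group]

theorem regC_conj {g x z : G} (hz : z ∈ regC p x) : g * z * g⁻¹ ∈ regC p (g * x * g⁻¹) := by
  simp only [regC, Finset.mem_filter, Finset.mem_univ, true_and] at hz ⊢
  refine ⟨?_, ?_⟩
  · rw [show orderOf (g * z * g⁻¹) = orderOf z from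
      orderOf_injective (MulAut.conj g).toMonoidHom (MulAut.conj g).injective z]
    exact hz.1
  · calc g * x * g⁻¹ * (g * z * g⁻¹) = g * (x * z) * g⁻¹ := by group
      _ = g * (z * x) * g⁻¹ := by rw [hz.2]
      _ = g * z * g⁻¹ * (g * x * g⁻¹) := by group

variable [Fact p.Prime] {B : Set (Cfsg.IrrCharacter G)} {D Q : Subgroup G}
  {c : Set (Cfsg.IrrCharacter CG[D])} {T : Subgroup G}

/-- The inertial group permutes the subsections below the maximal pair. -/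
theorem below_conj_of_fix (hM : Cfsg.IsPModular p M) {t : G}
    (ht : conjPair t ⟨D, c⟩ = (⟨D, c⟩ : Cfsg.BrauerPairIdx G)) {x : G} {e : G → ℂ}
    (h : Below p M D c x e) : Below p M D c (t * x * t⁻¹) (conjF t e) := by
  obtain ⟨b, hb, rfl⟩ := h
  refine (below_conj_iff b).2 ?_
  have h1 := le_conjPair hM (a := ⟨Subgroup.zpowers x, b⟩) (b := ⟨D, _⟩) hb t
  rwa [ht] at h1

variable (hM : Cfsg.IsPModular p M) (hmax : Cfsg.IsMaximalBrauerPair p M B D c) (hcyc : IsCyclic D)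
  (hT : ∀ g : G, g ∈ T ↔ g ∈ Subgroup.normalizer (D : Set G) ∧
    Cfsg.StabilizesBlock CG[D] c g)
include hM hmax hcyc hT

/-- A twist fixed by the inertial group. -/
theorem exists_invariant_base [Fintype CG[Q]] {f : Set (Cfsg.IrrCharacter CG[Q])}
    (hn : Cfsg.IsNormalSubpair p M Q f D c) (hQ1 : Q ≠ ⊥) (hQD : Q ≤ D)
    (hQle : ∀ x : D, (x : G) ≠ 1 → Q ≤ Subgroup.zpowers (x : G)) :
    ∃ θ' : Cfsg.IrrCharacter CG[Q], θ' ∈ f ∧
      (∀ t ∈ T, ∀ a : G, Cfsg.extendByZero CG[Q] (θ' : CG[Q] → ℂ) (t * a * t⁻¹) =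
        Cfsg.extendByZero CG[Q] (θ' : CG[Q] → ℂ) a) ∧
      ∃ Θ : Cfsg.IrrCharacter D ≃ f,
      ∀ (x : D), (x : G) ≠ 1 → ∀ e : G → ℂ, Below p M D c (x : G) e →
        ((Nat.card D : ℂ) / (Nat.card CG[Subgroup.zpowers (x : G)] : ℂ) *
          (∑ y ∈ regC p (x : G),
            sect (Cfsg.extendByZero CG[Q] (θ' : CG[Q] → ℂ)) (x : G) e y *
              conj (sect (Cfsg.extendByZero CG[Q] (θ' : CG[Q] → ℂ)) (x : G) e y)) = 1) ∧
        (∀ ψ : Cfsg.IrrCharacter CG[Q], ψ ∉ f → ∀ y ∈ regC p (x : G),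
          sect (Cfsg.extendByZero CG[Q] (ψ : CG[Q] → ℂ)) (x : G) e y = 0) ∧
        ∀ (η : Cfsg.IrrCharacter D), ∀ y ∈ regC p (x : G),
          sect (Cfsg.extendByZero CG[Q] ((Θ η : Cfsg.IrrCharacter CG[Q]) : CG[Q] → ℂ)) (x : G) e y =
            (η : D → ℂ) x * sect (Cfsg.extendByZero CG[Q] (θ' : CG[Q] → ℂ)) (x : G) e y := by
  classical
  have hp := hM.1
  have hab := comm_of_cyclic hcyc
  have hTN : T ≤ Subgroup.normalizer (D : Set G) := fun g hg => ((hT g).1 hg).1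
  have hCK : CG[D] ≤ CG[Q] := Subgroup.centralizer_le hQD
  have hDK : D ≤ CG[Q] := (le_centralizer_of_cyclic hcyc).trans hCK
  have hD1 : D ≠ ⊥ := fun h => hQ1 (le_bot_iff.1 (h ▸ hQD))
  have hTQ : T ≤ Subgroup.normalizer (Q : Set G) := fun g hg =>
    mem_normalizer_of_le_cyclic hcyc hQD (hTN hg)
  have : M.IsMaximal := hM.2.1
  have hfree := inertial_free hM hcyc hmax hT
  obtain ⟨θ₀, hθ₀, Θ, hΘ⟩ := exists_local_twist hM hmax hcyc hT hn hDK hCK hQ1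
  obtain ⟨y, hyT, -, -, hygen, -⟩ := exists_generator hM hmax hcyc hD1 hT
  -- `y` stabilizes the local block
  have hfP : Cfsg.IsPBlock M f := hn.1.2
  have hle : Cfsg.SubpairLE p M Q f D c := Relation.ReflTransGen.single hn
  have hyst : Cfsg.StabilizesBlock CG[Q] f y := by
    refine ((conjPair_eq_iff hM hfP y).1 ?_).2
    have h1 : PairLE p M (conjPair y ⟨Q, f⟩) (conjPair y ⟨D, c⟩) := le_conjPair hM hle y
    rw [(conjPair_eq_iff hM hmax.1.1.2 y).2 ((hT y).1 hyT)] at h1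
    exact pair_unique hM hmax.1.1 h1 hle (map_conj_eq (hTQ hyT))
  have hKy := mem_centralizer_iff_of_mem_normalizer (hTQ hyT)
  have hconj : ∀ θ ∈ f, ∃ θ'' ∈ f, ∀ a : G,
      Cfsg.extendByZero CG[Q] (θ'' : CG[Q] → ℂ) (y * a * y⁻¹) =
        Cfsg.extendByZero CG[Q] (θ : CG[Q] → ℂ) a := by
    intro θ hθ
    obtain ⟨χ', hχ', hc⟩ := hyst.2 θ hθ
    refine ⟨χ', hχ', fun a => ?_⟩
    by_cases ha : a ∈ CG[Q]
    · rw [Char.extendByZero_of_mem _ _ ha, Char.extendByZero_of_mem _ _ ((hKy a).1 ha)]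
      exact hc ⟨a, ha⟩ ⟨_, (hKy a).1 ha⟩ rfl
    · rw [Char.extendByZero_of_not_mem _ _ ha,
        Char.extendByZero_of_not_mem _ _ fun h => ha ((hKy a).2 h)]
  -- invariance under `y` is enough
  have hclass : ∀ θ : Cfsg.IrrCharacter CG[Q], ∀ k ∈ CG[Q], ∀ a : G,
      Cfsg.extendByZero CG[Q] (θ : CG[Q] → ℂ) (k * a * k⁻¹) =
        Cfsg.extendByZero CG[Q] (θ : CG[Q] → ℂ) a := by
    intro θ k hk a
    by_cases ha : a ∈ CG[Q]
    · rw [Char.extendByZero_of_mem _ _ ha,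
        Char.extendByZero_of_mem _ _ (mul_mem (mul_mem hk ha) (inv_mem hk))]
      exact Char.isClassFunction_of_isIrr θ.2 ⟨a, ha⟩ ⟨k, hk⟩
    · rw [Char.extendByZero_of_not_mem _ _ ha, Char.extendByZero_of_not_mem _ _ fun h => ha (by
        simpa [mul_assoc] using mul_mem (mul_mem (inv_mem hk) h) hk)]
  have hgen : ∀ θ : Cfsg.IrrCharacter CG[Q],
      (∀ a : G, Cfsg.extendByZero CG[Q] (θ : CG[Q] → ℂ) (y * a * y⁻¹) =
        Cfsg.extendByZero CG[Q] (θ : CG[Q] → ℂ) a) →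
      ∀ t ∈ T, ∀ a : G, Cfsg.extendByZero CG[Q] (θ : CG[Q] → ℂ) (t * a * t⁻¹) =
        Cfsg.extendByZero CG[Q] (θ : CG[Q] → ℂ) a := by
    intro θ hθy t ht a
    obtain ⟨j, -, hj⟩ := hygen t ht
    have hpow : ∀ n : ℕ, ∀ a : G, Cfsg.extendByZero CG[Q] (θ : CG[Q] → ℂ) (y ^ n * a * (y ^ n)⁻¹) =
        Cfsg.extendByZero CG[Q] (θ : CG[Q] → ℂ) a := by
      intro n
      induction n with
      | zero => simp
      | succ n ih =>
        intro a
        rw [pow_succ', show y * y ^ n * a * (y * y ^ n)⁻¹ = y * (y ^ n * a * (y ^ n)⁻¹) * y⁻¹ by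
          group, hθy, ih]
    rw [show t * a * t⁻¹ = y ^ j * (((y ^ j)⁻¹ * t) * a * ((y ^ j)⁻¹ * t)⁻¹) * (y ^ j)⁻¹ by group,
      hpow, hclass θ _ (hCK hj)]
  -- the choice of `μ`
  have hmul := fun η : Cfsg.IrrCharacter D => irr_mul_of_comm hab η
  obtain ⟨μ, hμ⟩ : ∃ μ : Cfsg.IrrCharacter D, ∀ a : G,
      Cfsg.extendByZero CG[Q] ((Θ μ : Cfsg.IrrCharacter CG[Q]) : CG[Q] → ℂ) (y * a * y⁻¹) =
        Cfsg.extendByZero CG[Q] ((Θ μ : Cfsg.IrrCharacter CG[Q]) : CG[Q] → ℂ) a := by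
    by_cases hyC : y ∈ CG[D]
    · exact ⟨Θ.symm ⟨θ₀, hθ₀⟩, hclass _ y (hCK hyC)⟩
    have hyD : ∀ x : D, y⁻¹ * (x : G) * y ∈ D := fun x =>
      (Subgroup.mem_normalizer_iff''.1 (hTN hyT) (x : G)).1 x.2
    let ψ₀ : D →* D :=
      { toFun := fun x => x * ⟨y⁻¹ * (x : G) * y, hyD x⟩⁻¹
        map_one' := Subtype.ext (by simp)
        map_mul' := fun a b => Subtype.ext (by
          show (a : G) * b * (y⁻¹ * ((a : G) * b) * y)⁻¹ =
            (a : G) * (y⁻¹ * a * y)⁻¹ * ((b : G) * (y⁻¹ * b * y)⁻¹)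
          have h1 : (b : G) * (y⁻¹ * b * y)⁻¹ * (y⁻¹ * a * y)⁻¹ =
              (y⁻¹ * a * y)⁻¹ * ((b : G) * (y⁻¹ * b * y)⁻¹) :=
            hab _ (mul_mem b.2 (inv_mem (hyD b))) _ (inv_mem (hyD a))
          calc (a : G) * b * (y⁻¹ * ((a : G) * b) * y)⁻¹
              = (a : G) * ((b : G) * (y⁻¹ * b * y)⁻¹ * (y⁻¹ * a * y)⁻¹) := by group
            _ = _ := by rw [h1, ← mul_assoc]) }
    have hψi : Function.Injective ψ₀ := (injective_iff_map_eq_one ψ₀).2 fun x hx => by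
      by_contra hne
      refine hyC (hfree y hyT (x : G) x.2 (fun h => hne (Subtype.ext h)) ?_)
      have h' : (x : G) * (y⁻¹ * x * y)⁻¹ = 1 := congrArg Subtype.val hx
      rw [mul_inv_eq_one] at h'
      calc y * (x : G) * y⁻¹ = y * (y⁻¹ * x * y) * y⁻¹ := by rw [← h']
        _ = (x : G) := by group
    let ψ : D ≃* D := MulEquiv.ofBijective ψ₀ ((Finite.injective_iff_bijective).1 hψi)
    obtain ⟨θ₁, hθ₁, hθ₁c⟩ := hconj θ₀ hθ₀
    obtain ⟨lam, hlam⟩ : ∃ lam, lam = Θ.symm ⟨θ₁, hθ₁⟩ := ⟨_, rfl⟩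
    obtain ⟨μ, hμdef⟩ : ∃ μ, μ = compIrr ψ.symm lam := ⟨_, rfl⟩
    have hμeq : ∀ x : D, (μ : D → ℂ) x =
        (lam : D → ℂ) x * (μ : D → ℂ) ⟨y⁻¹ * (x : G) * y, hyD x⟩ := by
      intro x
      have h1 : (μ : D → ℂ) (ψ x) = (lam : D → ℂ) x := by
        rw [hμdef, compIrr_apply, MulEquiv.symm_apply_apply]
      rw [← h1, ← (hmul μ).2]
      exact congrArg (μ : D → ℂ) (inv_mul_cancel_right x ⟨y⁻¹ * (x : G) * y, hyD x⟩).symm
    refine ⟨μ, fun a => ?_⟩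
    obtain ⟨θ₂, hθ₂, hθ₂c⟩ := hconj _ (Θ μ).2
    suffices h : Θ μ = ⟨θ₂, hθ₂⟩ by
      have := hθ₂c a
      rw [← show ((Θ μ : f) : Cfsg.IrrCharacter CG[Q]) = θ₂ from congrArg Subtype.val h] at this
      exact this
    rw [← Θ.apply_symm_apply ⟨θ₂, hθ₂⟩]
    congr 1
    refine Subtype.ext (funext fun z => ?_)
    by_cases hz : z = 1
    · rw [hz, (hmul _).1, (hmul _).1]
    obtain ⟨b, hb⟩ := (existsUnique_subpairLE hM hmax.1.1
      (Subgroup.zpowers_le.2 (hyD z))).exists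
    have hbel : Below p M D c ((⟨_, hyD z⟩ : D) : G) (sbc CG[Subgroup.zpowers _] b) :=
      ⟨b, hb, rfl⟩
    have hz' : ((⟨_, hyD z⟩ : D) : G) ≠ 1 := fun h => hz (Subtype.ext (by
      have h' : y⁻¹ * (z : G) * y = 1 := h
      calc (z : G) = y * (y⁻¹ * z * y) * y⁻¹ := by group
        _ = 1 := by rw [h']; simp))
    have hbel' := below_conj_of_fix hM ((conjPair_eq_iff hM hmax.1.1.2 y).2 ((hT y).1 hyT)) hbel
    have hzz : y * (y⁻¹ * (z : G) * y) * y⁻¹ = (z : G) := by group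
    have hbel'' : Below p M D c (z : G) (conjF y (sbc CG[Subgroup.zpowers _] b)) :=
      Eq.mp (congrArg (fun w => Below p M D c w (conjF y (sbc CG[Subgroup.zpowers _] b))) hzz) hbel'
    have hz1 : (z : G) ≠ 1 := fun h => hz (Subtype.ext h)
    obtain ⟨hN, -, hΘ'⟩ := hΘ _ hz' (hQle _ hz') _ hbel
    obtain ⟨-, -, hΘz⟩ := hΘ z hz1 (hQle z hz1) _ hbel''
    obtain ⟨y₀, hy₀, hne⟩ : ∃ y₀ ∈ regC p (y⁻¹ * (z : G) * y),
        sect (Cfsg.extendByZero CG[Q] (θ₀ : CG[Q] → ℂ)) (y⁻¹ * (z : G) * y)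
          (sbc CG[Subgroup.zpowers _] b) y₀ ≠ 0 := by
      by_contra! hcon
      rw [Finset.sum_eq_zero fun w hw => by rw [hcon w hw, zero_mul], mul_zero] at hN
      exact zero_ne_one hN
    have hw : y * y₀ * y⁻¹ ∈ regC p (z : G) := by
      have := regC_conj (g := y) hy₀
      rwa [hzz] at this
    have e2 := sect_conj_fun hθ₂c (y⁻¹ * (z : G) * y) y₀ (sbc CG[Subgroup.zpowers _] b)
    have e1 := sect_conj_fun hθ₁c (y⁻¹ * (z : G) * y) y₀ (sbc CG[Subgroup.zpowers _] b)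
    rw [hzz] at e1 e2
    have f2 := hΘz (Θ.symm ⟨θ₂, hθ₂⟩) _ hw
    have f1 := hΘz lam _ hw
    rw [hlam] at f1
    rw [Equiv.apply_symm_apply] at f1 f2
    rw [e2, hΘ' μ y₀ hy₀] at f2
    rw [e1] at f1
    rw [f1] at f2 hne
    rw [hμeq z, hlam]
    refine mul_right_cancel₀ (right_ne_zero_of_mul hne) ?_
    linear_combination f2
  -- twisting the base
  have hμ1 : ∀ x : D, (μ : D → ℂ) x * conj ((μ : D → ℂ) x) = 1 := irr_mul_conj_of_comm hab μ
  have htw : ∀ η : Cfsg.IrrCharacter D, ∃ η' : Cfsg.IrrCharacter D,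
      (η' : D → ℂ) = fun x => (η : D → ℂ) x * (μ : D → ℂ) x := fun η =>
    ⟨⟨_, Char.IsChar.isIrr_of_degree_one (Char.isCharacter_mul (Char.IsIrr.isCharacter η.2)
      (Char.IsIrr.isCharacter μ.2)) (by rw [Pi.mul_apply, (hmul η).1, (hmul μ).1, one_mul])⟩, rfl⟩
  choose tw htw using htw
  have htwi : Function.Injective tw := fun a b h => Subtype.ext (funext fun x => by
    have h1 := congrArg (fun η : Cfsg.IrrCharacter D => (η : D → ℂ) x) h
    simp only [htw] at h1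
    exact mul_right_cancel₀ (left_ne_zero_of_mul_eq_one (hμ1 x)) h1)
  refine ⟨Θ μ, (Θ μ).2, hgen _ hμ,
    (Equiv.ofBijective tw (Finite.injective_iff_bijective.1 htwi)).trans Θ, fun x hx e he => ?_⟩
  obtain ⟨hN, h0, h1⟩ := hΘ x hx (hQle x hx) e he
  refine ⟨?_, h0, fun η w hw => ?_⟩
  · rw [← hN]
    congr 1
    refine Finset.sum_congr rfl fun w hw => ?_
    rw [h1 μ w hw, map_mul]
    linear_combination (sect (Cfsg.extendByZero CG[Q] (θ₀ : CG[Q] → ℂ)) (x : G) e w *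
      conj (sect (Cfsg.extendByZero CG[Q] (θ₀ : CG[Q] → ℂ)) (x : G) e w)) * hμ1 x
  · show sect (Cfsg.extendByZero CG[Q] ((Θ (tw η) : Cfsg.IrrCharacter CG[Q]) : CG[Q] → ℂ)) _ _ _ = _
    rw [h1 _ w hw, h1 μ w hw, htw]
    ring

end Cfsg.Agent.BlockChar.Cyclic
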