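import Cfsg.Agent.BlockChar.Cyclic.OrdOrth
import Mathlib.LinearAlgebra.Matrix.DotProduct

/-!
# Orthogonality of the columns, and the relation on the regular elements
-/

set_option autoImplicit false

namespace Cfsg.Agent.BlockChar.Cyclic

open Cfsg.Agent Cfsg.Agent.Blocks Cfsg.Agent.BrauerPairs Cfsg.Agent.BlockChar
open Cfsg.Agent.Blocks.Star
open scoped ComplexConjugate

universe u

variable {G : Type u} [Group G] [Fintype G] {p : ℕ} {M : Ideal Cfsg.AlgInt} [Fact p.Prime]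

local notation "CG[" Q "]" => Subgroup.centralizer (SetLike.coe Q)
local notation "sbc" => Cfsg.subgroupBlockCoeff

variable {B : Set (Cfsg.IrrCharacter G)} {D : Subgroup G} {c : Set (Cfsg.IrrCharacter CG[D])}
  {T : Subgroup G}
variable (hM : Cfsg.IsPModular p M) (hmax : Cfsg.IsMaximalBrauerPair p M B D c) (hcyc : IsCyclic D)
  (hT : ∀ g : G, g ∈ T ↔ g ∈ Subgroup.normalizer (D : Set G) ∧
    Cfsg.StabilizesBlock CG[D] c g)

include hM hmax hcyc hT in
/-- The inertial quotient acts regularly on the orbit of a non-trivial element. -/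
theorem conj_pow_inj {y : G} (hyT : y ∈ T)
    (hypow : ∀ j : ℕ, y ^ j ∈ CG[D] ↔ (CG[D]).relIndex T ∣ j) {x : G} (hx : x ∈ D) (hx1 : x ≠ 1)
    {a b : ℕ} (ha : a < (CG[D]).relIndex T) (hb : b < (CG[D]).relIndex T)
    (h : y ^ a * x * (y ^ a)⁻¹ = y ^ b * x * (y ^ b)⁻¹) : a = b := by
  have : M.IsMaximal := hM.2.1
  have key : ∀ a b : ℕ, a ≤ b → b < (CG[D]).relIndex T → y ^ a * x * (y ^ a)⁻¹ =
      y ^ b * x * (y ^ b)⁻¹ → a = b := by
    intro a b hab hb hh
    obtain ⟨d, rfl⟩ := Nat.exists_eq_add_of_le hab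
    rw [pow_add] at hh
    have hd : y ^ d * x * (y ^ d)⁻¹ = x := by
      calc y ^ d * x * (y ^ d)⁻¹
          = (y ^ a)⁻¹ * (y ^ a * y ^ d * x * (y ^ a * y ^ d)⁻¹) * y ^ a := by group
        _ = x := by rw [← hh]; group
    have hd0 := (hypow d).1 (inertial_free hM hcyc hmax hT _ (pow_mem hyT d) _ hx hx1 hd)
    have hd00 : d = 0 := Nat.eq_zero_of_dvd_of_lt hd0 (by omega)
    omega
  rcases le_total a b with h' | h'
  · exact key _ _ h' hb h
  · exact (key _ _ h' ha h.symm).symm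

variable {Q : Subgroup G} {θ' : Cfsg.IrrCharacter CG[Q]} {ex : D → G → ℂ}
  {β : Cfsg.IrrCharacter G → Cfsg.IrrCharacter D → ℤ}
  (hex : ∀ x : D, Below p M D c (x : G) (ex x))
  (hN : ∀ x : D, (x : G) ≠ 1 → (Nat.card D : ℂ) / (Nat.card CG[Subgroup.zpowers (x : G)] : ℂ) *
    (∑ y ∈ regC p (x : G),
      sect (Cfsg.extendByZero CG[Q] (θ' : CG[Q] → ℂ)) (x : G) (ex x) y *
        conj (sect (Cfsg.extendByZero CG[Q] (θ' : CG[Q] → ℂ)) (x : G) (ex x) y)) = 1)
  (hsect : ∀ χ : Cfsg.IrrCharacter G, ∀ x : D, (x : G) ≠ 1 → ∀ y ∈ regC p (x : G),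
    sect (χ : G → ℂ) (x : G) (ex x) y = ev (β χ) x *
      sect (Cfsg.extendByZero CG[Q] (θ' : CG[Q] → ℂ)) (x : G) (ex x) y)
include hM hmax hcyc hT hex hN hsect

open scoped Classical in
/-- The matrix of the regular inner products. -/
theorem regM_eq_coords (hD1 : D ≠ ⊥) {χ : Cfsg.IrrCharacter G} (hχ : χ ∈ B)
    (ψ : Cfsg.IrrCharacter G) :
    ((CG[D]).relIndex T : ℂ) * regM p B χ ψ =
      ((CG[D]).relIndex T : ℂ) * (Nat.card D : ℂ) * (if χ = ψ then 1 else 0) -
        ∑ x : D, (if (x : G) = 1 then 0 else ev (β χ) x * conj (ev (β ψ) x)) := by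
  have hG : (Nat.card G : ℂ) ≠ 0 := Nat.cast_ne_zero.2 Nat.card_pos.ne'
  have hd : Nat.card D = p ^ Cfsg.blockDefect p B :=
    BlockChar.card_defectGroup hM hmax.1.2.1 (isDefectGroup_of_maximal hM hmax)
  have hδ : ∑ g, (χ : G → ℂ) g * conj ((ψ : G → ℂ) g) =
      (Nat.card G : ℂ) * (if χ = ψ then 1 else 0) := by
    rw [← Char.classInner_irrChar χ ψ, Cfsg.classInner, mul_inv_cancel_left₀ hG]
  have hsplit : ∑ g, (χ : G → ℂ) g * conj ((ψ : G → ℂ) g) =
      regSum p (fun w => (χ : G → ℂ) w * conj ((ψ : G → ℂ) w)) +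
      ∑ g : G, (if p ∣ orderOf g then (χ : G → ℂ) g * conj ((ψ : G → ℂ) g) else 0) := by
    rw [regSum, ← Finset.sum_add_distrib]
    refine Finset.sum_congr rfl fun g _ => ?_
    by_cases hg : p ∣ orderOf g <;> simp [Cfsg.IsPRegular, hg]
  have hs := sum_singular hM hmax hcyc hT hex hN hsect hD1 (ψ := ψ) hχ
  rw [regM, ← hd, eq_sub_of_add_eq (hsplit.symm.trans hδ), mul_sub, mul_sub]
  congr 1
  · field_simp
  · field_simp
    linear_combination hs

omit hcyc hT hex hN hsect in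
open scoped Classical in
/-- `p ^ d` times the regular inner products form `p ^ d` times a projection. -/
theorem sum_regM_regM {χ : Cfsg.IrrCharacter G} (hχ : χ ∈ B) (φ : Cfsg.IrrCharacter G) :
    ∑ ψ : Cfsg.IrrCharacter G, (if ψ ∈ B then regM p B χ ψ * regM p B ψ φ else 0) =
      (Nat.card D : ℂ) * regM p B χ φ := by
  have hB := hmax.1.2.1
  rw [BlockChar.card_defectGroup hM hB (isDefectGroup_of_maximal hM hmax)]
  have hR : ∀ ψ, regM p B ψ φ = ∑ g, ((p ^ Cfsg.blockDefect p B : ℕ) : ℂ) / (Nat.card G : ℂ) *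
      (if Cfsg.IsPRegular p g then conj ((φ : G → ℂ) g) else 0) * (ψ : G → ℂ) g := fun ψ => by
    rw [regM, regSum, Finset.mul_sum]
    refine Finset.sum_congr rfl fun g _ => ?_
    by_cases hg : Cfsg.IsPRegular p g <;> simp [hg] <;> ring
  have e1 : ∀ ψ : Cfsg.IrrCharacter G, (if ψ ∈ B then regM p B χ ψ * regM p B ψ φ else 0) =
      ∑ g, ((p ^ Cfsg.blockDefect p B : ℕ) : ℂ) / (Nat.card G : ℂ) *
        (if Cfsg.IsPRegular p g then conj ((φ : G → ℂ) g) else 0) *
          (if ψ ∈ B then regM p B χ ψ * (ψ : G → ℂ) g else 0) := by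
    intro ψ
    by_cases h : ψ ∈ B
    · simp only [if_pos h, hR ψ, Finset.mul_sum]
      exact Finset.sum_congr rfl fun g _ => by ring
    · simp [h]
  rw [Finset.sum_congr rfl fun ψ _ => e1 ψ, Finset.sum_comm, hR χ, Finset.mul_sum]
  refine Finset.sum_congr rfl fun g _ => ?_
  rw [← Finset.mul_sum, sum_regM_mul hM hB hχ g]
  by_cases hg : Cfsg.IsPRegular p g <;> simp [hg] <;> ring

open scoped Classical ComplexOrder in
/-- The columns of `ev (β ·)` satisfy `N A = e q A`. -/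
theorem sum_regM_ev (hD1 : D ≠ ⊥) {χ : Cfsg.IrrCharacter G} (hχ : χ ∈ B) {x : D}
    (hx : (x : G) ≠ 1) :
    ∑ ψ ∈ (Set.toFinite B).toFinset, regM p B χ ψ * ev (β ψ) x = 0 := by
  have : M.IsMaximal := hM.2.1
  obtain ⟨e, he⟩ : ∃ e : ℂ, e = ((CG[D]).relIndex T : ℂ) := ⟨_, rfl⟩
  have he0 : e ≠ 0 := by
    have hTN : T ≤ Subgroup.normalizer (D : Set G) := fun g hg => ((hT g).1 hg).1
    rw [he, Nat.cast_ne_zero, Subgroup.relIndex, Subgroup.index_eq_card]
    exact Nat.card_pos.ne'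
  let ι := {ψ // ψ ∈ B}
  let X := {w : D // (w : G) ≠ 1}
  let A : Matrix ι X ℂ := Matrix.of fun ψ w => ev (β (ψ : Cfsg.IrrCharacter G)) (w : D)
  let R : Matrix ι ι ℂ := Matrix.of fun ψ φ => regM p B (ψ : Cfsg.IrrCharacter G) (φ : Cfsg.IrrCharacter G)
  obtain ⟨q, hq⟩ : ∃ q : ℂ, q = (Nat.card D : ℂ) := ⟨_, rfl⟩
  have hNdef : A * A.conjTranspose = e • (q • (1 : Matrix ι ι ℂ) - R) := by
    ext ψ φ
    have h := regM_eq_coords hM hmax hcyc hT hex hN hsect hD1 ψ.2 (φ : Cfsg.IrrCharacter G)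
    rw [← he, ← hq] at h
    simp only [A, R, Matrix.mul_apply, Matrix.conjTranspose_apply, Matrix.of_apply,
      Matrix.smul_apply, Matrix.sub_apply, Matrix.one_apply, smul_eq_mul, Subtype.ext_iff]
    have h2 : ∑ w : X, ev (β (ψ : Cfsg.IrrCharacter G)) (w : D) *
        star (ev (β (φ : Cfsg.IrrCharacter G)) (w : D)) =
        ∑ w : D, (if (w : G) = 1 then 0 else ev (β (ψ : Cfsg.IrrCharacter G)) w *
          conj (ev (β (φ : Cfsg.IrrCharacter G)) w)) := by
      rw [← Finset.sum_subset (Finset.subset_univ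
          (Finset.univ.filter fun w : D => (w : G) ≠ 1)) fun w _ hw => by
            rw [if_pos (by simpa using hw)],
        Finset.sum_subtype (p := fun w : D => (w : G) ≠ 1) _ (by simp)]
      exact Finset.sum_congr rfl fun w _ => (if_neg w.2).symm
    rw [h2]
    simp only [Subtype.val_inj] at h
    linear_combination h
  have hR2 : R * R = q • R := by
    ext ψ φ
    simp only [R, Matrix.mul_apply, Matrix.of_apply, Matrix.smul_apply, smul_eq_mul, hq]
    rw [← sum_regM_regM hM hmax ψ.2 (φ : Cfsg.IrrCharacter G), ← Finset.sum_filter,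
      Finset.sum_subtype (p := fun η => η ∈ B) _ (by simp)]
  have hN2 : (A * A.conjTranspose) * (A * A.conjTranspose) = (e * q) • (A * A.conjTranspose) := by
    rw [hNdef]
    simp only [Matrix.mul_sub, Matrix.sub_mul, Matrix.smul_mul, Matrix.mul_smul, Matrix.one_mul,
      Matrix.mul_one, hR2, smul_sub, smul_smul, sub_self]
    module
  have hNA : A * A.conjTranspose * A - (e * q) • A = 0 := by
    refine Matrix.self_mul_conjTranspose_eq_zero.1 ?_
    have hconj : star (e * q) = e * q := by simp [he, hq]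
    have hN3 : A * A.conjTranspose * A * A.conjTranspose = (e * q) • (A * A.conjTranspose) := by
      rw [← hN2]; simp only [Matrix.mul_assoc]
    simp only [Matrix.conjTranspose_sub, Matrix.conjTranspose_smul, Matrix.conjTranspose_mul,
      Matrix.conjTranspose_conjTranspose, hconj, Matrix.mul_sub, Matrix.sub_mul, Matrix.smul_mul,
      Matrix.mul_smul]
    simp only [← Matrix.mul_assoc, hN3, Matrix.smul_mul, smul_smul, smul_sub, sub_self, smul_zero]
  have hRA : R * A = 0 := by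
    have h := sub_eq_zero.1 hNA
    rw [hNdef, Matrix.smul_mul, Matrix.sub_mul, Matrix.smul_mul, Matrix.one_mul, ← smul_smul] at h
    have h' := smul_right_injective (Matrix ι X ℂ) he0 h
    simpa using h'
  have h := congrFun (congrFun hRA ⟨χ, hχ⟩) ⟨x, hx⟩
  simp only [R, A, Matrix.mul_apply, Matrix.of_apply, Matrix.zero_apply] at h
  rw [← h, Finset.sum_subtype (p := fun η => η ∈ B) _ (by simp)]

open scoped Classical in
/-- The columns are orthogonal. -/
theorem col_orth (hD1 : D ≠ ⊥)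
    (hinv : ∀ χ : Cfsg.IrrCharacter G, ∀ t ∈ T, ∀ x x' : D, (x : G) ≠ 1 →
      (x' : G) = t * (x : G) * t⁻¹ → ev (β χ) x' = ev (β χ) x)
    {x x' : D} (hx : (x : G) ≠ 1) (hx' : (x' : G) ≠ 1) :
    ∑ χ ∈ (Set.toFinite B).toFinset, conj (ev (β χ) x) * ev (β χ) x' =
      if ∃ t ∈ T, (x' : G) = t * (x : G) * t⁻¹ then (Nat.card D : ℂ) else 0 := by
  have : M.IsMaximal := hM.2.1
  have hTN : T ≤ Subgroup.normalizer (D : Set G) := fun g hg => ((hT g).1 hg).1
  have hnorm : ∀ w : D, (w : G) ≠ 1 →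
      ∑ χ ∈ (Set.toFinite B).toFinset, conj (ev (β χ) w) * ev (β χ) w = (Nat.card D : ℂ) :=
    fun w hw => (Finset.sum_congr rfl fun χ _ => mul_comm _ _).trans
      (col_norm hM hmax hcyc hT hex hN hsect hw)
  split_ifs with h
  · obtain ⟨t, ht, hxt⟩ := h
    rw [← hnorm x hx]
    exact Finset.sum_congr rfl fun χ _ => by rw [hinv χ t ht x x' hx hxt]
  let W : D → ℂ := fun w => ∑ χ ∈ (Set.toFinite B).toFinset, conj (ev (β χ) x) * ev (β χ) w
  show W x' = 0
  obtain ⟨y, hyT, -, hypow, hygen, -⟩ := exists_generator hM hmax hcyc hD1 hT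
  obtain ⟨e, he⟩ : ∃ e, e = (CG[D]).relIndex T := ⟨_, rfl⟩
  have hy : ∀ j : ℕ, y ^ j * (x : G) * (y ^ j)⁻¹ ∈ D := fun j =>
    (Subgroup.mem_normalizer_iff.1 (hTN (pow_mem hyT j)) _).1 x.2
  have hy1 : ∀ j : ℕ, y ^ j * (x : G) * (y ^ j)⁻¹ ≠ 1 := fun j hj => hx (by simpa using hj)
  let O : Finset D := (Finset.range e).image fun j => ⟨_, hy j⟩
  have hOcard : O.card = e := by
    rw [Finset.card_image_of_injOn, Finset.card_range]
    intro a ha b hb hab
    simp only [Finset.coe_range, Set.mem_Iio, he] at ha hb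
    exact conj_pow_inj hM hmax hcyc hT hyT hypow x.2 hx ha hb (congrArg Subtype.val hab)
  let S : Finset D := Finset.univ.filter fun w => (w : G) ≠ 1
  have hOS : O ⊆ S := fun w hw => by
    obtain ⟨j, -, rfl⟩ := Finset.mem_image.1 hw
    exact Finset.mem_filter.2 ⟨Finset.mem_univ _, hy1 j⟩
  have hWO : ∀ w ∈ O, W w * conj (W w) = (Nat.card D : ℂ) * (Nat.card D : ℂ) := by
    intro w hw
    obtain ⟨j, -, rfl⟩ := Finset.mem_image.1 hw
    rw [show W ⟨_, hy j⟩ = (Nat.card D : ℂ) from (Finset.sum_congr rfl fun χ _ => by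
      rw [hinv χ (y ^ j) (pow_mem hyT j) x ⟨_, hy j⟩ hx rfl]).trans (hnorm x hx)]
    simp
  have hSsum : ∑ w ∈ S, W w * conj (W w) =
      (e : ℂ) * (Nat.card D : ℂ) * (Nat.card D : ℂ) := by
    have hrow : ∀ χ ∈ B, ∀ ψ : Cfsg.IrrCharacter G,
        ∑ w ∈ S, ev (β χ) w * conj (ev (β ψ) w) =
          (e : ℂ) * (Nat.card D : ℂ) * (if χ = ψ then 1 else 0) - (e : ℂ) * regM p B χ ψ := by
      intro χ hχ ψ
      have h' := regM_eq_coords hM hmax hcyc hT hex hN hsect hD1 hχ ψ
      rw [← he] at h'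
      rw [Finset.sum_filter]
      simp only [ne_eq, ite_not]
      linear_combination h'
    calc ∑ w ∈ S, W w * conj (W w)
        = ∑ χ ∈ (Set.toFinite B).toFinset, ∑ ψ ∈ (Set.toFinite B).toFinset,
            conj (ev (β χ) x) * ev (β ψ) x * ∑ w ∈ S, ev (β χ) w * conj (ev (β ψ) w) := by
          simp only [W, map_sum, map_mul, Complex.conj_conj, Finset.sum_mul_sum]
          simp only [Finset.mul_sum]
          rw [Finset.sum_comm]
          refine Finset.sum_congr rfl fun χ _ => ?_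
          rw [Finset.sum_comm]
          exact Finset.sum_congr rfl fun ψ _ => Finset.sum_congr rfl fun w _ => by ring
      _ = ∑ χ ∈ (Set.toFinite B).toFinset, conj (ev (β χ) x) *
            ((e : ℂ) * (Nat.card D : ℂ) * ev (β χ) x) := by
          refine Finset.sum_congr rfl fun χ hχ => ?_
          have hz : ∑ ψ ∈ (Set.toFinite B).toFinset,
              conj (ev (β χ) x) * (e : ℂ) * (regM p B χ ψ * ev (β ψ) x) = 0 := by
            rw [← Finset.mul_sum, sum_regM_ev hM hmax hcyc hT hex hN hsect hD1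
              ((Set.Finite.mem_toFinset _).1 hχ) hx, mul_zero]
          rw [Finset.sum_congr rfl (g := fun ψ =>
            conj (ev (β χ) x) * (e : ℂ) * (Nat.card D : ℂ) * (if χ = ψ then ev (β ψ) x else 0) -
              conj (ev (β χ) x) * (e : ℂ) * (regM p B χ ψ * ev (β ψ) x)) fun ψ _ => by
              rw [hrow χ ((Set.Finite.mem_toFinset _).1 hχ) ψ]; split_ifs <;> ring,
            Finset.sum_sub_distrib, hz, sub_zero, ← Finset.mul_sum, Finset.sum_ite_eq,
            if_pos hχ]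
          ring
      _ = _ := by
          rw [Finset.sum_congr rfl (g := fun χ =>
              (e : ℂ) * (Nat.card D : ℂ) * (conj (ev (β χ) x) * ev (β χ) x)) (fun χ _ => by ring),
            ← Finset.mul_sum, hnorm x hx]
  have hsplit := Finset.sum_sdiff hOS (f := fun w => W w * conj (W w))
  rw [hSsum, Finset.sum_congr rfl hWO, Finset.sum_const, hOcard, nsmul_eq_mul, ← mul_assoc,
    add_eq_right] at hsplit
  have hreal : ∑ w ∈ S \ O, Complex.normSq (W w) = 0 := by
    apply Complex.ofReal_injective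
    rw [Complex.ofReal_sum, Complex.ofReal_zero, ← hsplit]
    exact Finset.sum_congr rfl fun w _ => (Complex.mul_conj _).symm
  have hx'O : x' ∈ S \ O := by
    refine Finset.mem_sdiff.2 ⟨Finset.mem_filter.2 ⟨Finset.mem_univ _, hx'⟩, fun hO => ?_⟩
    obtain ⟨j, -, rfl⟩ := Finset.mem_image.1 hO
    exact h ⟨y ^ j, pow_mem hyT j, rfl⟩
  exact Complex.normSq_eq_zero.1
    ((Finset.sum_eq_zero_iff_of_nonneg fun w _ => Complex.normSq_nonneg (W w)).1 hreal x' hx'O)

open scoped Classical in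
/-- The relations on the regular elements. -/
theorem regular_relation (hD1 : D ≠ ⊥) {x : D} (hx : (x : G) ≠ 1) {g : G} (hg : ¬ p ∣ orderOf g) :
    ∑ χ ∈ (Set.toFinite B).toFinset, conj (ev (β χ) x) * (χ : G → ℂ) g = 0 := by
  have hB := hmax.1.2.1
  have hreal : ∀ χ ∈ B, ∀ ψ : Cfsg.IrrCharacter G,
      conj (regM p B χ ψ) = regM p B χ ψ := by
    intro χ hχ ψ
    obtain ⟨k, hk⟩ := exists_int_regM hM hχ ψ
    rw [hk, map_intCast]
  have hq : ((p ^ Cfsg.blockDefect p B : ℕ) : ℂ) ≠ 0 :=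
    Nat.cast_ne_zero.2 (pow_ne_zero _ hM.1.ne_zero)
  refine mul_left_cancel₀ hq ?_
  rw [mul_zero, Finset.mul_sum]
  calc ∑ χ ∈ (Set.toFinite B).toFinset,
        ((p ^ Cfsg.blockDefect p B : ℕ) : ℂ) * (conj (ev (β χ) x) * (χ : G → ℂ) g)
      = ∑ χ ∈ (Set.toFinite B).toFinset, ∑ ψ ∈ (Set.toFinite B).toFinset,
          conj (ev (β χ) x) * (regM p B χ ψ * (ψ : G → ℂ) g) := by
        refine Finset.sum_congr rfl fun χ hχ => ?_
        rw [← Finset.mul_sum]
        have h := sum_regM_mul hM hB ((Set.Finite.mem_toFinset _).1 hχ) g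
        rw [if_pos (show Cfsg.IsPRegular p g from hg), ← Finset.sum_filter] at h
        rw [show (Set.toFinite B).toFinset = Finset.univ.filter fun ψ => ψ ∈ B by ext; simp, h]
        ring
    _ = ∑ ψ ∈ (Set.toFinite B).toFinset,
          conj (∑ χ ∈ (Set.toFinite B).toFinset, regM p B ψ χ * ev (β χ) x) * (ψ : G → ℂ) g := by
        rw [Finset.sum_comm]
        refine Finset.sum_congr rfl fun ψ hψ => ?_
        rw [map_sum, Finset.sum_mul]
        refine Finset.sum_congr rfl fun χ hχ => ?_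
        rw [map_mul, hreal ψ ((Set.Finite.mem_toFinset _).1 hψ) χ, regM_comm hM χ ψ]
        ring
    _ = 0 := Finset.sum_eq_zero fun ψ hψ => by
        rw [sum_regM_ev hM hmax hcyc hT hex hN hsect hD1 ((Set.Finite.mem_toFinset _).1 hψ) hx,
          map_zero, zero_mul]

end Cfsg.Agent.BlockChar.Cyclic
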