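import Mathlib.Data.Int.Basic
import Mathlib.Algebra.BigOperators.Ring.Finset
import Mathlib.Algebra.Order.BigOperators.Group.Finset
import Mathlib.Data.Fintype.Card
import Mathlib.Tactic

/-!
# Integer columns with Gram matrix `1 + e J`
-/

set_option autoImplicit false

namespace Cfsg.Agent.BlockChar.Cyclic

variable {R O : Type*} [Fintype R] [Fintype O] [DecidableEq O]

/-- Columns of Gram matrix `1 + e J` in `e + #O` coordinates, none of them identically zero, are
`m` coordinate vectors added to a common sign vector. -/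
theorem exists_sign_split [Nonempty O] (b : R → O → ℤ) (e : ℕ)
    (hcard : Fintype.card R = e + Fintype.card O) (hrow : ∀ r, ∃ o, b r o ≠ 0)
    (hgram : ∀ o o', ∑ r, b r o * b r o' = (if o = o' then 1 else 0) + (e : ℤ)) :
    ∃ y : O → R, Function.Injective y ∧
      (∀ o, (b (y o) o = 1 ∨ b (y o) o = -1) ∧ ∀ o', o' ≠ o → b (y o) o' = 0) ∧
      ∀ r, r ∉ Set.range y → ∃ v : ℤ, (v = 1 ∨ v = -1) ∧ ∀ o, b r o = v := by
  classical
  obtain ⟨m, hm⟩ : ∃ m, m = Fintype.card O := ⟨_, rfl⟩
  have hm1 : 1 ≤ m := hm ▸ Fintype.card_pos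
  rcases eq_or_lt_of_le hm1 with h1 | h2
  · -- a single column
    obtain ⟨o₀⟩ := ‹Nonempty O›
    have huniq : ∀ o, o = o₀ := fun o => by
      have : Subsingleton O := Fintype.card_le_one_iff_subsingleton.1 (by omega)
      exact Subsingleton.elim _ _
    have hsq : ∀ r, b r o₀ * b r o₀ = 1 := by
      have hne : ∀ r, 1 ≤ b r o₀ * b r o₀ := fun r => by
        obtain ⟨o, ho⟩ := hrow r
        rw [huniq o] at ho
        nlinarith [mul_self_pos.2 ho]
      have hsum : ∑ r, (b r o₀ * b r o₀ - 1) = 0 := by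
        rw [Finset.sum_sub_distrib, hgram, if_pos rfl, Finset.sum_const, Finset.card_univ, hcard,
          ← hm, ← h1]
        simp
        ring
      intro r
      have := (Finset.sum_eq_zero_iff_of_nonneg fun r _ => by have := hne r; omega).1 hsum r
        (Finset.mem_univ r)
      omega
    have hpm : ∀ r, b r o₀ = 1 ∨ b r o₀ = -1 := fun r =>
      mul_self_eq_one_iff.1 (hsq r)
    obtain ⟨r₀⟩ : Nonempty R := Fintype.card_pos_iff.1 (by omega)
    exact ⟨fun _ => r₀, fun a b _ => (huniq a).trans (huniq b).symm,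
      fun o => ⟨huniq o ▸ hpm r₀, fun o' h => absurd ((huniq o').trans (huniq o).symm) h⟩,
      fun r _ => ⟨b r o₀, hpm r, fun o => by rw [huniq o]⟩⟩
  -- at least two columns
  let z : R → ℕ := fun r => (Finset.univ.filter fun o => b r o = 0).card
  let S : R → ℤ := fun r => ∑ o, b r o * b r o
  let P : R → ℤ := fun r => ∑ o, ∑ o', (b r o - b r o') * (b r o - b r o')
  have hz : ∀ r, z r + 1 ≤ m := fun r => by
    obtain ⟨o, ho⟩ := hrow r
    have : z r < Fintype.card O := Finset.card_lt_univ_of_notMem (x := o) (by simp [ho])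
    omega
  have hnz : ∀ r, ((Finset.univ.filter fun o => b r o ≠ 0).card : ℤ) = (m : ℤ) - z r := fun r => by
    have h := Finset.card_filter_add_card_filter_not (s := (Finset.univ : Finset O))
      (p := fun o => b r o = 0)
    rw [Finset.card_univ, ← hm] at h
    simp only [ne_eq, z]
    omega
  have hS : ∀ r, (m : ℤ) - z r ≤ S r := fun r => by
    rw [← hnz r, Finset.card_eq_sum_ones, Nat.cast_sum, Finset.sum_filter]
    refine Finset.sum_le_sum fun o _ => ?_
    split_ifs with h
    · have := mul_self_pos.2 h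
      push_cast; omega
    · exact mul_self_nonneg _
  have hP : ∀ r, 2 * (z r : ℤ) * S r ≤ P r := fun r => by
    have hle : ∀ o o', (if b r o = 0 then b r o' * b r o' else 0) +
        (if b r o' = 0 then b r o * b r o else 0) ≤ (b r o - b r o') * (b r o - b r o') := by
      intro o o'
      by_cases h1 : b r o = 0 <;> by_cases h2 : b r o' = 0
      · simp [h1, h2]
      · simp [h1, h2]
      · simp [h1, h2]
      · simp only [if_neg h1, if_neg h2, add_zero]; exact mul_self_nonneg _
    refine le_trans (le_of_eq ?_) (Finset.sum_le_sum fun o _ => Finset.sum_le_sum fun o' _ => hle o o')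
    simp only [Finset.sum_add_distrib]
    have e1 : ∑ o, ∑ o', (if b r o = 0 then b r o' * b r o' else 0) = (z r : ℤ) * S r := by
      rw [Finset.sum_congr rfl (g := fun o => if b r o = 0 then S r else 0) fun o _ => by
        split_ifs <;> simp [S], ← Finset.sum_filter, Finset.sum_const, nsmul_eq_mul]
    have e2 : ∑ o, ∑ o', (if b r o' = 0 then b r o * b r o else 0) = (z r : ℤ) * S r := by
      rw [Finset.sum_comm]; exact e1
    rw [e1, e2]; ring
  have hStot : ∑ r, S r = (m : ℤ) * (1 + e) := by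
    rw [Finset.sum_comm, Finset.sum_congr rfl (g := fun _ => (1 : ℤ) + e) fun o _ => by
      rw [hgram, if_pos rfl], Finset.sum_const, Finset.card_univ, ← hm, nsmul_eq_mul]
  have hPtot : ∑ r, P r = 2 * (m : ℤ) * ((m : ℤ) - 1) := by
    rw [Finset.sum_comm]
    have h : ∀ o, ∑ r, ∑ o', (b r o - b r o') * (b r o - b r o') = 2 * ((m : ℤ) - 1) := by
      intro o
      rw [Finset.sum_comm, Finset.sum_congr rfl (g := fun o' => 2 - 2 * if o = o' then (1 : ℤ) else 0)
        fun o' _ => ?_]
      · rw [Finset.sum_sub_distrib, Finset.sum_const, Finset.card_univ, ← hm, ← Finset.mul_sum,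
          Finset.sum_ite_eq, if_pos (Finset.mem_univ o), nsmul_eq_mul]
        ring
      · rw [Finset.sum_congr rfl (g := fun r =>
          b r o * b r o + b r o' * b r o' - 2 * (b r o * b r o')) (fun r _ => by ring),
          Finset.sum_sub_distrib, Finset.sum_add_distrib, ← Finset.mul_sum, hgram, hgram, hgram,
          if_pos rfl, if_pos rfl]
        ring
    rw [Finset.sum_congr rfl fun o _ => h o, Finset.sum_const, Finset.card_univ, ← hm, nsmul_eq_mul]
    ring
  -- all the inequalities are equalities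
  have hSpos : ∀ r, 1 ≤ S r := fun r => by
    have h := hS r; have h' : ((z r : ℤ) + 1) ≤ m := by exact_mod_cast hz r
    omega
  have hzS : ∑ r, (z r : ℤ) * S r ≤ (m : ℤ) * ((m : ℤ) - 1) := by
    have h := Finset.sum_le_sum (s := Finset.univ) fun r _ => hP r
    rw [hPtot, Finset.sum_congr rfl (g := fun r => 2 * ((z r : ℤ) * S r)) (fun r _ => by ring),
      ← Finset.mul_sum] at h
    linarith
  have hzsum : (m : ℤ) * ((m : ℤ) - 1) ≤ ∑ r, (z r : ℤ) := by
    have h := Finset.sum_le_sum (s := Finset.univ) fun r _ => hS r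
    rw [hStot, Finset.sum_sub_distrib, Finset.sum_const, Finset.card_univ, nsmul_eq_mul, hcard,
      ← hm] at h
    push_cast at h
    linarith
  have hzz : ∀ r ∈ (Finset.univ : Finset R), (z r : ℤ) ≤ z r * S r := fun r _ => by
    nlinarith [hSpos r, (Int.natCast_nonneg (z r))]
  have heq : ∑ r, (z r : ℤ) = ∑ r, (z r : ℤ) * S r :=
    le_antisymm (Finset.sum_le_sum hzz) (hzS.trans hzsum)
  have hz1 : ∀ r, z r = 0 ∨ S r = 1 := fun r => by
    have h := (Finset.sum_eq_sum_iff_of_le hzz).1 heq r (Finset.mem_univ r)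
    rcases Nat.eq_zero_or_pos (z r) with h0 | h0
    · exact Or.inl h0
    · refine Or.inr (mul_left_cancel₀ (show (z r : ℤ) ≠ 0 by omega) ?_)
      rw [mul_one]; exact h.symm
  have hSeq : ∀ r, S r = (m : ℤ) - z r := by
    have h : ∑ r, ((m : ℤ) - z r) = ∑ r, S r := by
      refine le_antisymm (Finset.sum_le_sum fun r _ => hS r) ?_
      rw [hStot, Finset.sum_sub_distrib, Finset.sum_const, Finset.card_univ, nsmul_eq_mul, hcard,
        ← hm]
      push_cast
      have := hzS
      linarith [heq ▸ hzS]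
    exact fun r => ((Finset.sum_eq_sum_iff_of_le fun r _ => hS r).1 h r (Finset.mem_univ r)).symm
  have hPeq : ∀ r, P r = 2 * (z r : ℤ) * S r := by
    have h : ∑ r, 2 * (z r : ℤ) * S r = ∑ r, P r := by
      refine le_antisymm (Finset.sum_le_sum fun r _ => hP r) ?_
      rw [hPtot, Finset.sum_congr rfl (g := fun r => 2 * ((z r : ℤ) * S r)) (fun r _ => by ring),
        ← Finset.mul_sum, ← heq]
      linarith
    exact fun r => ((Finset.sum_eq_sum_iff_of_le fun r _ => hP r).1 h r (Finset.mem_univ r)).symm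
  have hsingle : ∀ r, z r ≠ 0 → ∃ o, (b r o = 1 ∨ b r o = -1) ∧ ∀ o', o' ≠ o → b r o' = 0 := by
    intro r hr
    have hS1 := (hz1 r).resolve_left hr
    obtain ⟨o, ho⟩ := hrow r
    have hle : b r o * b r o + ∑ o' ∈ Finset.univ.erase o, b r o' * b r o' = 1 := by
      rw [Finset.add_sum_erase _ (fun o => b r o * b r o) (Finset.mem_univ o)]; exact hS1
    have h0 := mul_self_pos.2 ho
    have hn : ∀ o' ∈ Finset.univ.erase o, 0 ≤ b r o' * b r o' := fun o' _ => mul_self_nonneg _
    have hrest : ∑ o' ∈ Finset.univ.erase o, b r o' * b r o' = 0 := by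
      have := Finset.sum_nonneg hn
      omega
    refine ⟨o, mul_self_eq_one_iff.1 (by omega), fun o' ho' => mul_self_eq_zero.1
      ((Finset.sum_eq_zero_iff_of_nonneg hn).1 hrest o'
        (Finset.mem_erase.2 ⟨ho', Finset.mem_univ _⟩))⟩
  have hconst : ∀ r, z r = 0 → ∀ o o', b r o = b r o' := by
    intro r hr o o'
    have h := hPeq r
    rw [hr, Nat.cast_zero, mul_zero, zero_mul] at h
    have h1 := (Finset.sum_eq_zero_iff_of_nonneg fun o _ =>
      Finset.sum_nonneg fun o' _ => mul_self_nonneg (b r o - b r o')).1 h o (Finset.mem_univ o)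
    have h2 := (Finset.sum_eq_zero_iff_of_nonneg fun o' _ => mul_self_nonneg (b r o - b r o')).1 h1
      o' (Finset.mem_univ o')
    exact sub_eq_zero.1 (mul_self_eq_zero.1 h2)
  have hcount : ∀ o, (Finset.univ.filter fun r => z r ≠ 0 ∧ b r o ≠ 0).card = 1 := by
    intro o
    obtain ⟨o', ho'⟩ : ∃ o', o' ≠ o := Fintype.exists_ne_of_one_lt_card (by omega) o
    have h : ∑ r, b r o * (b r o - b r o') = 1 := by
      simp only [mul_sub]
      rw [Finset.sum_sub_distrib, hgram, hgram, if_pos rfl, if_neg (Ne.symm ho')]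
      ring
    rw [Finset.sum_congr rfl (g := fun r => if z r ≠ 0 ∧ b r o ≠ 0 then (1 : ℤ) else 0) fun r _ => ?_,
      Finset.sum_boole] at h
    · exact_mod_cast h
    by_cases hr : z r = 0
    · rw [if_neg (fun h => h.1 hr), hconst r hr o o', sub_self, mul_zero]
    obtain ⟨o₁, h1, h2⟩ := hsingle r hr
    by_cases ho : o = o₁
    · subst ho
      rw [h2 o' ho', if_pos ⟨hr, by omega⟩, sub_zero]
      rcases h1 with h1 | h1 <;> rw [h1] <;> norm_num
    · rw [h2 o ho, if_neg (fun h => h.2 rfl), zero_mul]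
  choose y hy using fun o => Finset.card_pos.1 (by rw [hcount o]; exact one_pos)
  simp only [Finset.mem_filter, Finset.mem_univ, true_and] at hy
  refine ⟨y, fun o o' h => ?_, fun o => ?_, fun r hr => ?_⟩
  · obtain ⟨o₁, -, h2⟩ := hsingle _ (hy o).1
    have e1 : o = o₁ := by_contra fun hne => (hy o).2 (h2 o hne)
    have e2 : o' = o₁ := by_contra fun hne => (hy o').2 (h ▸ h2 o' hne)
    rw [e1, e2]
  · obtain ⟨o₁, h1, h2⟩ := hsingle _ (hy o).1
    have e1 : o = o₁ := by_contra fun hne => (hy o).2 (h2 o hne)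
    subst e1
    exact ⟨h1, h2⟩
  · have hz0 : z r = 0 := by
      by_contra hne
      obtain ⟨o₁, h1, h2⟩ := hsingle r hne
      refine hr ⟨o₁, ?_⟩
      exact Finset.card_le_one.1 (hcount o₁).le _ (Finset.mem_filter.2 ⟨Finset.mem_univ _, hy o₁⟩) _
        (Finset.mem_filter.2 ⟨Finset.mem_univ _, hne, by omega⟩)
    obtain ⟨o₀⟩ := ‹Nonempty O›
    refine ⟨b r o₀, mul_self_eq_one_iff.1 ?_, fun o => hconst r hz0 o o₀⟩
    have h : S r = (m : ℤ) * (b r o₀ * b r o₀) := by
      show ∑ o, b r o * b r o = _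
      rw [Finset.sum_congr rfl fun o _ => by rw [hconst r hz0 o o₀], Finset.sum_const,
        Finset.card_univ, ← hm, nsmul_eq_mul]
    have h' := hSeq r
    rw [h, hz0, Nat.cast_zero, sub_zero] at h'
    exact mul_left_cancel₀ (show (m : ℤ) ≠ 0 by omega) (h'.trans (mul_one _).symm)

end Cfsg.Agent.BlockChar.Cyclic
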