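import Cfsg.Agent.BlockChar.Cyclic.OrdMain

/-!
# Consequences: heights, numbers, congruences
-/

set_option autoImplicit false

namespace Cfsg.Agent.BlockChar.Cyclic

open Cfsg.Agent Cfsg.Agent.Blocks Cfsg.Agent.BrauerPairs Cfsg.Agent.BlockChar
open Cfsg.Agent.Blocks.Star
open scoped ComplexConjugate

universe u

variable {G : Type u} [Group G] [Fintype G] {p : ℕ} {M : Ideal Cfsg.AlgInt} [Fact p.Prime]

local notation "CG[" Q "]" => Subgroup.centralizer (SetLike.coe Q)

variable {B : Set (Cfsg.IrrCharacter G)} {D : Subgroup G} {c : Set (Cfsg.IrrCharacter CG[D])}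
  {T : Subgroup G}
variable (hM : Cfsg.IsPModular p M) (hmax : Cfsg.IsMaximalBrauerPair p M B D c) (hcyc : IsCyclic D)
  (hT : ∀ g : G, g ∈ T ↔ g ∈ Subgroup.normalizer (D : Set G) ∧
    Cfsg.StabilizesBlock CG[D] c g)

include hM hmax hcyc hT in
/-- The inertial index divides `p - 1`. -/
theorem relIndex_dvd (hD1 : D ≠ ⊥) : (CG[D]).relIndex T ∣ p - 1 := by
  have : M.IsMaximal := hM.2.1
  have hTN : T ≤ Subgroup.normalizer (D : Set G) := fun g hg => ((hT g).1 hg).1
  have := normal_centralizer_subgroupOf hTN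
  exact (inertial_cyclic hM hmax.1.1.1 hD1 hcyc hTN (inertial_free hM hcyc hmax hT)).2

variable {Q : Subgroup G} {θ' : Cfsg.IrrCharacter CG[Q]} {ex : D → G → ℂ}
  {β : Cfsg.IrrCharacter G → Cfsg.IrrCharacter D → ℤ}
  (hex : ∀ x : D, Below p M D c (x : G) (ex x))
  (hN : ∀ x : D, (x : G) ≠ 1 → (Nat.card D : ℂ) / (Nat.card CG[Subgroup.zpowers (x : G)] : ℂ) *
    (∑ y ∈ regC p (x : G),
      sect (Cfsg.extendByZero CG[Q] (θ' : CG[Q] → ℂ)) (x : G) (ex x) y *
        conj (sect (Cfsg.extendByZero CG[Q] (θ' : CG[Q] → ℂ)) (x : G) (ex x) y)) = 1)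
  (hsect : ∀ χ : Cfsg.IrrCharacter G, ∀ x : D, (x : G) ≠ 1 → ∀ y ∈ regC p (x : G),
    sect (χ : G → ℂ) (x : G) (ex x) y = ev (β χ) x *
      sect (Cfsg.extendByZero CG[Q] (θ' : CG[Q] → ℂ)) (x : G) (ex x) y)
  (hβ : ∀ χ (η : Cfsg.IrrCharacter D), (∀ x : D, (η : D → ℂ) x = 1) → β χ η = 0)

include hM hmax hsect hex in
open scoped Classical in
/-- A combination vanishing on the subsections of `D` has degree divisible by `#D`. -/
theorem dvd_degree_of_ev (S : Finset (Cfsg.IrrCharacter G)) (hS : ∀ χ ∈ S, χ ∈ B)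
    (a : Cfsg.IrrCharacter G → ℤ)
    (h : ∀ x : D, (x : G) ≠ 1 → ∑ χ ∈ S, (a χ : ℂ) * ev (β χ) x = 0) :
    (Nat.card D : ℤ) ∣ ∑ χ ∈ S, a χ * (Cfsg.charDegree (χ : G → ℂ) : ℤ) := by
  have hp := hM.1
  have hvan : ∀ x : D, (x : G) ≠ 1 → ∑ χ ∈ S, (a χ : ℂ) * (χ : G → ℂ) (x : G) = 0 := by
    intro x hx
    obtain ⟨k, hk⟩ := IsPGroup.iff_orderOf.1 hmax.1.1.1 x
    have hxk : ∃ k, orderOf (x : G) = p ^ k := ⟨k, by rw [Subgroup.orderOf_coe, hk]⟩
    have h1 : (1 : G) ∈ regC p (x : G) := by simp [regC, hp.ne_one]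
    have hval : ∀ χ : Cfsg.IrrCharacter G, (χ : G → ℂ) (x : G) =
        ∑ e' ∈ Bk M (x : G), sect (χ : G → ℂ) (x : G) e' 1 := fun χ => by
      rw [← apply_section hM χ hxk h1, mul_one]
    simp only [hval, Finset.mul_sum]
    rw [Finset.sum_comm]
    refine Finset.sum_eq_zero fun e' he' => ?_
    obtain ⟨b, hb, rfl⟩ := mem_Bk.1 he'
    by_cases hpair : Cfsg.IsBrauerPairOf p M B (Subgroup.zpowers (x : G)) b
    · obtain ⟨g, hg⟩ := (exists_below_iff hM hmax b).2 hpair
      obtain ⟨x', hx'⟩ : ∃ x' : D, (x' : G) = g * (x : G) * g⁻¹ := ⟨⟨_, hg.mem⟩, rfl⟩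
      rw [← hx'] at hg
      have hx'1 : (x' : G) ≠ 1 := fun h => hx (by rw [hx'] at h; simpa using h)
      have hex' := (hex x').unique hM hmax hg
      have hy : (1 : G) ∈ regC p (x' : G) := by simp [regC, hp.ne_one]
      have hval' : ∀ χ : Cfsg.IrrCharacter G,
          sect (χ : G → ℂ) (x : G) (Cfsg.subgroupBlockCoeff CG[Subgroup.zpowers (x : G)] b) 1 =
          ev (β χ) x' *
            sect (Cfsg.extendByZero CG[Q] (θ' : CG[Q] → ℂ)) (x' : G) (ex x') 1 := fun χ => by
        rw [← hsect χ x' hx'1 1 hy, hex', hx',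
          ← sect_conjF (Char.isClassFunction_of_isIrr χ.2) (x : G) 1 g, mul_one, mul_inv_cancel]
      simp only [hval', ← mul_assoc, ← Finset.sum_mul, h x' hx'1, zero_mul]
    · refine Finset.sum_eq_zero fun χ hχ => ?_
      by_contra hne
      exact hpair (pair_of_sect_ne_zero hM hmax.1.2.1 (hS χ hχ) hxk hb h1 (right_ne_zero_of_mul hne))
  let one : Cfsg.IrrCharacter D :=
    ⟨fun x => (((1 : D →* ℂˣ) x : ℂˣ) : ℂ), Char.isIrrCharacter_hom 1⟩
  have hn : ∀ χ : Cfsg.IrrCharacter G, ∃ n : ℕ,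
      ∑ x : D, (χ : G → ℂ) (x : G) = (Nat.card D : ℂ) * (n : ℂ) := by
    intro χ
    obtain ⟨n, hn⟩ := Blocks.exists_nat_mult (H := D) χ one
    refine ⟨n, ?_⟩
    rw [← hn, Cfsg.classInner, mul_inv_cancel_left₀ (Nat.cast_ne_zero.2 Nat.card_pos.ne')]
    exact Finset.sum_congr rfl fun x _ => by simp [one]
  choose n hn using hn
  refine ⟨∑ χ ∈ S, a χ * (n χ : ℤ), Int.cast_injective (α := ℂ) ?_⟩
  push_cast
  calc ∑ χ ∈ S, (a χ : ℂ) * (Cfsg.charDegree (χ : G → ℂ) : ℂ)
      = ∑ χ ∈ S, (a χ : ℂ) * (χ : G → ℂ) ((1 : D) : G) := by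
        refine Finset.sum_congr rfl fun χ _ => ?_
        obtain ⟨d, -, hd⟩ := Char.IsIrr.degree χ.2
        rw [Blocks.charDegree_eq hd, OneMemClass.coe_one, hd]
    _ = ∑ x : D, ∑ χ ∈ S, (a χ : ℂ) * (χ : G → ℂ) (x : G) := by
        rw [Finset.sum_eq_single_of_mem (1 : D) (Finset.mem_univ _) fun x _ hx =>
          hvan x fun h => hx (Subtype.ext h)]
    _ = _ := by
        rw [Finset.sum_comm, Finset.mul_sum]
        exact Finset.sum_congr rfl fun χ _ => by rw [← Finset.mul_sum, hn χ]; ring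

include hM hmax hcyc hT hex hN hsect hβ

open scoped Classical in
/-- All heights are zero. -/
theorem height_zero (hD1 : D ≠ ⊥) {X Y : Set (Cfsg.IrrCharacter G)}
    {v : Cfsg.IrrCharacter G → ℤ} {ε : ℤ} {gen : Set G}
    (hd : IsTreeData p B D ((CG[D]).relIndex T) X Y v ε β gen) {χ : Cfsg.IrrCharacter G}
    (hχ : χ ∈ B) : Cfsg.blockHeight p B (χ : G → ℂ) = 0 := by
  have hab := comm_of_cyclic hcyc
  have hp := hM.1
  obtain ⟨e, he⟩ : ∃ e, e = (CG[D]).relIndex T := ⟨_, rfl⟩
  rw [← he] at hd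
  have hpe : e ∣ p - 1 := he ▸ relIndex_dvd hM hmax hcyc hT hD1
  have hp2 := hp.two_le
  have hepos : 0 < e := Nat.pos_of_ne_zero fun h => by
    rw [h] at hpe; have := Nat.eq_zero_of_zero_dvd hpe; omega
  have hpe' : ¬ p ∣ e := fun h => by
    have := Nat.le_of_dvd (by omega) (h.trans hpe); omega
  have hpq : p ∣ Nat.card D := by
    rw [BlockChar.card_defectGroup hM hmax.1.2.1 (isDefectGroup_of_maximal hM hmax)]
    refine dvd_pow_self p fun h => ?_
    have h1 : 1 < Nat.card D := (Subgroup.one_lt_card_iff_ne_bot D).2 hD1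
    rw [BlockChar.card_defectGroup hM hmax.1.2.1 (isDefectGroup_of_maximal hM hmax), h,
      pow_zero] at h1
    omega
  obtain ⟨m, hm⟩ : ∃ m, m = Nat.card Y := ⟨_, rfl⟩
  have hem : e * m = Nat.card D - 1 := hm ▸ hd.card_Y
  have hq1 : 1 ≤ Nat.card D := Nat.card_pos
  obtain ⟨r, hr, hpr⟩ : ∃ r : ℕ, regM p B χ χ = (r : ℂ) ∧ ¬ p ∣ r := by
    have hR := regM_eq_coords hM hmax hcyc hT hex hN hsect hD1 hχ χ
    rw [if_pos rfl, mul_one, ← he] at hR
    have he0 : (e : ℂ) ≠ 0 := Nat.cast_ne_zero.2 hepos.ne'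
    rw [hd.union] at hχ
    rcases hχ with hX | hY
    · refine ⟨Nat.card D - m, mul_left_cancel₀ he0 ?_, fun h => ?_⟩
      · rw [hR]
        have hs : ∑ x : D, (if (x : G) = 1 then 0 else ev (β χ) x * conj (ev (β χ) x)) =
            (Nat.card D : ℂ) - 1 := by
          rw [Finset.sum_congr rfl (g := fun x : D => 1 - if x = 1 then (1 : ℂ) else 0) fun x _ => ?_,
            Finset.sum_sub_distrib, Finset.sum_ite_eq', if_pos (Finset.mem_univ _), Finset.sum_const,
            Finset.card_univ, nsmul_eq_mul, mul_one, ← Nat.card_eq_fintype_card]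
          by_cases hx : x = 1
          · simp [hx]
          · have hx' : (x : G) ≠ 1 := fun h => hx (Subtype.ext h)
            rw [if_neg hx', if_neg hx, hd.ev_X χ hX x hx']
            rcases hd.sign_X χ hX with h | h <;> simp [h]
        have hm2 : m ≤ Nat.card D := by
          have : m ≤ e * m := Nat.le_mul_of_pos_left m hepos
          omega
        rw [hs, Nat.cast_sub hm2]
        have h2 : (e : ℂ) * (m : ℂ) = (Nat.card D : ℂ) - 1 := by
          rw [← Nat.cast_mul, hem, Nat.cast_sub hq1, Nat.cast_one]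
        linear_combination h2
      · have hm2 : m ≤ Nat.card D := by
          have : m ≤ e * m := Nat.le_mul_of_pos_left m hepos
          omega
        have hdm : p ∣ m := by
          have := Nat.dvd_sub hpq h
          rwa [Nat.sub_sub_self hm2] at this
        have h1 : p ∣ Nat.card D - 1 := hem ▸ hdm.mul_left e
        have := Nat.dvd_sub hpq h1
        rw [Nat.sub_sub_self hq1] at this
        exact hp.ne_one (Nat.dvd_one.1 this)
    · refine ⟨e, mul_left_cancel₀ he0 ?_, hpe'⟩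
      rw [hR]
      let S := Finset.univ.filter fun η : Cfsg.IrrCharacter D => β χ η ≠ 0
      have hScard : S.card = e := by
        rw [← hd.card_orbit χ hY, Nat.card_eq_fintype_card, Fintype.card_subtype]
      have hb : ∀ η ∈ S, (β χ η : ℂ) * (β χ η : ℂ) = 1 := fun η hη => by
        rcases hd.coeff_Y χ hY η with h | h
        · exact absurd h (Finset.mem_filter.1 hη).2
        · rcases hd.sign with h' | h' <;> simp [h, h']
      have hev : ∀ x : D, ev (β χ) x = ∑ η ∈ S, (β χ η : ℂ) * (η : D → ℂ) x := fun x => by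
        rw [ev, finsum_eq_sum_of_fintype, Finset.sum_filter]
        exact Finset.sum_congr rfl fun η _ => by split_ifs with h <;> simp_all
      have h1 : ev (β χ) 1 = (ε : ℂ) * (e : ℂ) := by
        rw [hev, ← hScard, mul_comm (ε : ℂ), ← nsmul_eq_mul, ← Finset.sum_const]
        refine Finset.sum_congr rfl fun η hη => ?_
        rw [(irr_mul_of_comm hab η).1, mul_one,
          (hd.coeff_Y χ hY η).resolve_left (Finset.mem_filter.1 hη).2]
      have hall : ∑ x : D, ev (β χ) x * conj (ev (β χ) x) = (Nat.card D : ℂ) * (e : ℂ) := by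
        simp only [hev, map_sum, map_mul, map_intCast, Finset.sum_mul_sum]
        rw [Finset.sum_comm, Finset.sum_congr rfl (g := fun _ => (Nat.card D : ℂ)) fun η hη => ?_]
        · rw [Finset.sum_const, hScard, nsmul_eq_mul]; ring
        · rw [Finset.sum_comm, Finset.sum_eq_single_of_mem η hη fun η' _ hne => ?_]
          · have h := sum_linear_eq hab η η
            rw [if_pos rfl] at h
            rw [← h]
            exact Finset.sum_congr rfl fun x _ => by
              linear_combination ((η : D → ℂ) x * conj ((η : D → ℂ) x)) * hb η hη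
          · have h := sum_linear_eq hab η η'
            rw [if_neg (Ne.symm hne)] at h
            rw [← mul_zero ((β χ η : ℂ) * (β χ η' : ℂ)), ← h, Finset.mul_sum]
            exact Finset.sum_congr rfl fun x _ => by ring
      have hs : ∑ x : D, (if (x : G) = 1 then 0 else ev (β χ) x * conj (ev (β χ) x)) =
          (Nat.card D : ℂ) * (e : ℂ) - (e : ℂ) * (e : ℂ) := by
        rw [← hall, Finset.sum_congr rfl (g := fun x : D => ev (β χ) x * conj (ev (β χ) x) -
          if x = 1 then (e : ℂ) * (e : ℂ) else 0) fun x _ => ?_, Finset.sum_sub_distrib,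
          Finset.sum_ite_eq', if_pos (Finset.mem_univ _)]
        by_cases hx : x = 1
        · subst hx
          rw [if_pos (show ((1 : D) : G) = 1 from rfl), if_pos rfl, h1, map_mul, map_intCast,
            map_natCast]
          rcases hd.sign with h' | h' <;> simp [h']
        · rw [if_neg (show ¬ (x : G) = 1 from fun h => hx (Subtype.ext h)), if_neg hx, sub_zero]
      rw [hs]
      ring
  refine (not_dvd_redDeg_iff hp hχ).1 fun h => ?_
  have := (regM_memLocalIdeal_iff hM hχ χ).2 (Or.inl h)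
  rw [hr] at this
  exact hpr ((memLocalIdeal_natCast_iff hM r).1 this)

end Cfsg.Agent.BlockChar.Cyclic
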