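import Cfsg.Agent.BlockChar.Cyclic.OrdBase
import Cfsg.Agent.BlockChar.RegInner
import Cfsg.Agent.BrauerPairs.AbelianDefect

/-!
# The coordinates of the characters of a block with cyclic defect group

On every subsection at a non-trivial element of `D` a character of the block is a multiple
`ev (β χ) x` of one fixed function, with `β χ` integers indexed by the characters of `D`.
-/

set_option autoImplicit false

namespace Cfsg.Agent.BlockChar.Cyclic

open Cfsg.Agent Cfsg.Agent.Blocks Cfsg.Agent.BrauerPairs Cfsg.Agent.BlockChar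
open Cfsg.Agent.Blocks.Star
open scoped ComplexConjugate

universe u

variable {G : Type u} [Group G] [Fintype G] {p : ℕ} {M : Ideal Cfsg.AlgInt} [Fact p.Prime]

local notation "CG[" Q "]" => Subgroup.centralizer (SetLike.coe Q)
local notation "sbc" => Cfsg.subgroupBlockCoeff

/-- The value at `x` of the function with Fourier coefficients `b`. -/
noncomputable def ev {D : Subgroup G} (b : Cfsg.IrrCharacter D → ℤ) (x : D) : ℂ :=
  ∑ᶠ η : Cfsg.IrrCharacter D, (b η : ℂ) * (η : D → ℂ) x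

/-- A sum over the `p`-regular part of a centralizer. -/
theorem sum_regC_eq {u : G} [Fintype CG[Subgroup.zpowers u]] (F : G → ℂ) :
    ∑ y ∈ regC p u, F y =
      ∑ y : CG[Subgroup.zpowers u], if p ∣ orderOf y then 0 else F (y : G) := by
  classical
  rw [regC, Finset.sum_filter, ← Finset.sum_subset (Finset.subset_univ
      (Finset.univ.filter fun g => g ∈ CG[Subgroup.zpowers u])) fun g _ hg => by
        rw [if_neg]
        exact fun hg' => hg (Finset.mem_filter.2 ⟨Finset.mem_univ _,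
          mem_zpowers_centralizer.2 hg'.2⟩),
    Finset.sum_subtype (p := fun g => g ∈ CG[Subgroup.zpowers u]) _ (by simp)]
  refine Finset.sum_congr rfl fun c _ => ?_
  rw [← Subgroup.orderOf_coe]
  by_cases hc : p ∣ orderOf (c : G) <;> simp [hc, mem_zpowers_centralizer.1 c.2]

omit [Fact p.Prime] in
/-- Sections are linear in the function. -/
theorem sect_sum {ι : Type*} (s : Finset ι) (a : ι → ℂ) (F : ι → G → ℂ) (u y : G) (e : G → ℂ) :
    sect (fun g => ∑ i ∈ s, a i * F i g) u e y = ∑ i ∈ s, a i * sect (F i) u e y := by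
  simp only [sect, Finset.mul_sum]
  rw [Finset.sum_comm]
  exact Finset.sum_congr rfl fun i _ => Finset.sum_congr rfl fun g _ => by ring

variable {B : Set (Cfsg.IrrCharacter G)} {D : Subgroup G} {c : Set (Cfsg.IrrCharacter CG[D])}
  {T : Subgroup G}
variable (hM : Cfsg.IsPModular p M) (hmax : Cfsg.IsMaximalBrauerPair p M B D c) (hcyc : IsCyclic D)
  (hT : ∀ g : G, g ∈ T ↔ g ∈ Subgroup.normalizer (D : Set G) ∧
    Cfsg.StabilizesBlock CG[D] c g)
include hM hmax hcyc hT

/-- The subsections at non-trivial elements have rank one. -/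
theorem local_rank_one {R : Subgroup G} {g : Set (Cfsg.IrrCharacter CG[R])}
    (hRD : R ≤ D) (hR1 : R ≠ ⊥) (hle : Cfsg.SubpairLE p M R g D c) :
    Cfsg.blockRank p g = 1 := by
  classical
  have : M.IsMaximal := hM.2.1
  obtain ⟨g', hle', hn⟩ := exists_local_pair hM hmax hcyc hRD
  obtain rfl : g' = g := (existsUnique_subpairLE hM hmax.1.1 hRD).unique hle' hle
  have hCK : CG[D] ≤ CG[R] := Subgroup.centralizer_le hRD
  have hDK : D ≤ CG[R] := (le_centralizer_of_cyclic hcyc).trans hCK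
  have := Fintype.ofFinite CG[R]
  have hmaxK := maximal_local hM hmax hn hDK hCK
  have hcycK : IsCyclic (D.subgroupOf CG[R]) :=
    (Subgroup.subgroupOfEquivOfLe hDK).isCyclic.2 hcyc
  obtain ⟨z, hzR, hz1⟩ := R.bot_or_exists_ne_one.resolve_left hR1
  rw [blockRank_eq_relIndex hM hmaxK hcycK (mem_pairStab hM hmaxK.1.1.2),
    Subgroup.relIndex_eq_one]
  intro w hw
  obtain ⟨hwN, hwst⟩ := (mem_pairStab hM hmaxK.1.1.2 w).1 hw
  obtain ⟨h1, h2⟩ := stab_of_local_stab hM hmax.1.1.2 hDK hCK hwN hwst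
  have hwC : (w : G) ∈ CG[D] := inertial_free hM hcyc hmax hT _ ((hT _).2 ⟨h1, h2⟩) z (hRD hzR)
    hz1 (by rw [← Subgroup.mem_centralizer_iff.1 w.2 z hzR, mul_inv_cancel_right])
  rw [Subgroup.mem_centralizer_iff]
  intro u hu
  exact Subtype.ext (Subgroup.mem_centralizer_iff.1 hwC (u : G) hu)

/-- The coordinates. -/
theorem exists_coords (hD1 : D ≠ ⊥) :
    ∃ (Q : Subgroup G) (θ' : Cfsg.IrrCharacter CG[Q]) (ex : D → G → ℂ)
      (β : Cfsg.IrrCharacter G → Cfsg.IrrCharacter D → ℤ),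
      Q ≤ D ∧ Nat.card Q = p ∧ (∀ x : D, Below p M D c (x : G) (ex x)) ∧
      (∀ t ∈ T, ∀ a : G, Cfsg.extendByZero CG[Q] (θ' : CG[Q] → ℂ) (t * a * t⁻¹) =
        Cfsg.extendByZero CG[Q] (θ' : CG[Q] → ℂ) a) ∧
      (∀ x : D, (x : G) ≠ 1 → (Nat.card D : ℂ) / (Nat.card CG[Subgroup.zpowers (x : G)] : ℂ) *
          (∑ y ∈ regC p (x : G),
            sect (Cfsg.extendByZero CG[Q] (θ' : CG[Q] → ℂ)) (x : G) (ex x) y *
              conj (sect (Cfsg.extendByZero CG[Q] (θ' : CG[Q] → ℂ)) (x : G) (ex x) y)) = 1) ∧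
      (∀ χ (η : Cfsg.IrrCharacter D), (∀ x : D, (η : D → ℂ) x = 1) → β χ η = 0) ∧
      (∀ χ : Cfsg.IrrCharacter G, ∀ x : D, (x : G) ≠ 1 → ∀ y ∈ regC p (x : G),
        sect (χ : G → ℂ) (x : G) (ex x) y = ev (β χ) x *
          sect (Cfsg.extendByZero CG[Q] (θ' : CG[Q] → ℂ)) (x : G) (ex x) y) ∧
      (∀ χ : Cfsg.IrrCharacter G, ∀ t ∈ T, ∀ x x' : D, (x : G) ≠ 1 →
        (x' : G) = t * (x : G) * t⁻¹ → ev (β χ) x' = ev (β χ) x) := by
  classical
  have : M.IsMaximal := hM.2.1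
  obtain ⟨Q, hQD, hQcard, hord, z, hzQ, hz1, -⟩ := exists_omega (p := p) hmax.1.1.1 hcyc hD1
  have hQ1 : Q ≠ ⊥ := fun h => hz1 (by rwa [h, Subgroup.mem_bot] at hzQ)
  have hQle : ∀ x : D, (x : G) ≠ 1 → Q ≤ Subgroup.zpowers (x : G) := fun x hx =>
    omega_le_zpowers hM.1 hmax.1.1.1 hQcard hord x.2 hx
  obtain ⟨f, hle, hn⟩ := exists_local_pair hM hmax hcyc hQD
  letI := Fintype.ofFinite CG[Q]
  obtain ⟨θ', hθ', hinv, Θ, hΘ⟩ := exists_invariant_base hM hmax hcyc hT hn hQ1 hQD hQle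
  choose bx hbx using fun x : D =>
    (existsUnique_subpairLE hM hmax.1.1 (Subgroup.zpowers_le.2 x.2)).exists
  let ex : D → G → ℂ := fun x => sbc CG[Subgroup.zpowers (x : G)] (bx x)
  have hex : ∀ x : D, Below p M D c (x : G) (ex x) := fun x => ⟨bx x, hbx x, rfl⟩
  let one : Cfsg.IrrCharacter D :=
    ⟨fun x => (((1 : D →* ℂˣ) x : ℂˣ) : ℂ), Char.isIrrCharacter_hom 1⟩
  have hone : ∀ x : D, (one : D → ℂ) x = 1 := fun x => by simp [one]
  let r : Cfsg.IrrCharacter G → Cfsg.IrrCharacter D → ℤ := fun χ η =>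
    (Blocks.resMult χ ((Θ η : f) : Cfsg.IrrCharacter CG[Q]) : ℤ)
  let β : Cfsg.IrrCharacter G → Cfsg.IrrCharacter D → ℤ := fun χ η => r χ η - r χ one
  have hsect : ∀ χ : Cfsg.IrrCharacter G, ∀ x : D, (x : G) ≠ 1 → ∀ y ∈ regC p (x : G),
      sect (χ : G → ℂ) (x : G) (ex x) y = ev (β χ) x *
        sect (Cfsg.extendByZero CG[Q] (θ' : CG[Q] → ℂ)) (x : G) (ex x) y := by
    intro χ x hx y hy
    obtain ⟨-, hout, hin⟩ := hΘ x hx (ex x) (hex x)
    have hxK : (x : G) ∈ CG[Q] :=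
      Subgroup.centralizer_le hQD (le_centralizer_of_cyclic hcyc x.2)
    have hyK : y ∈ CG[Q] :=
      Subgroup.centralizer_le (hQle x hx) (mem_zpowers_centralizer_of_regC hy).1
    have hCR : CG[Subgroup.zpowers (x : G)] ≤ CG[Q] := Subgroup.centralizer_le (hQle x hx)
    have e1 : sect (χ : G → ℂ) (x : G) (ex x) y = ∑ ψ : Cfsg.IrrCharacter CG[Q],
        (Blocks.resMult χ ψ : ℂ) *
          sect (Cfsg.extendByZero CG[Q] (ψ : CG[Q] → ℂ)) (x : G) (ex x) y := by
      rw [← sect_sum, sect_extend hxK hCR _ hyK, sect_extend hxK hCR _ hyK]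
      congr 1
      funext k
      rw [Blocks.res_eq_sum_resMult χ k]
      exact Finset.sum_congr rfl fun ψ _ => by rw [Char.extendByZero_coe]
    have e2 : ∑ η : Cfsg.IrrCharacter D, (η : D → ℂ) x = 0 := by
      have h := Char.regular_eq_sum x
      rw [if_neg fun h => hx (by rw [h]; rfl)] at h
      rw [← h]
      exact Finset.sum_congr rfl fun η _ => by
        rw [(irr_mul_of_comm (comm_of_cyclic hcyc) η).1, one_mul]
    have e3 : ev (β χ) x = ∑ η : Cfsg.IrrCharacter D, (r χ η : ℂ) * (η : D → ℂ) x := by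
      rw [ev, finsum_eq_sum_of_fintype]
      simp only [β, Int.cast_sub, sub_mul, Finset.sum_sub_distrib]
      rw [← Finset.mul_sum, e2, mul_zero, sub_zero]
    rw [e1, e3, Finset.sum_mul, ← Finset.sum_subset
        (Finset.subset_univ (Finset.univ.filter fun ψ => ψ ∈ f)) fun ψ _ hψ => by
          rw [hout ψ (fun h => hψ (Finset.mem_filter.2 ⟨Finset.mem_univ _, h⟩)) y hy, mul_zero],
      Finset.sum_subtype (p := fun ψ => ψ ∈ f) _ (by simp)]
    refine (Fintype.sum_equiv Θ _ _ fun η => ?_).symm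
    rw [hin η y hy]
    simp only [r]
    push_cast
    ring
  refine ⟨Q, θ', ex, β, hQD, hQcard, hex, hinv, fun x hx => (hΘ x hx _ (hex x)).1,
    fun χ η hη => ?_, hsect, fun χ t ht x x' hx hxx' => ?_⟩
  · have : η = one := Subtype.ext (funext fun w => by rw [hη w, hone w])
    simp [β, this]
  · have hfix := (conjPair_eq_iff hM hmax.1.1.2 t).2 ((hT t).1 ht)
    have hbel := below_conj_of_fix hM hfix (hex x)
    rw [← hxx'] at hbel
    have hexx : ex x' = conjF t (ex x) := (hex x').unique hM hmax hbel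
    obtain ⟨hN, -, -⟩ := hΘ x hx (ex x) (hex x)
    obtain ⟨y, hy, hne⟩ : ∃ y ∈ regC p (x : G),
        sect (Cfsg.extendByZero CG[Q] (θ' : CG[Q] → ℂ)) (x : G) (ex x) y ≠ 0 := by
      by_contra! hcon
      rw [Finset.sum_eq_zero fun w hw => by rw [hcon w hw, zero_mul], mul_zero] at hN
      exact zero_ne_one hN
    have hy' : t * y * t⁻¹ ∈ regC p (x' : G) := by
      rw [hxx']; exact regC_conj hy
    have hx'1 : (x' : G) ≠ 1 := fun h => hx (by
      rw [hxx'] at h
      simpa using h)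
    have h1 := hsect χ x' hx'1 _ hy'
    rw [hexx, hxx', sect_conjF (Char.isClassFunction_of_isIrr χ.2),
      sect_conj_fun (hinv t ht), hsect χ x hx y hy] at h1
    exact (mul_right_cancel₀ hne h1).symm

end Cfsg.Agent.BlockChar.Cyclic
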