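import Cfsg.Agent.BlockChar.Cyclic.Main

/-!
# Blocks induced inside a subgroup
-/

set_option autoImplicit false

namespace Cfsg.Agent.BlockChar.Cyclic

open Cfsg.Agent Cfsg.Agent.Blocks Cfsg.Agent.BrauerPairs Cfsg.Agent.BlockChar

universe u

variable {G : Type u} [Group G] [Finite G] {p : ℕ} {M : Ideal Cfsg.AlgInt}

local notation "CG[" Q "]" => Subgroup.centralizer (SetLike.coe Q)

/-- Induction inside `K` seen in the group `K`. -/
theorem isInducedBlock_resBlock {K P : Subgroup G} (hPK : P ≤ K) (hCK : CG[P] ≤ K)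
    {c : Set (Cfsg.IrrCharacter CG[P])} {f : Set (Cfsg.IrrCharacter K)}
    (h : Cfsg.IsInducedBlockIn M K CG[P] c f) :
    Cfsg.IsInducedBlock M CG[P.subgroupOf K] (resBlock hPK hCK c) f := by
  refine ⟨isPBlock_resBlock hPK hCK h.1, h.2.1, fun ξ hξ χ hχ k => ?_⟩
  have h1 := h.2.2 _ hξ χ hχ k
  convert h1 using 2
  congr 1
  rw [Cfsg.inducedCentralChar, Cfsg.inducedCentralCharIn]
  refine finsum_mem_eq_of_bijOn (centIso hPK hCK) ⟨fun a ha => ?_,
    (centIso hPK hCK).injective.injOn, fun b hb => ?_⟩ fun a _ => ?_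
  · obtain ⟨x, hx⟩ := isConj_iff.1 (show IsConj k (a : K) from ha)
    refine ⟨x⁻¹, ?_⟩
    show ((x⁻¹ : K) : G) * ((a : K) : G) * ((x⁻¹ : K) : G)⁻¹ = (k : G)
    rw [← hx]
    simp [mul_assoc]
  · obtain ⟨x, hx⟩ := hb
    refine ⟨(centIso hPK hCK).symm b, ?_, MulEquiv.apply_symm_apply _ b⟩
    show IsConj k (((centIso hPK hCK).symm b : _) : K)
    refine isConj_iff.2 ⟨x⁻¹, Subtype.ext ?_⟩
    show ((x⁻¹ : K) : G) * (k : G) * ((x⁻¹ : K) : G)⁻¹ = (b : G)
    rw [← hx]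
    simp [mul_assoc]
  · rw [compIrr_apply, compIrr_apply, MulEquiv.symm_apply_apply, map_one]

omit [Finite G] in
/-- Subgroups of a cyclic subgroup are normalized by its normalizer. -/
theorem mem_normalizer_of_le_cyclic [Finite G] {P Q : Subgroup G} (hcyc : IsCyclic P) (hQP : Q ≤ P)
    {g : G} (hg : g ∈ Subgroup.normalizer (P : Set G)) : g ∈ Subgroup.normalizer (Q : Set G) := by
  refine mem_normalizer_of_conj_le fun u hu => ?_
  obtain ⟨a, ha⟩ := hcyc.exists_generator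
  obtain ⟨r, hr⟩ := Subgroup.mem_zpowers_iff.1
    (ha ⟨_, (Subgroup.mem_normalizer_iff''.1 hg (a : G)).1 a.2⟩)
  obtain ⟨i, hi⟩ := Subgroup.mem_zpowers_iff.1 (ha ⟨u, hQP hu⟩)
  have hr' : (a : G) ^ r = g⁻¹ * a * g := by simpa using congrArg Subtype.val hr
  have hi' : (a : G) ^ i = u := by simpa using congrArg Subtype.val hi
  have h : g⁻¹ * u * g = u ^ r := by
    have h' := conj_zpow (i := i) (a := g⁻¹) (b := (a : G))
    rw [inv_inv] at h'
    rw [← hi', ← h', ← hr', ← zpow_mul, ← zpow_mul, mul_comm]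
  rw [h]
  exact zpow_mem hu r

end Cfsg.Agent.BlockChar.Cyclic
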