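import Cfsg.Agent.BlockChar.Cyclic.OrdTwist
import Cfsg.Agent.BlockChar.Cyclic.Transport

/-!
# The sections of the block below the subgroup of order `p`

In a block with cyclic defect group `D` every subsection at a non-trivial element of `D` is a
subsection of the nilpotent block of the centralizer of the subgroup `Q` of order `p`.
-/

set_option autoImplicit false

namespace Cfsg.Agent.BlockChar.Cyclic

open Cfsg.Agent Cfsg.Agent.Blocks Cfsg.Agent.BrauerPairs Cfsg.Agent.BlockChar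
open Cfsg.Agent.Blocks.Star
open scoped ComplexConjugate

universe u

variable {G : Type u} [Group G] [Fintype G] {p : ℕ} {M : Ideal Cfsg.AlgInt} [Fact p.Prime]

local notation "CG[" Q "]" => Subgroup.centralizer (SetLike.coe Q)
local notation "sbc" => Cfsg.subgroupBlockCoeff

omit [Fintype G] [Fact p.Prime] in
/-- The subgroup of order `p` lies in every non-trivial cyclic subgroup of `D`. -/
theorem omega_le_zpowers [Finite G] (hp : p.Prime) {D Q : Subgroup G} (hD : IsPGroup p D)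
    (hQcard : Nat.card Q = p) (hord : ∀ u ∈ D, u ^ p = 1 → u ∈ Q) {x : G} (hx : x ∈ D)
    (hx1 : x ≠ 1) : Q ≤ Subgroup.zpowers x := by
  haveI := Fact.mk hp
  obtain ⟨m, hm⟩ := IsPGroup.iff_orderOf.1 hD ⟨x, hx⟩
  rw [Subgroup.orderOf_mk] at hm
  obtain ⟨m', rfl⟩ : ∃ m', m = m' + 1 := ⟨m - 1, by
    rcases Nat.eq_zero_or_pos m with h | h
    · rw [h, pow_zero, orderOf_eq_one_iff] at hm; exact absurd hm hx1
    · omega⟩
  obtain ⟨z, hzdef⟩ : ∃ z, z = x ^ p ^ m' := ⟨_, rfl⟩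
  have hz : orderOf z = p := by
    rw [hzdef, orderOf_pow' _ (pow_ne_zero _ hp.ne_zero), hm, pow_succ, Nat.gcd_mul_right_left,
      Nat.mul_div_cancel_left _ (pow_pos hp.pos _)]
  have hzQ : z ∈ Q := hord z (hzdef ▸ pow_mem hx _) (by rw [← hz]; exact pow_orderOf_eq_one z)
  rw [← Subgroup.eq_of_le_of_card_ge (Subgroup.zpowers_le.2 hzQ)
    (by rw [Nat.card_zpowers, hz, hQcard])]
  exact Subgroup.zpowers_le.2 (hzdef ▸ pow_mem (Subgroup.mem_zpowers x) _)

omit [Fact p.Prime] in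
/-- A section of a function supported on a subgroup containing the centralizer. -/
theorem sect_extend {K : Subgroup G} [Fintype K] {x : G} (hxK : x ∈ K)
    {b : Set (Cfsg.IrrCharacter CG[Subgroup.zpowers x])} (hC : CG[Subgroup.zpowers x] ≤ K)
    (F : G → ℂ) {y : G} (hy : y ∈ K) :
    sect F x (sbc CG[Subgroup.zpowers x] b) y =
      sect (fun k : K => F k) ⟨x, hxK⟩ (fun k : K => sbc CG[Subgroup.zpowers x] b (k : G))
        ⟨y, hy⟩ := by
  classical
  rw [sect, sect, ← Finset.sum_subset (Finset.subset_univ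
    (Finset.univ.filter fun g => g ∈ K)) fun g _ hg => by
      rw [sbc_of_notMem b fun h => hg (Finset.mem_filter.2 ⟨Finset.mem_univ _, hC h⟩), zero_mul],
    Finset.sum_subtype (p := fun g => g ∈ K) _ (by simp)]
  rfl

variable (hM : Cfsg.IsPModular p M) {B : Set (Cfsg.IrrCharacter G)} {D Q : Subgroup G}
  {c : Set (Cfsg.IrrCharacter CG[D])} {f : Set (Cfsg.IrrCharacter CG[Q])} {T : Subgroup G}
  [Fintype CG[Q]]
  (hmax : Cfsg.IsMaximalBrauerPair p M B D c) (hcyc : IsCyclic D)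
  (hT : ∀ g : G, g ∈ T ↔ g ∈ Subgroup.normalizer (D : Set G) ∧
    Cfsg.StabilizesBlock CG[D] c g)
  (hn : Cfsg.IsNormalSubpair p M Q f D c)
include hM hmax hcyc hn

omit [Fact p.Prime] hcyc in
/-- A subsection below `(D, c)` seen inside the centralizer of `Q`. -/
theorem below_local (hDK : D ≤ CG[Q]) (hCK : CG[D] ≤ CG[Q]) {x : G} (hx : x ∈ D)
    (hQx : Q ≤ Subgroup.zpowers x) {b : Set (Cfsg.IrrCharacter CG[Subgroup.zpowers x])}
    (hb : Cfsg.SubpairLE p M (Subgroup.zpowers x) b D c) :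
    Below p M (D.subgroupOf CG[Q]) (resBlock hDK hCK c) (⟨x, hDK hx⟩ : CG[Q])
      (fun k : CG[Q] => sbc CG[Subgroup.zpowers x] b (k : G)) := by
  have hRL : Subgroup.zpowers x ≤ CG[Q] := Subgroup.zpowers_le.2 (hDK hx)
  have hCR : CG[Subgroup.zpowers x] ≤ CG[Q] := Subgroup.centralizer_le hQx
  have hmaxK := maximal_local hM hmax hn hDK hCK
  have hQL : Q ≤ CG[Q] := hn.2.2.1.trans hDK
  have hle : (Subgroup.zpowers x).subgroupOf CG[Q] ≤ D.subgroupOf CG[Q] :=
    Subgroup.comap_mono (Subgroup.zpowers_le.2 hx)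
  obtain ⟨r, hr⟩ := exists_pair hM hmaxK.1.1 hle
  have h1 := subpairLE_up hDK hCK hM hQL le_rfl hRL hQx hCR hr
  rw [upBlock_resBlock] at h1
  have hrb : upBlock hRL hCR r = b :=
    (existsUnique_subpairLE hM hmax.1.1 (Subgroup.zpowers_le.2 hx)).unique h1 hb
  refine below_of_pair (a := ⟨(Subgroup.zpowers x).subgroupOf CG[Q], r⟩) ?_ hr fun k => ?_
  · ext k
    simp only [Subgroup.mem_subgroupOf, Subgroup.mem_zpowers_iff]
    exact ⟨fun ⟨i, hi⟩ => ⟨i, Subtype.ext (by simpa using hi)⟩,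
      fun ⟨i, hi⟩ => ⟨i, by simpa using congrArg Subtype.val hi⟩⟩
  · show sbc _ r k = sbc CG[Subgroup.zpowers x] b (k : G)
    rw [← hrb, ← sbc_resBlock hRL hCR, resBlock_upBlock]

include hT in
/-- The twists in the local block, seen in the group. -/
theorem exists_local_twist (hDK : D ≤ CG[Q]) (hCK : CG[D] ≤ CG[Q]) (hQ1 : Q ≠ ⊥) :
    ∃ θ₀ : Cfsg.IrrCharacter CG[Q], θ₀ ∈ f ∧ ∃ Θ : Cfsg.IrrCharacter D ≃ f,
      ∀ (x : D), (x : G) ≠ 1 → Q ≤ Subgroup.zpowers (x : G) →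
        ∀ e : G → ℂ, Below p M D c (x : G) e →
        ((Nat.card D : ℂ) / (Nat.card CG[Subgroup.zpowers (x : G)] : ℂ) *
          (∑ y ∈ regC p (x : G),
            sect (Cfsg.extendByZero CG[Q] (θ₀ : CG[Q] → ℂ)) (x : G) e y *
              conj (sect (Cfsg.extendByZero CG[Q] (θ₀ : CG[Q] → ℂ)) (x : G) e y)) = 1) ∧
        (∀ ψ : Cfsg.IrrCharacter CG[Q], ψ ∉ f → ∀ y ∈ regC p (x : G),
          sect (Cfsg.extendByZero CG[Q] (ψ : CG[Q] → ℂ)) (x : G) e y = 0) ∧
        ∀ (η : Cfsg.IrrCharacter D), ∀ y ∈ regC p (x : G),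
          sect (Cfsg.extendByZero CG[Q] ((Θ η : Cfsg.IrrCharacter CG[Q]) : CG[Q] → ℂ)) (x : G) e y =
            (η : D → ℂ) x * sect (Cfsg.extendByZero CG[Q] (θ₀ : CG[Q] → ℂ)) (x : G) e y := by
  classical
  have hmaxK := maximal_local hM hmax hn hDK hCK
  have hfP : Cfsg.IsPBlock M f := hn.1.2
  have hcycK : IsCyclic (D.subgroupOf CG[Q]) :=
    (Subgroup.subgroupOfEquivOfLe hDK).isCyclic.2 hcyc
  have habK := comm_of_cyclic hcycK
  obtain ⟨z, hzQ, hz1⟩ := Q.bot_or_exists_ne_one.resolve_left hQ1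
  have hfree := inertial_free hM hcyc hmax hT
  have hnil : Cfsg.IsNilpotentBlock p M f := by
    refine (nilpotent_iff_of_abelian hM hmaxK habK).2 fun g hgN hgst => ?_
    obtain ⟨h1, h2⟩ := stab_of_local_stab hM hmax.1.1.2 hDK hCK hgN hgst
    have hgC : (g : G) ∈ CG[D] := hfree _ ((hT _).2 ⟨h1, h2⟩) z (hn.2.2.1 hzQ) hz1
      (by rw [← Subgroup.mem_centralizer_iff.1 g.2 z hzQ, mul_inv_cancel_right])
    rw [Subgroup.mem_centralizer_iff]
    intro u hu
    exact Subtype.ext (Subgroup.mem_centralizer_iff.1 hgC (u : G) hu)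
  obtain ⟨θ₀, hθ₀, h0⟩ := BlockThms.exists_height_zero hM hfP
  obtain ⟨Θ, hΘ⟩ := exists_twist_sect hM hmaxK hnil habK hθ₀ h0
  let φ : D ≃* D.subgroupOf CG[Q] := (Subgroup.subgroupOfEquivOfLe hDK).symm
  refine ⟨θ₀, hθ₀, (compIrrEquiv φ).symm.trans Θ, fun x hx1 hQx e he => ?_⟩
  obtain ⟨b, hb, rfl⟩ := he
  have hCR : CG[Subgroup.zpowers (x : G)] ≤ CG[Q] := Subgroup.centralizer_le hQx
  have hbelow : Below p M (D.subgroupOf CG[Q]) (resBlock hDK hCK c) ((φ x : _) : CG[Q])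
      (fun k : CG[Q] => sbc CG[Subgroup.zpowers (x : G)] b (k : G)) :=
    below_local hM hmax hn hDK hCK x.2 hQx hb
  have hregK : ∀ y ∈ regC p (x : G), ∃ hy : y ∈ CG[Q],
      (⟨y, hy⟩ : CG[Q]) ∈ regC p ((φ x : _) : CG[Q]) := by
    intro y hy
    simp only [regC, Finset.mem_filter, Finset.mem_univ, true_and] at hy ⊢
    refine ⟨hCR (mem_zpowers_centralizer.2 hy.2), by rw [Subgroup.orderOf_mk]; exact hy.1,
      Subtype.ext hy.2⟩
  have hloc : ∀ (ψ : Cfsg.IrrCharacter CG[Q]) (y : G) (hy : y ∈ CG[Q]),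
      sect (Cfsg.extendByZero CG[Q] (ψ : CG[Q] → ℂ)) (x : G) (sbc CG[Subgroup.zpowers (x : G)] b)
        y = sect (ψ : CG[Q] → ℂ) ((φ x : _) : CG[Q])
          (fun k : CG[Q] => sbc CG[Subgroup.zpowers (x : G)] b (k : G)) ⟨y, hy⟩ := by
    intro ψ y hy
    rw [sect_extend (hDK x.2) hCR _ hy]
    congr 1
    exact funext fun k => Char.extendByZero_of_mem _ _ k.2
  refine ⟨?_, fun ψ hψ y hy => ?_, fun η y hy => ?_⟩
  · have h := tval_eq_one hM hmaxK hnil habK hθ₀ h0 hbelow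
    rw [tval, pWeight, sectNorm] at h
    have hxK : (x : G) ∈ CG[Q] := hDK x.2
    have hcard1 : Nat.card ((D.subgroupOf CG[Q]) ⊓ Subgroup.centralizer
        ((Subgroup.zpowers ((φ x : _) : CG[Q]) : Subgroup CG[Q]) : Set CG[Q]) :
          Subgroup CG[Q]) = Nat.card D := by
      rw [inf_eq_left.2 fun a ha => mem_zpowers_centralizer.2 (habK _ (φ x).2 a ha),
        Nat.card_congr (Subgroup.subgroupOfEquivOfLe hDK).toEquiv]
    have hcard2 : Nat.card (Subgroup.centralizer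
        ((Subgroup.zpowers ((φ x : _) : CG[Q]) : Subgroup CG[Q]) : Set CG[Q])) =
          Nat.card CG[Subgroup.zpowers (x : G)] := by
      refine Nat.card_congr
        { toFun := fun k => ⟨((k : CG[Q]) : G), mem_zpowers_centralizer.2
            (congrArg Subtype.val (mem_zpowers_centralizer.1 k.2))⟩
          invFun := fun k => ⟨⟨(k : G), hCR k.2⟩, mem_zpowers_centralizer.2
            (Subtype.ext (mem_zpowers_centralizer.1 k.2))⟩
          left_inv := fun k => rfl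
          right_inv := fun k => rfl }
    rw [hcard1, hcard2] at h
    rw [← h]
    congr 1
    refine Finset.sum_bij' (fun y hy => (⟨y, (hregK y hy).1⟩ : CG[Q]))
      (fun k _ => (k : G)) (fun y hy => (hregK y hy).2) (fun k hk => ?_) (fun y _ => rfl)
      (fun k _ => rfl) fun y hy => ?_
    · simp only [regC, Finset.mem_filter, Finset.mem_univ, true_and] at hk ⊢
      exact ⟨by rw [Subgroup.orderOf_coe]; exact hk.1, congrArg Subtype.val hk.2⟩
    · rw [hloc θ₀ y (hregK y hy).1]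
  · obtain ⟨hyK, hy'⟩ := hregK y hy
    rw [hloc ψ y hyK]
    by_contra hne
    obtain ⟨r, hr, hre⟩ := hbelow
    rw [← hre] at hne
    have hpairf := (isBrauerPairOf_iff_of_subpairLE hM hr f).1 hmaxK.1
    obtain ⟨k, hk⟩ := IsPGroup.iff_orderOf.1 hmaxK.1.1.1 (φ x)
    have hpair := pair_of_sect_ne_zero hM (isPBlock_blockOf ψ) (mem_blockOf_self hM ψ)
      ⟨k, by rw [Subgroup.orderOf_coe, hk]⟩ hpairf.1.2 hy' hne
    exact hψ ((block_unique hM hpairf hpair).symm ▸ mem_blockOf_self hM ψ)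
  · obtain ⟨hyK, hy'⟩ := hregK y hy
    rw [hloc _ y hyK, hloc θ₀ y hyK]
    show sect ((Θ ((compIrrEquiv φ).symm η) : Cfsg.IrrCharacter CG[Q]) : CG[Q] → ℂ) _ _ _ = _
    rw [hΘ _ (φ x) _ hbelow _ hy']
    congr 1

end Cfsg.Agent.BlockChar.Cyclic
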