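import Cfsg.Agent.BlockChar.Cyclic.OrdStructure

/-!
# Dade's theorem on the ordinary characters of a block with cyclic defect group
-/

set_option autoImplicit false

namespace Cfsg.Agent.BlockChar.Cyclic

open Cfsg.Agent Cfsg.Agent.Blocks Cfsg.Agent.BrauerPairs Cfsg.Agent.BlockChar
open Cfsg.Agent.Blocks.Star
open scoped ComplexConjugate

universe u

variable {G : Type u} [Group G] [Fintype G] {p : ℕ} {M : Ideal Cfsg.AlgInt} [Fact p.Prime]

local notation "CG[" Q "]" => Subgroup.centralizer (SetLike.coe Q)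

/-- `(X, Y, v, ε)` describes the coordinates of the characters of `B`. -/
structure IsTreeData (p : ℕ) (B : Set (Cfsg.IrrCharacter G)) (D : Subgroup G) (e : ℕ)
    (X Y : Set (Cfsg.IrrCharacter G)) (v : Cfsg.IrrCharacter G → ℤ) (ε : ℤ)
    (β : Cfsg.IrrCharacter G → Cfsg.IrrCharacter D → ℤ) (gen : Set G) : Prop where
  union : B = X ∪ Y
  disjoint : Disjoint X Y
  card_X : Nat.card X = e
  card_Y : e * Nat.card Y = Nat.card D - 1
  sign_X : ∀ χ ∈ X, v χ = 1 ∨ v χ = -1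
  sign : ε = 1 ∨ ε = -1
  coeff_X : ∀ χ ∈ X, ∀ η : Cfsg.IrrCharacter D, (¬ ∀ x : D, (η : D → ℂ) x = 1) → β χ η = v χ
  coeff_Y : ∀ ψ ∈ Y, ∀ η : Cfsg.IrrCharacter D, β ψ η = 0 ∨ β ψ η = ε
  orbit : ∀ η : Cfsg.IrrCharacter D, (¬ ∀ x : D, (η : D → ℂ) x = 1) → ∃! ψ, ψ ∈ Y ∧ β ψ η = ε
  ev_X : ∀ χ ∈ X, ∀ x : D, (x : G) ≠ 1 → ev (β χ) x = -(v χ : ℂ)
  ev_sum_Y : ∀ x : D, (x : G) ≠ 1 → ∑ᶠ ψ ∈ Y, ev (β ψ) x = -(ε : ℂ)
  card_orbit : ∀ ψ ∈ Y, Nat.card {η : Cfsg.IrrCharacter D // β ψ η ≠ 0} = e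
  orbit_eq : ∀ ψ ∈ Y, ∀ η η' : Cfsg.IrrCharacter D, β ψ η ≠ 0 → β ψ η' ≠ 0 →
    ∀ (y : G) (hyN : ∀ j : ℕ, y ^ j ∈ Subgroup.normalizer (D : Set G)),
      y ∈ gen → ∃ j, j < e ∧ η' = twistIrr η (hyN j)
  relation : ∀ ψ ∈ Y, ∀ g : G, ¬ p ∣ orderOf g →
    (ε : ℂ) * (ψ : G → ℂ) g + ∑ᶠ χ ∈ X, (v χ : ℂ) * (χ : G → ℂ) g = 0

variable {B : Set (Cfsg.IrrCharacter G)} {D : Subgroup G} {c : Set (Cfsg.IrrCharacter CG[D])}
  {T : Subgroup G}
variable (hM : Cfsg.IsPModular p M) (hmax : Cfsg.IsMaximalBrauerPair p M B D c) (hcyc : IsCyclic D)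
  (hT : ∀ g : G, g ∈ T ↔ g ∈ Subgroup.normalizer (D : Set G) ∧
    Cfsg.StabilizesBlock CG[D] c g)
variable {Q : Subgroup G} {θ' : Cfsg.IrrCharacter CG[Q]} {ex : D → G → ℂ}
  {β : Cfsg.IrrCharacter G → Cfsg.IrrCharacter D → ℤ}
  (hex : ∀ x : D, Below p M D c (x : G) (ex x))
  (hN : ∀ x : D, (x : G) ≠ 1 → (Nat.card D : ℂ) / (Nat.card CG[Subgroup.zpowers (x : G)] : ℂ) *
    (∑ y ∈ regC p (x : G),
      sect (Cfsg.extendByZero CG[Q] (θ' : CG[Q] → ℂ)) (x : G) (ex x) y *
        conj (sect (Cfsg.extendByZero CG[Q] (θ' : CG[Q] → ℂ)) (x : G) (ex x) y)) = 1)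
  (hsect : ∀ χ : Cfsg.IrrCharacter G, ∀ x : D, (x : G) ≠ 1 → ∀ y ∈ regC p (x : G),
    sect (χ : G → ℂ) (x : G) (ex x) y = ev (β χ) x *
      sect (Cfsg.extendByZero CG[Q] (θ' : CG[Q] → ℂ)) (x : G) (ex x) y)
  (hβ : ∀ χ (η : Cfsg.IrrCharacter D), (∀ x : D, (η : D → ℂ) x = 1) → β χ η = 0)
  (hinv : ∀ χ : Cfsg.IrrCharacter G, ∀ t ∈ T, ∀ x x' : D, (x : G) ≠ 1 →
    (x' : G) = t * (x : G) * t⁻¹ → ev (β χ) x' = ev (β χ) x)

include hM hmax hcyc hT hex hN hsect

open scoped Classical in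
/-- Some character of every row is non-zero. -/
theorem exists_ev_ne_zero (hD1 : D ≠ ⊥) {χ : Cfsg.IrrCharacter G} (hχ : χ ∈ B) :
    ∃ x : D, (x : G) ≠ 1 ∧ ev (β χ) x ≠ 0 := by
  have : M.IsMaximal := hM.2.1
  have hB := hmax.1.2.1
  by_contra! hall
  have he0 : ((CG[D]).relIndex T : ℂ) ≠ 0 := by
    rw [Nat.cast_ne_zero, Subgroup.relIndex, Subgroup.index_eq_card]
    exact Nat.card_pos.ne'
  have hq : ∀ ψ : Cfsg.IrrCharacter G,
      regM p B χ ψ = (Nat.card D : ℂ) * (if χ = ψ then 1 else 0) := fun ψ => by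
    have h := regM_eq_coords hM hmax hcyc hT hex hN hsect hD1 hχ ψ
    rw [Finset.sum_eq_zero fun x _ => ?_, sub_zero, mul_assoc] at h
    · exact mul_left_cancel₀ he0 h
    split_ifs with hx
    · rfl
    · rw [hall x hx, zero_mul]
  obtain ⟨ψ₀, hψ₀, h0⟩ := BlockThms.exists_height_zero hM hB
  have hd := BlockChar.card_defectGroup hM hB (isDefectGroup_of_maximal hM hmax)
  by_cases hne : χ = ψ₀
  · subst hne
    obtain ⟨ψ, -, hu⟩ := exists_unit_entry hM hB hχ h0
    refine hu ?_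
    rw [hq ψ]
    split_ifs
    · rw [mul_one]
      refine (memLocalIdeal_natCast_iff hM _).2 ?_
      have h1 : 1 < Nat.card D := (Subgroup.one_lt_card_iff_ne_bot D).2 hD1
      rw [hd] at h1 ⊢
      exact dvd_pow_self p (fun h => by rw [h, pow_zero] at h1; omega)
    · rw [mul_zero]; exact memLocalIdeal_zero hM
  · refine not_memLocalIdeal_omega_regConj hM hB hχ hψ₀ h0 ?_
    have h := regM_eq hM.1 hχ ψ₀
    rw [hq ψ₀, if_neg hne, mul_zero, mul_zero, eq_comm, mul_eq_zero, Nat.cast_eq_zero] at h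
    rw [h.resolve_left (redDeg_mul hM.1 hχ).2.2.ne']
    exact memLocalIdeal_zero hM

open scoped Classical in
/-- The number of characters, before the splitting. -/
theorem card_mul_relIndex (hD1 : D ≠ ⊥) :
    (CG[D]).relIndex T * Nat.card B + 1 =
      (CG[D]).relIndex T * (CG[D]).relIndex T + Nat.card D := by
  have : M.IsMaximal := hM.2.1
  have hB := hmax.1.2.1
  obtain ⟨e, he⟩ : ∃ e, e = (CG[D]).relIndex T := ⟨_, rfl⟩
  obtain ⟨q, hq⟩ : ∃ q : ℂ, q = (Nat.card D : ℂ) := ⟨_, rfl⟩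
  have hq0 : q ≠ 0 := hq ▸ Nat.cast_ne_zero.2 Nat.card_pos.ne'
  have hG : (Nat.card G : ℂ) ≠ 0 := Nat.cast_ne_zero.2 Nat.card_pos.ne'
  have hl : Cfsg.blockRank p B = e := he ▸ blockRank_eq_relIndex hM hmax hcyc hT
  have htr : ∑ χ ∈ (Set.toFinite B).toFinset, regM p B χ χ = q * (e : ℂ) := by
    simp only [regM, ← Finset.mul_sum]
    rw [← BlockChar.card_defectGroup hM hB (isDefectGroup_of_maximal hM hmax), ← hq,
      div_mul_eq_mul_div, div_eq_iff hG, mul_assoc, mul_comm (e : ℂ)]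
    congr 1
    rw [← hl, card_mul_blockRank hM hB]
    simp only [regSum]
    rw [Finset.sum_comm]
    refine Finset.sum_congr rfl fun g _ => ?_
    by_cases hg : p ∣ orderOf g
    · simp [Cfsg.IsPRegular, hg]
    · rw [if_neg hg, finsum_mem_eq_finite_toFinset_sum _ (Set.toFinite B)]
      exact Finset.sum_congr rfl fun χ _ => if_pos hg
  have hcols : ∑ χ ∈ (Set.toFinite B).toFinset,
      ∑ x : D, (if (x : G) = 1 then 0 else ev (β χ) x * conj (ev (β χ) x)) = (q - 1) * q := by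
    rw [Finset.sum_comm, Finset.sum_congr rfl (g := fun x : D => q - if (x : G) = 1 then q else 0)
      fun x _ => ?_, Finset.sum_sub_distrib]
    · rw [show (fun x : D => if (x : G) = 1 then q else 0) = fun x => if x = 1 then q else 0 from
        funext fun x => if_congr ⟨fun h => Subtype.ext h, fun h => by rw [h]; rfl⟩ rfl rfl,
        Finset.sum_ite_eq', if_pos (Finset.mem_univ _), Finset.sum_const, Finset.card_univ,
        ← Nat.card_eq_fintype_card, nsmul_eq_mul, ← hq]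
      ring
    · by_cases hx : (x : G) = 1
      · simp [hx]
      · simp only [if_neg hx]
        rw [col_norm hM hmax hcyc hT hex hN hsect hx, hq, sub_zero]
  have hsum := Finset.sum_congr rfl fun χ (hχ : χ ∈ (Set.toFinite B).toFinset) =>
    regM_eq_coords hM hmax hcyc hT hex hN hsect hD1 ((Set.Finite.mem_toFinset _).1 hχ) χ
  simp only [if_pos, ← he, ← hq, mul_one] at hsum
  rw [Finset.sum_sub_distrib, hcols, ← Finset.mul_sum, htr, Finset.sum_const, nsmul_eq_mul,
    ← Set.ncard_eq_toFinset_card, ← Nat.card_coe_set_eq] at hsum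
  rw [← he]
  refine Nat.cast_injective (R := ℂ) (mul_left_cancel₀ hq0 ?_)
  push_cast
  rw [← hq]
  linear_combination -hsum

include hβ hinv in
open scoped Classical in
/-- The splitting of the block. -/
theorem exists_tree_data (hD1 : D ≠ ⊥) :
    ∃ X Y v ε y, y ∈ T ∧ (∀ g ∈ T, ∃ j < (CG[D]).relIndex T, (y ^ j)⁻¹ * g ∈ CG[D]) ∧
      IsTreeData p B D ((CG[D]).relIndex T) X Y v ε β {y} := by
  have : M.IsMaximal := hM.2.1
  have hab := comm_of_cyclic hcyc
  have hTN : T ≤ Subgroup.normalizer (D : Set G) := fun g hg => ((hT g).1 hg).1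
  obtain ⟨y, hyT, -, hypow, hygen, -⟩ := exists_generator hM hmax hcyc hD1 hT
  have hyN : ∀ j : ℕ, y ^ j ∈ Subgroup.normalizer (D : Set G) := fun j => hTN (pow_mem hyT j)
  obtain ⟨e, he⟩ : ∃ e, e = (CG[D]).relIndex T := ⟨_, rfl⟩
  rw [← he]
  have hepos : 0 < e := by
    rw [he, Subgroup.relIndex, Subgroup.index_eq_card]; exact Nat.card_pos
  let one : Cfsg.IrrCharacter D :=
    ⟨fun x => (((1 : D →* ℂˣ) x : ℂˣ) : ℂ), Char.isIrrCharacter_hom 1⟩
  have hone : ∀ x : D, (one : D → ℂ) x = 1 := fun x => by simp [one]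
  have hne1 : ∀ η : Cfsg.IrrCharacter D, η ≠ one ↔ ¬ ∀ x : D, (η : D → ℂ) x = 1 := fun η =>
    ⟨fun h h' => h (Subtype.ext (funext fun x => (h' x).trans (hone x).symm)),
      fun h h' => h fun x => h'.symm ▸ hone x⟩
  let N := (Finset.univ : Finset (Cfsg.IrrCharacter D)).erase one
  have hNiff : ∀ η, η ∈ N ↔ ¬ ∀ x : D, (η : D → ℂ) x = 1 := fun η => by simp [N, hne1]
  have hNcard : N.card + 1 = Nat.card D := by
    have h1 := Char.regular_eq_sum (1 : D)
    rw [if_pos rfl] at h1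
    simp only [(irr_mul_of_comm hab _).1, mul_one, Finset.sum_const, Finset.card_univ,
      nsmul_eq_mul, Nat.cast_inj] at h1
    rw [Finset.card_erase_add_one (Finset.mem_univ _), Finset.card_univ, h1]
  have hDcard : 1 < Nat.card D := (Subgroup.one_lt_card_iff_ne_bot D).2 hD1
  -- the Gram matrix
  let R := {χ // χ ∈ B}
  let col : Cfsg.IrrCharacter D → R → ℤ := fun η χ => β χ η
  have hgram : ∀ η ∈ N, ∀ η' ∈ N, ∑ χ : R, col η χ * col η' χ =
      ((Finset.range e).filter fun j => η = twistIrr η' (hyN j)).card + (e : ℤ) := by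
    intro η hη η' hη'
    rw [he, ← gram_eq hM hmax hcyc hT hex hN hsect hβ hinv hD1 hyT hyN hypow hygen
      ((hNiff η).1 hη) ((hNiff η').1 hη')]
    rw [Finset.sum_subtype (p := fun χ => χ ∈ B) _ (by simp)]
  have htw1 : ∀ η : Cfsg.IrrCharacter D, twistIrr η (hyN 0) = η := fun η =>
    Subtype.ext (funext fun x => twistIrr_apply η _ x x (by simp))
  have hcount : ∀ η' ∈ N, ∀ η,
      ((Finset.range e).filter fun j => η = twistIrr η' (hyN j)).card ≤ 1 := by
    intro η' hη' η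
    refine Finset.card_le_one.2 fun a ha b hb => ?_
    simp only [Finset.mem_filter, Finset.mem_range, he] at ha hb
    exact twist_pow_inj hM hmax hcyc hT hyT hyN hypow ((hNiff η').1 hη') ha.1 hb.1
      (ha.2.symm.trans hb.2)
  have hself : ∀ η ∈ N, ∑ χ : R, col η χ * col η χ = 1 + (e : ℤ) := fun η hη => by
    rw [hgram η hη η hη, show ((Finset.range e).filter fun j => η = twistIrr η (hyN j)).card = 1
      from le_antisymm (hcount η hη η) (Finset.card_pos.2 ⟨0,
        Finset.mem_filter.2 ⟨Finset.mem_range.2 hepos, (htw1 η).symm⟩⟩)]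
    rfl
  have hiff : ∀ η ∈ N, ∀ η' ∈ N,
      (col η = col η' ↔ ∃ j ∈ Finset.range e, η = twistIrr η' (hyN j)) := by
    intro η hη η' hη'
    constructor
    · intro h
      by_contra hn
      have h1 := hgram η hη η' hη'
      rw [← h, hself η hη, Finset.filter_eq_empty_iff.2 fun j hj hj' => hn ⟨j, hj, hj'⟩] at h1
      simp at h1
    · rintro ⟨j, hj, hje⟩
      have h1 := hgram η hη η' hη'
      rw [show ((Finset.range e).filter fun j => η = twistIrr η' (hyN j)).card = 1 from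
        le_antisymm (hcount η' hη' η) (Finset.card_pos.2 ⟨j, Finset.mem_filter.2 ⟨hj, hje⟩⟩)] at h1
      have h2 : ∑ χ : R, (col η χ - col η' χ) * (col η χ - col η' χ) = 0 := by
        rw [Finset.sum_congr rfl (g := fun χ =>
          col η χ * col η χ + col η' χ * col η' χ - 2 * (col η χ * col η' χ)) (fun χ _ => by ring),
          Finset.sum_sub_distrib, Finset.sum_add_distrib, hself η hη, hself η' hη', ← Finset.mul_sum,
          h1]
        push_cast; ring
      exact funext fun χ => sub_eq_zero.1 (mul_self_eq_zero.1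
        ((Finset.sum_eq_zero_iff_of_nonneg fun χ _ => mul_self_nonneg (col η χ - col η' χ)).1 h2 χ
          (Finset.mem_univ χ)))
  -- the columns
  let O := {o // o ∈ N.image col}
  have hrep : ∀ o : O, ∃ η ∈ N, col η = o.1 := fun o => Finset.mem_image.1 o.2
  choose rep hrepN hrepc using hrep
  have hgramO : ∀ o o' : O, ∑ χ : R, o.1 χ * o'.1 χ = (if o = o' then 1 else 0) + (e : ℤ) := by
    intro o o'
    rw [← hrepc o, ← hrepc o']
    split_ifs with h
    · subst h; exact hself _ (hrepN o)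
    · rw [hgram _ (hrepN o) _ (hrepN o'), Finset.filter_eq_empty_iff.2 fun j hj hj' => h ?_]
      · simp
      · refine Subtype.ext ?_
        rw [← hrepc o, ← hrepc o']
        exact (hiff _ (hrepN o) _ (hrepN o')).2 ⟨j, hj, hj'⟩
  have hfibre : ∀ η ∈ N, (N.filter fun η' => col η' = col η).card = e := by
    intro η hη
    have heq : N.filter (fun η' => col η' = col η) =
        (Finset.range e).image fun j => twistIrr η (hyN j) := by
      ext η'
      simp only [Finset.mem_filter, Finset.mem_image]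
      constructor
      · rintro ⟨hη', h⟩
        obtain ⟨j, hj, h'⟩ := (hiff η' hη' η hη).1 h
        exact ⟨j, hj, h'.symm⟩
      · rintro ⟨j, hj, rfl⟩
        have hN' : twistIrr η (hyN j) ∈ N := (hNiff _).2 fun h => (hNiff η).1 hη fun z => by
          have hz : (y ^ j)⁻¹ * (z : G) * y ^ j ∈ D := by
            have := (Subgroup.mem_normalizer_iff''.1 (hyN j) (z : G)).1 z.2
            simpa using this
          rw [← h ⟨_, hz⟩, twistIrr_apply η (hyN j) ⟨_, hz⟩ z (by show _ = _; group)]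
        exact ⟨hN', (hiff _ hN' η hη).2 ⟨j, hj, rfl⟩⟩
    rw [heq, Finset.card_image_of_injOn, Finset.card_range]
    intro a ha b hb hab'
    simp only [Finset.coe_range, Set.mem_Iio, he] at ha hb
    exact twist_pow_inj hM hmax hcyc hT hyT hyN hypow ((hNiff η).1 hη) ha hb hab'
  have hfib : N.card = e * Fintype.card O := by
    rw [Finset.card_eq_sum_card_image col, Fintype.card_coe, mul_comm, ← smul_eq_mul,
      ← Finset.sum_const]
    refine Finset.sum_congr rfl fun o ho => ?_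
    obtain ⟨η, hη, rfl⟩ := Finset.mem_image.1 ho
    exact hfibre η hη
  have hcardR : Fintype.card R = e + Fintype.card O := by
    have h := card_mul_relIndex hM hmax hcyc hT hex hN hsect (B := B) hD1
    rw [← he, ← hNcard, hfib] at h
    have hR : Nat.card B = Fintype.card R := Nat.card_eq_fintype_card (α := R)
    rw [hR] at h
    refine mul_left_cancel₀ hepos.ne' ?_
    rw [mul_add]
    omega
  have : Nonempty O := by
    obtain ⟨η, hη⟩ := Finset.card_pos.1 (show 0 < N.card by omega)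
    exact ⟨⟨col η, Finset.mem_image_of_mem _ hη⟩⟩
  have hrow : ∀ χ : R, ∃ o : O, o.1 χ ≠ 0 := by
    intro χ
    obtain ⟨x, hx, hne⟩ := exists_ev_ne_zero hM hmax hcyc hT hex hN hsect hD1 χ.2
    by_contra! hall
    refine hne ?_
    rw [ev]
    refine finsum_eq_zero_of_forall_eq_zero fun η => ?_
    by_cases hη : η ∈ N
    · rw [show β χ η = 0 from hall ⟨col η, Finset.mem_image_of_mem _ hη⟩, Int.cast_zero, zero_mul]
    · rw [hNiff, not_not] at hη
      rw [hβ χ η hη, Int.cast_zero, zero_mul]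
  obtain ⟨f, hfinj, hfY, hfX⟩ := exists_sign_split (fun (χ : R) (o : O) => o.1 χ) e hcardR hrow
    hgramO
  -- the regular relation
  have hrel : ∀ (o : O) (g : G), ¬ p ∣ orderOf g →
      ∑ χ : R, ((o.1 χ : ℤ) : ℂ) * ((χ : Cfsg.IrrCharacter G) : G → ℂ) g = 0 := by
    intro o g hg
    have hq0 : (Nat.card D : ℂ) ≠ 0 := Nat.cast_ne_zero.2 Nat.card_pos.ne'
    refine mul_left_cancel₀ hq0 ?_
    rw [mul_zero, Finset.mul_sum, ← hrepc o]
    simp only [col, ← mul_assoc, ← coeff_eq hcyc hβ, Finset.sum_mul]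
    rw [Finset.sum_comm]
    refine Finset.sum_eq_zero fun x _ => ?_
    by_cases hx : (x : G) = 1
    · simp [hx]
    rw [← mul_zero ((rep o : D → ℂ) x - 1), ← regular_relation hM hmax hcyc hT hex hN hsect hD1 hx hg,
      Finset.mul_sum, Finset.sum_subtype (p := fun χ => χ ∈ B) _ (by simp)]
    exact Finset.sum_congr rfl fun χ _ => by rw [if_neg hx]; ring
  -- the signs
  let v : Cfsg.IrrCharacter G → ℤ := fun χ => if h : χ ∈ B then
    (Classical.arbitrary O).1 ⟨χ, h⟩ else 0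
  have hv : ∀ χ : R, χ ∉ Set.range f → (v χ = 1 ∨ v χ = -1) ∧ ∀ o : O, o.1 χ = v χ := by
    intro χ hχ
    obtain ⟨s, hs, hall⟩ := hfX χ hχ
    have e1 : v χ = s := by simp only [v, dif_pos χ.2]; exact hall _
    rw [e1]
    exact ⟨hs, hall⟩
  have hsplit : ∀ (o : O) (g : G), ¬ p ∣ orderOf g →
      ((o.1 (f o) : ℤ) : ℂ) * ((f o : Cfsg.IrrCharacter G) : G → ℂ) g +
        ∑ χ ∈ Finset.univ.filter (fun χ : R => χ ∉ Set.range f),
          (v χ : ℂ) * ((χ : Cfsg.IrrCharacter G) : G → ℂ) g = 0 := by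
    intro o g hg
    rw [← hrel o g hg, ← Finset.sum_filter_add_sum_filter_not Finset.univ
      (fun χ : R => χ ∈ Set.range f)]
    congr 1
    · rw [Finset.sum_eq_single_of_mem (f o) (by simp) fun χ hχ hne => ?_]
      obtain ⟨o', rfl⟩ := (Finset.mem_filter.1 hχ).2
      rw [(hfY o').2 o fun h => hne (by rw [h]), Int.cast_zero, zero_mul]
    · exact Finset.sum_congr rfl fun χ hχ => by rw [(hv χ (Finset.mem_filter.1 hχ).2).2 o]
  obtain ⟨o₀, ho₀⟩ : ∃ o₀ : O, o₀ = Classical.arbitrary O := ⟨_, rfl⟩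
  obtain ⟨ε, hε⟩ : ∃ ε : ℤ, ε = o₀.1 (f o₀) := ⟨_, rfl⟩
  have hεs : ε = 1 ∨ ε = -1 := hε ▸ (hfY o₀).1
  have hall : ∀ o : O, o.1 (f o) = ε := by
    intro o
    have h1 := hsplit o 1 (by simp [hM.1.ne_one])
    have h2 := hsplit o₀ 1 (by simp [hM.1.ne_one])
    rw [← hε] at h2
    have h3 := h1.trans h2.symm
    rw [add_left_inj] at h3
    obtain ⟨n, hn, hn1⟩ := Char.IsIrr.degree (f o : Cfsg.IrrCharacter G).2
    obtain ⟨n', hn', hn1'⟩ := Char.IsIrr.degree (f o₀ : Cfsg.IrrCharacter G).2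
    rw [hn1, hn1', ← Int.cast_natCast n, ← Int.cast_natCast n', ← Int.cast_mul, ← Int.cast_mul,
      Int.cast_inj] at h3
    rcases (hfY o).1 with h | h <;> rcases hεs with h' | h' <;> rw [h, h'] at h3 ⊢ <;> omega
  let Y : Set (Cfsg.IrrCharacter G) := Set.range fun o => (f o : Cfsg.IrrCharacter G)
  have hYB : Y ⊆ B := by rintro _ ⟨o, rfl⟩; exact (f o).2
  have hYcard : Nat.card Y = Fintype.card O := by
    rw [← Nat.card_eq_fintype_card]
    exact Nat.card_range_of_injective fun a b h => hfinj (Subtype.ext h)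
  have hXmem : ∀ χ ∈ B \ Y, ∃ h : χ ∈ B, (⟨χ, h⟩ : R) ∉ Set.range f := fun χ hχ =>
    ⟨hχ.1, fun ⟨o, ho⟩ => hχ.2 ⟨o, congrArg Subtype.val ho⟩⟩
  have hYval : ∀ (o : O), ∀ η ∈ N, β (f o : Cfsg.IrrCharacter G) η =
      if col η = o.1 then ε else 0 := by
    intro o η hη
    obtain ⟨o', ho'⟩ : ∃ o' : O, o' = ⟨col η, Finset.mem_image_of_mem _ hη⟩ := ⟨_, rfl⟩
    have h : β (f o : Cfsg.IrrCharacter G) η = o'.1 (f o) := by rw [ho']
    rw [h]
    split_ifs with hco
    · rw [show o' = o from ho' ▸ Subtype.ext hco, hall]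
    · exact (hfY o).2 o' fun e => hco (by rw [← e, ho'])
  have hne : ∀ o η, β (f o : Cfsg.IrrCharacter G) η ≠ 0 ↔ η ∈ N ∧ col η = o.1 := by
    intro o η
    by_cases hη : η ∈ N
    · rw [hYval o η hη]
      split_ifs with hc
      · exact iff_of_true (by omega) ⟨hη, hc⟩
      · exact iff_of_false (fun h => h rfl) fun h => hc h.2
    · refine iff_of_false (fun h => h ?_) fun h => hη h.1
      rw [hNiff, not_not] at hη
      exact hβ _ η hη
  refine ⟨B \ Y, Y, v, ε, y, hyT, he ▸ hygen, ?_⟩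
  refine ⟨(Set.sdiff_union_of_subset hYB).symm, Set.disjoint_sdiff_left, ?_, ?_, fun χ hχ => ?_, hεs,
    fun χ hχ η hη => ?_, fun ψ hψ η => ?_, fun η hη => ?_, fun χ hχ x hx => ?_, fun x hx => ?_,
    fun ψ hψ => ?_, fun ψ hψ η η' h h' y' hyN' hy' => ?_, fun ψ hψ g hg => ?_⟩
  · rw [Nat.card_coe_set_eq, Set.ncard_sdiff hYB, ← Nat.card_coe_set_eq, ← Nat.card_coe_set_eq,
      hYcard, Nat.card_eq_fintype_card (α := B)]
    have : Fintype.card B = Fintype.card R := Fintype.card_congr (Equiv.refl _)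
    omega
  · rw [hYcard, ← hfib]; omega
  · obtain ⟨h, hr⟩ := hXmem χ hχ
    exact (hv ⟨χ, h⟩ hr).1
  · obtain ⟨h, hr⟩ := hXmem χ hχ
    exact (hv ⟨χ, h⟩ hr).2 ⟨col η, Finset.mem_image_of_mem _ ((hNiff η).2 hη)⟩
  · obtain ⟨o, rfl⟩ := hψ
    by_cases hη : η ∈ N
    · rw [hYval o η hη]
      split_ifs
      · exact Or.inr rfl
      · exact Or.inl rfl
    · rw [hNiff, not_not] at hη
      exact Or.inl (hβ _ η hη)
  · have hηN := (hNiff η).2 hη
    refine ⟨f ⟨col η, Finset.mem_image_of_mem _ hηN⟩, ⟨⟨_, rfl⟩, ?_⟩, ?_⟩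
    · rw [hYval _ η hηN, if_pos rfl]
    · rintro _ ⟨⟨o, rfl⟩, ho⟩
      rw [hYval o η hηN] at ho
      split_ifs at ho with hco
      · exact congrArg (fun o => (f o : Cfsg.IrrCharacter G)) (Subtype.ext hco.symm)
      · omega
  · obtain ⟨h, hr⟩ := hXmem χ hχ
    have hsum : ∑ η ∈ N, (η : D → ℂ) x = -1 := by
      have h0 : ∑ η : Cfsg.IrrCharacter D, (η : D → ℂ) x = 0 := by
        have h1 := Char.regular_eq_sum x
        rw [if_neg fun h => hx (by rw [h]; rfl)] at h1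
        rw [← h1]
        exact Finset.sum_congr rfl fun η _ => by rw [(irr_mul_of_comm hab η).1, one_mul]
      rw [← Finset.add_sum_erase _ _ (Finset.mem_univ one), hone] at h0
      linear_combination h0
    rw [ev, finsum_eq_sum_of_fintype, ← Finset.add_sum_erase _ _ (Finset.mem_univ one),
      hβ χ one hone, Int.cast_zero, zero_mul, zero_add,
      Finset.sum_congr rfl (g := fun η : Cfsg.IrrCharacter D => (v χ : ℂ) * (η : D → ℂ) x) fun η hη => by
        rw [show β χ η = v χ from (hv ⟨χ, h⟩ hr).2 ⟨col η, Finset.mem_image_of_mem _ hη⟩],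
      ← Finset.mul_sum, hsum]
    ring
  · rw [finsum_mem_range (fun a b h => hfinj (Subtype.ext h)), finsum_eq_sum_of_fintype]
    simp only [ev, finsum_eq_sum_of_fintype]
    rw [Finset.sum_comm]
    have h1 : ∀ η : Cfsg.IrrCharacter D,
        ∑ o : O, (β (f o : Cfsg.IrrCharacter G) η : ℂ) * (η : D → ℂ) x =
          if η ∈ N then (ε : ℂ) * (η : D → ℂ) x else 0 := by
      intro η
      split_ifs with hη
      · rw [Finset.sum_eq_single_of_mem ⟨col η, Finset.mem_image_of_mem _ hη⟩ (Finset.mem_univ _)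
          fun o _ hne => ?_]
        · rw [hYval _ η hη, if_pos rfl]
        · rw [hYval o η hη, if_neg fun e => hne (Subtype.ext e.symm), Int.cast_zero, zero_mul]
      · rw [hNiff, not_not] at hη
        exact Finset.sum_eq_zero fun o _ => by rw [hβ _ η hη, Int.cast_zero, zero_mul]
    rw [Finset.sum_congr rfl fun η _ => h1 η, ← Finset.sum_filter,
      show (Finset.univ.filter fun η => η ∈ N) = N by ext; simp, ← Finset.mul_sum]
    have h0 : ∑ η : Cfsg.IrrCharacter D, (η : D → ℂ) x = 0 := by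
      have h1 := Char.regular_eq_sum x
      rw [if_neg fun h => hx (by rw [h]; rfl)] at h1
      rw [← h1]
      exact Finset.sum_congr rfl fun η _ => by rw [(irr_mul_of_comm hab η).1, one_mul]
    rw [← Finset.add_sum_erase _ _ (Finset.mem_univ one), hone] at h0
    linear_combination (ε : ℂ) * h0
  · obtain ⟨o, rfl⟩ := hψ
    rw [Nat.card_congr (Equiv.subtypeEquivRight fun η => (hne o η).trans
      (show η ∈ N ∧ col η = o.1 ↔ η ∈ N.filter (fun η' => col η' = col (rep o)) by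
        rw [Finset.mem_filter, hrepc o])), Nat.card_eq_finsetCard, hfibre _ (hrepN o)]
  · obtain ⟨o, rfl⟩ := hψ
    obtain rfl : y' = y := hy'
    obtain ⟨j, hj, hj'⟩ := (hiff η' ((hne o η').1 h').1 η ((hne o η).1 h).1).1
      (((hne o η').1 h').2.trans ((hne o η).1 h).2.symm)
    exact ⟨j, Finset.mem_range.1 hj, hj'⟩
  · obtain ⟨o, rfl⟩ := hψ
    have h := hsplit o g hg
    rw [hall o] at h
    rw [← h]
    congr 1
    rw [finsum_mem_eq_finite_toFinset_sum _ (Set.toFinite _)]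
    refine (Finset.sum_bij' (fun (χ : R) hχ => (χ : Cfsg.IrrCharacter G))
      (fun χ hχ => (⟨χ, (((Set.toFinite (B \ Y)).mem_toFinset).1 hχ).1⟩ : R)) (fun χ hχ => ?_) (fun χ hχ => ?_)
      (fun _ _ => rfl) (fun _ _ => rfl) fun _ _ => rfl).symm
    · refine (Set.Finite.mem_toFinset _).2 ⟨χ.2, fun ⟨o', ho'⟩ => ?_⟩
      exact (Finset.mem_filter.1 hχ).2 ⟨o', Subtype.ext ho'⟩
    · obtain ⟨h', hr⟩ := hXmem χ ((Set.Finite.mem_toFinset _).1 hχ)
      exact Finset.mem_filter.2 ⟨Finset.mem_univ _, hr⟩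

end Cfsg.Agent.BlockChar.Cyclic
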