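import Cfsg.Agent.BlockChar.Cyclic.OrdCoord

/-!
# Orthogonality of the coordinate functions
-/

set_option autoImplicit false

namespace Cfsg.Agent.BlockChar.Cyclic

open Cfsg.Agent Cfsg.Agent.Blocks Cfsg.Agent.BrauerPairs Cfsg.Agent.BlockChar
open Cfsg.Agent.Blocks.Star
open scoped ComplexConjugate

universe u

variable {G : Type u} [Group G] [Fintype G] {p : ℕ} {M : Ideal Cfsg.AlgInt} [Fact p.Prime]

local notation "CG[" Q "]" => Subgroup.centralizer (SetLike.coe Q)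
local notation "sbc" => Cfsg.subgroupBlockCoeff

omit [Fact p.Prime] in
/-- The product of two sections, as a function of the subsection. -/
theorem sect_mul_conjF (χ ψ : Cfsg.IrrCharacter G) (u v : G) (e : G → ℂ) :
    ∑ y ∈ regC p (v * u * v⁻¹), sect (χ : G → ℂ) (v * u * v⁻¹) (conjF v e) y *
        conj (sect (ψ : G → ℂ) (v * u * v⁻¹) (conjF v e) y) =
      ∑ y ∈ regC p u, sect (χ : G → ℂ) u e y * conj (sect (ψ : G → ℂ) u e y) := by
  refine (Finset.sum_bij' (fun y _ => v * y * v⁻¹) (fun y _ => v⁻¹ * y * v)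
    (fun y hy => regC_conj hy) (fun y hy => ?_) (fun y _ => by group) (fun y _ => by group)
    fun y _ => ?_).symm
  · have h := regC_conj (g := v⁻¹) hy
    simpa [mul_assoc] using h
  · rw [sect_conjF (Char.isClassFunction_of_isIrr χ.2),
      sect_conjF (Char.isClassFunction_of_isIrr ψ.2)]

variable {B : Set (Cfsg.IrrCharacter G)} {D : Subgroup G} {c : Set (Cfsg.IrrCharacter CG[D])}
  {T : Subgroup G}
variable (hM : Cfsg.IsPModular p M) (hmax : Cfsg.IsMaximalBrauerPair p M B D c) (hcyc : IsCyclic D)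
  (hT : ∀ g : G, g ∈ T ↔ g ∈ Subgroup.normalizer (D : Set G) ∧
    Cfsg.StabilizesBlock CG[D] c g)
variable {Q : Subgroup G} {θ' : Cfsg.IrrCharacter CG[Q]} {ex : D → G → ℂ}
  {β : Cfsg.IrrCharacter G → Cfsg.IrrCharacter D → ℤ}
  (hex : ∀ x : D, Below p M D c (x : G) (ex x))
  (hN : ∀ x : D, (x : G) ≠ 1 → (Nat.card D : ℂ) / (Nat.card CG[Subgroup.zpowers (x : G)] : ℂ) *
    (∑ y ∈ regC p (x : G),
      sect (Cfsg.extendByZero CG[Q] (θ' : CG[Q] → ℂ)) (x : G) (ex x) y *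
        conj (sect (Cfsg.extendByZero CG[Q] (θ' : CG[Q] → ℂ)) (x : G) (ex x) y)) = 1)
  (hsect : ∀ χ : Cfsg.IrrCharacter G, ∀ x : D, (x : G) ≠ 1 → ∀ y ∈ regC p (x : G),
    sect (χ : G → ℂ) (x : G) (ex x) y = ev (β χ) x *
      sect (Cfsg.extendByZero CG[Q] (θ' : CG[Q] → ℂ)) (x : G) (ex x) y)
include hM hmax hcyc hT hex hN hsect

/-- The sum of the products of two sections at a non-trivial element of `D`. -/
theorem sect_mul_eq (χ ψ : Cfsg.IrrCharacter G) {x : D} (hx : (x : G) ≠ 1) :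
    (Nat.card D : ℂ) * ∑ y ∈ regC p (x : G), sect (χ : G → ℂ) (x : G) (ex x) y *
        conj (sect (ψ : G → ℂ) (x : G) (ex x) y) =
      (Nat.card CG[Subgroup.zpowers (x : G)] : ℂ) * (ev (β χ) x * conj (ev (β ψ) x)) := by
  have hC : (Nat.card CG[Subgroup.zpowers (x : G)] : ℂ) ≠ 0 :=
    Nat.cast_ne_zero.2 Nat.card_pos.ne'
  have h := hN x hx
  rw [div_mul_eq_mul_div, div_eq_one_iff_eq hC] at h
  rw [← h, Finset.mul_sum, Finset.mul_sum, Finset.sum_mul]
  refine Finset.sum_congr rfl fun y hy => ?_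
  rw [hsect χ x hx y hy, hsect ψ x hx y hy, map_mul]
  ring

open scoped Classical in
/-- Column norms. -/
theorem col_norm {x : D} (hx : (x : G) ≠ 1) :
    ∑ χ ∈ (Set.toFinite B).toFinset, ev (β χ) x * conj (ev (β χ) x) = (Nat.card D : ℂ) := by
  obtain ⟨b, hb, he⟩ := hex x
  letI := Fintype.ofFinite CG[Subgroup.zpowers (x : G)]
  have hpair := (isBrauerPairOf_iff_of_subpairLE hM hb B).1 hmax.1
  obtain ⟨k, hk⟩ := IsPGroup.iff_orderOf.1 hmax.1.1.1 x
  have hxk : ∃ k, orderOf (x : G) = p ^ k := ⟨k, by rw [Subgroup.orderOf_coe, hk]⟩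
  have hH := mem_zpowers_centralizer' (G := G) (x : G)
  have hind := (mem_inducing_iff_pair hM hpair.1.1 hpair.2.1 hpair.1.2).2 hpair
  have hl : Cfsg.blockRank p b = 1 := local_rank_one hM hmax hcyc hT (Subgroup.zpowers_le.2 x.2)
    (fun h => hx (Subgroup.zpowers_eq_bot.1 h)) hb
  have hC : (Nat.card CG[Subgroup.zpowers (x : G)] : ℂ) ≠ 0 :=
    Nat.cast_ne_zero.2 Nat.card_pos.ne'
  have key : (Nat.card CG[Subgroup.zpowers (x : G)] : ℂ) *
      ∑ χ ∈ (Set.toFinite B).toFinset, ev (β χ) x * conj (ev (β χ) x) =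
      (Nat.card D : ℂ) * (Nat.card CG[Subgroup.zpowers (x : G)] : ℂ) := by
    rw [Finset.mul_sum]
    simp only [← sect_mul_eq hM hmax hcyc hT hex hN hsect _ _ hx, ← Finset.mul_sum]
    congr 1
    have hcard := card_mul_blockRank hM hpair.1.2
    rw [hl, Nat.cast_one, mul_one] at hcard
    rw [Finset.sum_comm, hcard, sum_regC_eq]
    refine Finset.sum_congr rfl fun y _ => ?_
    split_ifs with hy
    · rfl
    · rw [← he, ← finsum_mem_eq_finite_toFinset_sum]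
      simp only [sect_eq_blockPart]
      exact sum_blockPart_mul hM hind hH hxk hy hy
  rw [mul_comm (Nat.card D : ℂ)] at key
  exact mul_left_cancel₀ hC key

open scoped Classical in
/-- The singular part of the inner product of two characters of the block. -/
theorem sum_singular (hD1 : D ≠ ⊥) {χ ψ : Cfsg.IrrCharacter G} (hχ : χ ∈ B) :
    ((CG[D]).relIndex T : ℂ) * (Nat.card D : ℂ) *
        ∑ g : G, (if p ∣ orderOf g then (χ : G → ℂ) g * conj ((ψ : G → ℂ) g) else 0) =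
      (Nat.card G : ℂ) *
        ∑ x : D, (if (x : G) = 1 then 0 else ev (β χ) x * conj (ev (β ψ) x)) := by
  have : M.IsMaximal := hM.2.1
  have hp := hM.1
  have hB := hmax.1.2.1
  obtain ⟨y, hyT, -, hypow, hygen, -⟩ := exists_generator hM hmax hcyc hD1 hT
  obtain ⟨e, he⟩ : ∃ e, e = (CG[D]).relIndex T := ⟨_, rfl⟩
  rw [← he] at hypow hygen ⊢
  have hfree := inertial_free hM hcyc hmax hT
  have hTN : T ≤ Subgroup.normalizer (D : Set G) := fun g hg => ((hT g).1 hg).1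
  have hxp : ∀ x : D, ∃ k, orderOf (x : G) = p ^ k := fun x => by
    obtain ⟨k, hk⟩ := IsPGroup.iff_orderOf.1 hmax.1.1.1 x
    exact ⟨k, by rw [Subgroup.orderOf_coe, hk]⟩
  have hexBk : ∀ x : D, ex x ∈ Bk M (x : G) := fun x => by
    obtain ⟨b, hb, he⟩ := hex x
    exact mem_Bk.2 ⟨b, ((isBrauerPairOf_iff_of_subpairLE hM hb B).1 hmax.1).1.2, he⟩
  -- the sum over the subsections
  let W₀ : G → (G → ℂ) → ℂ := fun u _ => if u = 1 then 0 else 1
  have hPhi : ∀ (θ : Cfsg.IrrCharacter G) (g : G), Phi p M W₀ (θ : G → ℂ) g =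
      if p ∣ orderOf g then (θ : G → ℂ) g else 0 := by
    intro θ g
    by_cases hg : p ∣ orderOf g
    · rw [if_pos hg]
      refine Phi_eq_self hM θ g fun _ _ _ => ?_
      exact if_neg fun h => (pPartOf_eq_one_iff hp g).1 h hg
    · rw [if_neg hg, Phi]
      refine Finset.sum_eq_zero fun e₁ _ => ?_
      rw [show W₀ (pPartOf p g) e₁ = (0 : ℂ) from if_pos ((pPartOf_eq_one_iff hp g).2 hg), zero_mul]
  let F : G → (G → ℂ) → ℂ := fun u e' => if u = 1 then 0 else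
    ∑ z ∈ regC p u, sect (χ : G → ℂ) u e' z * conj (sect (ψ : G → ℂ) u e' z)
  have hsing : ∑ g : G, (if p ∣ orderOf g then (χ : G → ℂ) g * conj ((ψ : G → ℂ) g) else 0) =
      ∑ u ∈ Finset.univ.filter (fun u : G => ∃ k, orderOf u = p ^ k), ∑ e' ∈ Bk M u, F u e' := by
    rw [Finset.sum_congr rfl (g := fun g => Phi p M W₀ (χ : G → ℂ) g *
      conj (Phi p M W₀ (ψ : G → ℂ) g)) (fun g _ => by rw [hPhi, hPhi]; split_ifs <;> simp),
      sum_Phi_mul_conj hM]
    refine Finset.sum_congr rfl fun u _ => Finset.sum_congr rfl fun e' _ => ?_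
    by_cases h : u = 1 <;> simp [W₀, F, h]
  rw [hsing, Finset.sum_sigma']
  set S := (Finset.univ.filter (fun u : G => ∃ k, orderOf u = p ^ k)).sigma fun u => Bk M u
    with hS
  -- the parametrisation
  let X := {x : D // (x : G) ≠ 1}
  let φ : G × X → (_ : G) × (G → ℂ) := fun z =>
    ⟨z.1 * ((z.2 : D) : G) * z.1⁻¹, conjF z.1 (ex z.2)⟩
  have hφS : ∀ z ∈ (Finset.univ : Finset (G × X)), φ z ∈ S := by
    intro z _
    refine Finset.mem_sigma.2 ⟨Finset.mem_filter.2 ⟨Finset.mem_univ _, ?_⟩,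
      conjF_mem_Bk (hexBk z.2) z.1⟩
    obtain ⟨k, hk⟩ := hxp z.2
    exact ⟨k, by
      rw [← hk]
      exact orderOf_injective (MulAut.conj z.1).toMonoidHom (MulAut.conj z.1).injective
        ((z.2 : D) : G)⟩
  have hfib : ∀ t ∈ S, ((Finset.univ.filter (fun z => φ z = t)).card : ℂ) * F t.1 t.2 =
      (e : ℂ) * (Nat.card CG[Subgroup.zpowers t.1] : ℂ) * F t.1 t.2 := by
    rintro ⟨u, e'⟩ ht
    simp only [hS, Finset.mem_sigma, Finset.mem_filter] at ht
    by_cases h0 : F u e' = 0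
    · simp only [h0, mul_zero]
    congr 1
    have hu1 : u ≠ 1 := fun h => h0 (if_pos h)
    obtain ⟨g₀, hg₀⟩ : ∃ g₀, Below p M D c (g₀ * u * g₀⁻¹) (conjF g₀ e') := by
      obtain ⟨b, hb, rfl⟩ := mem_Bk.1 ht.2
      simp only [F, if_neg hu1] at h0
      obtain ⟨z, hz, hz0⟩ := Finset.exists_ne_zero_of_sum_ne_zero h0
      exact (exists_below_iff hM hmax b).2
        (pair_of_sect_ne_zero hM hB hχ ht.1.2 hb hz (left_ne_zero_of_mul hz0))
    obtain ⟨x₀, hx₀⟩ : ∃ x₀ : D, (x₀ : G) = g₀ * u * g₀⁻¹ := ⟨⟨_, hg₀.mem⟩, rfl⟩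
    rw [← hx₀] at hg₀
    have hx₀1 : (x₀ : G) ≠ 1 := fun h => hu1 (by
      rw [hx₀] at h
      simpa using h)
    have hex₀ : ex x₀ = conjF g₀ e' := (hex x₀).unique hM hmax hg₀
    have hcard : Nat.card CG[Subgroup.zpowers u] = Nat.card CG[Subgroup.zpowers (x₀ : G)] := by
      rw [hx₀, card_zpowers_centralizer_conj]
    have hmem : ∀ j : ℕ, y ^ j * (x₀ : G) * (y ^ j)⁻¹ ∈ D := fun j =>
      (Subgroup.mem_normalizer_iff.1 (hTN (pow_mem hyT j)) _).1 x₀.2
    have hne : ∀ j : ℕ, y ^ j * (x₀ : G) * (y ^ j)⁻¹ ≠ 1 := fun j h => hx₀1 (by simpa using h)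
    have hmove : ∀ j : ℕ, ex ⟨_, hmem j⟩ = conjF (y ^ j) (ex x₀) := fun j =>
      (hex _).unique hM hmax (below_conj_of_fix hM
        ((conjPair_eq_iff hM hmax.1.1.2 _).2 ((hT _).1 (pow_mem hyT j))) (hex x₀))
    have hfix : ∀ k : CG[Subgroup.zpowers (x₀ : G)], conjF (k : G) (ex x₀) = ex x₀ := fun k =>
      funext fun z => by
        have := isInv_Bk (hexBk x₀) _ (CG[Subgroup.zpowers (x₀ : G)].inv_mem k.2) z
        simpa [conjF] using this
    have hkx : ∀ k : CG[Subgroup.zpowers (x₀ : G)], (k : G) * x₀ * (k : G)⁻¹ = x₀ := fun k => by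
      rw [← mem_zpowers_centralizer.1 k.2, mul_inv_cancel_right]
    let Ψ : Fin e × CG[Subgroup.zpowers (x₀ : G)] → G × X := fun jk =>
      (g₀⁻¹ * (jk.2 : G) * (y ^ (jk.1 : ℕ))⁻¹, ⟨⟨_, hmem jk.1⟩, hne jk.1⟩)
    have hΨ : Set.BijOn Ψ Set.univ {z | φ z = ⟨u, e'⟩} := by
      refine ⟨?_, ?_, ?_⟩
      · rintro ⟨j, k⟩ -
        refine Sigma.ext ?_ (heq_of_eq ?_)
        · show g₀⁻¹ * (k : G) * (y ^ (j : ℕ))⁻¹ * (y ^ (j : ℕ) * (x₀ : G) * (y ^ (j : ℕ))⁻¹) *
            (g₀⁻¹ * (k : G) * (y ^ (j : ℕ))⁻¹)⁻¹ = u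
          calc _ = g₀⁻¹ * ((k : G) * x₀ * (k : G)⁻¹) * g₀ := by group
            _ = u := by rw [hkx, hx₀]; group
        · show conjF (g₀⁻¹ * (k : G) * (y ^ (j : ℕ))⁻¹) (ex ⟨_, hmem j⟩) = e'
          rw [hmove, conjF_conjF, inv_mul_cancel_right, ← conjF_conjF, hfix, hex₀, conjF_conjF,
            inv_mul_cancel, conjF_one]
      · rintro ⟨i, k⟩ - ⟨j, k'⟩ - h
        obtain ⟨h1, h2⟩ := Prod.ext_iff.1 h
        have h2' : y ^ (i : ℕ) * (x₀ : G) * (y ^ (i : ℕ))⁻¹ =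
            y ^ (j : ℕ) * (x₀ : G) * (y ^ (j : ℕ))⁻¹ :=
          congrArg (fun w : X => ((w : D) : G)) h2
        have hij : i = j := by
          have key : ∀ a b : ℕ, a ≤ b → b < e → y ^ a * (x₀ : G) * (y ^ a)⁻¹ =
              y ^ b * (x₀ : G) * (y ^ b)⁻¹ → a = b := by
            intro a b hab hb hh
            obtain ⟨d, rfl⟩ := Nat.exists_eq_add_of_le hab
            rw [pow_add] at hh
            have hd : y ^ d * (x₀ : G) * (y ^ d)⁻¹ = (x₀ : G) := by
              calc y ^ d * (x₀ : G) * (y ^ d)⁻¹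
                  = (y ^ a)⁻¹ * (y ^ a * y ^ d * (x₀ : G) * (y ^ a * y ^ d)⁻¹) * y ^ a := by group
                _ = (x₀ : G) := by rw [← hh]; group
            have hd0 := (hypow d).1 (hfree _ (pow_mem hyT d) _ x₀.2 hx₀1 hd)
            have hd00 : d = 0 := Nat.eq_zero_of_dvd_of_lt hd0 (by omega)
            omega
          rcases le_total (i : ℕ) (j : ℕ) with h' | h'
          · exact Fin.ext (key _ _ h' j.2 h2')
          · exact Fin.ext (key _ _ h' i.2 h2'.symm).symm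
        subst hij
        exact Prod.ext rfl (Subtype.ext (mul_left_cancel (mul_right_cancel h1)))
      · rintro ⟨g, ⟨x, hx⟩⟩ hz
        obtain ⟨hz1, hz2⟩ := Sigma.mk.inj_iff.1 (show φ (g, ⟨x, hx⟩) = ⟨u, e'⟩ from hz)
        have hz2' := eq_of_heq hz2
        obtain ⟨b, hb, hbe⟩ := hex x
        have hk2 : Below p M D c (g₀ * g * (x : G) * (g₀ * g)⁻¹)
            (conjF (g₀ * g) (sbc CG[Subgroup.zpowers (x : G)] b)) := by
          rw [hbe, ← conjF_conjF, hz2', show g₀ * g * (x : G) * (g₀ * g)⁻¹ = (x₀ : G) by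
            rw [hx₀, ← hz1]; group]
          exact hg₀
        obtain ⟨s, hs, hsv⟩ := exists_fixing_extend hM hmax (comm_of_cyclic hcyc) hb
          ((below_conj_iff b).1 hk2)
        have hsx : s * (x : G) * s⁻¹ = (x₀ : G) := by
          rw [hsv _ (Subgroup.mem_zpowers _), hx₀, ← hz1]; group
        have hsT : s ∈ T := (hT s).2 ((conjPair_eq_iff hM hmax.1.1.2 s).1 hs)
        obtain ⟨j, hj, hjC⟩ := hygen s⁻¹ (T.inv_mem hsT)
        have hxj : y ^ j * (x₀ : G) * (y ^ j)⁻¹ = (x : G) := by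
          have h1 : (y ^ j)⁻¹ * s⁻¹ * (x₀ : G) * ((y ^ j)⁻¹ * s⁻¹)⁻¹ = (x₀ : G) := by
            rw [← Subgroup.mem_centralizer_iff.1 hjC _ x₀.2, mul_inv_cancel_right]
          calc y ^ j * (x₀ : G) * (y ^ j)⁻¹
              = y ^ j * ((y ^ j)⁻¹ * s⁻¹ * (x₀ : G) * ((y ^ j)⁻¹ * s⁻¹)⁻¹) * (y ^ j)⁻¹ := by
                rw [h1]
            _ = s⁻¹ * (x₀ : G) * s := by group
            _ = (x : G) := by rw [← hsx]; group
        have hk : g₀ * g * y ^ j ∈ CG[Subgroup.zpowers (x₀ : G)] := by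
          refine mem_zpowers_centralizer.2 ?_
          have h1 : g₀ * g * (x : G) * (g₀ * g)⁻¹ = (x₀ : G) := by rw [hx₀, ← hz1]; group
          calc (x₀ : G) * (g₀ * g * y ^ j) = g₀ * g * ((x : G) * y ^ j) := by rw [← h1]; group
            _ = g₀ * g * (y ^ j * (x₀ : G)) := by rw [← hxj]; group
            _ = g₀ * g * y ^ j * (x₀ : G) := by group
        refine ⟨(⟨j, hj⟩, ⟨_, hk⟩), trivial, Prod.ext ?_ (Subtype.ext (Subtype.ext hxj))⟩
        show g₀⁻¹ * (g₀ * g * y ^ j) * (y ^ j)⁻¹ = g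
        group
    have h := Nat.card_congr ((Equiv.Set.univ _).symm.trans hΨ.equiv)
    rw [Nat.card_prod, Nat.card_fin, Nat.card_eq_fintype_card (α := {z | φ z = ⟨u, e'⟩}),
      Fintype.card_ofFinset] at h
    rw [hcard, ← Nat.cast_mul, h]
    congr 2
  -- counting
  have hL : ∑ z : G × X, (Nat.card D : ℂ) *
      (F (φ z).1 (φ z).2 / (Nat.card CG[Subgroup.zpowers (φ z).1] : ℂ)) =
      (Nat.card G : ℂ) *
        ∑ x : D, (if (x : G) = 1 then 0 else ev (β χ) x * conj (ev (β ψ) x)) := by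
    have hrow : ∀ z : G × X, (Nat.card D : ℂ) *
        (F (φ z).1 (φ z).2 / (Nat.card CG[Subgroup.zpowers (φ z).1] : ℂ)) =
        ev (β χ) z.2 * conj (ev (β ψ) z.2) := by
      rintro ⟨g, x⟩
      have hne : g * ((x : D) : G) * g⁻¹ ≠ 1 := fun h => x.2 (by simpa using h)
      have hC : (Nat.card CG[Subgroup.zpowers ((x : D) : G)] : ℂ) ≠ 0 :=
        Nat.cast_ne_zero.2 Nat.card_pos.ne'
      simp only [φ, F, if_neg hne]
      rw [card_zpowers_centralizer_conj, sect_mul_conjF, ← mul_div_assoc,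
        sect_mul_eq hM hmax hcyc hT hex hN hsect χ ψ x.2, mul_div_cancel_left₀ _ hC]
    simp only [hrow]
    rw [Fintype.sum_prod_type]
    show ∑ _g : G, ∑ x : X, ev (β χ) x * conj (ev (β ψ) x) = _
    rw [Finset.sum_const, Finset.card_univ, nsmul_eq_mul, ← Nat.card_eq_fintype_card]
    congr 1
    rw [← Finset.sum_subset (Finset.subset_univ
        (Finset.univ.filter fun x : D => (x : G) ≠ 1)) fun x _ hx => by
          rw [if_pos (by simpa using hx)],
      Finset.sum_subtype (p := fun x : D => (x : G) ≠ 1) _ (by simp)]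
    exact Finset.sum_congr rfl fun x _ => (if_neg x.2).symm
  rw [← hL, ← Finset.sum_fiberwise_of_maps_to hφS, Finset.mul_sum]
  refine Finset.sum_congr rfl fun t ht => ?_
  rw [Finset.sum_congr rfl (g := fun _ => (Nat.card D : ℂ) *
      (F t.1 t.2 / (Nat.card CG[Subgroup.zpowers t.1] : ℂ)))
      (fun z hz => by rw [(Finset.mem_filter.1 hz).2]), Finset.sum_const, nsmul_eq_mul]
  have hC : (Nat.card CG[Subgroup.zpowers t.1] : ℂ) ≠ 0 :=
    Nat.cast_ne_zero.2 Nat.card_pos.ne'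
  calc (e : ℂ) * (Nat.card D : ℂ) * F t.1 t.2
      = (Nat.card D : ℂ) * ((e : ℂ) * (Nat.card CG[Subgroup.zpowers t.1] : ℂ) * F t.1 t.2) /
          (Nat.card CG[Subgroup.zpowers t.1] : ℂ) := by field_simp
    _ = _ := by rw [← hfib t ht]; ring

end Cfsg.Agent.BlockChar.Cyclic
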