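import Cfsg.Agent.BlockChar.Cyclic.OrdStatement
import Cfsg.Agent.BlockChar.Support
import Cfsg.Agent.Blocks.Sections

/-!
# Values on a Sylow subgroup of prime order

An irreducible character of degree prime to `p` has, on the non-trivial elements of a Sylow
subgroup of order `p`, the values of a combination of the linear characters in a single orbit of
the normalizer.
-/

set_option autoImplicit false

namespace Cfsg.Agent.BlockChar.Cyclic

open Cfsg.Agent Cfsg.Agent.Blocks Cfsg.Agent.BrauerPairs Cfsg.Agent.BlockChar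
open Cfsg.Agent.Blocks.Star
open scoped ComplexConjugate

universe u

variable {G : Type u} [Group G] [Fintype G] {p : ℕ} {M : Ideal Cfsg.AlgInt} [Fact p.Prime]

local notation "CG[" Q "]" => Subgroup.centralizer (SetLike.coe Q)
local notation "sbc" => Cfsg.subgroupBlockCoeff

omit [Fintype G] [Fact p.Prime] in
theorem mem_normalizer_of_map_conj [Finite G] {D : Subgroup G} {n : G}
    (h : D.map (MulAut.conj n).toMonoidHom = D) : n ∈ Subgroup.normalizer (D : Set G) := by
  refine Subgroup.mem_normalizer_iff.2 fun x => ⟨fun hx => h ▸ ⟨x, hx, rfl⟩, fun hx => ?_⟩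
  rw [← h] at hx
  obtain ⟨y, hy, hxy⟩ := hx
  have : n * y * n⁻¹ = n * x * n⁻¹ := hxy
  rw [mul_left_inj, mul_right_inj] at this
  exact this ▸ hy

omit [Fintype G] [Fact p.Prime] in
/-- The product of two linear characters. -/
theorem exists_mulIrr [Finite G] {D : Subgroup G} (hab : ∀ x ∈ D, ∀ y ∈ D, x * y = y * x)
    (η η' : Cfsg.IrrCharacter D) :
    ∃ μ : Cfsg.IrrCharacter D, ∀ x : D, (μ : D → ℂ) x = (η : D → ℂ) x * (η' : D → ℂ) x := by
  have := Fintype.ofFinite G
  classical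
  obtain ⟨l, hl⟩ := Char.IsChar.exists_hom (Char.IsIrr.isCharacter η.2) (irr_mul_of_comm hab η).1
  obtain ⟨l', hl'⟩ := Char.IsChar.exists_hom (Char.IsIrr.isCharacter η'.2) (irr_mul_of_comm hab η').1
  exact ⟨⟨fun x => (((l * l' : D →* ℂˣ) x : ℂˣ) : ℂ), Char.isIrrCharacter_hom _⟩,
    fun x => by rw [hl, hl']; simp⟩

/-- The local blocks of elements generating the same subgroup are the same functions. -/
theorem Bk_congr {u v : G} (h : Subgroup.zpowers u = Subgroup.zpowers v) :
    Bk M u = Bk M v := by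
  ext e
  rw [mem_Bk, mem_Bk, h]

/-- Subsections only depend on the subgroup generated. -/
theorem below_congr {D : Subgroup G} {c : Set (Cfsg.IrrCharacter CG[D])} {u v : G} {e : G → ℂ}
    (h : Subgroup.zpowers u = Subgroup.zpowers v) (hu : Below p M D c u e) :
    Below p M D c v e := by
  obtain ⟨f, hf, hfe⟩ := hu
  exact below_of_pair (a := ⟨Subgroup.zpowers u, f⟩) h hf fun g => congrFun hfe g

variable {B : Set (Cfsg.IrrCharacter G)} {D : Subgroup G} {c : Set (Cfsg.IrrCharacter CG[D])}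

/-- The support of the coordinates of a member. -/
theorem exists_local_values {T : Subgroup G} (hM : Cfsg.IsPModular p M)
    (hmax : Cfsg.IsMaximalBrauerPair p M B D c) (hcyc : IsCyclic D)
    (hT : ∀ g : G, g ∈ T ↔ g ∈ Subgroup.normalizer (D : Set G) ∧ Cfsg.StabilizesBlock CG[D] c g)
    {β : Cfsg.IrrCharacter G → Cfsg.IrrCharacter D → ℤ} {X Y : Set (Cfsg.IrrCharacter G)}
    {v : Cfsg.IrrCharacter G → ℤ} {ε : ℤ} {y : G} (hy : y ∈ T)
    (hd : IsTreeData p B D ((CG[D]).relIndex T) X Y v ε β {y})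
    {χ : Cfsg.IrrCharacter G} (hχ : χ ∈ B) :
    ∃ (b : Cfsg.IrrCharacter D → ℤ) (η₁ : Cfsg.IrrCharacter D),
      (∀ η, b η ≠ 0 → ∃ t, ∃ ht : t ∈ Subgroup.normalizer (D : Set G),
        t ∈ T ∧ η = twistIrr η₁ ht) ∧
      (∀ η, |b η| ≤ 1) ∧
      ∀ x : D, (x : G) ≠ 1 → ev (β χ) x = ∑ η : Cfsg.IrrCharacter D, (b η : ℂ) * (η : D → ℂ) x := by
  classical
  have hyN : ∀ j : ℕ, y ^ j ∈ Subgroup.normalizer (D : Set G) := fun j =>
    ((hT _).1 (pow_mem hy j)).1
  let one : Cfsg.IrrCharacter D :=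
    ⟨fun x => (((1 : D →* ℂˣ) x : ℂˣ) : ℂ), Char.isIrrCharacter_hom 1⟩
  have hone : ∀ x : D, (one : D → ℂ) x = 1 := fun x => by simp [one]
  rcases (hd.union ▸ hχ : χ ∈ X ∪ Y) with h | h
  · refine ⟨fun η => if η = one then -v χ else 0, one, fun η hη => ?_, fun η => ?_, fun x hx => ?_⟩
    · have hη1 : η = one := by
        by_contra hne
        exact hη (if_neg hne)
      refine ⟨1, one_mem _, one_mem _, ?_⟩
      subst hη1
      exact Subtype.ext (funext fun z => (twistIrr_apply one (one_mem _) z z (by simp)).symm)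
    · rcases hd.sign_X χ h with e | e <;> simp only [e] <;> split_ifs <;> simp
    · rw [hd.ev_X χ h x hx, Finset.sum_eq_single one]
      · simp [hone]
      · intro η _ hη
        simp [hη]
      · simp
  · have hbound : ∀ η, |β χ η| ≤ 1 := fun η => by
      rcases hd.coeff_Y χ h η with e | e <;> rw [e]
      · simp
      · rcases hd.sign with e' | e' <;> simp [e']
    have hev : ∀ x : D, ev (β χ) x = ∑ η : Cfsg.IrrCharacter D, (β χ η : ℂ) * (η : D → ℂ) x :=
      fun x => by rw [ev, finsum_eq_sum_of_fintype]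
    by_cases hne : ∃ η, β χ η ≠ 0
    · obtain ⟨η₁, hη₁⟩ := hne
      refine ⟨β χ, η₁, fun η hη => ?_, hbound, fun x _ => hev x⟩
      obtain ⟨j, -, hj⟩ := hd.orbit_eq χ h η₁ η hη₁ hη y hyN rfl
      exact ⟨y ^ j, hyN j, pow_mem hy j, hj⟩
    · push Not at hne
      exact ⟨β χ, one, fun η hη => absurd (hne η) hη, hbound, fun x _ => hev x⟩

/-- The shape of a row on a defect group of prime order. -/
theorem exists_orbit_values_of_maximal (hM : Cfsg.IsPModular p M)
    (hmax : Cfsg.IsMaximalBrauerPair p M B D c) (hDp : Nat.card D = p)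
    (hsq : ¬ p ^ 2 ∣ Nat.card G)
    {χ : Cfsg.IrrCharacter G} (hχ : χ ∈ B) :
    ∃ (η₀ : Cfsg.IrrCharacter D) (k : Cfsg.IrrCharacter D → ℂ),
      (∀ η, k η ≠ 0 → ∃ g, ∃ hg : g ∈ Subgroup.normalizer (D : Set G), η = twistIrr η₀ hg) ∧
      (∀ x : D, (x : G) ≠ 1 →
        (χ : G → ℂ) (x : G) = ∑ η : Cfsg.IrrCharacter D, k η * (η : D → ℂ) x) ∧
      ((∀ a ∈ CG[D], ∀ b ∈ CG[D], a * b = b * a) →
        (∀ g ∈ Subgroup.normalizer (D : Set G), ∀ z ∈ CG[D], ¬ p ∣ orderOf z → g * z * g⁻¹ = z) →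
        (∀ x, (η₀ : D → ℂ) x = 1) → ‖k η₀‖ ≤ 1) := by
  classical
  have hp : p.Prime := Fact.out
  have : M.IsMaximal := hM.2.1
  have : Fact (Nat.card D).Prime := ⟨hDp ▸ hp⟩
  have hcyc : IsCyclic D := isCyclic_of_prime_card hDp
  have hab := comm_of_cyclic hcyc
  have hD1 : D ≠ ⊥ := fun h => by
    rw [h, Subgroup.card_bot] at hDp
    exact hp.ne_one hDp.symm
  obtain ⟨T, hT⟩ : ∃ T : Subgroup G, ∀ g : G, g ∈ T ↔ g ∈ Subgroup.normalizer (D : Set G) ∧
      Cfsg.StabilizesBlock CG[D] c g := ⟨_, mem_pairStab hM hmax.1.1.2⟩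
  obtain ⟨Q, θ', ex, β, hQD, hQcard, hex, hinvθ, hN, hβ, hsect, hinv⟩ :=
    exists_coords hM hmax hcyc hT hD1
  obtain rfl : D = Q := (Subgroup.eq_of_le_of_card_ge hQD (by rw [hQcard, hDp])).symm
  obtain ⟨X, Y, v, ε, y, hy, -, hd⟩ :=
    exists_tree_data hM hmax hcyc hT hex hN hsect hβ hinv hD1
  obtain ⟨b, η₁, hb, hb1, hev⟩ := exists_local_values hM hmax hcyc hT hy hd hχ
  have hzp : ∀ x : D, (x : G) ≠ 1 → Subgroup.zpowers (x : G) = D := fun x hx => by
    refine Subgroup.eq_of_le_of_card_ge (Subgroup.zpowers_le.2 x.2) ?_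
    rw [hDp, Nat.card_zpowers]
    have h1 : orderOf (x : G) ∣ p := hDp ▸ Subgroup.orderOf_dvd_natCard _ x.2
    exact ge_of_eq ((hp.eq_one_or_self_of_dvd _ h1).resolve_left fun h => hx (orderOf_eq_one_iff.1 h))
  obtain ⟨⟨x₀, hx₀D⟩, hx₀⟩ : ∃ x : D, (x : G) ≠ 1 := by
    obtain ⟨z, hz, hz1⟩ := D.bot_or_exists_ne_one.resolve_left hD1
    exact ⟨⟨z, hz⟩, hz1⟩
  set x₁ : D := ⟨x₀, hx₀D⟩ with hx₁
  have hsame : ∀ x : D, (x : G) ≠ 1 → ex x = ex x₁ := fun x hx =>
    (hex x).unique hM hmax (below_congr ((hzp x₁ hx₀).trans (hzp x hx).symm) (hex x₁))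
  -- the linear character by which the centre acts
  have hDC : D ≤ CG[D] := le_centralizer_of_cyclic hcyc
  have hcent : ∀ x : D, (⟨(x : G), hDC x.2⟩ : CG[D]) ∈ Subgroup.center CG[D] := fun x =>
    Subgroup.mem_center_iff.2 fun a => Subtype.ext (Subgroup.mem_centralizer_iff.1 a.2 (x : G) x.2).symm
  letI : Fintype CG[D] := Fintype.ofFinite _
  have hd1 : (θ' : CG[D] → ℂ) 1 ≠ 0 := by
    obtain ⟨d, hd, hd'⟩ := Char.IsIrr.degree θ'.2
    rw [hd']
    exact Nat.cast_ne_zero.2 (by omega)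
  let w : D → ℂ := fun x => Cfsg.centralChar (θ' : CG[D] → ℂ) ⟨(x : G), hDC x.2⟩
  have hw : ∀ (x : D) (a : CG[D]), (θ' : CG[D] → ℂ) (⟨(x : G), hDC x.2⟩ * a) =
      w x * (θ' : CG[D] → ℂ) a := fun x a => irr_mul_central θ'.2 (hcent x) a
  let wh : D →* ℂ :=
    { toFun := w
      map_one' := mul_right_cancel₀ hd1 (by
        rw [← hw, one_mul]
        exact congrArg _ (Subtype.ext (one_mul _)))
      map_mul' := fun x x' => mul_right_cancel₀ hd1 (by
        rw [← hw, mul_assoc, ← hw, ← hw, ← mul_assoc]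
        rfl) }
  let lam : Cfsg.IrrCharacter D :=
    ⟨fun x => (((wh.toHomUnits : D →* ℂˣ) x : ℂˣ) : ℂ), Char.isIrrCharacter_hom _⟩
  have hlam : ∀ x, (lam : D → ℂ) x = w x := fun x => rfl
  have hwinv : ∀ t ∈ T, ∀ x x' : D, (x' : G) = t * (x : G) * t⁻¹ → w x' = w x := by
    intro t ht x x' hxx'
    have h := hinvθ t ht (x : G)
    rw [← hxx', Char.extendByZero_of_mem _ _ (hDC x'.2), Char.extendByZero_of_mem _ _ (hDC x.2),
      ← mul_one (⟨(x' : G), hDC x'.2⟩ : CG[D]), ← mul_one (⟨(x : G), hDC x.2⟩ : CG[D]),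
      hw, hw] at h
    exact mul_right_cancel₀ hd1 h
  obtain ⟨K₀, hK₀⟩ : ∃ K₀ : ℂ, ∀ x : D, (x : G) ≠ 1 →
      sect (Cfsg.extendByZero CG[D] (θ' : CG[D] → ℂ)) (x : G) (ex x) 1 = w x * K₀ := by
    refine ⟨∑ a, ex x₁ a * Cfsg.extendByZero CG[D] (θ' : CG[D] → ℂ) a, fun x hx => ?_⟩
    rw [sect, hsame x hx, Finset.mul_sum, mul_one]
    refine Finset.sum_congr rfl fun a _ => ?_
    by_cases ha : a ∈ CG[D]
    · rw [Char.extendByZero_of_mem _ _ ha, Char.extendByZero_of_mem _ _ (mul_mem (hDC x.2) ha),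
        show (⟨(x : G) * a, mul_mem (hDC x.2) ha⟩ : CG[D]) = ⟨(x : G), hDC x.2⟩ * ⟨a, ha⟩ from rfl,
        hw]
      ring
    · rw [Char.extendByZero_of_not_mem _ _ ha, Char.extendByZero_of_not_mem _ _ fun h => ha (by
        simpa using mul_mem (inv_mem (hDC x.2)) h)]
      ring
  -- the subsections met by the block
  let S : Finset (G → ℂ) := (Bk M x₀).filter fun e => ∃ g, Below p M D c (g * x₀ * g⁻¹) (conjF g e)
  have hg : ∀ e : S, ∃ g, Below p M D c (g * x₀ * g⁻¹) (conjF g e.1) := fun e =>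
    (Finset.mem_filter.1 e.2).2
  choose g hg using hg
  have hgN : ∀ e : S, g e ∈ Subgroup.normalizer (D : Set G) := fun e => by
    have h1 : Subgroup.zpowers (g e * x₀ * (g e)⁻¹) = D :=
      hzp ⟨_, (hg e).mem⟩ fun h => hx₀ (show x₀ = 1 by
        simpa using h)
    rw [← map_zpowers_conj, show Subgroup.zpowers x₀ = D from hzp x₁ hx₀] at h1
    exact mem_normalizer_of_map_conj h1
  have hconj : ∀ (e : S) (x : D), g e * (x : G) * (g e)⁻¹ ∈ D := fun e x =>
    (Subgroup.mem_normalizer_iff.1 (hgN e) (x : G)).1 x.2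
  have hval : ∀ x : D, (x : G) ≠ 1 → (χ : G → ℂ) (x : G) =
      ∑ e : S, K₀ * ∑ η : Cfsg.IrrCharacter D, (b η : ℂ) *
        ((lam : D → ℂ) ⟨_, hconj e x⟩ * (η : D → ℂ) ⟨_, hconj e x⟩) := by
    intro x hx
    have hxk : ∃ k, orderOf (x : G) = p ^ k := ⟨1, by
      rw [pow_one, ← Nat.card_zpowers, hzp x hx, hDp]⟩
    have h1 : (1 : G) ∈ regC p (x : G) := by simp [regC, hp.ne_one]
    have hxx₀ : Subgroup.zpowers x₀ = Subgroup.zpowers (x : G) :=
      (hzp x₁ hx₀).trans (hzp x hx).symm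
    have happ := apply_section hM χ hxk h1
    rw [mul_one, Bk_congr hxx₀.symm] at happ
    rw [happ]
    rw [← Finset.sum_filter_of_ne (p := fun e => ∃ g, Below p M D c (g * x₀ * g⁻¹) (conjF g e))
      fun e he hne => ?_]
    · rw [show Finset.filter _ (Bk M x₀) = S from rfl, ← Finset.sum_coe_sort S]
      refine Finset.sum_congr rfl fun e _ => ?_
      set x' : D := ⟨_, hconj e x⟩ with hx'
      have hx'1 : (x' : G) ≠ 1 := fun h => hx (by
        simpa [hx'] using h)
      have hb' : Below p M D c (x' : G) (conjF (g e) e.1) := by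
        refine below_congr ?_ (hg e)
        show _ = Subgroup.zpowers (g e * (x : G) * (g e)⁻¹)
        rw [← map_zpowers_conj, ← map_zpowers_conj, hxx₀]
      have hy1 : (1 : G) ∈ regC p (x' : G) := by simp [regC, hp.ne_one]
      rw [← sect_conjF (Char.isClassFunction_of_isIrr χ.2) (x : G) 1 (g e), mul_one, mul_inv_cancel,
        show g e * (x : G) * (g e)⁻¹ = (x' : G) from rfl,
        ← (hex x').unique hM hmax hb', hsect χ x' hx'1 1 hy1, hK₀ x' hx'1, hev x' hx'1,
        Finset.sum_mul, Finset.mul_sum]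
      refine Finset.sum_congr rfl fun η _ => ?_
      rw [hlam]
      ring
    · obtain ⟨f, hf, hfe⟩ := mem_Bk.1 (Bk_congr (M := M) hxx₀ ▸ he : e ∈ Bk M (x : G))
      subst hfe
      obtain ⟨g', hg'⟩ := (exists_below_iff hM hmax f).2
        (pair_of_sect_ne_zero hM hmax.1.2.1 hχ hxk hf h1 hne)
      refine ⟨g', below_congr ?_ hg'⟩
      rw [← map_zpowers_conj, ← map_zpowers_conj, hxx₀]
  choose m hm using fun η => exists_mulIrr hab lam η
  obtain ⟨k, hk⟩ : ∃ k : Cfsg.IrrCharacter D → ℂ, ∀ η', k η' = ∑ e : S, K₀ *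
      ∑ η : Cfsg.IrrCharacter D, if twistIrr (m η) (hgN e) = η' then (b η : ℂ) else 0 :=
    ⟨_, fun _ => rfl⟩
  -- twisting by `T` fixes the linear character
  have htw : ∀ t, ∀ ht : t ∈ Subgroup.normalizer (D : Set G), t ∈ T →
      m (twistIrr η₁ ht) = twistIrr (m η₁) ht := by
    intro t ht htT
    refine Subtype.ext (funext fun x => ?_)
    have hx' : t * (x : G) * t⁻¹ ∈ D := (Subgroup.mem_normalizer_iff.1 ht (x : G)).1 x.2
    rw [hm, twistIrr_apply _ ht x ⟨_, hx'⟩ rfl, twistIrr_apply _ ht x ⟨_, hx'⟩ rfl, hm, hlam, hlam,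
      hwinv t htT x ⟨_, hx'⟩ rfl]
  refine ⟨m η₁, k, fun η' hη' => ?_, fun x hx => ?_, fun hCab hfix h0 => ?_⟩
  · rw [hk] at hη'
    obtain ⟨e, -, he⟩ := Finset.exists_ne_zero_of_sum_ne_zero hη'
    obtain ⟨η, -, hη⟩ := Finset.exists_ne_zero_of_sum_ne_zero (right_ne_zero_of_mul he)
    rw [ne_eq, ite_eq_right_iff, Classical.not_imp] at hη
    obtain ⟨rfl, hbη⟩ := hη
    obtain ⟨t, ht, htT, rfl⟩ := hb η fun h => hbη (by rw [h, Int.cast_zero])
    refine ⟨t * g e, mul_mem ht (hgN e), Subtype.ext (funext fun x => ?_)⟩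
    have hx2 : t * (g e * (x : G) * (g e)⁻¹) * t⁻¹ ∈ D :=
      (Subgroup.mem_normalizer_iff.1 ht _).1 (hconj e x)
    rw [twistIrr_apply _ (hgN e) x ⟨_, hconj e x⟩ rfl, htw t ht htT,
      twistIrr_apply _ ht ⟨_, hconj e x⟩ ⟨_, hx2⟩ rfl,
      twistIrr_apply _ (mul_mem ht (hgN e)) x ⟨_, hx2⟩ (by show _ = _; group)]
  · simp only [hk, Finset.sum_mul, Finset.mul_sum]
    rw [hval x hx, Finset.sum_comm]
    refine Finset.sum_congr rfl fun e _ => ?_
    rw [Finset.sum_comm, Finset.mul_sum]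
    refine Finset.sum_congr rfl fun η _ => ?_
    rw [Finset.sum_eq_single (twistIrr (m η) (hgN e)) (fun η' _ h => by simp [Ne.symm h]) (by simp),
      if_pos rfl, twistIrr_apply _ (hgN e) x ⟨_, hconj e x⟩ rfl, hm]
    ring
  · have hfix0 : ∀ t, ∀ ht : t ∈ Subgroup.normalizer (D : Set G),
        twistIrr (m η₁) ht = m η₁ := fun t ht => Subtype.ext (funext fun x => by
      rw [twistIrr_apply _ ht x ⟨_, (Subgroup.mem_normalizer_iff.1 ht (x : G)).1 x.2⟩ rfl, h0, h0])
    have hsupp : ∀ η, b η ≠ 0 → η = η₁ := by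
      intro η hη
      obtain ⟨t, ht, htT, rfl⟩ := hb η hη
      refine Subtype.ext (funext fun x => ?_)
      have h1 := congrFun (congrArg Subtype.val (htw t ht htT)) x
      rw [hfix0 t ht, hm, hm, hlam] at h1
      refine mul_left_cancel₀ ?_ h1
      intro hw0
      have h2 := h0 x
      rw [hm, hlam, hw0, zero_mul] at h2
      exact zero_ne_one h2
    -- one subsection
    have hone : ∀ e e' : S, e = e' := by
      have hall : ∀ e : S, e.1 = ex x₁ := by
        intro e
        have h1 : conjF (g e) e.1 = ex x₁ := by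
          refine (Below.unique hM hmax (below_congr ?_ (hg e)) (hex x₁))
          rw [← map_zpowers_conj, show Subgroup.zpowers x₀ = D from hzp x₁ hx₀]
          exact map_conj_eq (hgN e)
        obtain ⟨f, hf, hfe⟩ := mem_Bk.1 (Finset.mem_filter.1 e.2).1
        rw [← h1]
        funext a
        rw [conjF, ← hfe]
        have hCN : ∀ z, z ∈ CG[Subgroup.zpowers x₀] ↔ z ∈ CG[D] := fun z => by
          rw [show Subgroup.zpowers x₀ = D from hzp x₁ hx₀]
        by_cases ha : a ∈ CG[Subgroup.zpowers x₀] ∧ ¬ p ∣ orderOf a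
        · congr 1
          have h2 := hfix (g e)⁻¹ (inv_mem (hgN e)) a ((hCN a).1 ha.1) ha.2
          rw [inv_inv] at h2
          exact h2.symm
        · have hzero : ∀ z, ¬ (z ∈ CG[Subgroup.zpowers x₀] ∧ ¬ p ∣ orderOf z) →
              sbc CG[Subgroup.zpowers x₀] f z = 0 := by
            intro z hz
            by_cases hzC : z ∈ CG[Subgroup.zpowers x₀]
            · rw [sbc_of_mem f hzC]
              refine BlockChar.blockCoeff_eq_zero hM hf fun hr => hz ⟨hzC, ?_⟩
              rw [← Subgroup.orderOf_mk z hzC]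
              exact hr
            · exact sbc_of_notMem f hzC
          have h3 : ¬ ((g e)⁻¹ * a * g e ∈ CG[Subgroup.zpowers x₀] ∧
              ¬ p ∣ orderOf ((g e)⁻¹ * a * g e)) := by
            rintro ⟨h4, h5⟩
            have h6 := hfix (g e) (hgN e) _ ((hCN _).1 h4) h5
            rw [show g e * ((g e)⁻¹ * a * g e) * (g e)⁻¹ = a by group] at h6
            exact ha (h6.symm ▸ ⟨h4, h5⟩)
          rw [hzero a ha, hzero _ h3]
      exact fun e e' => Subtype.ext ((hall e).trans (hall e').symm)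
    have hcardS : Fintype.card S ≤ 1 := Fintype.card_le_one_iff_subsingleton.2 ⟨hone⟩
    -- the coefficient
    have hθlin : ∀ a : CG[D], ‖(θ' : CG[D] → ℂ) a‖ = 1 ∧
        ∀ a' : CG[D], (θ' : CG[D] → ℂ) (a * a') = (θ' : CG[D] → ℂ) a * (θ' : CG[D] → ℂ) a' := by
      intro a
      refine ⟨?_, fun a' => (irr_mul_of_comm hCab θ').2 a a'⟩
      obtain ⟨l, hl⟩ := Char.IsChar.exists_hom (Char.IsIrr.isCharacter θ'.2)
        (irr_mul_of_comm hCab θ').1
      rw [hl]
      refine (Complex.norm_eq_one_of_pow_eq_one (n := Nat.card CG[D]) ?_ Nat.card_pos.ne')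
      rw [← Units.val_pow_eq_pow_val, ← map_pow, pow_card_eq_one', map_one, Units.val_one]
    have hK1 : ‖K₀‖ = 1 := by
      have hsecty : ∀ z ∈ regC p x₀,
          ‖sect (Cfsg.extendByZero CG[D] (θ' : CG[D] → ℂ)) x₀ (ex x₁) z‖ = ‖K₀‖ := by
        intro z hz
        have hzC : z ∈ CG[D] := by
          have h := (mem_zpowers_centralizer_of_regC hz).1
          rwa [show Subgroup.zpowers x₀ = D from hzp x₁ hx₀] at h
        have h1 : sect (Cfsg.extendByZero CG[D] (θ' : CG[D] → ℂ)) x₀ (ex x₁) z =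
            (θ' : CG[D] → ℂ) ⟨z, hzC⟩ *
              sect (Cfsg.extendByZero CG[D] (θ' : CG[D] → ℂ)) x₀ (ex x₁) 1 := by
          rw [sect, sect, Finset.mul_sum]
          refine Finset.sum_congr rfl fun a _ => ?_
          by_cases ha : a ∈ CG[D]
          · rw [mul_one, Char.extendByZero_of_mem _ _ (mul_mem (hDC hx₀D) ha),
              Char.extendByZero_of_mem _ _ (mul_mem (mul_mem (hDC hx₀D) hzC) ha),
              show (⟨x₀ * z * a, mul_mem (mul_mem (hDC hx₀D) hzC) ha⟩ : CG[D]) =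
                ⟨z, hzC⟩ * ⟨x₀ * a, mul_mem (hDC hx₀D) ha⟩ from Subtype.ext (by
                  show x₀ * z * a = z * (x₀ * a)
                  rw [← mul_assoc, hCab _ (hDC hx₀D) _ hzC]),
              (hθlin _).2]
            ring
          · rw [Char.extendByZero_of_not_mem _ _ fun h => ha (by
              simpa [mul_assoc] using mul_mem (inv_mem (mul_mem (hDC hx₀D) hzC)) h),
              Char.extendByZero_of_not_mem _ _ fun h => ha (by
              simpa using mul_mem (inv_mem (hDC hx₀D)) h)]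
            ring
        rw [h1, norm_mul, (hθlin _).1, one_mul, show (x₀ : G) = ((x₁ : D) : G) from rfl, hK₀ x₁ hx₀,
          norm_mul]
        have hw1 : ‖w x₁‖ = 1 := by
          have h2 := hw x₁ 1
          rw [mul_one] at h2
          have h3 := congrArg (fun z : ℂ => ‖z‖) h2
          simp only [norm_mul, (hθlin _).1, mul_one] at h3
          exact h3.symm
        rw [hw1, one_mul]
      have hcount : p * (regC p x₀).card = Nat.card CG[Subgroup.zpowers x₀] := by
        rw [show Subgroup.zpowers x₀ = D from hzp x₁ hx₀]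
        have hpel : ∀ z ∈ CG[D], pPartOf p z ∈ D := by
          intro z hz
          have hu : pPartOf p z ∈ CG[D] := pow_mem hz _
          obtain ⟨j, hj⟩ := orderOf_pPartOf hp z
          have hUP : IsPGroup p (Subgroup.zpowers (pPartOf p z)) :=
            IsPGroup.of_card (n := j) (by rw [Nat.card_zpowers, hj])
          have hDP : IsPGroup p D := IsPGroup.of_card (n := 1) (by rw [hDp, pow_one])
          have hle : Subgroup.zpowers (pPartOf p z) ≤ Subgroup.normalizer (D : Set G) :=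
            (Subgroup.zpowers_le.2 hu).trans (Subgroup.centralizer_le_normalizer _)
          obtain ⟨n, hn⟩ := IsPGroup.iff_card.1 (hUP.to_sup_of_normal_right' hDP hle)
          have hn1 : n ≤ 1 := by
            by_contra h
            refine hsq ((pow_dvd_pow p (show 2 ≤ n by omega)).trans ?_)
            rw [← hn]
            exact Subgroup.card_subgroup_dvd_card _
          have heq : D = Subgroup.zpowers (pPartOf p z) ⊔ D :=
            Subgroup.eq_of_le_of_card_ge le_sup_right (by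
              rw [hn, hDp]
              exact (Nat.pow_le_pow_right hp.pos hn1).trans_eq (pow_one p))
          rw [heq]
          exact Subgroup.mem_sup_left (Subgroup.mem_zpowers _)
        have hR : ∀ z : G, z ∈ regC p x₀ ↔ z ∈ CG[D] ∧ ¬ p ∣ orderOf z := by
          intro z
          have h := mem_zpowers_centralizer (u := x₀) (z := z)
          rw [show Subgroup.zpowers x₀ = D from hzp x₁ hx₀] at h
          rw [h]
          simp [regC, and_comm]
        have hbij : Function.Bijective (fun a : D × {z // z ∈ regC p x₀} =>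
            (⟨(a.1 : G) * a.2.1, mul_mem (hDC a.1.2) ((hR _).1 a.2.2).1⟩ : CG[D])) := by
          refine ⟨fun a a' h => ?_, fun z => ?_⟩
          · have h' : (a.1 : G) * a.2.1 = a'.1 * a'.2.1 := congrArg Subtype.val h
            have hpow : ∀ w : D, ∃ k, orderOf (w : G) = p ^ k := fun w => by
              obtain ⟨k, hk⟩ := IsPGroup.iff_orderOf.1
                (IsPGroup.of_card (n := 1) (by rw [hDp, pow_one]) : IsPGroup p D) w
              exact ⟨k, by rw [Subgroup.orderOf_coe, hk]⟩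
            obtain ⟨e1, e2⟩ := parts_mul hp (hCab _ (hDC a.1.2) _ ((hR _).1 a.2.2).1 :
              Commute (a.1 : G) a.2.1) (hpow a.1) ((hR _).1 a.2.2).2
            obtain ⟨e3, e4⟩ := parts_mul hp (hCab _ (hDC a'.1.2) _ ((hR _).1 a'.2.2).1 :
              Commute (a'.1 : G) a'.2.1) (hpow a'.1) ((hR _).1 a'.2.2).2
            rw [h', e3] at e1
            rw [h', e4] at e2
            exact Prod.ext (Subtype.ext e1.symm) (Subtype.ext e2.symm)
          · refine ⟨(⟨_, hpel z z.2⟩, ⟨pPrimePartOf p (z : G), (hR _).2 ⟨pow_mem z.2 _,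
              not_dvd_orderOf_pPrimePartOf hp _⟩⟩), Subtype.ext ?_⟩
            exact pPartOf_mul_pPrimePartOf hp (z : G)
        rw [← Nat.card_eq_of_bijective _ hbij, Nat.card_prod, hDp, Nat.card_eq_finsetCard]
      have h := hN x₁ hx₀
      simp only [show ((x₁ : D) : G) = x₀ from rfl, Complex.mul_conj] at h
      rw [Finset.sum_congr rfl (g := fun _ => ((‖K₀‖ ^ 2 : ℝ) : ℂ)) fun z hz => by
        rw [Complex.normSq_eq_norm_sq, hsecty z hz], Finset.sum_const, nsmul_eq_mul, hDp,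
        ← hcount, Nat.cast_mul] at h
      have hp0 : (p : ℂ) ≠ 0 := Nat.cast_ne_zero.2 hp.ne_zero
      have hr0 : ((regC p x₀).card : ℂ) ≠ 0 := Nat.cast_ne_zero.2
        (Finset.card_ne_zero.2 ⟨1, by simp [regC, hp.ne_one]⟩)
      field_simp at h
      have h' : ‖K₀‖ ^ 2 = 1 := by exact_mod_cast h
      nlinarith [norm_nonneg K₀]
    rw [hk]
    refine (norm_sum_le _ _).trans ?_
    refine le_trans (Finset.sum_le_card_nsmul _ _ 1 fun e _ => ?_) (by simpa using hcardS)
    rw [norm_mul, hK1, one_mul, Finset.sum_eq_single η₁ (fun η _ hη => ?_) (by simp)]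
    · rw [hfix0 _ (hgN e), if_pos rfl, Complex.norm_intCast]
      exact_mod_cast hb1 η₁
    · rw [ite_eq_right_iff]
      intro _
      rw [Int.cast_eq_zero]
      exact not_not.1 fun h => hη (hsupp η h)

end Cfsg.Agent.BlockChar.Cyclic
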