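import Cfsg.Agent.BlockChar.Cyclic.OrdColumn
import Cfsg.Agent.BlockChar.Cyclic.OrdCombin

/-!
# The structure of the ordinary characters of a block with cyclic defect group
-/

set_option autoImplicit false

namespace Cfsg.Agent.BlockChar.Cyclic

open Cfsg.Agent Cfsg.Agent.Blocks Cfsg.Agent.BrauerPairs Cfsg.Agent.BlockChar
open Cfsg.Agent.Blocks.Star
open scoped ComplexConjugate

universe u

variable {G : Type u} [Group G] [Fintype G] {p : ℕ} {M : Ideal Cfsg.AlgInt} [Fact p.Prime]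

local notation "CG[" Q "]" => Subgroup.centralizer (SetLike.coe Q)

/-- A character of `D` moved by an element of the normalizer. -/
noncomputable def twistIrr {D : Subgroup G} (η : Cfsg.IrrCharacter D) {t : G}
    (ht : t ∈ Subgroup.normalizer (D : Set G)) : Cfsg.IrrCharacter D :=
  compIrr (BlockChar.conjIso D D t (Subgroup.mem_normalizer_iff.1 ht)) η

omit [Fact p.Prime] in
theorem twistIrr_apply {D : Subgroup G} (η : Cfsg.IrrCharacter D) {t : G}
    (ht : t ∈ Subgroup.normalizer (D : Set G)) (x x' : D) (h : (x' : G) = t * (x : G) * t⁻¹) :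
    (twistIrr η ht : D → ℂ) x = (η : D → ℂ) x' := by
  rw [twistIrr, compIrr_apply]
  exact congrArg (η : D → ℂ) (Subtype.ext h.symm)

omit [Fact p.Prime] in
open scoped Classical in
/-- The sum of a linear character. -/
theorem sum_linear_eq {D : Subgroup G} (hab : ∀ x ∈ D, ∀ y ∈ D, x * y = y * x)
    (η η' : Cfsg.IrrCharacter D) :
    ∑ x : D, (η : D → ℂ) x * conj ((η' : D → ℂ) x) = if η = η' then (Nat.card D : ℂ) else 0 := by
  have h := Char.classInner_irrChar η η'
  rw [Cfsg.classInner, inv_mul_eq_iff_eq_mul₀ (Nat.cast_ne_zero.2 Nat.card_pos.ne')] at h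
  rw [h]
  split_ifs <;> simp

omit [Fact p.Prime] in
open scoped Classical in
/-- A non-trivial linear character sums to zero. -/
theorem sum_linear_eq_zero {D : Subgroup G} (hab : ∀ x ∈ D, ∀ y ∈ D, x * y = y * x)
    {η : Cfsg.IrrCharacter D} (hη : ¬ ∀ x : D, (η : D → ℂ) x = 1) :
    ∑ x : D, (η : D → ℂ) x = 0 := by
  classical
  let one : Cfsg.IrrCharacter D :=
    ⟨fun x => (((1 : D →* ℂˣ) x : ℂˣ) : ℂ), Char.isIrrCharacter_hom 1⟩
  have h := sum_linear_eq hab η one
  rw [if_neg fun e => hη fun x => by rw [e]; simp [one]] at h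
  rw [← h]
  exact Finset.sum_congr rfl fun x _ => by simp [one]

variable {B : Set (Cfsg.IrrCharacter G)} {D : Subgroup G} {c : Set (Cfsg.IrrCharacter CG[D])}
  {T : Subgroup G}
variable (hM : Cfsg.IsPModular p M) (hmax : Cfsg.IsMaximalBrauerPair p M B D c) (hcyc : IsCyclic D)
  (hT : ∀ g : G, g ∈ T ↔ g ∈ Subgroup.normalizer (D : Set G) ∧
    Cfsg.StabilizesBlock CG[D] c g)

include hM hmax hcyc hT in
/-- The inertial quotient acts regularly on non-trivial characters of `D`. -/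
theorem twist_pow_inj {y : G} (hyT : y ∈ T) (hyN : ∀ j : ℕ, y ^ j ∈ Subgroup.normalizer (D : Set G))
    (hypow : ∀ j : ℕ, y ^ j ∈ CG[D] ↔ (CG[D]).relIndex T ∣ j) {η : Cfsg.IrrCharacter D}
    (hη : ¬ ∀ x : D, (η : D → ℂ) x = 1) {a b : ℕ} (ha : a < (CG[D]).relIndex T)
    (hb : b < (CG[D]).relIndex T) (h : twistIrr η (hyN a) = twistIrr η (hyN b)) : a = b := by
  have : M.IsMaximal := hM.2.1
  have hab := comm_of_cyclic hcyc
  suffices key : ∀ a b : ℕ, a ≤ b → b < (CG[D]).relIndex T →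
      twistIrr η (hyN a) = twistIrr η (hyN b) → a = b by
    rcases le_total a b with h' | h'
    · exact key _ _ h' hb h
    · exact (key _ _ h' ha h.symm).symm
  intro a b hab' hb h
  obtain ⟨d, rfl⟩ := Nat.exists_eq_add_of_le hab'
  by_contra hne
  have hdC : y ^ d ∉ CG[D] := fun hd => hne (by
    have := Nat.eq_zero_of_dvd_of_lt ((hypow d).1 hd) (by omega)
    omega)
  have hmem : ∀ z : D, y ^ d * (z : G) * (y ^ d)⁻¹ ∈ D := fun z =>
    (Subgroup.mem_normalizer_iff.1 (hyN d) _).1 z.2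
  have hfixη : ∀ z : D, (η : D → ℂ) ⟨_, hmem z⟩ = (η : D → ℂ) z := by
    intro z
    have hz : (y ^ a)⁻¹ * (z : G) * y ^ a ∈ D := by
      have := (Subgroup.mem_normalizer_iff''.1 (hyN a) (z : G)).1 z.2
      simpa using this
    have h1 := congrArg (fun ξ : Cfsg.IrrCharacter D => (ξ : D → ℂ) ⟨_, hz⟩) h
    rw [twistIrr_apply η (hyN a) ⟨_, hz⟩ z (by show _ = _; group),
      twistIrr_apply η (hyN (a + d)) ⟨_, hz⟩ ⟨_, hmem z⟩ (by show _ = _; rw [pow_add]; group)] at h1
    exact h1.symm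
  let ψ₀ : D →* D :=
    { toFun := fun z => z⁻¹ * ⟨_, hmem z⟩
      map_one' := Subtype.ext (by simp)
      map_mul' := fun u v => Subtype.ext (by
        show ((u : G) * v)⁻¹ * (y ^ d * ((u : G) * v) * (y ^ d)⁻¹) =
          (u : G)⁻¹ * (y ^ d * u * (y ^ d)⁻¹) * ((v : G)⁻¹ * (y ^ d * v * (y ^ d)⁻¹))
        have h1 : (v : G)⁻¹ * ((u : G)⁻¹ * (y ^ d * u * (y ^ d)⁻¹)) =
            (u : G)⁻¹ * (y ^ d * u * (y ^ d)⁻¹) * (v : G)⁻¹ :=
          hab _ (inv_mem v.2) _ (mul_mem (inv_mem u.2) (hmem u))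
        calc ((u : G) * v)⁻¹ * (y ^ d * ((u : G) * v) * (y ^ d)⁻¹)
            = (v : G)⁻¹ * ((u : G)⁻¹ * (y ^ d * u * (y ^ d)⁻¹)) * (y ^ d * v * (y ^ d)⁻¹) := by
              group
          _ = _ := by rw [h1]; group) }
  have hψi : Function.Injective ψ₀ := (injective_iff_map_eq_one ψ₀).2 fun z hz => by
    by_contra hne1
    refine hdC (inertial_free hM hcyc hmax hT _ (pow_mem hyT d) (z : G) z.2
      (fun h => hne1 (Subtype.ext h)) ?_)
    have h' : (z : G)⁻¹ * (y ^ d * z * (y ^ d)⁻¹) = 1 := congrArg Subtype.val hz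
    rw [inv_mul_eq_one] at h'
    exact h'.symm
  refine hη fun w => ?_
  obtain ⟨z, rfl⟩ := Finite.injective_iff_surjective.1 hψi w
  show (η : D → ℂ) (z⁻¹ * ⟨_, hmem z⟩) = 1
  rw [(irr_mul_of_comm hab η).2, hfixη, ← (irr_mul_of_comm hab η).2, inv_mul_cancel,
    (irr_mul_of_comm hab η).1]

variable {Q : Subgroup G} {θ' : Cfsg.IrrCharacter CG[Q]} {ex : D → G → ℂ}
  {β : Cfsg.IrrCharacter G → Cfsg.IrrCharacter D → ℤ}
  (hex : ∀ x : D, Below p M D c (x : G) (ex x))
  (hN : ∀ x : D, (x : G) ≠ 1 → (Nat.card D : ℂ) / (Nat.card CG[Subgroup.zpowers (x : G)] : ℂ) *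
    (∑ y ∈ regC p (x : G),
      sect (Cfsg.extendByZero CG[Q] (θ' : CG[Q] → ℂ)) (x : G) (ex x) y *
        conj (sect (Cfsg.extendByZero CG[Q] (θ' : CG[Q] → ℂ)) (x : G) (ex x) y)) = 1)
  (hsect : ∀ χ : Cfsg.IrrCharacter G, ∀ x : D, (x : G) ≠ 1 → ∀ y ∈ regC p (x : G),
    sect (χ : G → ℂ) (x : G) (ex x) y = ev (β χ) x *
      sect (Cfsg.extendByZero CG[Q] (θ' : CG[Q] → ℂ)) (x : G) (ex x) y)
  (hβ : ∀ χ (η : Cfsg.IrrCharacter D), (∀ x : D, (η : D → ℂ) x = 1) → β χ η = 0)
  (hinv : ∀ χ : Cfsg.IrrCharacter G, ∀ t ∈ T, ∀ x x' : D, (x : G) ≠ 1 →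
    (x' : G) = t * (x : G) * t⁻¹ → ev (β χ) x' = ev (β χ) x)

include hcyc hβ in
open scoped Classical in
/-- The coordinates from the values. -/
theorem coeff_eq (χ : Cfsg.IrrCharacter G) (η : Cfsg.IrrCharacter D) :
    ∑ x : D, (if (x : G) = 1 then 0 else conj (ev (β χ) x) * ((η : D → ℂ) x - 1)) =
      (Nat.card D : ℂ) * (β χ η : ℂ) := by
  have hab := comm_of_cyclic hcyc
  have h : ∀ x : D, (if (x : G) = 1 then 0 else conj (ev (β χ) x) * ((η : D → ℂ) x - 1)) =
      conj (ev (β χ) x) * ((η : D → ℂ) x - 1) := fun x => by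
    split_ifs with hx
    · rw [show x = 1 from Subtype.ext hx, (irr_mul_of_comm hab η).1, sub_self, mul_zero]
    · rfl
  rw [Finset.sum_congr rfl fun x _ => h x]
  simp only [ev, finsum_eq_sum_of_fintype, map_sum, map_mul, map_intCast, Finset.sum_mul]
  rw [Finset.sum_comm]
  have h1 : ∀ η' : Cfsg.IrrCharacter D,
      ∑ x : D, (β χ η' : ℂ) * conj ((η' : D → ℂ) x) * ((η : D → ℂ) x - 1) =
        (β χ η' : ℂ) * if η = η' then (Nat.card D : ℂ) else 0 := by
    intro η'
    rw [← sum_linear_eq hab η η', Finset.mul_sum]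
    rw [← sub_eq_zero, ← Finset.sum_sub_distrib]
    have e : ∀ x : D, (β χ η' : ℂ) * conj ((η' : D → ℂ) x) * ((η : D → ℂ) x - 1) -
        (β χ η' : ℂ) * ((η : D → ℂ) x * conj ((η' : D → ℂ) x)) =
        -((β χ η' : ℂ) * conj ((η' : D → ℂ) x)) := fun x => by ring
    simp only [e, Finset.sum_neg_distrib, ← Finset.mul_sum, ← map_sum, neg_eq_zero]
    by_cases h' : ∀ x : D, (η' : D → ℂ) x = 1
    · simp [hβ χ η' h']
    · rw [sum_linear_eq_zero hab h', map_zero, mul_zero]
  rw [Finset.sum_congr rfl fun η' _ => h1 η']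
  simp [mul_comm]

include hM hmax hcyc hT hex hN hsect hβ hinv

open scoped Classical in
/-- The Gram matrix of the coordinates. -/
theorem gram_eq (hD1 : D ≠ ⊥) {y : G} (hyT : y ∈ T)
    (hyN : ∀ j : ℕ, y ^ j ∈ Subgroup.normalizer (D : Set G))
    (hypow : ∀ j : ℕ, y ^ j ∈ CG[D] ↔ (CG[D]).relIndex T ∣ j)
    (hygen : ∀ g ∈ T, ∃ j < (CG[D]).relIndex T, (y ^ j)⁻¹ * g ∈ CG[D])
    {η η' : Cfsg.IrrCharacter D} (hη : ¬ ∀ x : D, (η : D → ℂ) x = 1)
    (hη' : ¬ ∀ x : D, (η' : D → ℂ) x = 1) :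
    ∑ χ ∈ (Set.toFinite B).toFinset, β χ η * β χ η' =
      ((Finset.range ((CG[D]).relIndex T)).filter fun j => η = twistIrr η' (hyN j)).card +
        ((CG[D]).relIndex T : ℤ) := by
  have hab := comm_of_cyclic hcyc
  obtain ⟨q, hq⟩ : ∃ q : ℂ, q = (Nat.card D : ℂ) := ⟨_, rfl⟩
  have hq0 : q ≠ 0 := hq ▸ Nat.cast_ne_zero.2 Nat.card_pos.ne'
  have hy : ∀ (j : ℕ) (x : D), y ^ j * (x : G) * (y ^ j)⁻¹ ∈ D := fun j x =>
    (Subgroup.mem_normalizer_iff.1 (hyN j) _).1 x.2
  refine Int.cast_injective (α := ℂ) (mul_left_cancel₀ (mul_ne_zero hq0 hq0) ?_)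
  let u : D → ℂ := fun x => if (x : G) = 1 then 0 else (η : D → ℂ) x - 1
  let w : D → ℂ := fun x => if (x : G) = 1 then 0 else conj ((η' : D → ℂ) x) - 1
  have hu : ∀ χ, q * (β χ η : ℂ) = ∑ x : D, conj (ev (β χ) x) * u x := fun χ => by
    rw [hq, ← coeff_eq hcyc hβ χ η]
    exact Finset.sum_congr rfl fun x _ => by simp only [u]; split_ifs <;> simp
  have hw : ∀ χ, q * (β χ η' : ℂ) = ∑ x : D, ev (β χ) x * w x := fun χ => by
    have h := congrArg conj (coeff_eq hcyc hβ χ η')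
    rw [map_mul, map_intCast, map_natCast, ← hq, map_sum] at h
    rw [← h]
    exact Finset.sum_congr rfl fun x _ => by simp only [w]; split_ifs <;> simp
  have hsum : q * q * ∑ χ ∈ (Set.toFinite B).toFinset, (β χ η : ℂ) * (β χ η' : ℂ) =
      q * ∑ j ∈ Finset.range ((CG[D]).relIndex T), ∑ x : D, u x * w ⟨_, hy j x⟩ := by
    calc q * q * ∑ χ ∈ (Set.toFinite B).toFinset, (β χ η : ℂ) * (β χ η' : ℂ)
        = ∑ χ ∈ (Set.toFinite B).toFinset,
            (∑ x : D, conj (ev (β χ) x) * u x) * ∑ x' : D, ev (β χ) x' * w x' := by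
          rw [Finset.mul_sum]
          exact Finset.sum_congr rfl fun χ _ => by rw [← hu, ← hw]; ring
      _ = ∑ x : D, ∑ x' : D, u x * w x' *
            ∑ χ ∈ (Set.toFinite B).toFinset, conj (ev (β χ) x) * ev (β χ) x' := by
          simp only [Finset.sum_mul_sum]
          simp only [Finset.mul_sum]
          rw [Finset.sum_comm]
          refine Finset.sum_congr rfl fun x _ => ?_
          rw [Finset.sum_comm]
          exact Finset.sum_congr rfl fun x' _ => Finset.sum_congr rfl fun χ _ => by ring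
      _ = _ := by
          rw [Finset.mul_sum]
          simp only [Finset.mul_sum]
          rw [Finset.sum_comm (s := Finset.range _)]
          refine Finset.sum_congr rfl fun x _ => ?_
          by_cases hx : (x : G) = 1
          · have hx1 : x = 1 := Subtype.ext hx
            subst hx1
            simp [u]
          have hinj : Set.InjOn (fun j => (⟨_, hy j x⟩ : D))
              (Finset.range ((CG[D]).relIndex T) : Set ℕ) := fun a ha b hb h =>
            conj_pow_inj hM hmax hcyc hT hyT hypow x.2 hx (Finset.mem_range.1 ha)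
              (Finset.mem_range.1 hb) (congrArg Subtype.val h)
          rw [← Finset.sum_image (f := fun x' => q * (u x * w x')) hinj,
            ← Finset.sum_subset (Finset.subset_univ
              ((Finset.range ((CG[D]).relIndex T)).image fun j => (⟨_, hy j x⟩ : D))) fun x' _ hx' => ?_]
          · refine Finset.sum_congr rfl fun x' hx' => ?_
            obtain ⟨j, -, rfl⟩ := Finset.mem_image.1 hx'
            have hne : y ^ j * (x : G) * (y ^ j)⁻¹ ≠ 1 := fun h => hx (by simpa using h)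
            rw [← Finset.mul_sum, col_orth hM hmax hcyc hT hex hN hsect hD1 hinv (x' := ⟨_, hy j x⟩) hx hne,
              if_pos ⟨y ^ j, pow_mem hyT j, rfl⟩, hq]
            ring
          · by_cases hx'1 : (x' : G) = 1
            · have hx'2 : x' = 1 := Subtype.ext hx'1
              subst hx'2
              simp [w]
            rw [← Finset.mul_sum, col_orth hM hmax hcyc hT hex hN hsect hD1 hinv hx hx'1, if_neg, mul_zero]
            rintro ⟨t, ht, htx⟩
            obtain ⟨j, hj, hjC⟩ := hygen t ht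
            refine hx' (Finset.mem_image.2 ⟨j, Finset.mem_range.2 hj, Subtype.ext ?_⟩)
            show y ^ j * (x : G) * (y ^ j)⁻¹ = (x' : G)
            rw [htx]
            calc y ^ j * (x : G) * (y ^ j)⁻¹
                = y ^ j * ((y ^ j)⁻¹ * t * (x : G) * ((y ^ j)⁻¹ * t)⁻¹) * (y ^ j)⁻¹ := by
                  rw [← Subgroup.mem_centralizer_iff.1 hjC _ x.2, mul_inv_cancel_right]
              _ = t * (x : G) * t⁻¹ := by group
  have hinner : ∀ j, ∑ x : D, u x * w ⟨_, hy j x⟩ =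
      q * ((if η = twistIrr η' (hyN j) then 1 else 0) + 1) := by
    intro j
    have h1 : ∀ x : D, u x * w ⟨_, hy j x⟩ =
        (η : D → ℂ) x * conj ((twistIrr η' (hyN j) : D → ℂ) x) - (η : D → ℂ) x -
          conj ((twistIrr η' (hyN j) : D → ℂ) x) + 1 := by
      intro x
      rw [twistIrr_apply η' (hyN j) x ⟨_, hy j x⟩ rfl]
      simp only [u, w]
      by_cases hx : (x : G) = 1
      · have hx1 : x = 1 := Subtype.ext hx
        have hj1 : (⟨_, hy j x⟩ : D) = 1 := Subtype.ext (by simp [hx])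
        simp [hx1, hj1, (irr_mul_of_comm hab η).1, (irr_mul_of_comm hab η').1]
      · have hne : y ^ j * (x : G) * (y ^ j)⁻¹ ≠ 1 := fun h => hx (by simpa using h)
        rw [if_neg hx, if_neg hne]
        ring
    have htw : ¬ ∀ x : D, (twistIrr η' (hyN j) : D → ℂ) x = 1 := fun h => hη' fun z => by
      have hz : (y ^ j)⁻¹ * (z : G) * y ^ j ∈ D := by
        have := (Subgroup.mem_normalizer_iff''.1 (hyN j) (z : G)).1 z.2
        simpa using this
      rw [← h ⟨_, hz⟩, twistIrr_apply η' (hyN j) ⟨_, hz⟩ z (by show _ = _; group)]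
    simp only [h1, Finset.sum_add_distrib, Finset.sum_sub_distrib, ← map_sum,
      sum_linear_eq_zero hab htw, sum_linear_eq_zero hab hη, sum_linear_eq hab, map_zero, sub_zero,
      Finset.sum_const, Finset.card_univ, ← Nat.card_eq_fintype_card, nsmul_eq_mul, mul_one, ← hq]
    split_ifs <;> ring
  push_cast
  rw [hsum, Finset.sum_congr rfl fun j _ => hinner j, ← Finset.mul_sum, Finset.sum_add_distrib,
    Finset.sum_boole, Finset.sum_const, Finset.card_range, nsmul_eq_mul]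
  ring

end Cfsg.Agent.BlockChar.Cyclic
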