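import Cfsg.Agent.Blocks.Star.NilpotentMain

/-!
# Twists of a height zero character in a nilpotent block with abelian defect group

With the values on every subsection.
-/

set_option autoImplicit false

namespace Cfsg.Agent.BlockChar.Cyclic

open Cfsg.Agent Cfsg.Agent.Blocks Cfsg.Agent.Blocks.Star
open scoped ComplexConjugate

universe u

variable {G : Type u} [Group G] [Fintype G] {p : ℕ} {M : Ideal Cfsg.AlgInt}
  {B : Set (Cfsg.IrrCharacter G)} {P : Subgroup G}
  {e₀ : Set (Cfsg.IrrCharacter (Subgroup.centralizer (P : Set G)))}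

local notation "CG[" Q "]" => Subgroup.centralizer ((Q : Subgroup G) : Set G)
local notation "sbc" => Cfsg.subgroupBlockCoeff

/-- An irreducible character of an abelian subgroup is multiplicative. -/
theorem irr_mul_of_comm (hab : ∀ x ∈ P, ∀ y ∈ P, x * y = y * x) (η : Cfsg.IrrCharacter P) :
    (η : P → ℂ) 1 = 1 ∧ ∀ a b : P, (η : P → ℂ) (a * b) = (η : P → ℂ) a * (η : P → ℂ) b := by
  have h1 := Char.IsIrr.degree_one_of_comm η.2 fun a b : P => Subtype.ext (hab a a.2 b b.2)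
  obtain ⟨l, hl⟩ := Char.IsChar.exists_hom (Char.IsIrr.isCharacter η.2) h1
  refine ⟨h1, fun a b => ?_⟩
  rw [hl]
  simp

theorem irr_mul_conj_of_comm (hab : ∀ x ∈ P, ∀ y ∈ P, x * y = y * x) (η : Cfsg.IrrCharacter P)
    (a : P) : (η : P → ℂ) a * conj ((η : P → ℂ) a) = 1 := by
  have h1 := Char.IsIrr.degree_one_of_comm η.2 fun a b : P => Subtype.ext (hab a a.2 b b.2)
  obtain ⟨l, hl⟩ := Char.IsChar.exists_hom (Char.IsIrr.isCharacter η.2) h1
  rw [hl]
  show (l a : ℂ) * conj (l a : ℂ) = 1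
  have h : ‖(l a : ℂ)‖ = 1 := Complex.norm_eq_one_of_pow_eq_one (n := Nat.card P) (by
    rw [← Units.val_pow_eq_pow_val, ← map_pow, pow_card_eq_one', map_one, Units.val_one])
    Nat.card_pos.ne'
  rw [Complex.mul_conj, Complex.normSq_eq_norm_sq, h]
  simp

variable (hM : Cfsg.IsPModular p M) (hmax : Cfsg.IsMaximalBrauerPair p M B P e₀)
  (hnil : Cfsg.IsNilpotentBlock p M B) (hab : ∀ x ∈ P, ∀ y ∈ P, x * y = y * x)
include hM hmax hnil hab

/-- The characters of the block are the twists of one of height zero, with their sections. -/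
theorem exists_twist_sect {χ : Cfsg.IrrCharacter G} (hχ : χ ∈ B)
    (h0 : Cfsg.blockHeight p B (χ : G → ℂ) = 0) :
    ∃ Θ : Cfsg.IrrCharacter P ≃ B,
      ∀ (η : Cfsg.IrrCharacter P) (x : P) (e : G → ℂ), Below p M P e₀ (x : G) e →
        ∀ y ∈ regC p (x : G), sect ((Θ η : Cfsg.IrrCharacter G) : G → ℂ) (x : G) e y =
          (η : P → ℂ) x * sect (χ : G → ℂ) (x : G) e y := by
  classical
  haveI := Fact.mk hM.1
  have hB := hmax.1.2.1
  let F : Cfsg.IrrCharacter P → G → ℂ := fun η => Cfsg.extendByZero P (η : P → ℂ)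
  have hF : ∀ η (x : P), F η x = (η : P → ℂ) x := fun η x => Char.extendByZero_of_mem P _ x.2
  have hFgen : ∀ η, Cfsg.IsGeneralizedCharacter P (fun x : P => F η x) := fun η => by
    rw [show (fun x : P => F η x) = (η : P → ℂ) from funext (hF η)]
    exact Char.isGeneralized_of_isCharacter (Char.IsIrr.isCharacter η.2)
  have hW := fun η => isWeight_of_class hM hmax hnil (hFgen η)
  have hWval : ∀ η (u : G) (e : G → ℂ), (∃ k, orderOf u = p ^ k) → e ∈ Bk M u → ∀ y ∈ regC p u,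
      sect (χ : G → ℂ) u e y ≠ 0 → ∃ z : P, (u = 1 → z = 1) ∧
        fWeight p M P e₀ (F η) u e = (η : P → ℂ) z := by
    intro η u e hu he y hy h
    obtain ⟨b, hb, rfl⟩ := mem_Bk.1 he
    obtain ⟨g, hgP, hg⟩ := fWeight_spec hM hmax hnil (hW η).2
      (pair_of_sect_ne_zero hM hB hχ hu hb hy h)
    refine ⟨⟨_, hgP⟩, fun h1 => Subtype.ext (by simp [h1]), ?_⟩
    rw [hg, ← hF η ⟨_, hgP⟩]
  have hex : ∀ η, ∃ θ : Cfsg.IrrCharacter G,
      (θ : G → ℂ) = Phi p M (fWeight p M P e₀ (F η)) (χ : G → ℂ) ∧ θ ∈ B := by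
    intro η
    obtain ⟨θ, h1, h2, -⟩ := exists_star hM (hW η).1 χ
      (fun e he y hyr h => by
        obtain ⟨z, hz, hzW⟩ := hWval η 1 e ⟨0, by simp⟩ he y (by simp [regC, hyr]) h
        rw [hzW, hz rfl, (irr_mul_of_comm hab η).1])
      (fun u hu e he y hy h => by
        obtain ⟨z, -, hzW⟩ := hWval η u e hu he y hy h
        rw [hzW, irr_mul_conj_of_comm hab η z])
    exact ⟨θ, h1, IsPBlock.mem_of_sameBlock hM hB hχ h2⟩
  choose θ hθ hmem using hex
  have hsect : ∀ η (x : P) (e : G → ℂ), Below p M P e₀ (x : G) e → ∀ y ∈ regC p (x : G),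
      sect (θ η : G → ℂ) (x : G) e y = (η : P → ℂ) x * sect (χ : G → ℂ) (x : G) e y := by
    intro η x e he y hy
    obtain ⟨k, hk⟩ := IsPGroup.iff_orderOf.1 hmax.1.1.1 x
    have heB : e ∈ Bk M (x : G) := by
      obtain ⟨b, hb, rfl⟩ := he
      exact sbc_mem_Bk ((BrauerPairs.isBrauerPairOf_iff_of_subpairLE hM hb B).1 hmax.1).1.2
    rw [sect_star hM (hθ η) ⟨k, by rw [Subgroup.orderOf_coe, hk]⟩ heB hy,
      fWeight_of_below (hW η).2 he, hF]
  have hinj : Function.Injective θ := by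
    intro η η' h
    refine Subtype.ext (funext fun x => ?_)
    obtain ⟨b, hb⟩ :=
      (BrauerPairs.existsUnique_subpairLE hM hmax.1.1 (Subgroup.zpowers_le.2 x.2)).exists
    obtain ⟨k, hk⟩ := IsPGroup.iff_orderOf.1 hmax.1.1.1 x
    obtain ⟨y, hy, hne⟩ := exists_sect_ne_zero_of_height_zero hM hχ h0
      ⟨k, by rw [Subgroup.orderOf_coe, hk]⟩
      ((BrauerPairs.isBrauerPairOf_iff_of_subpairLE hM hb B).1 hmax.1)
    have h1 := hsect η x _ ⟨b, hb, rfl⟩ y hy
    rw [h, hsect η' x _ ⟨b, hb, rfl⟩ y hy] at h1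
    exact (mul_right_cancel₀ hne h1).symm
  obtain ⟨Θ₀, -⟩ := exists_twist_equiv hM hmax hnil hχ h0
  have hcard : Nat.card (Cfsg.IrrCharacter P) = Nat.card B := Nat.card_congr Θ₀
  have hbij : Function.Bijective fun η => (⟨θ η, hmem η⟩ : B) :=
    (Nat.bijective_iff_injective_and_card _).2
      ⟨fun η η' h => hinj (congrArg Subtype.val h), hcard⟩
  exact ⟨Equiv.ofBijective _ hbij, fun η x e he y hy => hsect η x e he y hy⟩

/-- The weighted norm of every section of a height zero character is one. -/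
theorem tval_eq_one {χ : Cfsg.IrrCharacter G} (hχ : χ ∈ B)
    (h0 : Cfsg.blockHeight p B (χ : G → ℂ) = 0) {x : P} {e : G → ℂ}
    (he : Below p M P e₀ (x : G) e) : tval p P (χ : G → ℂ) x e = 1 := by
  classical
  haveI := Fact.mk hM.1
  have hp := hM.1
  have hB := hmax.1.2.1
  choose bx hbx using fun x : P =>
    (BrauerPairs.existsUnique_subpairLE hM hmax.1.1 (Subgroup.zpowers_le.2 x.2)).exists
  let ex : P → G → ℂ := fun x => sbc CG[Subgroup.zpowers (x : G)] (bx x)
  have hex : ∀ x : P, Below p M P e₀ (x : G) (ex x) := fun x => ⟨bx x, hbx x, rfl⟩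
  have hGne : (Nat.card G : ℂ) ≠ 0 := Nat.cast_ne_zero.2 Nat.card_pos.ne'
  have hone : Cfsg.IsGeneralizedCharacter P (fun _ : P => (1 : ℂ)) := by
    have h := Char.isGeneralized_of_isCharacter (Char.isCharacter_hom (1 : P →* ℂˣ))
    simpa using h
  have hself : ∀ g, Phi p M (fWeight p M P e₀ fun _ => (1 : ℂ)) (χ : G → ℂ) g = (χ : G → ℂ) g := by
    intro g
    refine Phi_eq_self hM χ g fun e he h => ?_
    obtain ⟨b, hb, rfl⟩ := mem_Bk.1 he
    obtain ⟨v, -, hv⟩ := fWeight_spec hM hmax hnil (isWeight_of_class hM hmax hnil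
      (f := fun _ => (1 : ℂ)) hone).2
      (pair_of_sect_ne_zero hM hB hχ (orderOf_pPartOf hp g) hb
        (by simp [regC, not_dvd_orderOf_pPrimePartOf hp, (commute_pPartOf_pPrimePartOf g).eq]) h)
    exact hv
  have hsum : ∑ x : P, tval p P (χ : G → ℂ) x (ex x) = (Fintype.card P : ℂ) := by
    have h := sum_twist_mul_conj hM hmax hnil hχ ex hex (f := fun _ => (1 : ℂ))
      (f' := fun _ => (1 : ℂ)) hone hone
    simp only [hself, map_one, one_mul] at h
    have h1 := Char.classInner_irr_self χ.2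
    rw [Cfsg.classInner, inv_mul_eq_iff_eq_mul₀ hGne, mul_one] at h1
    rw [h1, mul_comm] at h
    rw [← Nat.card_eq_fintype_card]
    exact (mul_left_cancel₀ hGne h).symm
  rw [he.unique hM hmax (hex x)]
  exact eq_one_of_sum_eq_card (fun x => (tval_spec hM hmax hnil hχ h0 (hex x)).1)
    (fun σ x => (tval_spec hM hmax hnil hχ h0 (hex x)).2 σ) hsum x

end Cfsg.Agent.BlockChar.Cyclic
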