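import Cfsg.Agent.BlockChar.Cyclic.DefectOne
import Cfsg.Agent.BlockChar.KleinFour
import Cfsg.Agent.Char.GaloisEquiv
import Cfsg.Agent.Char.Galois

/-!
# `p`-conjugate characters when the Sylow `p`-subgroup has order `p`
-/

set_option autoImplicit false

namespace Cfsg.Agent.BlockChar.Cyclic

open Cfsg.Agent Cfsg.Agent.Blocks Cfsg.Agent.BrauerPairs Cfsg.Agent.BlockChar
open Cfsg.Agent.Blocks.Star
open scoped ComplexConjugate

universe u

variable {G : Type u} [Group G] [Fintype G] {p : ℕ} {M : Ideal Cfsg.AlgInt} [Fact p.Prime]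

local notation "CG[" Q "]" => Subgroup.centralizer (SetLike.coe Q)
local notation "sbc" => Cfsg.subgroupBlockCoeff

omit [Fact p.Prime] in
/-- Conjugacy under the field automorphisms fixing the `p'`-roots of unity, through exponents. -/
theorem exists_pConj_iff (hp : p.Prime) (χ ψ : Cfsg.IrrCharacter G) :
    (∃ σ : ℂ ≃+* ℂ, σ (Complex.exp (2 * Real.pi * Complex.I /
        ((Nat.card G / p ^ (Nat.card G).factorization p) : ℕ))) =
      Complex.exp (2 * Real.pi * Complex.I /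
        ((Nat.card G / p ^ (Nat.card G).factorization p) : ℕ)) ∧
      (ψ : G → ℂ) = fun g => σ ((χ : G → ℂ) g)) ↔
    ∃ k : ℕ, k.Coprime (Nat.card G) ∧
      k ≡ 1 [MOD Nat.card G / p ^ (Nat.card G).factorization p] ∧
      (ψ : G → ℂ) = fun g => (χ : G → ℂ) (g ^ k) := by
  obtain ⟨g', hg'⟩ : ∃ g', g' = Nat.card G / p ^ (Nat.card G).factorization p := ⟨_, rfl⟩
  rw [← hg']
  have hG0 : Nat.card G ≠ 0 := Nat.card_pos.ne'
  have hdvd : g' ∣ Nat.card G := hg' ▸ Nat.ordCompl_dvd _ _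
  have hg'0 : g' ≠ 0 := fun h => hG0 (Nat.eq_zero_of_zero_dvd (h ▸ hdvd))
  have hprim' := Complex.isPrimitiveRoot_exp g' hg'0
  have hpow1 : ∀ {k : ℕ}, k ≡ 1 [MOD g'] →
      Complex.exp (2 * Real.pi * Complex.I / (g' : ℕ)) ^ k =
        Complex.exp (2 * Real.pi * Complex.I / (g' : ℕ)) := fun {k} hk => by
    conv_rhs => rw [← pow_one (Complex.exp (2 * Real.pi * Complex.I / (g' : ℕ)))]
    rw [pow_eq_pow_mod k hprim'.pow_eq_one, hk, ← pow_eq_pow_mod 1 hprim'.pow_eq_one]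
  have hζ' : Complex.exp (2 * Real.pi * Complex.I / (g' : ℕ)) ^ Nat.card G = 1 := by
    obtain ⟨d, hd⟩ := hdvd
    rw [hd, pow_mul, hprim'.pow_eq_one, one_pow]
  constructor
  · rintro ⟨σ, hσ, hψ⟩
    haveI : NeZero (Nat.card G) := ⟨hG0⟩
    have hprim := Complex.isPrimitiveRoot_exp (Nat.card G) hG0
    obtain ⟨k, -, hk⟩ := hprim.eq_pow_of_pow_eq_one
      (ξ := σ (Complex.exp (2 * Real.pi * Complex.I / (Nat.card G : ℕ))))
      (by rw [← map_pow, hprim.pow_eq_one, map_one])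
    have hpow : ∀ z : ℂ, z ^ Nat.card G = 1 → σ.toRingHom z = z ^ k := by
      intro z hz
      obtain ⟨i, -, rfl⟩ := hprim.eq_pow_of_pow_eq_one hz
      show σ (_ ^ i) = _
      rw [map_pow, ← hk, ← pow_mul, ← pow_mul, mul_comm k i]
    refine ⟨k, (hprim.pow_iff_coprime (Nat.pos_of_ne_zero hG0) k).1
      (hk ▸ hprim.map_of_injective σ.injective), ?_, ?_⟩
    · have h := hpow _ hζ'
      rw [RingEquiv.toRingHom_eq_coe, RingEquiv.coe_toRingHom, hσ] at h
      have h2 : Complex.exp (2 * Real.pi * Complex.I / (g' : ℕ)) ^ k =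
          Complex.exp (2 * Real.pi * Complex.I / (g' : ℕ)) ^ 1 := by rw [pow_one]; exact h.symm
      have h3 := (IsOfFinOrder.pow_eq_pow_iff_modEq (isOfFinOrder_iff_pow_eq_one.2
        ⟨g', Nat.pos_of_ne_zero hg'0, hprim'.pow_eq_one⟩)).1 h2
      rwa [← hprim'.eq_orderOf] at h3
    · rw [hψ]
      funext g
      exact Char.galois_apply_pow σ.toRingHom hpow (Char.IsIrr.isCharacter χ.2)
        (orderOf_dvd_natCard g)
  · rintro ⟨k, hk, hk1, hψ⟩
    obtain ⟨σ, hσ⟩ := Char.exists_galois_equiv (Nat.card G) k hG0 hk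
    refine ⟨σ, (hσ _ hζ').trans (hpow1 hk1), ?_⟩
    rw [hψ]
    funext g
    exact (Char.galois_apply_pow σ.toRingHom hσ (Char.IsIrr.isCharacter χ.2)
      (orderOf_dvd_natCard g)).symm

omit [Fintype G] [Fact p.Prime] in
/-- An exponent prime to the group order kills only the identity. -/
theorem eq_one_of_pow_eq_one [Finite G] {k : ℕ} (hk : k.Coprime (Nat.card G)) {g : G}
    (h : g ^ k = 1) : g = 1 :=
  (powCoprime (G := G) hk.symm).injective (show g ^ k = 1 ^ k by rw [h, one_pow])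

open scoped Classical in
/-- A section at a generator of a central subgroup. -/
theorem sect_formula {R : Subgroup G} {a : G} (hR : Subgroup.zpowers a = R) [Fintype CG[R]]
    (c : Set (Cfsg.IrrCharacter CG[R])) (haC : a ∈ CG[R]) (χ : Cfsg.IrrCharacter G)
    (y : CG[R]) :
    sect (χ : G → ℂ) a (sbc CG[R] c) (y : G) =
      ∑ η ∈ (Set.toFinite c).toFinset, (Blocks.resMult χ η : ℂ) *
        Cfsg.centralChar (η : CG[R] → ℂ) ⟨a, haC⟩ * (η : CG[R] → ℂ) y := by
  subst hR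
  rw [sect_eq_sum]
  refine Finset.sum_congr rfl fun η _ => ?_
  rw [shiftCoef_eq (mem_zpowers_centralizer' a), shiftScalar, mul_comm (Cfsg.centralChar _ _)]

open scoped Classical in
/-- The exceptional family: the characters outside it are fixed by `p`-conjugation, which permutes
it transitively. -/
theorem exists_exceptional (hM : Cfsg.IsPModular p M) (ha : (Nat.card G).factorization p = 1)
    {B : Set (Cfsg.IrrCharacter G)} (hB : Cfsg.IsPBlock M B) {D : Subgroup G}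
    (hBD : Cfsg.IsDefectGroup p M B D) (hD : Nat.card D = p) :
    ∃ (X Y : Set (Cfsg.IrrCharacter G)) (v : Cfsg.IrrCharacter G → ℤ) (ε : ℤ) (e : ℕ),
      B = X ∪ Y ∧ Disjoint X Y ∧ 0 < e ∧ Nat.card X = e ∧ e * Nat.card Y = p - 1 ∧
      (∀ χ ∈ X, v χ = 1 ∨ v χ = -1) ∧ (ε = 1 ∨ ε = -1) ∧
      (∀ ψ ∈ Y, ∀ g : G, ¬ p ∣ orderOf g →
        (ε : ℂ) * (ψ : G → ℂ) g + ∑ᶠ χ ∈ X, (v χ : ℂ) * (χ : G → ℂ) g = 0) ∧
      (∀ (k : ℕ) (χ ψ : Cfsg.IrrCharacter G), k.Coprime (Nat.card G) →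
        k ≡ 1 [MOD Nat.card G / p] → ((ψ : G → ℂ) = fun g => (χ : G → ℂ) (g ^ k)) →
        (χ ∈ X → ψ = χ) ∧ (χ ∈ Y → ψ ∈ Y)) ∧
      ∀ χ ∈ Y, ∀ ψ ∈ Y, ∃ k : ℕ, k.Coprime (Nat.card G) ∧ k ≡ 1 [MOD Nat.card G / p] ∧
        (ψ : G → ℂ) = fun g => (χ : G → ℂ) (g ^ k) := by
  have : M.IsMaximal := hM.2.1
  have hp := hM.1
  have hp2 := hp.two_le
  have hcycD : IsCyclic D := isCyclic_of_prime_card hD
  obtain ⟨x₀, hx₀⟩ := hcycD.exists_generator
  obtain ⟨x, hxdef⟩ : ∃ x : G, x = (x₀ : G) := ⟨_, rfl⟩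
  have hDeq : D = Subgroup.zpowers x := hxdef ▸ le_antisymm (fun a ha => by
      obtain ⟨i, hi⟩ := Subgroup.mem_zpowers_iff.1 (hx₀ ⟨a, ha⟩)
      exact Subgroup.mem_zpowers_iff.2 ⟨i, by simpa using congrArg Subtype.val hi⟩)
    (Subgroup.zpowers_le.2 x₀.2)
  clear hx₀ hxdef x₀
  subst hDeq
  obtain ⟨c, hmax⟩ := exists_maximal_on hM hB hBD
  obtain ⟨T, hT⟩ : ∃ T : Subgroup G, ∀ g : G, g ∈ T ↔
      g ∈ Subgroup.normalizer (Subgroup.zpowers x : Set G) ∧
        Cfsg.StabilizesBlock CG[Subgroup.zpowers x] c g :=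
    ⟨_, mem_pairStab (p := p) hM hmax.1.1.2⟩
  have hcP : Cfsg.IsPBlock M c := hmax.1.1.2
  have hx : orderOf x = p := by rw [← Nat.card_zpowers, hD]
  have hx1 : x ≠ 1 := fun h => hp.ne_one (by rw [← hx, h, orderOf_one])
  have hcyc : IsCyclic (Subgroup.zpowers x) := inferInstance
  have hab := comm_of_cyclic hcyc
  have hDC : Subgroup.zpowers x ≤ CG[Subgroup.zpowers x] := le_centralizer_of_cyclic hcyc
  letI := Fintype.ofFinite CG[Subgroup.zpowers x]
  obtain ⟨hcp, hcd, hagree⟩ := central_block hM hcP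
    (DefectThms.isDefectGroup_of_induced hM hDC (Subgroup.centralizer_le_normalizer _) hB hBD
      (isInducedBlock_of_pair hM hmax.1))
    (by rw [Nat.card_congr (Subgroup.subgroupOfEquivOfLe hDC).toEquiv, hD]) fun a => by
      rw [Subgroup.mem_centralizer_iff]
      exact fun u hu => Subtype.ext (Subgroup.mem_centralizer_iff.1 a.2 (u : G) hu)
  -- the elements of `D` in the centralizer
  let ι : Subgroup.zpowers x → CG[Subgroup.zpowers x] := fun a => ⟨(a : G), hDC a.2⟩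
  have hιc : ∀ a, ι a ∈ Subgroup.center CG[Subgroup.zpowers x] := fun a =>
    Subgroup.mem_center_iff.2 fun b =>
      Subtype.ext (Subgroup.mem_centralizer_iff.1 b.2 (a : G) a.2).symm
  have hshift : ∀ (η : Cfsg.IrrCharacter CG[Subgroup.zpowers x]) (a : Subgroup.zpowers x)
      (b : CG[Subgroup.zpowers x]), (η : CG[Subgroup.zpowers x] → ℂ) (ι a * b) =
        Cfsg.centralChar (η : CG[Subgroup.zpowers x] → ℂ) (ι a) * (η : CG[Subgroup.zpowers x] → ℂ) b :=
    fun η a b => irr_mul_central η.2 (hιc a) b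
  have hmulμ : ∀ (η : Cfsg.IrrCharacter CG[Subgroup.zpowers x]) (a b : Subgroup.zpowers x),
      Cfsg.centralChar (η : CG[Subgroup.zpowers x] → ℂ) (ι (a * b)) =
        Cfsg.centralChar (η : CG[Subgroup.zpowers x] → ℂ) (ι a) *
          Cfsg.centralChar (η : CG[Subgroup.zpowers x] → ℂ) (ι b) := by
    intro η a b
    refine mul_right_cancel₀ (Char.IsIrr.one_ne_zero η.2) ?_
    rw [← hshift, mul_one, show ι (a * b) = ι a * (ι b * 1) by rw [mul_one]; rfl, hshift, hshift,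
      mul_assoc]
  have hμ1 : ∀ η : Cfsg.IrrCharacter CG[Subgroup.zpowers x],
      Cfsg.centralChar (η : CG[Subgroup.zpowers x] → ℂ) (ι 1) = 1 := by
    intro η
    refine mul_right_cancel₀ (Char.IsIrr.one_ne_zero η.2) ?_
    rw [← hshift, one_mul, mul_one]
    rfl
  let μ : Cfsg.IrrCharacter CG[Subgroup.zpowers x] → (Subgroup.zpowers x →* ℂ) := fun η =>
    { toFun := fun a => Cfsg.centralChar (η : CG[Subgroup.zpowers x] → ℂ) (ι a)
      map_one' := hμ1 η
      map_mul' := hmulμ η }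
  let lam : Cfsg.IrrCharacter CG[Subgroup.zpowers x] → Cfsg.IrrCharacter (Subgroup.zpowers x) :=
    fun η => ⟨fun a => ((μ η).toHomUnits a : ℂˣ), Char.isIrrCharacter_hom (μ η).toHomUnits⟩
  have hlam : ∀ η a, (lam η : Subgroup.zpowers x → ℂ) a =
      Cfsg.centralChar (η : CG[Subgroup.zpowers x] → ℂ) (ι a) := fun η a => rfl
  have hnd : ∀ b : CG[Subgroup.zpowers x], ∃ (a : Subgroup.zpowers x) (s : CG[Subgroup.zpowers x]),
      ¬ p ∣ orderOf s ∧ b = ι a * s := by
    intro b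
    have hzD : (Blocks.pPartOf p b : CG[Subgroup.zpowers x]).1 ∈ Subgroup.zpowers x := by
      have hnorm : ((Subgroup.zpowers x).subgroupOf CG[Subgroup.zpowers x]).Normal :=
        (Subgroup.normal_subgroupOf_iff_le_normalizer hDC).2 (Subgroup.centralizer_le_normalizer _)
      refine Subgroup.mem_subgroupOf.1 ((QuotientGroup.eq_one_iff (Blocks.pPartOf p b)).1 ?_)
      rw [← orderOf_eq_one_iff]
      obtain ⟨j, hj⟩ := Blocks.orderOf_pPartOf hp b
      have h1 : orderOf ((Blocks.pPartOf p b : CG[Subgroup.zpowers x]) : CG[Subgroup.zpowers x] ⧸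
          (Subgroup.zpowers x).subgroupOf CG[Subgroup.zpowers x]) ∣ p ^ j :=
        hj ▸ orderOf_map_dvd (QuotientGroup.mk' _) _
      have h2 := orderOf_dvd_natCard ((Blocks.pPartOf p b : CG[Subgroup.zpowers x]) :
        CG[Subgroup.zpowers x] ⧸ (Subgroup.zpowers x).subgroupOf CG[Subgroup.zpowers x])
      refine Nat.eq_one_of_dvd_coprimes ((hp.coprime_iff_not_dvd.2 fun hd => ?_).pow_left j) h1 h2
      have h3 : p ^ 2 ∣ Nat.card G := by
        refine dvd_trans ?_ (Subgroup.card_subgroup_dvd_card CG[Subgroup.zpowers x])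
        rw [Subgroup.card_eq_card_quotient_mul_card_subgroup
          ((Subgroup.zpowers x).subgroupOf CG[Subgroup.zpowers x]),
          Nat.card_congr (Subgroup.subgroupOfEquivOfLe hDC).toEquiv, hD, pow_two]
        exact Nat.mul_dvd_mul_right hd p
      have h4 := (hp.pow_dvd_iff_le_factorization Nat.card_pos.ne').1 h3
      omega
    exact ⟨⟨_, hzD⟩, _, Blocks.not_dvd_orderOf_pPrimePartOf hp b,
      (Blocks.pPartOf_mul_pPrimePartOf hp b).symm⟩
  have hinj : Set.InjOn lam c := by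
    intro η hη η' hη' h
    refine Subtype.ext (funext fun b => ?_)
    obtain ⟨a, s, hs, rfl⟩ := hnd b
    rw [hshift, hshift, ← hlam, ← hlam, h, hagree η hη η' hη' s hs]
  obtain ⟨θ, hθ, hθ1⟩ : ∃ θ ∈ c, ∀ a, Cfsg.centralChar (θ : CG[Subgroup.zpowers x] → ℂ) (ι a) = 1 := by
    let one : Cfsg.IrrCharacter (Subgroup.zpowers x) :=
      ⟨fun a => (((1 : Subgroup.zpowers x →* ℂˣ) a : ℂˣ) : ℂ), Char.isIrrCharacter_hom 1⟩
    have hcardD : Nat.card (Cfsg.IrrCharacter (Subgroup.zpowers x)) = p := by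
      rw [Char.card_irrCharacter, (Char.card_conjClasses_eq_card_iff).2 fun a b =>
        Subtype.ext (hab a a.2 b b.2), hD]
    have himg : lam '' c = Set.univ := by
      refine Set.eq_of_subset_of_ncard_le (Set.subset_univ _) (le_of_eq ?_)
      rw [Set.ncard_univ, hcardD, Set.ncard_image_of_injOn hinj, ← Nat.card_coe_set_eq, hcp]
    obtain ⟨θ, hθ, hθe⟩ : one ∈ lam '' c := himg ▸ Set.mem_univ _
    refine ⟨θ, hθ, fun a => ?_⟩
    rw [← hlam, hθe]
    simp [one]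
  have hθ0 : (θ : CG[Subgroup.zpowers x] → ℂ) 1 ≠ 0 := Char.IsIrr.one_ne_zero θ.2
  -- the sections at the elements of `D`
  let e₀ : G → ℂ := sbc CG[Subgroup.zpowers x] c
  have hgen : ∀ a : Subgroup.zpowers x, (a : G) ≠ 1 →
      Subgroup.zpowers (a : G) = Subgroup.zpowers x := by
    intro a ha1
    refine Subgroup.eq_of_le_of_card_ge (Subgroup.zpowers_le.2 a.2) ?_
    rw [hD, Nat.card_zpowers]
    have hdv : orderOf (a : G) ∣ p := by
      rw [← hD, Subgroup.orderOf_coe]; exact orderOf_dvd_natCard a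
    exact le_of_eq ((Nat.dvd_prime hp).1 hdv |>.resolve_left fun h =>
      ha1 (orderOf_eq_one_iff.1 h)).symm
  have hregC : ∀ a : Subgroup.zpowers x, (a : G) ≠ 1 → regC p (a : G) = regC p x := by
    intro a ha1
    ext y
    simp only [regC, Finset.mem_filter, Finset.mem_univ, true_and, ← mem_zpowers_centralizer,
      hgen a ha1]
  have hθext : ∀ a : Subgroup.zpowers x, ∀ (y : CG[Subgroup.zpowers x]),
      sect (Cfsg.extendByZero CG[Subgroup.zpowers x] (θ : CG[Subgroup.zpowers x] → ℂ)) (a : G) e₀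
        (y : G) = (θ : CG[Subgroup.zpowers x] → ℂ) y := by
    intro a y
    rw [sect, ← Finset.sum_subset (Finset.subset_univ
        (Finset.univ.filter fun g => g ∈ CG[Subgroup.zpowers x])) fun g _ hg => by
          rw [show e₀ g = 0 from sbc_of_notMem _ fun h => hg (Finset.mem_filter.2 ⟨Finset.mem_univ _, h⟩),
            zero_mul],
      Finset.sum_subtype (p := fun g => g ∈ CG[Subgroup.zpowers x]) _ (by simp)]
    refine Eq.trans (Finset.sum_congr rfl fun b _ => ?_)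
      ((sum_blockCoeff_mul_irr c θ y).trans (if_pos hθ))
    rw [show e₀ (b : G) = Cfsg.blockCoeff c b from sbc_apply c b,
      show (a : G) * (y : G) * (b : G) = ((ι a * (y * b) : CG[Subgroup.zpowers x]) : G) by
        simp [ι, mul_assoc],
      Char.extendByZero_coe, hshift, hθ1, one_mul]
  let r : Cfsg.IrrCharacter G → Cfsg.IrrCharacter (Subgroup.zpowers x) → ℤ := fun χ η =>
    ∑ ξ ∈ (Set.toFinite c).toFinset.filter (fun ξ => lam ξ = η), (Blocks.resMult χ ξ : ℤ)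
  let one : Cfsg.IrrCharacter (Subgroup.zpowers x) :=
    ⟨fun a => (((1 : Subgroup.zpowers x →* ℂˣ) a : ℂˣ) : ℂ), Char.isIrrCharacter_hom 1⟩
  let β : Cfsg.IrrCharacter G → Cfsg.IrrCharacter (Subgroup.zpowers x) → ℤ := fun χ η =>
    r χ η - r χ one
  have hex : ∀ a : Subgroup.zpowers x, Below p M (Subgroup.zpowers x) c (a : G)
      ((fun a : Subgroup.zpowers x => if (a : G) = 1 then
        sbc CG[Subgroup.zpowers (a : G)] (existsUnique_subpairLE hM hmax.1.1
          (Subgroup.zpowers_le.2 a.2)).exists.choose else e₀) a) := by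
    intro a
    by_cases ha1 : (a : G) = 1
    · dsimp only
      rw [if_pos ha1]
      exact ⟨_, (existsUnique_subpairLE hM hmax.1.1 (Subgroup.zpowers_le.2 a.2)).exists.choose_spec,
        rfl⟩
    · dsimp only
      rw [if_neg ha1]
      have : ∀ R : Subgroup G, R = Subgroup.zpowers x → ∃ f,
          Cfsg.SubpairLE p M R f (Subgroup.zpowers x) c ∧
            sbc CG[R] f = sbc CG[Subgroup.zpowers x] c := by
        rintro R rfl
        exact ⟨c, Relation.ReflTransGen.refl, rfl⟩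
      exact this _ (hgen a ha1)
  obtain ⟨ex, hexdef⟩ : ∃ ex : Subgroup.zpowers x → G → ℂ, ex = fun a : Subgroup.zpowers x =>
      if (a : G) = 1 then sbc CG[Subgroup.zpowers (a : G)] (existsUnique_subpairLE hM hmax.1.1
          (Subgroup.zpowers_le.2 a.2)).exists.choose else e₀ := ⟨_, rfl⟩
  rw [← hexdef] at hex
  have hexe : ∀ a : Subgroup.zpowers x, (a : G) ≠ 1 → ex a = e₀ := fun a ha1 => by
    rw [hexdef]; exact if_neg ha1
  have hS : ∀ (χ : Cfsg.IrrCharacter G) (a : Subgroup.zpowers x), (a : G) ≠ 1 →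
      ∀ y : CG[Subgroup.zpowers x], ¬ p ∣ orderOf y →
      sect (χ : G → ℂ) (a : G) e₀ (y : G) = ev (β χ) a * (θ : CG[Subgroup.zpowers x] → ℂ) y := by
    intro χ a ha1 y hy
    have e2 : ∑ η : Cfsg.IrrCharacter (Subgroup.zpowers x), (η : Subgroup.zpowers x → ℂ) a = 0 := by
      have h := Char.regular_eq_sum a
      rw [if_neg fun h => ha1 (by rw [h]; rfl)] at h
      rw [← h]
      exact Finset.sum_congr rfl fun η _ => by rw [(irr_mul_of_comm hab η).1, one_mul]
    have e3 : ev (β χ) a = ∑ η : Cfsg.IrrCharacter (Subgroup.zpowers x),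
        (r χ η : ℂ) * (η : Subgroup.zpowers x → ℂ) a := by
      rw [ev, finsum_eq_sum_of_fintype]
      simp only [β, Int.cast_sub, sub_mul, Finset.sum_sub_distrib]
      rw [← Finset.mul_sum, e2, mul_zero, sub_zero]
    rw [sect_formula (hgen a ha1) c (hDC a.2) χ y, e3, Finset.sum_mul,
      ← Finset.sum_fiberwise _ lam]
    refine Finset.sum_congr rfl fun η _ => ?_
    simp only [r, Int.cast_sum, Int.cast_natCast, Finset.sum_mul]
    refine Finset.sum_congr rfl fun ξ hξ => ?_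
    obtain ⟨hξc, hξη⟩ := Finset.mem_filter.1 hξ
    rw [← hξη, hlam, hagree ξ ((Set.Finite.mem_toFinset _).1 hξc) θ hθ y hy]
  have hsect : ∀ χ : Cfsg.IrrCharacter G, ∀ a : Subgroup.zpowers x, (a : G) ≠ 1 →
      ∀ y ∈ regC p (a : G), sect (χ : G → ℂ) (a : G) (ex a) y = ev (β χ) a *
        sect (Cfsg.extendByZero CG[Subgroup.zpowers x] (θ : CG[Subgroup.zpowers x] → ℂ)) (a : G)
          (ex a) y := by
    intro χ a ha1 y hy
    rw [hregC a ha1] at hy
    obtain ⟨hyC, hyr⟩ := mem_zpowers_centralizer_of_regC hy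
    rw [hexe a ha1, hS χ a ha1 ⟨y, hyC⟩ (by rwa [Subgroup.orderOf_mk]), ← hθext a ⟨y, hyC⟩]
  have hN : ∀ a : Subgroup.zpowers x, (a : G) ≠ 1 → (Nat.card (Subgroup.zpowers x) : ℂ) /
        (Nat.card CG[Subgroup.zpowers (a : G)] : ℂ) *
      (∑ y ∈ regC p (a : G),
        sect (Cfsg.extendByZero CG[Subgroup.zpowers x] (θ : CG[Subgroup.zpowers x] → ℂ)) (a : G) (ex a) y *
          conj (sect (Cfsg.extendByZero CG[Subgroup.zpowers x] (θ : CG[Subgroup.zpowers x] → ℂ))
            (a : G) (ex a) y)) = 1 := by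
    intro a ha1
    rw [hexe a ha1, hregC a ha1, hgen a ha1, hD, sum_regC_eq]
    have hreg : ∀ ψ ∈ c, regM p c θ ψ = regM p c θ θ := by
      intro ψ hψ
      simp only [regM, regSum]
      refine congrArg _ (Finset.sum_congr rfl fun b _ => ?_)
      split_ifs with hb
      · rw [hagree ψ hψ θ hθ b hb]
      · rfl
    have h := sum_regM_mul hM hcP hθ (1 : CG[Subgroup.zpowers x])
    rw [if_pos (by simp [Cfsg.IsPRegular, hp.ne_one]), hcd, pow_one, ← Finset.sum_filter,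
      show Finset.univ.filter (fun ψ => ψ ∈ c) = (Set.toFinite c).toFinset by ext; simp,
      Finset.sum_congr rfl (g := fun _ => regM p c θ θ * (θ : CG[Subgroup.zpowers x] → ℂ) 1)
        fun ψ hψ => by
          rw [hreg ψ ((Set.Finite.mem_toFinset _).1 hψ),
            hagree ψ ((Set.Finite.mem_toFinset _).1 hψ) θ hθ 1 (by simp [hp.ne_one])],
      Finset.sum_const, ← Set.ncard_eq_toFinset_card, ← Nat.card_coe_set_eq, hcp, nsmul_eq_mul] at h
    have h1 : regM p c θ θ = 1 := mul_right_cancel₀ hθ0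
      ((mul_left_cancel₀ (Nat.cast_ne_zero.2 hp.ne_zero) h).trans (one_mul _).symm)
    rw [regM, regSum, hcd, pow_one] at h1
    rw [← h1]
    congr 1
    refine Finset.sum_congr rfl fun b _ => ?_
    rw [hθext a b]
    by_cases hb : p ∣ orderOf b <;> simp [Cfsg.IsPRegular, hb]
  have hβ : ∀ χ (η : Cfsg.IrrCharacter (Subgroup.zpowers x)),
      (∀ a, (η : Subgroup.zpowers x → ℂ) a = 1) → β χ η = 0 := by
    intro χ η hη
    have : η = one := Subtype.ext (funext fun a => by rw [hη a]; simp [one])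
    simp [β, this]
  have hinv : ∀ χ : Cfsg.IrrCharacter G, ∀ t ∈ T, ∀ a a' : Subgroup.zpowers x, (a : G) ≠ 1 →
      (a' : G) = t * (a : G) * t⁻¹ → ev (β χ) a' = ev (β χ) a := by
    intro χ t ht a a' ha1 haa'
    have ha'1 : (a' : G) ≠ 1 := fun h => ha1 (by rw [haa'] at h; simpa using h)
    have hfix : conjF t e₀ = e₀ := by
      funext g
      have h2 := sbc_conjPair t (⟨Subgroup.zpowers x, c⟩ : Cfsg.BrauerPairIdx G) g
      rw [(conjPair_eq_iff hM hcP t).2 ((hT t).1 ht)] at h2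
      exact h2.symm
    have h1 := sect_conjF (Char.isClassFunction_of_isIrr χ.2) (a : G) 1 t (e := e₀)
    rw [mul_one, mul_inv_cancel, hfix, ← haa'] at h1
    have e1 := hS χ a ha1 1 (by simp [hp.ne_one])
    have e2 := hS χ a' ha'1 1 (by simp [hp.ne_one])
    rw [OneMemClass.coe_one] at e1 e2
    rw [e1, e2] at h1
    exact mul_right_cancel₀ hθ0 h1
  have hD1 : Subgroup.zpowers x ≠ ⊥ := fun h => by
    rw [h, Subgroup.card_bot] at hD; exact hp.ne_one hD.symm
  obtain ⟨X, Y, v, ε, y, -, -, hd⟩ := exists_tree_data hM hmax hcyc hT hex hN hsect hβ hinv hD1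
  obtain ⟨e, he⟩ : ∃ e, e = (CG[Subgroup.zpowers x]).relIndex T := ⟨_, rfl⟩
  rw [← he] at hd
  have hm : e * Nat.card Y = p - 1 := by have := hd.card_Y; rwa [hD] at this
  have hepos : 0 < e := Nat.pos_of_ne_zero fun h => by rw [h, zero_mul] at hm; omega
  have hg' : Nat.card G / p ^ (Nat.card G).factorization p = Nat.card G / p := by rw [ha, pow_one]
  -- the effect of `p`-conjugation on the coordinates
  have hkey : ∀ (k : ℕ) (χ ψ : Cfsg.IrrCharacter G), k.Coprime (Nat.card G) →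
      k ≡ 1 [MOD Nat.card G / p] → ((ψ : G → ℂ) = fun g => (χ : G → ℂ) (g ^ k)) → χ ∈ B →
      ψ ∈ B ∧ (∀ g : G, ¬ p ∣ orderOf g → (ψ : G → ℂ) g = (χ : G → ℂ) g) ∧
        ∀ a : Subgroup.zpowers x, (a : G) ≠ 1 → ev (β ψ) a = ev (β χ) (a ^ k) := by
    intro k χ ψ hk hk1 hψ hχ
    have hfix : ∀ g : G, ¬ p ∣ orderOf g → g ^ k = g := by
      intro g hg
      have hdv : orderOf g ∣ Nat.card G / p := by
        have hpG : p ∣ Nat.card G := by rw [← hD]; exact Subgroup.card_subgroup_dvd_card _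
        exact ((Nat.Prime.coprime_iff_not_dvd hp).2 hg).symm.dvd_of_dvd_mul_left
          (by rw [Nat.mul_div_cancel' hpG]; exact orderOf_dvd_natCard g)
      conv_rhs => rw [← pow_one g]
      exact pow_eq_pow_iff_modEq.2 (hk1.of_dvd hdv)
    have hreg : ∀ g : G, ¬ p ∣ orderOf g → (ψ : G → ℂ) g = (χ : G → ℂ) g := fun g hg => by
      rw [hψ]; show (χ : G → ℂ) (g ^ k) = _; rw [hfix g hg]
    refine ⟨?_, hreg, fun a ha1 => ?_⟩
    · have h1 : omega (ψ : G → ℂ) (Cfsg.blockCoeff B) = omega (χ : G → ℂ) (Cfsg.blockCoeff B) := by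
        rw [omega, omega, hreg 1 (by simp [hp.ne_one])]
        congr 1
        refine Finset.sum_congr rfl fun g _ => ?_
        by_cases hg : p ∣ orderOf g
        · rw [blockCoeff_eq_zero_of_dvd hM hB hg, zero_mul, zero_mul]
        · rw [hreg g hg]
      rw [omega_blockCoeff, omega_blockCoeff, if_pos hχ] at h1
      by_contra hne
      rw [if_neg hne] at h1
      exact zero_ne_one h1
    · have hak : ((a ^ k : Subgroup.zpowers x) : G) ≠ 1 := fun h => by
        refine ha1 ?_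
        rw [SubmonoidClass.coe_pow] at h
        exact eq_one_of_pow_eq_one hk h
      have e1 := hS ψ a ha1 1 (by simp [hp.ne_one])
      have e2 := hS χ (a ^ k) hak 1 (by simp [hp.ne_one])
      rw [OneMemClass.coe_one] at e1 e2
      refine mul_right_cancel₀ hθ0 ?_
      rw [← e1, ← e2, sect, sect]
      refine Finset.sum_congr rfl fun g _ => ?_
      by_cases hgC : g ∈ CG[Subgroup.zpowers x]
      swap
      · rw [show e₀ g = 0 from sbc_of_notMem _ hgC, zero_mul, zero_mul]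
      by_cases hg : p ∣ orderOf g
      · rw [show e₀ g = Cfsg.blockCoeff c ⟨g, hgC⟩ from sbc_apply c ⟨g, hgC⟩,
          blockCoeff_eq_zero_of_dvd hM hcP (by rwa [Subgroup.orderOf_mk]), zero_mul, zero_mul]
      rw [hψ, mul_one, mul_one, SubmonoidClass.coe_pow]
      show e₀ g * (χ : G → ℂ) (((a : G) * g) ^ k) = _
      rw [(show Commute (a : G) g from Subgroup.mem_centralizer_iff.1 hgC _ a.2).mul_pow, hfix g hg]
  have hXfix : ∀ (k : ℕ) (χ ψ : Cfsg.IrrCharacter G), k.Coprime (Nat.card G) →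
      k ≡ 1 [MOD Nat.card G / p] → ((ψ : G → ℂ) = fun g => (χ : G → ℂ) (g ^ k)) → χ ∈ X → ψ = χ := by
    intro k χ ψ hk hk1 hψ hχ
    obtain ⟨hψB, hreg, hev⟩ := hkey k χ ψ hk hk1 hψ (hd.union ▸ Or.inl hχ)
    have hsame : ∀ a : Subgroup.zpowers x, (a : G) ≠ 1 → ev (β ψ) a = ev (β χ) a := fun a ha1 => by
      rw [hev a ha1, hd.ev_X χ hχ a ha1, hd.ev_X χ hχ _ fun h => ha1 ?_]
      rw [SubmonoidClass.coe_pow] at h
      exact eq_one_of_pow_eq_one hk h
    have hR : regM p B ψ χ = regM p B χ χ := by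
      simp only [regM, regSum]
      refine congrArg _ (Finset.sum_congr rfl fun g _ => ?_)
      split_ifs with hg
      · rw [hreg g hg]
      · rfl
    have h1 := regM_eq_coords hM hmax hcyc hT hex hN hsect hD1 hψB χ
    have h2 := regM_eq_coords hM hmax hcyc hT hex hN hsect hD1 (hd.union ▸ Or.inl hχ : χ ∈ B) χ
    rw [← he] at h1 h2
    rw [Finset.sum_congr rfl (g := fun a : Subgroup.zpowers x =>
      if (a : G) = 1 then 0 else ev (β χ) a * conj (ev (β χ) a)) fun a _ => by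
        split_ifs with ha1
        · rfl
        · rw [hsame a ha1], hR, h2, sub_left_inj, if_pos rfl, mul_one] at h1
    by_contra hne
    rw [if_neg hne, mul_zero] at h1
    exact mul_ne_zero (Nat.cast_ne_zero.2 hepos.ne') (Nat.cast_ne_zero.2 Nat.card_pos.ne') h1
  have hYY : ∀ (k : ℕ) (χ ψ : Cfsg.IrrCharacter G), k.Coprime (Nat.card G) →
      k ≡ 1 [MOD Nat.card G / p] → ((ψ : G → ℂ) = fun g => (χ : G → ℂ) (g ^ k)) → χ ∈ Y → ψ ∈ Y := by
    intro k χ ψ hk hk1 hψ hχ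
    have hψB := (hkey k χ ψ hk hk1 hψ (hd.union ▸ Or.inr hχ)).1
    rw [hd.union] at hψB
    refine hψB.resolve_left fun hψX => ?_
    -- the image of `ψ` is `ψ`, and the map is injective
    have h2 : (ψ : G → ℂ) = fun g => (ψ : G → ℂ) (g ^ k) := by
      have hirr := Char.isIrr_comp_pow k hk ψ.2
      exact (congrArg Subtype.val (hXfix k ψ ⟨_, hirr⟩ hk hk1 rfl hψX)).symm
    refine Set.disjoint_left.1 hd.disjoint hψX ?_
    suffices ψ = χ from this ▸ hχ
    refine Subtype.ext (funext fun g => ?_)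
    obtain ⟨g₀, rfl⟩ := (powCoprime (G := G) hk.symm).surjective g
    show (ψ : G → ℂ) (g₀ ^ k) = (χ : G → ℂ) (g₀ ^ k)
    rw [← congrFun h2 g₀, congrFun hψ g₀]
  refine ⟨X, Y, v, ε, e, hd.union, hd.disjoint, hepos, hd.card_X, hm, hd.sign_X, hd.sign, hd.relation,
    fun k χ ψ hk hk1 hψ => ⟨hXfix k χ ψ hk hk1 hψ, hYY k χ ψ hk hk1 hψ⟩, fun χ hχ ψ hψ => ?_⟩
  -- transitivity
  have hεne : ε ≠ 0 := by rcases hd.sign with s | s <;> omega
  have hex' : ∀ w ∈ Y, ∃ η, β w η ≠ 0 := fun w hw => by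
    have hcw := hd.card_orbit w hw
    by_contra hno
    push Not at hno
    have : IsEmpty {η : Cfsg.IrrCharacter (Subgroup.zpowers x) // β w η ≠ 0} := ⟨fun η => η.2 (hno η)⟩
    rw [Nat.card_of_isEmpty] at hcw
    omega
  obtain ⟨η, hη⟩ := hex' χ hχ
  obtain ⟨η', hη'⟩ := hex' ψ hψ
  have hnt : ∀ w (ξ : Cfsg.IrrCharacter (Subgroup.zpowers x)), β w ξ ≠ 0 →
      ¬ ∀ a, (ξ : Subgroup.zpowers x → ℂ) a = 1 := fun w ξ h h' => h (hβ w ξ h')
  obtain ⟨x₀, hx₀⟩ : ∃ x₀ : Subgroup.zpowers x, (x₀ : G) = x :=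
    ⟨⟨x, Subgroup.mem_zpowers x⟩, rfl⟩
  have hx₀gen : ∀ a : Subgroup.zpowers x, ∃ i : ℕ, x₀ ^ i = a := fun a => by
    obtain ⟨i, hi⟩ := (mem_powers_iff_mem_zpowers).2 a.2
    exact ⟨i, Subtype.ext (by simpa [hx₀] using hi)⟩
  have hpowη : ∀ (ξ : Cfsg.IrrCharacter (Subgroup.zpowers x)) (a : Subgroup.zpowers x) (i : ℕ),
      (ξ : Subgroup.zpowers x → ℂ) (a ^ i) = (ξ : Subgroup.zpowers x → ℂ) a ^ i := by
    intro ξ a i
    induction i with
    | zero => rw [pow_zero, pow_zero, (irr_mul_of_comm hab ξ).1]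
    | succ i ih => rw [pow_succ, (irr_mul_of_comm hab ξ).2, ih, pow_succ]
  have hroot : ∀ ξ : Cfsg.IrrCharacter (Subgroup.zpowers x),
      (ξ : Subgroup.zpowers x → ℂ) x₀ ^ p = 1 := fun ξ => by
    rw [← hpowη, ← hD, pow_card_eq_one', (irr_mul_of_comm hab ξ).1]
  have hprim : IsPrimitiveRoot ((η : Subgroup.zpowers x → ℂ) x₀) p := by
    have hone : (η : Subgroup.zpowers x → ℂ) x₀ ≠ 1 := fun h => hnt χ η hη fun a => by
      obtain ⟨i, rfl⟩ := hx₀gen a
      rw [hpowη, h, one_pow]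
    rw [IsPrimitiveRoot.iff_orderOf]
    exact orderOf_eq_prime (hroot η) hone
  haveI : NeZero p := ⟨hp.ne_zero⟩
  obtain ⟨k₀, hk₀, hk₀e⟩ := hprim.eq_pow_of_pow_eq_one (hroot η')
  have hk₀0 : k₀ ≠ 0 := fun h => hnt ψ η' hη' fun a => by
    obtain ⟨i, rfl⟩ := hx₀gen a
    rw [hpowη, ← hk₀e, h, pow_zero, one_pow]
  have hpG : p ∣ Nat.card G := by rw [← hD]; exact Subgroup.card_subgroup_dvd_card _
  have hpg' : ¬ p ∣ Nat.card G / p := by
    have h := Nat.not_dvd_ordCompl hp (Nat.card_pos (α := G)).ne'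
    rwa [ha, pow_one] at h
  obtain ⟨k, hk1, hk2⟩ := Nat.chineseRemainder ((hp.coprime_iff_not_dvd.2 hpg') : p.Coprime (Nat.card G / p)) k₀ 1
  have hkco : k.Coprime (Nat.card G) := by
    rw [← Nat.mul_div_cancel' hpG]
    refine Nat.Coprime.mul_right ?_ ?_
    · rw [Nat.coprime_comm, hp.coprime_iff_not_dvd]
      intro hd
      have h0 := hk1.symm.trans (Nat.modEq_zero_iff_dvd.2 hd)
      rw [Nat.ModEq, Nat.mod_eq_of_lt hk₀, Nat.zero_mod] at h0
      exact hk₀0 h0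
    · rw [Nat.Coprime, hk2.gcd_eq, Nat.gcd_one_left]
  have hηη' : ∀ a : Subgroup.zpowers x,
      (η' : Subgroup.zpowers x → ℂ) a = (η : Subgroup.zpowers x → ℂ) (a ^ k) := by
    intro a
    obtain ⟨i, rfl⟩ := hx₀gen a
    rw [hpowη, ← hk₀e, ← pow_mul, ← pow_mul, hpowη, mul_comm i k]
    rw [pow_eq_pow_mod (k₀ * i) hprim.pow_eq_one, pow_eq_pow_mod (k * i) hprim.pow_eq_one,
      Nat.mul_mod, ← hk1, ← Nat.mul_mod]
  obtain ⟨ψ₀, hψ₀⟩ : ∃ ψ₀ : Cfsg.IrrCharacter G, (ψ₀ : G → ℂ) = fun g => (χ : G → ℂ) (g ^ k) :=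
    ⟨⟨_, Char.isIrr_comp_pow k hkco χ.2⟩, rfl⟩
  refine ⟨k, hkco, hk2, ?_⟩
  suffices ψ = ψ₀ from this ▸ hψ₀
  have hψ₀Y := hYY k χ ψ₀ hkco hk2 hψ₀ hχ
  have hev := (hkey k χ ψ₀ hkco hk2 hψ₀ (hd.union ▸ Or.inr hχ)).2.2
  have hcoef : β ψ₀ η' = β χ η := by
    refine Int.cast_injective (α := ℂ) (mul_left_cancel₀ (Nat.cast_ne_zero.2
      (Nat.card_pos (α := Subgroup.zpowers x)).ne') ?_)
    rw [← coeff_eq hcyc hβ ψ₀ η', ← coeff_eq hcyc hβ χ η]
    have hkD : (Nat.card (Subgroup.zpowers x)).Coprime k :=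
      (hkco.coprime_dvd_right (Subgroup.card_subgroup_dvd_card _)).symm
    refine Fintype.sum_equiv (powCoprime hkD) _ _ fun a => ?_
    show _ = if ((a ^ k : Subgroup.zpowers x) : G) = 1 then _ else _
    by_cases ha1 : (a : G) = 1
    · rw [if_pos ha1, if_pos (by rw [SubmonoidClass.coe_pow, ha1, one_pow])]
    · rw [if_neg ha1, if_neg fun h => ha1 ?_, hev a ha1, hηη' a]
      · rfl
      · rw [SubmonoidClass.coe_pow] at h
        exact eq_one_of_pow_eq_one hkco h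
  exact (hd.orbit η' (hnt ψ η' hη')).unique
    ⟨hψ, (hd.coeff_Y ψ hψ η').resolve_left hη'⟩
    ⟨hψ₀Y, hcoef.trans ((hd.coeff_Y χ hχ η).resolve_left hη)⟩

end Cfsg.Agent.BlockChar.Cyclic
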