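import Cfsg.Agent.BlockChar.Cyclic.Brauer

/-!
# A trace form commutes with `p`-th powers of sums
-/

set_option autoImplicit false

namespace Cfsg.Agent.BlockChar.Cyclic

/-- A power of a sum in a ring is the sum of the products over tuples. -/
theorem sum_pow_eq_sum_prod {R ι : Type*} [Semiring R] [Fintype ι] (x : ι → R) (n : ℕ) :
    (∑ a, x a) ^ n = ∑ t : Fin n → ι, (List.ofFn fun j => x (t j)).prod := by
  induction n with
  | zero => simp
  | succ n ih =>
    rw [pow_succ', ih, Finset.sum_mul_sum, ← Fintype.sum_prod_type']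
    refine Fintype.sum_equiv (Fin.consEquiv fun _ => ι) _ _ fun at' => ?_
    simp [Fin.consEquiv, List.ofFn_succ]

/-- A symmetric form takes the same value on a rotated product. -/
theorem form_rotate {k R ι : Type*} [Field k] [Ring R] [Algebra k R] (f : R →ₗ[k] k)
    (hf : ∀ a b, f (a * b) = f (b * a)) (x : ι → R) {n : ℕ} (t : Fin (n + 1) → ι) :
    f ((List.ofFn fun j => x (t (finRotate (n + 1) j))).prod) =
      f ((List.ofFn fun j => x (t j)).prod) := by
  have h : (List.ofFn fun j => x (t (finRotate (n + 1) j))) =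
      (List.ofFn fun j : Fin n => x (t j.succ)) ++ [x (t 0)] := by
    rw [List.ofFn_succ', List.concat_eq_append]
    congr 2
    · congr 1
      funext j
      rw [finRotate_succ_apply, Fin.coeSucc_eq_succ]
    · rw [finRotate_succ_apply, Fin.last_add_one]
  rw [h, List.prod_append, List.prod_singleton, hf, List.ofFn_succ, List.prod_cons]

/-- In characteristic `p` a symmetric form sees only the powers. -/
theorem form_sum_pow {k R ι : Type*} [Field k] [Ring R] [Algebra k R] [Fintype ι] {p : ℕ}
    [Fact p.Prime] [CharP k p] (f : R →ₗ[k] k) (hf : ∀ a b, f (a * b) = f (b * a)) (x : ι → R) :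
    f ((∑ a, x a) ^ p) = ∑ a, f (x a ^ p) := by
  classical
  have hp : p.Prime := Fact.out
  obtain ⟨m, hm⟩ : ∃ m, p = m + 2 := ⟨p - 2, by have := hp.two_le; omega⟩
  subst hm
  set ρ : Equiv.Perm (Fin (m + 2)) := finRotate (m + 2) with hρ
  set Q := Subgroup.zpowers ρ with hQ
  have hord : orderOf ρ = m + 2 := by
    rw [(isCycle_finRotate).orderOf, support_finRotate, Finset.card_univ, Fintype.card_fin]
  have hQp : IsPGroup (m + 2) Q := IsPGroup.of_card (n := 1) (by rw [Nat.card_zpowers, hord, pow_one])
  letI : MulAction Q (Fin (m + 2) → ι) :=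
    { smul := fun σ t => fun j => t ((σ : Equiv.Perm (Fin (m + 2)))⁻¹ j)
      one_smul := fun t => funext fun j => rfl
      mul_smul := fun σ σ' t => funext fun j => rfl }
  set φ : (Fin (m + 2) → ι) → k := fun t => f ((List.ofFn fun j => x (t j)).prod) with hφ
  have hrot : ∀ (q : ℕ) (t : Fin (m + 2) → ι), φ (fun j => t ((ρ ^ q) j)) = φ t := by
    intro q
    induction q with
    | zero => intro t; simp
    | succ q ih =>
      intro t
      rw [← ih t, pow_succ]
      exact form_rotate f hf x fun j => t ((ρ ^ q) j)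
  have hinv : ∀ (σ : Q) t, φ (σ • t) = φ t := fun σ t => by
    obtain ⟨q, hq⟩ := mem_powers_iff_mem_zpowers.2 (Q.inv_mem σ.2)
    show φ (fun j => t ((σ : Equiv.Perm (Fin (m + 2)))⁻¹ j)) = φ t
    rw [← hq]
    exact hrot q t
  rw [sum_pow_eq_sum_prod, map_sum]
  rw [sum_fixed_of_invariant hQp (fun a => by simp [nsmul_eq_mul, CharP.cast_eq_zero]) φ hinv]
  refine Finset.sum_bij' (fun t _ => t 0) (fun a _ => fun _ => a) (fun t _ => Finset.mem_univ _)
    (fun a _ => Finset.mem_filter.2 ⟨Finset.mem_univ _, fun σ => rfl⟩) ?_ (fun a _ => rfl) ?_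
  · intro t ht
    have hfix := (Finset.mem_filter.1 ht).2 ⟨ρ⁻¹, Q.inv_mem (Subgroup.mem_zpowers ρ)⟩
    funext j
    induction j using Fin.induction with
    | zero => rfl
    | succ j ih =>
      have h1 := congrFun hfix j.castSucc
      change t (ρ⁻¹⁻¹ j.castSucc) = t j.castSucc at h1
      rw [inv_inv, hρ, finRotate_succ_apply, Fin.coeSucc_eq_succ] at h1
      rw [h1, ← ih]
  · intro t ht
    have hconst : ∀ j, t j = t 0 := by
      have hfix := (Finset.mem_filter.1 ht).2 ⟨ρ⁻¹, Q.inv_mem (Subgroup.mem_zpowers ρ)⟩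
      intro j
      induction j using Fin.induction with
      | zero => rfl
      | succ j ih =>
        have h1 := congrFun hfix j.castSucc
        change t (ρ⁻¹⁻¹ j.castSucc) = t j.castSucc at h1
        rw [inv_inv, hρ, finRotate_succ_apply, Fin.coeSucc_eq_succ] at h1
        rw [h1, ih]
    show f _ = _
    simp only [hconst, List.ofFn_const, List.prod_replicate]

end Cfsg.Agent.BlockChar.Cyclic
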