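import Cfsg.Agent.BlockChar.Cyclic.OrdPrime
import Cfsg.Agent.BlockThms.OrderP.Setup
import Cfsg.Agent.BlockThms.DefectZero
import Cfsg.Agent.BlockThms.DefectGroup
import Cfsg.Agent.BrauerPairs.FirstMain
import Cfsg.Agent.Blocks.Modular
import Cfsg.Agent.Char.Galois

/-!
# Multiplicities on a Sylow subgroup of prime order

For an irreducible character of degree prime to `p` all linear characters of a Sylow subgroup of
order `p` outside one orbit of the normalizer occur with the same multiplicity.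
-/

set_option autoImplicit false

namespace Cfsg.Agent.BlockChar.PrimeShape

open Cfsg.Agent Cfsg.Agent.Blocks Cfsg.Agent.BlockChar Cfsg.Agent.BlockChar.Cyclic
open scoped ComplexConjugate

universe u

variable {G : Type u} [Group G] [Fintype G] {p : ℕ} [Fact p.Prime] {P : Subgroup G}

open scoped Classical in
/-- The orbit of a linear character under the normalizer. -/
noncomputable def orb (η : Cfsg.IrrCharacter P) : Finset (Cfsg.IrrCharacter P) :=
  Finset.univ.filter fun μ => ∃ g, ∃ hg : g ∈ Subgroup.normalizer (P : Set G), μ = twistIrr η hg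

omit [Fact p.Prime] in
theorem mem_orb {η μ : Cfsg.IrrCharacter P} :
    μ ∈ orb η ↔ ∃ g, ∃ hg : g ∈ Subgroup.normalizer (P : Set G), μ = twistIrr η hg := by
  simp [orb]

omit [Fact p.Prime] in
theorem twistIrr_twistIrr (η : Cfsg.IrrCharacter P) {g g' : G}
    (hg : g ∈ Subgroup.normalizer (P : Set G)) (hg' : g' ∈ Subgroup.normalizer (P : Set G)) :
    twistIrr (twistIrr η hg) hg' = twistIrr η (mul_mem hg hg') := by
  refine Subtype.ext (funext fun x => ?_)
  have h1 : g' * (x : G) * g'⁻¹ ∈ P := (Subgroup.mem_normalizer_iff.1 hg' _).1 x.2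
  have h2 : g * (g' * (x : G) * g'⁻¹) * g⁻¹ ∈ P := (Subgroup.mem_normalizer_iff.1 hg _).1 h1
  rw [twistIrr_apply _ hg' x ⟨_, h1⟩ rfl, twistIrr_apply _ hg ⟨_, h1⟩ ⟨_, h2⟩ rfl,
    twistIrr_apply _ (mul_mem hg hg') x ⟨_, h2⟩ (by show _ = _; group)]

omit [Fact p.Prime] in
theorem twistIrr_one (η : Cfsg.IrrCharacter P) : twistIrr η (one_mem _) = η :=
  Subtype.ext (funext fun x => twistIrr_apply η _ x x (by simp))

omit [Fact p.Prime] in
theorem self_mem_orb (η : Cfsg.IrrCharacter P) : η ∈ orb η :=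
  mem_orb.2 ⟨1, one_mem _, (twistIrr_one η).symm⟩

omit [Fact p.Prime] in
theorem mem_orb_symm {η μ : Cfsg.IrrCharacter P} (h : μ ∈ orb η) : η ∈ orb μ := by
  obtain ⟨g, hg, rfl⟩ := mem_orb.1 h
  refine mem_orb.2 ⟨g⁻¹, inv_mem hg, ?_⟩
  rw [twistIrr_twistIrr]
  simp only [mul_inv_cancel]
  exact (twistIrr_one η).symm

omit [Fact p.Prime] in
theorem mem_orb_trans {η μ ν : Cfsg.IrrCharacter P} (h : μ ∈ orb η) (h' : ν ∈ orb μ) :
    ν ∈ orb η := by
  obtain ⟨g, hg, rfl⟩ := mem_orb.1 h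
  obtain ⟨g', hg', rfl⟩ := mem_orb.1 h'
  exact mem_orb.2 ⟨g * g', mul_mem hg hg', twistIrr_twistIrr η hg hg'⟩

omit [Fact p.Prime] in
theorem exists_powIrr (hab : ∀ x ∈ P, ∀ y ∈ P, x * y = y * x) (η : Cfsg.IrrCharacter P) (k : ℕ) :
    ∃ μ : Cfsg.IrrCharacter P, ∀ x : P, (μ : P → ℂ) x = (η : P → ℂ) x ^ k := by
  classical
  obtain ⟨l, hl⟩ := Char.IsChar.exists_hom (Char.IsIrr.isCharacter η.2) (irr_mul_of_comm hab η).1
  exact ⟨⟨fun x => (((l ^ k : P →* ℂˣ) x : ℂˣ) : ℂ), Char.isIrrCharacter_hom _⟩,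
    fun x => by rw [hl]; simp⟩

variable (hP : Nat.card P = p)
include hP

omit [Fintype G] in
theorem comm_of_card : ∀ x ∈ P, ∀ y ∈ P, x * y = y * x := by
  have : Fact (Nat.card P).Prime := ⟨hP ▸ (Fact.out : p.Prime)⟩
  exact comm_of_cyclic (isCyclic_of_prime_card hP)

omit [Fintype G] in
theorem zpowers_eq {x : G} (hx : x ∈ P) (hx1 : x ≠ 1) : Subgroup.zpowers x = P := by
  have hp : p.Prime := Fact.out
  have : Finite P := Nat.finite_of_card_ne_zero (by rw [hP]; exact hp.ne_zero)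
  refine Subgroup.eq_of_le_of_card_ge (Subgroup.zpowers_le.2 hx) ?_
  rw [hP, Nat.card_zpowers]
  exact ge_of_eq ((hp.eq_one_or_self_of_dvd _
    (hP ▸ Subgroup.orderOf_dvd_natCard _ hx)).resolve_left fun h => hx1 (orderOf_eq_one_iff.1 h))

/-- There are `p` linear characters. -/
theorem card_irr : Fintype.card (Cfsg.IrrCharacter P) = p := by
  classical
  have h1 := Char.regular_eq_sum (1 : P)
  rw [if_pos rfl] at h1
  simp only [(irr_mul_of_comm (comm_of_card hP) _).1, mul_one, Finset.sum_const, Finset.card_univ,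
    nsmul_eq_mul, Nat.cast_inj] at h1
  rw [h1, hP]

/-- A non-trivial linear character has a non-trivial value at a generator and is faithful. -/
theorem primitive_value {η : Cfsg.IrrCharacter P} (hη : ¬ ∀ x : P, (η : P → ℂ) x = 1) {z : P}
    (hz : (z : G) ≠ 1) : IsPrimitiveRoot ((η : P → ℂ) z) p := by
  classical
  have hp : p.Prime := Fact.out
  obtain ⟨l, hl⟩ := Char.IsChar.exists_hom (Char.IsIrr.isCharacter η.2)
    (irr_mul_of_comm (comm_of_card hP) η).1
  have hz1 : (l z : ℂ) ^ p = 1 := by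
    rw [← Units.val_pow_eq_pow_val, ← map_pow, ← hP, pow_card_eq_one', map_one, Units.val_one]
  rw [hl]
  refine IsPrimitiveRoot.iff_orderOf.2 ((orderOf_eq_prime_iff).2 ⟨hz1, fun h => hη fun x => ?_⟩)
  obtain ⟨i, hi⟩ := (zpowers_eq hP z.2 hz).ge x.2
  rw [hl]
  show ((l x : ℂˣ) : ℂ) = 1
  rw [show x = z ^ i from Subtype.ext (by simpa using hi.symm), map_zpow,
    show l z = 1 from Units.ext h, one_zpow, Units.val_one]

/-- Powers of a non-trivial linear character cover everything. -/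
theorem exists_pow_eq {η : Cfsg.IrrCharacter P} (hη : ¬ ∀ x : P, (η : P → ℂ) x = 1)
    (μ : Cfsg.IrrCharacter P) :
    ∃ k : ℕ, k < p ∧ ∀ x : P, (μ : P → ℂ) x = (η : P → ℂ) x ^ k := by
  classical
  have hp : p.Prime := Fact.out
  have hab := comm_of_card hP
  obtain ⟨z, hzP, hz1⟩ := P.bot_or_exists_ne_one.resolve_left fun h => by
    rw [h, Subgroup.card_bot] at hP
    exact hp.ne_one hP.symm
  obtain ⟨l, hl⟩ := Char.IsChar.exists_hom (Char.IsIrr.isCharacter μ.2) (irr_mul_of_comm hab μ).1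
  obtain ⟨l', hl'⟩ := Char.IsChar.exists_hom (Char.IsIrr.isCharacter η.2) (irr_mul_of_comm hab η).1
  have : NeZero p := ⟨hp.ne_zero⟩
  obtain ⟨k, hk, hke⟩ := (primitive_value hP hη (z := ⟨z, hzP⟩) hz1).eq_pow_of_pow_eq_one
    (ξ := (μ : P → ℂ) ⟨z, hzP⟩) (by
      rw [hl, ← Units.val_pow_eq_pow_val, ← map_pow, ← hP, pow_card_eq_one', map_one,
        Units.val_one])
  refine ⟨k, hk, fun x => ?_⟩
  obtain ⟨i, hi⟩ := (zpowers_eq hP hzP hz1).ge x.2
  rw [show x = (⟨z, hzP⟩ : P) ^ i from Subtype.ext (by simpa using hi.symm), hl, hl']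
  rw [hl, hl'] at hke
  have hu : l' ⟨z, hzP⟩ ^ k = l ⟨z, hzP⟩ := Units.ext (by simpa using hke)
  show ((l _ : ℂˣ) : ℂ) = ((l' _ : ℂˣ) : ℂ) ^ k
  rw [map_zpow, map_zpow, ← hu, ← Units.val_pow_eq_pow_val, ← zpow_natCast, ← zpow_natCast,
    ← zpow_mul, ← zpow_mul, mul_comm]

/-- Powers commute with the normalizer, so all orbits of non-trivial characters are equally small. -/
theorem card_orb_le {η μ : Cfsg.IrrCharacter P} (hη : ¬ ∀ x : P, (η : P → ℂ) x = 1) :
    (orb μ).card ≤ (orb η).card := by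
  classical
  have hab := comm_of_card hP
  obtain ⟨k, -, hk⟩ := exists_pow_eq hP hη μ
  choose f hf using fun ν => exists_powIrr hab ν k
  refine (Finset.card_le_card (fun ν hν => ?_)).trans (Finset.card_image_le (s := orb η) (f := f))
  obtain ⟨g, hg, rfl⟩ := mem_orb.1 hν
  refine Finset.mem_image.2 ⟨twistIrr η hg, mem_orb.2 ⟨g, hg, rfl⟩,
    Subtype.ext (funext fun x => ?_)⟩
  have hx : g * (x : G) * g⁻¹ ∈ P := (Subgroup.mem_normalizer_iff.1 hg _).1 x.2
  rw [hf, twistIrr_apply _ hg x ⟨_, hx⟩ rfl, twistIrr_apply _ hg x ⟨_, hx⟩ rfl, hk]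

omit [Fintype G] in
theorem isPGroup_of_card : IsPGroup p P := IsPGroup.of_card (n := 1) (by rw [hP, pow_one])

variable [Fintype P]

/-- The multiplicities are invariant under the normalizer. -/
theorem resMult_twist (χ : Cfsg.IrrCharacter G) (η : Cfsg.IrrCharacter P) {g : G}
    (hg : g ∈ Subgroup.normalizer (P : Set G)) :
    Blocks.resMult χ (twistIrr η hg) = Blocks.resMult χ η := by
  classical
  refine Nat.cast_injective (R := ℂ) ?_
  rw [← Blocks.resMult_spec, ← Blocks.resMult_spec]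
  simp only [Cfsg.classInner]
  congr 1
  let φ : P ≃* P := BlockChar.conjIso P P g (Subgroup.mem_normalizer_iff.1 hg)
  refine Fintype.sum_equiv φ.toEquiv _ _ fun x => ?_
  rw [twistIrr_apply η hg x (φ x) rfl]
  congr 1
  exact (Char.isClassFunction_of_isIrr χ.2 (x : G) g).symm

omit hP in
/-- The degree is the sum of the multiplicities. -/
theorem degree_eq_sum (hP : Nat.card P = p) (χ : Cfsg.IrrCharacter G) :
    Cfsg.charDegree (χ : G → ℂ) = ∑ η : Cfsg.IrrCharacter P, Blocks.resMult χ η := by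
  classical
  refine Nat.cast_injective (R := ℂ) ?_
  rw [Blocks.charDegree_cast (Char.IsIrr.isCharacter χ.2), Nat.cast_sum]
  have h := Blocks.res_eq_sum_resMult χ (1 : P)
  rw [OneMemClass.coe_one] at h
  rw [h]
  exact Finset.sum_congr rfl fun η _ => by rw [(irr_mul_of_comm (comm_of_card hP) η).1, mul_one]

variable (hsq : ¬ p ^ 2 ∣ Nat.card G)
include hsq

/-- `P` is a defect group of every block of a character of degree prime to `p`. -/
theorem exists_maximal_pair {M : Ideal Cfsg.AlgInt} (hM : Cfsg.IsPModular p M)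
    {χ : Cfsg.IrrCharacter G} (hχ : ¬ p ∣ Cfsg.charDegree (χ : G → ℂ)) :
    ∃ c, Cfsg.IsMaximalBrauerPair p M (Cfsg.blockOf M (χ : G → ℂ)) P c := by
  classical
  have hp : p.Prime := Fact.out
  set B := Cfsg.blockOf M (χ : G → ℂ) with hBdef
  have hB := Blocks.isPBlock_blockOf (M := M) χ
  have hχB : χ ∈ B := Blocks.mem_blockOf_self hM χ
  obtain ⟨D, hD⟩ := DefectThms.exists_defectGroup hM hB
  have hcard := BlockChar.card_defectGroup hM hB hD
  have hmin : BlockChar.minVal p B = 0 := by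
    have h := BlockChar.minVal_le (p := p) hχB
    rw [Nat.factorization_eq_zero_of_not_dvd hχ] at h
    omega
  have hfac : (Nat.card G).factorization p = 1 := by
    have h1 : ¬ 2 ≤ (Nat.card G).factorization p := fun h =>
      hsq ((hp.pow_dvd_iff_le_factorization Nat.card_pos.ne').2 h)
    have h2 : 1 ≤ (Nat.card G).factorization p :=
      (hp.pow_dvd_iff_le_factorization Nat.card_pos.ne').1 (by
        rw [pow_one, ← hP]; exact Subgroup.card_subgroup_dvd_card P)
    omega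
  rw [BlockChar.blockDefect_eq, hmin, hfac, Nat.sub_zero, pow_one] at hcard
  let SD : Sylow p G := Sylow.ofCard D (by rw [hcard, hfac, pow_one])
  let SP : Sylow p G := Sylow.ofCard P (by rw [hP, hfac, pow_one])
  obtain ⟨k, hk⟩ := MulAction.exists_smul_eq G SD SP
  have hPD : D.map (MulAut.conj k).toMonoidHom = P := by
    have := congrArg (fun S : Sylow p G => (S : Subgroup G)) hk
    exact this
  exact BrauerPairs.exists_maximal_on hM hB (hPD ▸ DefectThms.isDefectGroup_conj hD k)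

/-- The shape of the restriction to `P`. -/
theorem exists_shape {M : Ideal Cfsg.AlgInt} (hM : Cfsg.IsPModular p M)
    (χ : Cfsg.IrrCharacter G) (hχ : ¬ p ∣ Cfsg.charDegree (χ : G → ℂ)) :
    ∃ η₀ : Cfsg.IrrCharacter P,
      (∀ η η', η ∉ orb η₀ → η' ∉ orb η₀ → Blocks.resMult χ η = Blocks.resMult χ η') ∧
      ((∀ a ∈ Subgroup.centralizer (P : Set G), ∀ b ∈ Subgroup.centralizer (P : Set G),
          a * b = b * a) →
        (∀ g ∈ Subgroup.normalizer (P : Set G), ∀ z ∈ Subgroup.centralizer (P : Set G),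
          ¬ p ∣ orderOf z → g * z * g⁻¹ = z) →
        (∀ x, (η₀ : P → ℂ) x = 1) → ∀ η, η ∉ orb η₀ →
          Blocks.resMult χ η₀ ≤ Blocks.resMult χ η + 1) := by
  classical
  have hp : p.Prime := Fact.out
  have hab := comm_of_card hP
  obtain ⟨c, hc⟩ := exists_maximal_pair hP hsq hM hχ
  obtain ⟨η₀, k, hk, hval, hbd⟩ :=
    exists_orbit_values_of_maximal hM hc hP hsq (Blocks.mem_blockOf_self hM χ)
  have hdiff : ∀ η η' : Cfsg.IrrCharacter P,
      (Blocks.resMult χ η : ℂ) - (Blocks.resMult χ η' : ℂ) = k η - k η' := by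
    intro η η'
    have hp0 : (Nat.card P : ℂ) ≠ 0 := Nat.cast_ne_zero.2 Nat.card_pos.ne'
    rw [← Blocks.resMult_spec, ← Blocks.resMult_spec]
    simp only [Cfsg.classInner]
    rw [← mul_sub, ← Finset.sum_sub_distrib]
    rw [inv_mul_eq_iff_eq_mul₀ hp0]
    have e1 : ∀ x : P, (χ : G → ℂ) (x : G) * conj ((η : P → ℂ) x) -
        (χ : G → ℂ) (x : G) * conj ((η' : P → ℂ) x) =
        ∑ μ : Cfsg.IrrCharacter P, (k μ * ((μ : P → ℂ) x * conj ((η : P → ℂ) x)) -
          k μ * ((μ : P → ℂ) x * conj ((η' : P → ℂ) x))) := by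
      intro x
      by_cases hx : (x : G) = 1
      · have hx' : x = 1 := Subtype.ext hx
        subst hx'
        simp [(irr_mul_of_comm hab η).1, (irr_mul_of_comm hab η').1]
      · rw [hval x hx, Finset.sum_mul, Finset.sum_mul, ← Finset.sum_sub_distrib]
        exact Finset.sum_congr rfl fun μ _ => by ring
    rw [Finset.sum_congr rfl fun x _ => e1 x, Finset.sum_comm]
    have hlin : ∀ μ ν : Cfsg.IrrCharacter P, ∑ i : P, (μ : P → ℂ) i * conj ((ν : P → ℂ) i) =
        if μ = ν then (Nat.card P : ℂ) else 0 := fun μ ν => by convert sum_linear_eq hab μ ν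
    simp only [Finset.sum_sub_distrib, ← Finset.mul_sum, hlin]
    simp only [mul_ite, mul_zero, Finset.sum_ite_eq', Finset.mem_univ, if_true]
    ring
  have hout : ∀ η, η ∉ orb η₀ → k η = 0 := fun η hη => by
    by_contra h
    obtain ⟨g, hg, he⟩ := hk η h
    exact hη (mem_orb.2 ⟨g, hg, he⟩)
  refine ⟨η₀, fun η η' hη hη' => ?_, fun hC hfix h0 η hη => ?_⟩
  · have h := hdiff η η'
    rw [hout η hη, hout η' hη', sub_self, sub_eq_zero] at h
    exact_mod_cast h
  · have h := hdiff η₀ η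
    rw [hout η hη, sub_zero] at h
    have hb := hbd hC hfix h0
    rw [← h] at hb
    have h2 : ((Blocks.resMult χ η₀ : ℝ) - (Blocks.resMult χ η : ℝ)) ≤ 1 := by
      refine le_trans (le_abs_self _) ?_
      rw [← Real.norm_eq_abs, ← Complex.norm_real]
      push_cast
      exact hb
    have h3 : (Blocks.resMult χ η₀ : ℝ) ≤ ((Blocks.resMult χ η + 1 : ℕ) : ℝ) := by
      push_cast
      linarith
    exact_mod_cast h3

end Cfsg.Agent.BlockChar.PrimeShape
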