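import Cfsg.Agent.BlockChar.Cyclic.Setup
import Cfsg.Agent.BlockChar.CentralQuotient
import Cfsg.Agent.BlockThms.QuotientDefect

/-!
# Lifting from the quotient by a central subgroup of order `p`
-/

set_option autoImplicit false

namespace Cfsg.Agent.BlockChar.Cyclic

universe u w

open Cfsg.Agent Cfsg.Agent.Blocks Cfsg.Agent.BrauerPairs Cfsg.Agent.BlockChar
open Cfsg.Agent.BlockChar.ResidueBlock

section Kernel

variable {k : Type w} [Field k] {G : Type u} [Group G] [Fintype G]

/-- The projection to the group algebra of a quotient. -/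
noncomputable def projAlg (N : Subgroup G) [N.Normal] :
    MonoidAlgebra k G →ₐ[k] MonoidAlgebra k (G ⧸ N) :=
  MonoidAlgebra.mapDomainAlgHom k k (QuotientGroup.mk' N)

theorem projAlg_of (N : Subgroup G) [N.Normal] (g : G) :
    projAlg (k := k) N (MonoidAlgebra.of k G g) = MonoidAlgebra.of k (G ⧸ N) (g : G ⧸ N) := by
  refine MonoidAlgebra.coeff_injective ?_
  show Finsupp.mapDomain (QuotientGroup.mk' N) (MonoidAlgebra.of k G g).coeff = _
  simp [MonoidAlgebra.of_apply, Finsupp.mapDomain_single]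

theorem projAlg_surjective (N : Subgroup G) [N.Normal] :
    Function.Surjective (projAlg (k := k) N) := fun y => by
  induction y using MonoidAlgebra.induction_on with
  | of q =>
    obtain ⟨g, rfl⟩ := QuotientGroup.mk_surjective q
    exact ⟨_, projAlg_of N g⟩
  | add a b ha hb =>
    obtain ⟨a', rfl⟩ := ha
    obtain ⟨b', rfl⟩ := hb
    exact ⟨a' + b', map_add _ _ _⟩
  | smul r a ha =>
    obtain ⟨a', rfl⟩ := ha
    exact ⟨r • a', map_smul _ _ _⟩

/-- The kernel of the projection is generated by `x - 1`. -/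
theorem exists_mul_of_proj_eq_zero (N : Subgroup G) [N.Normal] {x : G}
    (hx : ∀ u ∈ N, ∃ n : ℕ, x ^ n = u) (hxc : ∀ g : G, x * g = g * x) {a : MonoidAlgebra k G}
    (ha : projAlg N a = 0) : ∃ b, a = (MonoidAlgebra.of k G x - 1) * b := by
  classical
  have hj : ∀ g : G, ∃ n : ℕ, g = x ^ n * (g : G ⧸ N).out := by
    intro g
    have h1 : ((g : G ⧸ N).out)⁻¹ * g ∈ N :=
      QuotientGroup.eq.1 (QuotientGroup.out_eq' (g : G ⧸ N))
    obtain ⟨n, hn⟩ := hx _ h1
    refine ⟨n, ?_⟩
    rw [((show Commute x (g : G ⧸ N).out from hxc _).pow_left n).eq, hn, mul_inv_cancel_left]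
  choose j hj using hj
  have hexp : a = ∑ g : G, a.coeff g • MonoidAlgebra.of k G g := by
    refine MonoidAlgebra.coeff_injective (Finsupp.ext fun z => ?_)
    rw [MonoidAlgebra.coeff_sum, Finsupp.finsetSum_apply]
    simp [MonoidAlgebra.of_apply, Finsupp.single_apply]
  have hsec : ∑ g : G, a.coeff g • MonoidAlgebra.of k G ((g : G ⧸ N).out) = 0 := by
    have h1 : ∑ g : G, a.coeff g • MonoidAlgebra.of k (G ⧸ N) (g : G ⧸ N) = 0 := by
      rw [← ha]
      conv_rhs => rw [hexp, map_sum]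
      simp only [map_smul, projAlg_of]
    have h2 := congrArg (MonoidAlgebra.mapDomainLinearMap k k (fun q : G ⧸ N => q.out)) h1
    simp only [map_sum, map_smul, map_zero] at h2
    rw [← h2]
    refine Finset.sum_congr rfl fun g _ => ?_
    congr 1
    refine MonoidAlgebra.coeff_injective ?_
    rw [MonoidAlgebra.coeff_mapDomainLinearMap]
    simp [MonoidAlgebra.of_apply, Finsupp.mapDomain_single]
  refine ⟨∑ g : G, a.coeff g • ((∑ l ∈ Finset.range (j g), MonoidAlgebra.of k G x ^ l) *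
    MonoidAlgebra.of k G ((g : G ⧸ N).out)), ?_⟩
  conv_lhs => rw [hexp, ← sub_zero (∑ g : G, a.coeff g • MonoidAlgebra.of k G g), ← hsec,
    ← Finset.sum_sub_distrib]
  rw [Finset.mul_sum]
  refine Finset.sum_congr rfl fun g _ => ?_
  rw [mul_smul_comm, ← smul_sub]
  congr 1
  rw [← mul_assoc, mul_geom_sum, sub_mul, one_mul, ← map_pow, ← map_mul, ← hj]

/-- The corner of a lift of an idempotent is small. -/
theorem finrank_corner_le_of_proj {p : ℕ} [Fact p.Prime] [CharP k p] (N : Subgroup G) [N.Normal]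
    {x : G} (hx : ∀ u ∈ N, ∃ n : ℕ, x ^ n = u) (hxc : ∀ g : G, x * g = g * x) (hxp : x ^ p = 1)
    {ε' t' i' : MonoidAlgebra k (G ⧸ N)} {N' : ℕ}
    (F : Frame (⊤ : Subalgebra k (MonoidAlgebra k (G ⧸ N))) ε' t' i' N')
    {i : MonoidAlgebra k G} (hi : i * i = i) (hπi : projAlg N i = i') :
    Module.finrank k (cornerSpace k i) ≤ p * N' := by
  classical
  have : FiniteDimensional k (MonoidAlgebra k G) :=
    Module.Finite.of_basis (MonoidAlgebra.basis G k)
  obtain ⟨X, hX⟩ : ∃ X, X = MonoidAlgebra.of k G x - 1 := ⟨_, rfl⟩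
  have hXc : ∀ a, X * a = a * X := by
    intro a
    rw [hX, sub_mul, mul_sub, one_mul, mul_one]
    congr 1
    induction a using MonoidAlgebra.induction_on with
    | of g => rw [← map_mul, ← map_mul, hxc]
    | add a a' ha ha' => rw [mul_add, add_mul, ha, ha']
    | smul r a ha => rw [mul_smul_comm, smul_mul_assoc, ha]
  have hXn : ∀ n (a : MonoidAlgebra k G), X ^ n * a = a * X ^ n := fun n a =>
    (show Commute X a from hXc a).pow_left n
  have : CharP (MonoidAlgebra k G) p :=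
    charP_of_injective_algebraMap (algebraMap k (MonoidAlgebra k G)).injective p
  have hX0 : X ^ p = 0 := by
    rw [hX, sub_pow_char_of_commute p (Commute.one_right _), one_pow, ← map_pow, hxp, map_one,
      sub_self]
  obtain ⟨T₀, hT₀⟩ := projAlg_surjective N t'
  obtain ⟨T, hT⟩ : ∃ T, T = i * T₀ * i := ⟨_, rfl⟩
  have hiT : i * T = T := by rw [hT, ← mul_assoc, ← mul_assoc, hi]
  have hTi : T * i = T := by rw [hT, mul_assoc _ i i, hi]
  have hTl : ∀ l, i * (T ^ l * i) * i = T ^ l * i := by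
    intro l
    have hc : Commute i (T ^ l) := (show Commute i T by
      show i * T = T * i
      rw [hiT, hTi]).pow_right l
    rw [← mul_assoc, hc.eq, mul_assoc _ i i, hi, mul_assoc _ i i, hi]
  have hπT : ∀ l, projAlg N (T ^ l * i) = t' ^ l * i' := by
    intro l
    induction l with
    | zero => rw [pow_zero, pow_zero, one_mul, one_mul, hπi]
    | succ l ih =>
      rw [pow_succ', mul_assoc, map_mul, ih, hT, map_mul, map_mul, hT₀, hπi, mul_assoc (i' * t'),
        ← mul_assoc i' (t' ^ l), ← F.pow_comm l F.i_mem, mul_assoc (t' ^ l) i' i', F.idem,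
        mul_assoc i', ← mul_assoc t', ← pow_succ', ← mul_assoc, ← F.pow_comm _ F.i_mem, mul_assoc,
        F.idem]
  let w : Fin p × Fin N' → MonoidAlgebra k G := fun q => X ^ (q.1 : ℕ) * (T ^ (q.2 : ℕ) * i)
  have step : ∀ a, ∃ (c : ℕ → k) (b : MonoidAlgebra k G),
      i * a * i = ∑ l ∈ Finset.range N', c l • (T ^ l * i) + X * (i * b * i) := by
    intro a
    obtain ⟨c, hc⟩ := F.corner_eq (show projAlg N a ∈ (⊤ : Subalgebra k _) from trivial)
    obtain ⟨b, hb⟩ := exists_mul_of_proj_eq_zero N hx hxc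
      (a := i * a * i - ∑ l ∈ Finset.range N', c l • (T ^ l * i)) (by
        simp only [map_sub, map_sum, map_smul, hπT, map_mul, hπi]
        rw [hc, sub_self])
    refine ⟨c, b, ?_⟩
    rw [← hX] at hb
    have h1 := congrArg (fun z => i * z * i) hb
    simp only [mul_sub, sub_mul, Finset.mul_sum, Finset.sum_mul, mul_smul_comm, smul_mul_assoc,
      hTl] at h1
    rw [show i * (i * a * i) * i = i * a * i by
        simp only [← mul_assoc, hi]; rw [mul_assoc _ i i, hi],
      show i * (X * b) * i = X * (i * b * i) by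
        rw [← mul_assoc, ← hXc, mul_assoc X i, mul_assoc]] at h1
    rw [← h1]
    abel
  have key : ∀ n ≤ p, ∀ a, ∃ b,
      i * a * i - X ^ n * (i * b * i) ∈ Submodule.span k (Set.range w) := by
    intro n
    induction n with
    | zero => intro _ a; exact ⟨a, by rw [pow_zero, one_mul, sub_self]; exact zero_mem _⟩
    | succ n ih =>
      intro hn a
      obtain ⟨b, hb⟩ := ih (by omega) a
      obtain ⟨c, b', hb'⟩ := step b
      refine ⟨b', ?_⟩
      have : i * a * i - X ^ (n + 1) * (i * b' * i) =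
          (i * a * i - X ^ n * (i * b * i)) +
            ∑ l ∈ Finset.range N', c l • (X ^ n * (T ^ l * i)) := by
        rw [hb', mul_add, Finset.mul_sum, pow_succ, mul_assoc (X ^ n) X]
        simp only [mul_smul_comm]
        abel
      rw [this]
      refine add_mem hb (Submodule.sum_mem _ fun l hl => Submodule.smul_mem _ _ ?_)
      exact Submodule.subset_span ⟨(⟨n, hn⟩, ⟨l, Finset.mem_range.1 hl⟩), rfl⟩
  have hle : cornerSpace k i ≤ Submodule.span k (Set.range w) := by
    intro a ha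
    obtain ⟨b, hb⟩ := key p le_rfl a
    rwa [hX0, zero_mul, sub_zero, mem_cornerSpace.1 ha] at hb
  refine (Submodule.finrank_mono hle).trans ((finrank_range_le_card w).trans ?_)
  rw [Fintype.card_prod, Fintype.card_fin, Fintype.card_fin]

end Kernel

attribute [local instance] Ideal.Quotient.field

set_option synthInstance.maxHeartbeats 400000

variable {G : Type u} [Group G] [Fintype G] {p : ℕ} {M : Ideal Cfsg.AlgInt} [M.IsMaximal]
  [Fact p.Prime]

/-- The idempotent of a block maps to that of the block of the quotient. -/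
theorem projAlg_bElt (hM : Cfsg.IsPModular p M) (N : Subgroup G) [N.Normal] [Fintype (G ⧸ N)]
    {B : Set (Cfsg.IrrCharacter G)} (hB : Cfsg.IsPBlock M B)
    {b' : Set (Cfsg.IrrCharacter (G ⧸ N))} (hiff : ∀ η, η ∈ b' ↔ inflIrr N η ∈ B) :
    projAlg N (bElt hM B) = bElt hM b' := by
  classical
  have hpush : BlockThms.push N (Cfsg.blockCoeff B) = Cfsg.blockCoeff b' := by
    refine classFun_ext_omega
      (BlockThms.isClassFunction_push N (isClassFunction_blockCoeff B))
      (isClassFunction_blockCoeff b') fun η => ?_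
    rw [← BlockThms.omega_comp_mk, omega_blockCoeff]
    change omega (inflIrr N η : G → ℂ) _ = _
    rw [omega_blockCoeff]
    exact if_congr (hiff η).symm rfl rfl
  refine MonoidAlgebra.coeff_injective (Finsupp.ext fun q => ?_)
  rw [bElt, bElt, coeff_res, ← hpush]
  show (Finsupp.mapDomain (QuotientGroup.mk' N) (res hM (Cfsg.blockCoeff B)).coeff) q = _
  rw [BlockThms.push]
  rw [BlockThms.OrderP.resFun_sum hM _ fun g _ => by
    split_ifs
    · exact memLocalRing_blockCoeff hM hB g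
    · exact (localRing hM).zero_mem]
  rw [Finsupp.mapDomain, Finsupp.sum_fintype _ _ (fun _ => Finsupp.single_zero _),
    Finsupp.finsetSum_apply]
  refine Finset.sum_congr rfl fun g _ => ?_
  rw [coeff_res, Finsupp.single_apply]
  simp only [QuotientGroup.mk'_apply]
  by_cases h : (g : G ⧸ N) = q
  · simp [h]
  · simp [h, resFun_zero' hM]

/-- The image of the quotient block's defect group and its inertial quotient. -/
theorem exists_quotient_data (hM : Cfsg.IsPModular p M) {B : Set (Cfsg.IrrCharacter G)}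
    {D : Subgroup G} {c : Set (Cfsg.IrrCharacter (Subgroup.centralizer (D : Set G)))}
    (hmax : Cfsg.IsMaximalBrauerPair p M B D c) (hcyc : IsCyclic D) (Q : Subgroup G) [Q.Normal]
    [Fintype (G ⧸ Q)] (hQD : Q ≤ D) (hQc : Q ≤ Subgroup.center G) (hQcard : Nat.card Q = p) :
    ∃ b' : Set (Cfsg.IrrCharacter (G ⧸ Q)), (∀ η, η ∈ b' ↔ inflIrr Q η ∈ B) ∧
      ∃ (D' : Subgroup (G ⧸ Q))
        (c' : Set (Cfsg.IrrCharacter (Subgroup.centralizer (D' : Set (G ⧸ Q))))),
        Cfsg.IsMaximalBrauerPair p M b' D' c' ∧ IsCyclic D' ∧ p * Nat.card D' = Nat.card D ∧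
        pairStab (⟨D', c'⟩ : Cfsg.BrauerPairIdx (G ⧸ Q)) ≤
          Subgroup.centralizer (D' : Set (G ⧸ Q)) := by
  classical
  have hp := hM.1
  have hB := hmax.1.2.1
  have hQp : IsPGroup p Q := hmax.1.1.1.to_le hQD
  obtain ⟨b', hb', hiff, -, -⟩ := exists_quotient_block Q hM hQp hQc hB
  obtain ⟨Bb, hBb, hsub, P, hP, hPb⟩ := BlockThms.QuotientDefect.exists_dominated Q hM hQp hB
  obtain ⟨χ, hχ⟩ := IsPBlock.nonempty hM hBb
  have hBb' : Bb = b' := by
    rw [IsPBlock.eq_blockOf hM hBb hχ,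
      IsPBlock.eq_blockOf hM hb' ((hiff χ).2 (hsub χ hχ (inflIrr Q χ) rfl))]
  subst hBb'
  obtain ⟨k, hk⟩ := exists_conj_le_of_pair hM hmax.1 hP
  have hDdef := isDefectGroup_of_maximal hM hmax
  have hcards : Nat.card P = Nat.card D := by
    rw [card_defectGroup hM hB hP, card_defectGroup hM hB hDdef]
  have hPeq : D.map (MulAut.conj k).toMonoidHom = P :=
    Subgroup.eq_of_le_of_card_ge hk (by rw [DefectThms.card_map_conj, hcards])
  have hPcyc : IsCyclic P := by
    rw [← hPeq]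
    exact isCyclic_of_surjective ((MulAut.conj k).toMonoidHom.subgroupMap D)
      (MonoidHom.subgroupMap_surjective _ _)
  have hPp : IsPGroup p P := DefectThms.isPGroup_of_isDefectGroup hP
  have hQP : Q ≤ P := fun u hu => by
    rw [← hPeq]
    refine ⟨u, hQD hu, ?_⟩
    show k * u * k⁻¹ = u
    rw [Subgroup.mem_center_iff.1 (hQc hu) k, mul_inv_cancel_right]
  obtain ⟨D', hD'⟩ : ∃ D', D' = P.map (QuotientGroup.mk' Q) := ⟨_, rfl⟩
  rw [← hD'] at hPb
  obtain ⟨c', hc'⟩ := exists_maximal_on hM hBb hPb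
  have hcyc' : IsCyclic D' := by
    rw [hD']
    exact isCyclic_of_surjective ((QuotientGroup.mk' Q).subgroupMap P)
      (MonoidHom.subgroupMap_surjective _ _)
  refine ⟨Bb, hiff, D', c', hc', hcyc', ?_, ?_⟩
  · have h1 := Subgroup.relIndex_ker (K := P) (QuotientGroup.mk' Q)
    rw [QuotientGroup.ker_mk', ← hD'] at h1
    rw [← hcards, ← h1, ← hQcard, Subgroup.relIndex, ← Subgroup.index_mul_card (Q.subgroupOf P),
      Nat.card_congr (Subgroup.subgroupOfEquivOfLe hQP).toEquiv, mul_comm]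
  intro q hq
  have hpp : pPartOf p q ∈ pairStab (⟨D', c'⟩ : Cfsg.BrauerPairIdx (G ⧸ Q)) :=
    pow_mem hq (pExp p (orderOf q))
  obtain ⟨h1, h2⟩ := (mem_pairStab hM hc'.1.1.2 _).1 hpp
  have hu : pPartOf p q ∈ Subgroup.centralizer (D' : Set (G ⧸ Q)) := by
    have := mem_sup_of_maximal hM hc' h1 h2 (orderOf_pPartOf hp q)
    rwa [sup_of_le_right (le_centralizer_of_cyclic hcyc')] at this
  have hs : pPrimePartOf p q ∈ Subgroup.centralizer (D' : Set (G ⧸ Q)) := by
    obtain ⟨w, hw, hwq⟩ := exists_regular_lift Q hp (not_dvd_orderOf_pPrimePartOf hp q)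
    have hwN : (w : G ⧸ Q) ∈ Subgroup.normalizer (D' : Set (G ⧸ Q)) := by
      rw [hwq]
      exact ((mem_pairStab hM hc'.1.1.2 _).1 (pow_mem hq (pPrimeExp p (orderOf q)))).1
    have hcomap : ∀ u : G, u ∈ P ↔ (u : G ⧸ Q) ∈ D' := fun u => by
      rw [hD']
      refine ⟨fun hu => ⟨u, hu, rfl⟩, ?_⟩
      rintro ⟨v, hv, hvu⟩
      have h : v⁻¹ * u ∈ Q := QuotientGroup.eq.1 hvu
      simpa using P.mul_mem hv (hQP h)
    have hwP : w ∈ Subgroup.normalizer (P : Set G) := Subgroup.mem_normalizer_iff.2 fun u => by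
      rw [hcomap, hcomap, QuotientGroup.mk_mul, QuotientGroup.mk_mul, QuotientGroup.mk_inv]
      exact Subgroup.mem_normalizer_iff.1 hwN (u : G ⧸ Q)
    obtain ⟨x, hxQ, hx1⟩ : ∃ x ∈ Q, x ≠ 1 := by
      by_contra hcon
      push Not at hcon
      have : Q = ⊥ := (Subgroup.eq_bot_iff_forall _).2 hcon
      rw [this, Subgroup.card_bot] at hQcard
      exact hp.ne_one hQcard.symm
    have hwC : w ∈ Subgroup.centralizer (P : Set G) := mem_centralizer_of_fix hp hPp hPcyc hwP hw
      (hQP hxQ) hx1 (by rw [Subgroup.mem_center_iff.1 (hQc hxQ) w, mul_inv_cancel_right])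
    rw [← hwq, Subgroup.mem_centralizer_iff]
    intro v hv
    obtain ⟨u, rfl⟩ := QuotientGroup.mk_surjective v
    rw [← QuotientGroup.mk_mul, ← QuotientGroup.mk_mul,
      Subgroup.mem_centralizer_iff.1 hwC u ((hcomap u).2 hv)]
  rw [← pPartOf_mul_pPrimePartOf hp q]
  exact mul_mem hu hs

/-- The central case: rank one and a frame, given those of the quotient. -/
theorem exists_frame_of_central (hM : Cfsg.IsPModular p M) {B : Set (Cfsg.IrrCharacter G)}
    {D : Subgroup G} {c : Set (Cfsg.IrrCharacter (Subgroup.centralizer (D : Set G)))}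
    (hmax : Cfsg.IsMaximalBrauerPair p M B D c) (hcyc : IsCyclic D)
    (hfix : ∀ g ∈ Subgroup.normalizer (D : Set G),
      Cfsg.StabilizesBlock (Subgroup.centralizer (D : Set G)) c g →
        g ∈ Subgroup.centralizer (D : Set G))
    (Q : Subgroup G) [Q.Normal] [Fintype (G ⧸ Q)] (hQD : Q ≤ D) (hQc : Q ≤ Subgroup.center G)
    (hQcard : Nat.card Q = p) {x : G} (hxQ : x ∈ Q) (hx : ∀ u ∈ Q, ∃ n : ℕ, x ^ n = u)
    {b' : Set (Cfsg.IrrCharacter (G ⧸ Q))} (hiff : ∀ η, η ∈ b' ↔ inflIrr Q η ∈ B)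
    {n' : ℕ} (hn' : p * n' = Nat.card D) {t' i' : MonoidAlgebra (Cfsg.AlgInt ⧸ M) (G ⧸ Q)}
    (F : Frame (⊤ : Subalgebra (Cfsg.AlgInt ⧸ M) (MonoidAlgebra (Cfsg.AlgInt ⧸ M) (G ⧸ Q)))
      (bElt hM b') t' i' n') :
    ∃ t i, Frame (⊤ : Subalgebra (Cfsg.AlgInt ⧸ M) (MonoidAlgebra (Cfsg.AlgInt ⧸ M) G))
      (bElt hM B) t i (Nat.card D) := by
  classical
  have := charP_residueField hM
  have : CharP (MonoidAlgebra (Cfsg.AlgInt ⧸ M) G) p :=
    charP_of_injective_algebraMap
      (algebraMap (Cfsg.AlgInt ⧸ M) (MonoidAlgebra (Cfsg.AlgInt ⧸ M) G)).injective p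
  have hp := hM.1
  have hB := hmax.1.2.1
  have hxc : ∀ g : G, x * g = g * x := fun g => (Subgroup.mem_center_iff.1 (hQc hxQ) g).symm
  have hxp : x ^ p = 1 := by
    have h := pow_card_eq_one' (G := Q) (x := ⟨x, hxQ⟩)
    rw [hQcard] at h
    simpa using congrArg Subtype.val h
  have hπε := projAlg_bElt hM Q hB hiff
  have hcx : ∀ a : MonoidAlgebra (Cfsg.AlgInt ⧸ M) G,
      MonoidAlgebra.of (Cfsg.AlgInt ⧸ M) G x * a = a * MonoidAlgebra.of _ G x := by
    intro a
    induction a using MonoidAlgebra.induction_on with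
    | of g => rw [← map_mul, ← map_mul, hxc]
    | add a a' ha ha' => rw [mul_add, add_mul, ha, ha']
    | smul r a ha => rw [mul_smul_comm, smul_mul_assoc, ha]
  have hnil : ∀ z, projAlg (k := Cfsg.AlgInt ⧸ M) Q z = 0 → IsNilpotent z := by
    intro z hz
    obtain ⟨b, rfl⟩ := exists_mul_of_proj_eq_zero Q hx hxc hz
    have hcomm : Commute (MonoidAlgebra.of (Cfsg.AlgInt ⧸ M) G x - 1) b :=
      Commute.sub_left (hcx b) (Commute.one_left b)
    exact ⟨p, by rw [hcomm.mul_pow, sub_pow_char_of_commute p (Commute.one_right _), one_pow,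
      ← map_pow, hxp, map_one, sub_self, zero_mul]⟩
  obtain ⟨a₀, ha₀⟩ := projAlg_surjective (k := Cfsg.AlgInt ⧸ M) Q i'
  obtain ⟨a, ha⟩ : ∃ a, a = bElt hM B * a₀ := ⟨_, rfl⟩
  have hπa : projAlg Q a = i' := by rw [ha, map_mul, hπε, ha₀, F.eps_i]
  have hker : projAlg Q (a - a * a) = 0 := by rw [map_sub, map_mul, hπa, F.idem, sub_self]
  obtain ⟨N₀, hN₀⟩ := hnil _ hker
  obtain ⟨e, hee, -, -, hS⟩ := exists_idem_of_nilpotent (k := Cfsg.AlgInt ⧸ M) (Nat.succ_pos N₀)
    (a := a) (by rw [pow_succ, hN₀, zero_mul])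
  obtain ⟨-, s, -, hs⟩ := hS ⊤ trivial
  have hπe : projAlg Q e = i' := by
    rw [show e = a + (a - a * a) * s by rw [← hs]; abel, map_add, map_mul, hker, zero_mul,
      add_zero, hπa]
  obtain ⟨i, hi⟩ : ∃ i, i = bElt hM B * e := ⟨_, rfl⟩
  have hii : i * i = i := by
    rw [hi, mul_assoc, ← mul_assoc e, ← bElt_central hM, mul_assoc, hee, ← mul_assoc,
      bElt_idem hM hB]
  have hεi : bElt hM B * i = i := by rw [hi, ← mul_assoc, bElt_idem hM hB]
  have hπi : projAlg Q i = i' := by rw [hi, map_mul, hπε, hπe, F.eps_i]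
  obtain ⟨n, u, v, -, -, hg⟩ := F.gen
  choose u₀ hu₀ using fun q => projAlg_surjective (k := Cfsg.AlgInt ⧸ M) Q (u q)
  choose v₀ hv₀ using fun q => projAlg_surjective (k := Cfsg.AlgInt ⧸ M) Q (v q)
  obtain ⟨u', v', hgen⟩ := gen_of_nilpotent (i := i) (bElt_idem hM hB) (bElt_central hM) u₀ v₀
    (hnil _ (by
      rw [map_sub, map_mul, map_sum, hπε]
      simp only [map_mul, hu₀, hv₀, hπi]
      rw [← hg, F.eps_idem, sub_self]))
  obtain ⟨t, ht⟩ := frame_of_corner hM hmax hcyc hfix hii hεi ⟨n, u', v', hgen⟩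
    (hn' ▸ finrank_corner_le_of_proj Q hx hxc hxp F hii hπi)
  exact ⟨t, i, ht⟩

end Cfsg.Agent.BlockChar.Cyclic
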