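import Cfsg.Agent.BlockChar.Cyclic.Simples
import Cfsg.Agent.BlockChar.Cyclic.Point
import Cfsg.Agent.BlockChar.Cyclic.CornerFix
import Cfsg.Agent.BlockChar.Cyclic.Embed
import Cfsg.Agent.BlockChar.RankOne

/-!
# Blocks with one simple module: a point, the corner and the centre
-/

set_option autoImplicit false

namespace Cfsg.Agent.BlockChar.Cyclic

universe u v w

section Algebra

variable {k : Type w} [Field k] {R : Type u} [Ring R] [Algebra k R]

/-- An idempotent generates the block when it does so up to a nilpotent element. -/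
theorem gen_of_nilpotent {ε i : R} (hε : ε * ε = ε) (hεc : ∀ x, ε * x = x * ε) {n : ℕ}
    (u v : Fin n → R) (h : IsNilpotent (ε - ε * ∑ q, u q * i * v q)) :
    ∃ u' v' : Fin n → R, ε = ∑ q, u' q * i * v' q := by
  obtain ⟨N, hN⟩ := h
  obtain ⟨d, hd⟩ : ∃ d, d = ε - ε * ∑ q, u q * i * v q := ⟨_, rfl⟩
  rw [← hd] at hN
  set w := ∑ j ∈ Finset.range N, d ^ j with hw
  have h1 : (1 - d) * w = 1 := by rw [hw, mul_neg_geom_sum, hN, sub_zero]
  have h2 : (1 - d) * w = w * (1 - d) :=
    (Commute.sum_right _ _ _ fun j _ =>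
      ((Commute.one_left d).sub_left (Commute.refl d)).pow_right j).eq
  refine ⟨fun q => w * ε * u q, v, ?_⟩
  have h3 : ε = w * (ε * ∑ q, u q * i * v q) := by
    have e : ε * (1 - d) = ε * ∑ q, u q * i * v q := by
      rw [mul_sub, mul_one, hd, mul_sub, hε, ← mul_assoc, hε, sub_sub_cancel]
    rw [← e, ← mul_assoc, ← hεc w, mul_assoc, ← h2, h1, mul_one]
  conv_lhs => rw [h3]
  rw [← mul_assoc, Finset.mul_sum]
  simp only [mul_assoc]

variable (k) in
/-- The corner of an idempotent. -/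
def cornerSpace (i : R) : Submodule k R where
  carrier := {a | i * a * i = a}
  add_mem' := fun {a b} (ha : i * a * i = a) (hb : i * b * i = b) => by
    show i * (a + b) * i = a + b
    rw [mul_add, add_mul, ha, hb]
  zero_mem' := by
    show i * 0 * i = 0
    rw [mul_zero, zero_mul]
  smul_mem' := fun r a (ha : i * a * i = a) => by
    show i * (r • a) * i = r • a
    rw [mul_smul_comm, smul_mul_assoc, ha]

theorem mem_cornerSpace {i a : R} : a ∈ cornerSpace k i ↔ i * a * i = a := Iff.rfl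

theorem sandwich_mem_cornerSpace {i : R} (hi : i * i = i) (a : R) :
    i * a * i ∈ cornerSpace k i := by
  rw [mem_cornerSpace]
  simp only [← mul_assoc, hi]
  rw [mul_assoc _ i i, hi]

variable (k) in
/-- The central elements under an idempotent. -/
def centerSpace (ε : R) : Submodule k R where
  carrier := {z | (∀ x, z * x = x * z) ∧ ε * z = z}
  add_mem' := fun {a b} ha hb => ⟨fun x => by rw [add_mul, mul_add, ha.1, hb.1],
    by rw [mul_add, ha.2, hb.2]⟩
  zero_mem' := ⟨fun x => by rw [zero_mul, mul_zero], mul_zero _⟩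
  smul_mem' := fun r a ha => ⟨fun x => by rw [smul_mul_assoc, mul_smul_comm, ha.1],
    by rw [mul_smul_comm, ha.2]⟩

/-- A commutative corner embeds into the centre. -/
theorem finrank_corner_le [FiniteDimensional k R] {ε i : R} (hε : ε * ε = ε)
    (hεc : ∀ x, ε * x = x * ε) (hi : i * i = i) (hεi : ε * i = i)
    (hgen : ∃ (n : ℕ) (u v : Fin n → R), ε = ∑ q, u q * i * v q)
    (hcomm : ∀ a a', i * a * i * (i * a' * i) = i * a' * i * (i * a * i)) :
    Module.finrank k (cornerSpace k i) ≤ Module.finrank k (centerSpace k ε) := by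
  obtain ⟨n, u, v, hg⟩ := hgen
  have hcorner : ∀ a ∈ cornerSpace k i, i * a = a ∧ a * i = a := fun a ha => by
    have ha' : i * a * i = a := ha
    constructor
    · conv_lhs => rw [← ha', ← mul_assoc, ← mul_assoc, hi]
      exact ha'
    · conv_lhs => rw [← ha', mul_assoc, hi]
      exact ha'
  let f : R →ₗ[k] R :=
    ∑ q, LinearMap.mulLeft k (ε * u q) ∘ₗ LinearMap.mulRight k (v q)
  have hf : ∀ a, f a = ε * ∑ q, u q * a * v q := fun a => by
    simp [f, Finset.mul_sum, mul_assoc]
  have hmem : ∀ a ∈ cornerSpace k i, f a ∈ centerSpace k ε := by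
    intro a ha
    obtain ⟨hia, hai⟩ := hcorner a ha
    have ha' : i * a * i = a := ha
    refine ⟨fun r => Eq.symm ?_, by rw [hf, ← mul_assoc, hε]⟩
    have key : ∀ q, ε * (r * (u q * a)) = ∑ s, u s * a * (i * (v s * r * u q) * i) := by
      intro q
      rw [hg, Finset.sum_mul]
      refine Finset.sum_congr rfl fun s _ => ?_
      calc u s * i * v s * (r * (u q * a))
          = u s * (i * (v s * r * u q) * i * (i * a * i)) := by
            rw [ha']
            conv_lhs => rw [← hia]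
            simp only [mul_assoc]
        _ = u s * (i * a * i * (i * (v s * r * u q) * i)) := by rw [hcomm]
        _ = _ := by rw [ha']; simp only [mul_assoc]
    calc r * f a = ∑ q, ε * (r * (u q * a)) * v q := by
          rw [hf, ← mul_assoc, ← hεc, mul_assoc, Finset.mul_sum, Finset.mul_sum]
          simp only [mul_assoc]
      _ = ∑ q, ∑ s, u s * a * (i * (v s * r * u q) * i) * v q := by
          simp only [key, Finset.sum_mul]
      _ = ∑ s, u s * a * v s * r * ε := by
          rw [Finset.sum_comm]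
          refine Finset.sum_congr rfl fun s _ => ?_
          conv_rhs => rw [← hai, hg, Finset.mul_sum]
          simp only [mul_assoc]
      _ = f a * r := by
          rw [hf, ← Finset.sum_mul, ← Finset.sum_mul, ← hεc, ← mul_assoc]
  have hinj : ∀ a ∈ cornerSpace k i, i * f a * i = a := by
    intro a ha
    obtain ⟨hia, hai⟩ := hcorner a ha
    have ha' : i * a * i = a := ha
    have hiε : i * ε = i := by rw [← hεc, hεi]
    calc i * f a * i = ∑ q, i * u q * i * (i * a * i) * (i * v q * i) := by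
          rw [hf, ← mul_assoc, hiε, Finset.mul_sum, Finset.sum_mul, ha']
          refine Finset.sum_congr rfl fun q _ => ?_
          calc i * (u q * a * v q) * i = i * u q * (i * (a * (i * (v q * i)))) := by
                rw [← mul_assoc a i, hai, ← mul_assoc i a, hia]
                simp only [mul_assoc]
            _ = _ := by
                conv_rhs => rw [show i * u q * i * a = i * u q * (i * a) by rw [mul_assoc]]
                simp only [mul_assoc]
      _ = ∑ q, i * a * i * (i * u q * i * (i * v q * i)) := by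
          refine Finset.sum_congr rfl fun q _ => ?_
          rw [hcomm, mul_assoc]
      _ = i * a * i * (i * ε * i) := by
          rw [← Finset.mul_sum]
          congr 1
          rw [hg, Finset.mul_sum, Finset.sum_mul]
          refine Finset.sum_congr rfl fun q _ => ?_
          simp only [← mul_assoc]
          rw [mul_assoc _ i i, hi]
      _ = a := by rw [hiε, hi, ha', hai]
  refine LinearMap.finrank_le_finrank_of_injective
    (f := (f.comp (cornerSpace k i).subtype).codRestrict _ fun a => hmem _ a.2) ?_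
  intro a b hab
  have h1 : f (a : R) = f (b : R) := congrArg Subtype.val hab
  exact Subtype.ext (by rw [← hinj _ a.2, ← hinj _ b.2, h1])

end Algebra

section Semisimple

variable {k : Type w} [Field k] {G : Type u} [Group G] [Fintype G]

/-- The radical of a block which is a full trace is zero. -/
theorem rad_eq_zero {ε b : MonoidAlgebra k G} (hεc : ∀ x, ε * x = x * ε)
    (hb : groupSum (conjRep k) ⊤ b = ε) {a : MonoidAlgebra k G}
    (ha : a ∈ Ring.jacobson (MonoidAlgebra k G)) (hεa : ε * a = a) : a = 0 := by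
  classical
  have : FiniteDimensional k (MonoidAlgebra k G) :=
    Module.Finite.of_basis (MonoidAlgebra.basis G k)
  have : IsArtinianRing (MonoidAlgebra k G) := IsArtinianRing.of_finite k _
  let I : Submodule k (MonoidAlgebra k G) :=
    { carrier := {x | x ∈ Ring.jacobson (MonoidAlgebra k G) ∧ ε * x = x}
      add_mem' := fun {x y} hx hy => ⟨add_mem hx.1 hy.1, by rw [mul_add, hx.2, hy.2]⟩
      zero_mem' := ⟨zero_mem _, mul_zero _⟩
      smul_mem' := fun r x hx => ⟨by
        rw [Algebra.smul_def]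
        exact Ideal.mul_mem_left _ _ hx.1, by rw [mul_smul_comm, hx.2]⟩ }
  have hleft : ∀ r, ∀ x ∈ I, r * x ∈ I := fun r x hx =>
    ⟨Ideal.mul_mem_left _ r hx.1, by rw [← mul_assoc, hεc, mul_assoc, hx.2]⟩
  obtain ⟨C, hC⟩ := I.exists_isCompl
  let P : MonoidAlgebra k G →ₗ[k] MonoidAlgebra k G := I.subtype ∘ₗ I.projectionOnto C hC
  have hPI : ∀ x, P x ∈ I := fun x => (I.projectionOnto C hC x).2
  have hPid : ∀ x ∈ I, P x = x := fun x hx =>
    congrArg Subtype.val (Submodule.projectionOnto_apply_left hC ⟨x, hx⟩)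
  let h : MonoidAlgebra k G →ₗ[k] MonoidAlgebra k G :=
    ∑ g : G, LinearMap.mulLeft k (MonoidAlgebra.of k G g * b) ∘ₗ P ∘ₗ
      LinearMap.mulLeft k (MonoidAlgebra.of k G g⁻¹)
  have hh : ∀ x, h x = ∑ g : G, MonoidAlgebra.of k G g * b * P (MonoidAlgebra.of k G g⁻¹ * x) :=
    fun x => by simp [h, mul_assoc]
  have hfix : ∀ x ∈ I, h x = x := by
    intro x hx
    have hsum : ∑ g : G, MonoidAlgebra.of k G g * b * MonoidAlgebra.of k G g⁻¹ = ε := by
      have := Fintype.ofFinite (⊤ : Subgroup G)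
      rw [← hb, groupSum_apply]
      exact (Fintype.sum_equiv Subgroup.topEquiv.toEquiv _ _ fun g => conjRep_apply k _ _).symm
    rw [hh, Finset.sum_congr rfl fun g _ => by rw [hPid _ (hleft _ x hx)]]
    simp only [← mul_assoc]
    rw [← Finset.sum_mul, hsum, hx.2]
  have hlin : ∀ r x, h (r * x) = r * h x := by
    intro r x
    induction r using MonoidAlgebra.induction_on with
    | of c =>
      rw [hh, hh, Finset.mul_sum]
      refine (Fintype.sum_equiv (Equiv.mulLeft c) _ _ fun g => ?_).symm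
      simp only [Equiv.coe_mulLeft]
      rw [← mul_assoc, ← mul_assoc, ← map_mul,
        ← mul_assoc (MonoidAlgebra.of k G (c * g)⁻¹) (MonoidAlgebra.of k G c) x, ← map_mul,
        mul_inv_rev, inv_mul_cancel_right]
    | add r r' hr hr' => rw [add_mul, map_add, hr, hr', add_mul]
    | smul s r hr => rw [smul_mul_assoc, map_smul, hr, smul_mul_assoc]
  have he' : h ε ∈ I := by
    rw [hh]
    exact I.sum_mem fun g _ => hleft _ _ (hPI _)
  have hae : a * h ε = a := by
    rw [← hlin, ← hεc, hεa, hfix a ⟨ha, hεa⟩]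
  obtain ⟨N, hN⟩ := IsSemiprimaryRing.isNilpotent (R := MonoidAlgebra k G)
  have hpow : ∀ n, a * h ε ^ n = a := fun n => by
    induction n with
    | zero => rw [pow_zero, mul_one]
    | succ n ih => rw [pow_succ, ← mul_assoc, ih, hae]
  have hz : h ε ^ N = 0 := by
    have h1 := Ideal.pow_mem_pow he'.1 N
    rw [hN] at h1
    simpa using h1
  rw [← hpow N, hz, mul_zero]

end Semisimple

section Block

open scoped ComplexConjugate
open Cfsg.Agent Cfsg.Agent.Blocks Cfsg.Agent.BlockChar.ResidueBlock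
open Cfsg.Agent.BlockThms.OrderP (SimpleMod)

attribute [local instance] Ideal.Quotient.field

set_option synthInstance.maxHeartbeats 400000

variable {G : Type u} [Group G] [Fintype G] {p : ℕ} {M : Ideal Cfsg.AlgInt} [M.IsMaximal]

/-- A complete finite family of simple modules. -/
theorem exists_simples (hM : Cfsg.IsPModular p M)
    (ε : MonoidAlgebra (Cfsg.AlgInt ⧸ M) G) :
    ∃ (n : ℕ) (V : Fin n → SimpleMod.{u, u, 0} (Cfsg.AlgInt ⧸ M) G ε),
      (∀ j l, j ≠ l →
        ∀ F : (V j).V →ₗ[MonoidAlgebra (Cfsg.AlgInt ⧸ M) G] (V l).V, F = 0) ∧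
      ∀ S : SimpleMod.{u, u, 0} (Cfsg.AlgInt ⧸ M) G ε, ∃ j,
        ∃ F : (V j).V →ₗ[MonoidAlgebra (Cfsg.AlgInt ⧸ M) G] S.V, F ≠ 0 := by
  classical
  have := BlockThms.OrderP.isAlgClosed_residue (M := M)
  have : FiniteDimensional (Cfsg.AlgInt ⧸ M) (MonoidAlgebra (Cfsg.AlgInt ⧸ M) G) :=
    Module.Finite.of_basis (MonoidAlgebra.basis G (Cfsg.AlgInt ⧸ M))
  let Pr : ℕ → Prop := fun n => ∃ V : Fin n → SimpleMod.{u, u, 0} (Cfsg.AlgInt ⧸ M) G ε,
    ∀ j l, j ≠ l → ∀ F : (V j).V →ₗ[MonoidAlgebra (Cfsg.AlgInt ⧸ M) G] (V l).V, F = 0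
  have hbound : ∀ n, Pr n →
      n ≤ Module.finrank (Cfsg.AlgInt ⧸ M) (MonoidAlgebra (Cfsg.AlgInt ⧸ M) G) := by
    rintro n ⟨V, hne⟩
    let ρ : MonoidAlgebra (Cfsg.AlgInt ⧸ M) G →ₗ[Cfsg.AlgInt ⧸ M]
        (∀ j, Module.End (Cfsg.AlgInt ⧸ M) (V j).V) :=
      LinearMap.pi fun j =>
        (Algebra.lsmul (Cfsg.AlgInt ⧸ M) (Cfsg.AlgInt ⧸ M) (V j).V).toLinearMap
    have hs : Function.Surjective ρ := fun A => by
      obtain ⟨a, ha⟩ := exists_smul_eq (k := Cfsg.AlgInt ⧸ M)
        (R := MonoidAlgebra (Cfsg.AlgInt ⧸ M) G) (fun j => (V j).V) hne A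
      exact ⟨a, funext fun j => LinearMap.ext (ha j)⟩
    have h1 : n ≤ Module.finrank (Cfsg.AlgInt ⧸ M)
        (∀ j, Module.End (Cfsg.AlgInt ⧸ M) (V j).V) := by
      rw [Module.finrank_pi_fintype]
      calc n = ∑ _j : Fin n, 1 := by simp
        _ ≤ _ := Finset.sum_le_sum fun j _ => by
            have : Nontrivial (V j).V :=
              IsSimpleModule.nontrivial (MonoidAlgebra (Cfsg.AlgInt ⧸ M) G) _
            exact Module.finrank_pos
    exact h1.trans (LinearMap.finrank_le_finrank_of_surjective hs)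
  have h0 : Pr 0 := ⟨fun j => j.elim0, fun j => j.elim0⟩
  obtain ⟨n, hn⟩ : ∃ n, n = Nat.findGreatest Pr
      (Module.finrank (Cfsg.AlgInt ⧸ M) (MonoidAlgebra (Cfsg.AlgInt ⧸ M) G)) := ⟨_, rfl⟩
  obtain ⟨V, hne⟩ : Pr n := hn ▸ Nat.findGreatest_spec (Nat.zero_le _) h0
  refine ⟨n, V, hne, fun S => ?_⟩
  by_contra hS
  push Not at hS
  have hP : Pr (n + 1) := by
    refine ⟨Fin.cons S V, fun j l hjl => ?_⟩
    induction j using Fin.cases with
    | zero =>
      induction l using Fin.cases with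
      | zero => exact absurd rfl hjl
      | succ l =>
        intro F
        by_contra hF
        have hb := (LinearMap.bijective_or_eq_zero F).resolve_right hF
        have h1 := hS l (LinearEquiv.ofBijective F hb).symm.toLinearMap
        have : Nontrivial (V l).V :=
          IsSimpleModule.nontrivial (MonoidAlgebra (Cfsg.AlgInt ⧸ M) G) _
        obtain ⟨x, hx⟩ := exists_ne (0 : (V l).V)
        have h2 := LinearMap.congr_fun h1 x
        exact hx ((LinearEquiv.ofBijective F hb).symm.map_eq_zero_iff.1 h2)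
    | succ j =>
      induction l using Fin.cases with
      | zero =>
        exact hS j
      | succ l =>
        exact hne j l fun h => hjl (h ▸ rfl)
  have h2 := Nat.le_findGreatest (hbound _ hP) hP
  omega

/-- A point of a block of rank one. -/
theorem exists_point [Fact p.Prime] (hM : Cfsg.IsPModular p M) {B : Set (Cfsg.IrrCharacter G)}
    (hB : Cfsg.IsPBlock M B) (hl : Cfsg.blockRank p B = 1) :
    ∃ (S : SimpleMod.{u, u, 0} (Cfsg.AlgInt ⧸ M) G (bElt hM B))
      (i₀ : MonoidAlgebra (Cfsg.AlgInt ⧸ M) G) (v₀ : S.V),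
      Point (k := Cfsg.AlgInt ⧸ M) (bElt hM B) i₀ v₀ := by
  classical
  have := BlockThms.OrderP.isAlgClosed_residue (M := M)
  have : FiniteDimensional (Cfsg.AlgInt ⧸ M) (MonoidAlgebra (Cfsg.AlgInt ⧸ M) G) :=
    Module.Finite.of_basis (MonoidAlgebra.basis G (Cfsg.AlgInt ⧸ M))
  have : IsArtinianRing (MonoidAlgebra (Cfsg.AlgInt ⧸ M) G) :=
    IsArtinianRing.of_finite (Cfsg.AlgInt ⧸ M) _
  obtain ⟨n, V, hne, hall⟩ := exists_simples hM (bElt hM B)
  obtain rfl : n = 1 := (blockRank_eq_card hM hB V hne hall).symm.trans hl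
  obtain ⟨S, hS⟩ : ∃ S, S = V 0 := ⟨_, rfl⟩
  have hallS : ∀ T : SimpleMod.{u, u, 0} (Cfsg.AlgInt ⧸ M) G (bElt hM B),
      ∃ F : S.V →ₗ[MonoidAlgebra (Cfsg.AlgInt ⧸ M) G] T.V, F ≠ 0 := fun T => by
    obtain ⟨j, hj⟩ := hall T
    rw [Subsingleton.elim j 0] at hj
    rw [hS]
    exact hj
  have hrad : ∀ z, bElt hM B * z = z → (∀ x : S.V, z • x = 0) →
      z ∈ Ring.jacobson (MonoidAlgebra (Cfsg.AlgInt ⧸ M) G) := by
    intro z hεz hz
    rw [Ring.jacobson_eq_sInf_isMaximal]
    refine Submodule.mem_sInf.2 fun m (hm : Ideal.IsMaximal m) => ?_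
    have : IsSimpleModule (MonoidAlgebra (Cfsg.AlgInt ⧸ M) G)
        (MonoidAlgebra (Cfsg.AlgInt ⧸ M) G ⧸ m) :=
      isSimpleModule_iff_isCoatom.2 hm.out
    have : FiniteDimensional (Cfsg.AlgInt ⧸ M) (MonoidAlgebra (Cfsg.AlgInt ⧸ M) G ⧸ m) :=
      inferInstanceAs (FiniteDimensional (Cfsg.AlgInt ⧸ M)
        (MonoidAlgebra (Cfsg.AlgInt ⧸ M) G ⧸ m))
    by_cases hfix : ∀ q : MonoidAlgebra (Cfsg.AlgInt ⧸ M) G ⧸ m, bElt hM B • q = q
    · obtain ⟨F, hF⟩ := hallS ⟨_, hfix⟩
      obtain ⟨y, hy⟩ := ((LinearMap.bijective_or_eq_zero F).resolve_right hF).2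
        (Submodule.Quotient.mk 1)
      have e : z • (Submodule.Quotient.mk 1 : MonoidAlgebra (Cfsg.AlgInt ⧸ M) G ⧸ m) = 0 := by
        rw [← hy, ← map_smul, hz, map_zero]
      rw [← Submodule.Quotient.mk_smul, smul_eq_mul, mul_one] at e
      exact (Submodule.Quotient.mk_eq_zero m).1 e
    · -- the idempotent acts as zero
      let W : Submodule (MonoidAlgebra (Cfsg.AlgInt ⧸ M) G)
          (MonoidAlgebra (Cfsg.AlgInt ⧸ M) G ⧸ m) :=
        { carrier := {q | bElt hM B • q = q}
          add_mem' := fun {a b} (ha : bElt hM B • a = a) (hb : bElt hM B • b = b) => by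
            show bElt hM B • (a + b) = a + b
            rw [smul_add, ha, hb]
          zero_mem' := smul_zero _
          smul_mem' := fun r q (hq : bElt hM B • q = q) => by
            show bElt hM B • r • q = r • q
            rw [← mul_smul, bElt_central hM, mul_smul, hq] }
      have hW : W = ⊥ := (IsSimpleOrder.eq_bot_or_eq_top W).resolve_right fun h =>
        hfix fun q => (show q ∈ W by rw [h]; trivial)
      have hmem : bElt hM B • (Submodule.Quotient.mk z :
          MonoidAlgebra (Cfsg.AlgInt ⧸ M) G ⧸ m) ∈ W := by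
        show bElt hM B • bElt hM B • _ = bElt hM B • _
        rw [← mul_smul, bElt_idem hM hB]
      rw [hW, Submodule.mem_bot, ← Submodule.Quotient.mk_smul, smul_eq_mul, hεz] at hmem
      exact (Submodule.Quotient.mk_eq_zero m).1 hmem
  obtain ⟨N, hN⟩ := IsSemiprimaryRing.isNilpotent (R := MonoidAlgebra (Cfsg.AlgInt ⧸ M) G)
  have hnil : ∀ z, bElt hM B * z = z → (∀ x : S.V, z • x = 0) → z ^ (N + 1) = 0 := by
    intro z h1 h2
    have h := Ideal.pow_mem_pow (hrad z h1 h2) N
    rw [hN] at h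
    rw [pow_succ, show z ^ N = 0 by simpa using h, zero_mul]
  have : Nontrivial S.V := IsSimpleModule.nontrivial (MonoidAlgebra (Cfsg.AlgInt ⧸ M) G) _
  obtain ⟨v₀, hv₀⟩ := exists_ne (0 : S.V)
  obtain ⟨l, hl'⟩ := Module.Projective.exists_dual_ne_zero (Cfsg.AlgInt ⧸ M) hv₀
  obtain ⟨π, hπ⟩ : ∃ π : Module.End (Cfsg.AlgInt ⧸ M) S.V,
      π = ((l v₀)⁻¹ • l).smulRight v₀ := ⟨_, rfl⟩
  have hπ₀ : ∀ x, π x = ((l v₀)⁻¹ * l x) • v₀ := fun x => by rw [hπ]; rfl
  have hπv : π v₀ = v₀ := by rw [hπ₀, inv_mul_cancel₀ hl', one_smul]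
  obtain ⟨a₀, ha₀⟩ := exists_smul_eq_end (k := Cfsg.AlgInt ⧸ M)
    (R := MonoidAlgebra (Cfsg.AlgInt ⧸ M) G) π
  obtain ⟨a, ha⟩ : ∃ a, a = bElt hM B * a₀ := ⟨_, rfl⟩
  have haπ : ∀ x : S.V, a • x = π x := fun x => by rw [ha, mul_smul, ha₀, S.fix]
  have hεa : bElt hM B * a = a := by rw [ha, ← mul_assoc, bElt_idem hM hB]
  have hkill : ∀ x : S.V, (a - a * a) • x = 0 := fun x => by
    rw [sub_smul, mul_smul, haπ, haπ, hπ₀ x, map_smul, hπv, sub_self]
  obtain ⟨i, hii, -, -, hS'⟩ := exists_idem_of_nilpotent (k := Cfsg.AlgInt ⧸ M) (Nat.succ_pos N)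
    (hnil (a - a * a) (by rw [mul_sub, ← mul_assoc, hεa]) hkill)
  obtain ⟨-, s, -, hs⟩ := hS' ⊤ trivial
  refine ⟨S, bElt hM B * i, v₀, ?_⟩
  have hi : ∀ x : S.V, (bElt hM B * i) • x = π x := fun x => by
    rw [mul_smul, S.fix, ← haπ, show i = a + (a - a * a) * s by rw [← hs]; abel, add_smul,
      mul_smul (a - a * a), hkill, add_zero]
  refine ⟨bElt_idem hM hB, bElt_central hM, ?_, by rw [← mul_assoc, bElt_idem hM hB], S.fix,
    by rw [hi, hπv], hv₀, fun x => ⟨_, (hi x).trans (hπ₀ x)⟩, ?_, hrad⟩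
  · rw [mul_assoc, ← mul_assoc i, ← bElt_central hM, mul_assoc, hii, ← mul_assoc, bElt_idem hM hB]
  · let b := Module.finBasis (Cfsg.AlgInt ⧸ M) S.V
    choose u hu using fun q => exists_smul_eq_end (k := Cfsg.AlgInt ⧸ M)
      (R := MonoidAlgebra (Cfsg.AlgInt ⧸ M) G) (((l v₀)⁻¹ • l).smulRight (b q) :
        Module.End (Cfsg.AlgInt ⧸ M) S.V)
    choose v hv using fun q => exists_smul_eq_end (k := Cfsg.AlgInt ⧸ M)
      (R := MonoidAlgebra (Cfsg.AlgInt ⧸ M) G) ((b.coord q).smulRight v₀ :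
        Module.End (Cfsg.AlgInt ⧸ M) S.V)
    have hsum : ∀ x : S.V, (∑ q, u q * (bElt hM B * i) * v q) • x = x := by
      intro x
      rw [Finset.sum_smul]
      conv_rhs => rw [← b.sum_repr x]
      refine Finset.sum_congr rfl fun q _ => ?_
      rw [mul_smul, mul_smul, hi, hv, LinearMap.smulRight_apply, map_smul, hπv, hu]
      simp [Module.Basis.coord_apply, hl']
    obtain ⟨u', v', h⟩ := gen_of_nilpotent (i := bElt hM B * i) (bElt_idem hM hB)
      (bElt_central hM) u v ⟨N + 1, hnil _ (by rw [mul_sub, ← mul_assoc, bElt_idem hM hB])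
        fun x => by rw [sub_smul, mul_smul, hsum, S.fix, sub_self]⟩
    exact ⟨_, u', v', h⟩

/-- The centre of a block algebra has dimension at most the number of characters. -/
theorem finrank_centerSpace_le (hM : Cfsg.IsPModular p M) {B : Set (Cfsg.IrrCharacter G)}
    (hB : Cfsg.IsPBlock M B) :
    Module.finrank (Cfsg.AlgInt ⧸ M) (centerSpace (Cfsg.AlgInt ⧸ M) (bElt hM B)) ≤
      Nat.card B := by
  classical
  have haR := memLocalRing_blockCoeff hM hB
  have hac := isClassFunction_blockCoeff B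
  let T : Submodule ℂ (G → ℂ) :=
    { carrier := {f | Cfsg.IsClassFunction G f ∧ ∀ χ : Cfsg.IrrCharacter G, χ ∉ B →
        omega (χ : G → ℂ) f = 0}
      zero_mem' := ⟨fun g c => rfl, fun χ _ => by simp [omega]⟩
      add_mem' := fun {f f'} hf hf' => ⟨fun g c => by
        show f _ + f' _ = f _ + f' _
        rw [hf.1, hf'.1], fun χ hχ => by rw [omega_add, hf.2 χ hχ, hf'.2 χ hχ, add_zero]⟩
      smul_mem' := fun r f hf => ⟨fun g c => by
        show r * f _ = r * f _
        rw [hf.1], fun χ hχ => by rw [omega_smul, hf.2 χ hχ, mul_zero]⟩ }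
  refine (finrank_le_of_lifts hM _ T fun z hz => ?_).trans ?_
  · obtain ⟨hzc, hεz⟩ := hz
    have hc := isClassFunction_lift hzc
    refine ⟨conv (Cfsg.blockCoeff B) (lift z), ⟨isClassFunction_conv hac hc, fun χ hχ => ?_⟩,
      memLocalRing_conv hM haR (memLocalRing_lift hM z), fun g => ?_⟩
    · rw [omega_conv χ.2 hac hc, omega_blockCoeff, if_neg hχ, zero_mul]
    · rw [← coeff_res, res_conv hM haR (memLocalRing_lift hM z), res_lift]
      exact congrArg (fun x : MonoidAlgebra (Cfsg.AlgInt ⧸ M) G => x.coeff g) hεz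
  let Φ : T →ₗ[ℂ] (B → ℂ) :=
    { toFun := fun f χ => omega ((χ : Cfsg.IrrCharacter G) : G → ℂ) (f : G → ℂ)
      map_add' := fun f f' => funext fun χ => omega_add _ _ _
      map_smul' := fun c f => funext fun χ => omega_smul _ _ _ }
  have hinj : Function.Injective Φ := (injective_iff_map_eq_zero _).2 fun f hf => by
    refine Subtype.ext (classFun_ext_omega f.2.1 (fun g c => rfl) fun χ => ?_)
    rw [show omega (χ : G → ℂ) ((0 : T) : G → ℂ) = 0 by simp [omega]]
    by_cases hχ : χ ∈ B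
    · exact congrFun hf ⟨χ, hχ⟩
    · exact f.2.2 χ hχ
  refine (LinearMap.finrank_le_finrank_of_injective hinj).trans ?_
  rw [Module.finrank_fintype_fun_eq_card, Nat.card_eq_fintype_card]

/-- A block of rank one has at most as many characters as its defect group has elements. -/
theorem card_le_of_rank_one (hM : Cfsg.IsPModular p M) {B : Set (Cfsg.IrrCharacter G)}
    (hB : Cfsg.IsPBlock M B) (hl : Cfsg.blockRank p B = 1) :
    Nat.card B ≤ p ^ Cfsg.blockDefect p B := by
  classical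
  obtain ⟨φ, d, -, hd, hsum⟩ := rank_one_cartan hM hB hl
  rw [← hsum, finsum_mem_eq_finite_toFinset_sum _ B.toFinite, Nat.card_coe_set_eq,
    Set.ncard_eq_toFinset_card _ B.toFinite, Finset.card_eq_sum_ones]
  refine Finset.sum_le_sum fun χ hχ => Nat.one_le_pow _ _ (Nat.pos_of_ne_zero fun h => ?_)
  have h1 := hd χ (B.toFinite.mem_toFinset.1 hχ) 1 (by
    show ¬ p ∣ orderOf (1 : G)
    rw [orderOf_one, Nat.dvd_one]
    exact hM.1.ne_one)
  rw [h, Nat.cast_zero, zero_mul] at h1
  exact Char.IsIrr.one_ne_zero χ.2 h1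

end Block

end Cfsg.Agent.BlockChar.Cyclic
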