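import Cfsg.Agent.BlockChar.ResidueBlock
import Cfsg.Agent.BlockThms.OrderP.Span

/-!
# The reduced idempotent of a block
-/

set_option autoImplicit false

namespace Cfsg.Agent.BlockChar.Cyclic

open scoped ComplexConjugate
open Cfsg.Agent Cfsg.Agent.Blocks Cfsg.Agent.BlockChar.ResidueBlock

universe u

attribute [local instance] Ideal.Quotient.field

set_option synthInstance.maxHeartbeats 400000

variable {G : Type u} [Group G] [Fintype G] {p : ℕ} {M : Ideal Cfsg.AlgInt}

/-- The reduction of the idempotent of a block. -/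
noncomputable def bElt (hM : Cfsg.IsPModular p M) (B : Set (Cfsg.IrrCharacter G)) :
    MonoidAlgebra (Cfsg.AlgInt ⧸ M) G :=
  res hM (Cfsg.blockCoeff B)

variable [M.IsMaximal] (hM : Cfsg.IsPModular p M) {B : Set (Cfsg.IrrCharacter G)}
include hM

theorem bElt_idem (hB : Cfsg.IsPBlock M B) : bElt hM B * bElt hM B = bElt hM B := by
  have hR := memLocalRing_blockCoeff hM hB
  rw [bElt, ← res_conv hM hR hR, blockCoeff_conv B]

theorem res_central {f : G → ℂ} (hf : Cfsg.IsClassFunction G f)
    (x : MonoidAlgebra (Cfsg.AlgInt ⧸ M) G) : res hM f * x = x * res hM f := by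
  induction x using MonoidAlgebra.induction_on with
  | of g =>
    refine MonoidAlgebra.coeff_injective (Finsupp.ext fun z => ?_)
    simp only [MonoidAlgebra.of_apply, MonoidAlgebra.coeff_single_mul_apply,
      MonoidAlgebra.coeff_mul_single_apply, coeff_res, one_mul, mul_one]
    rw [← hf (g⁻¹ * z) g]
    congr 2
    group
  | add x y hx hy => rw [mul_add, add_mul, hx, hy]
  | smul r x hx => rw [mul_smul_comm, smul_mul_assoc, hx]

theorem bElt_central (x : MonoidAlgebra (Cfsg.AlgInt ⧸ M) G) :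
    bElt hM B * x = x * bElt hM B := res_central hM (isClassFunction_blockCoeff B) x

theorem res_eq_of_congr {f f' : G → ℂ} (hf : ∀ g, Cfsg.MemLocalRing M (f g))
    (hf' : ∀ g, Cfsg.MemLocalRing M (f' g)) (h : ∀ g, Cfsg.MemLocalIdeal M (f g - f' g)) :
    res hM f = res hM f' := by
  refine MonoidAlgebra.coeff_injective (Finsupp.ext fun g => ?_)
  rw [coeff_res, coeff_res]
  have h1 : resFun hM (f g - f' g) + resFun hM (f' g) = resFun hM (f g) := by
    rw [← resFun_add hM ((localRing hM).sub_mem (hf g) (hf' g)) (hf' g), sub_add_cancel]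
  rw [← h1, (resFun_eq_zero_iff hM ((localRing hM).sub_mem (hf g) (hf' g))).2 (h g), zero_add]

theorem congr_of_res_eq {f f' : G → ℂ} (hf : ∀ g, Cfsg.MemLocalRing M (f g))
    (hf' : ∀ g, Cfsg.MemLocalRing M (f' g)) (h : res hM f = res hM f') (g : G) :
    Cfsg.MemLocalIdeal M (f g - f' g) := by
  have hg := congrArg (fun x : MonoidAlgebra (Cfsg.AlgInt ⧸ M) G => x.coeff g) h
  simp only [coeff_res] at hg
  refine (resFun_eq_zero_iff hM ((localRing hM).sub_mem (hf g) (hf' g))).1 ?_
  have h1 : resFun hM (f g - f' g) + resFun hM (f' g) = resFun hM (f g) := by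
    rw [← resFun_add hM ((localRing hM).sub_mem (hf g) (hf' g)) (hf' g), sub_add_cancel]
  rw [hg] at h1
  exact add_eq_right.1 h1

/-- The idempotent of a block is primitive in the centre. -/
theorem eq_zero_or_eq_bElt (hB : Cfsg.IsPBlock M B) {z : MonoidAlgebra (Cfsg.AlgInt ⧸ M) G}
    (hzc : ∀ x, z * x = x * z) (hzz : z * z = z) (hεz : bElt hM B * z = z) :
    z = 0 ∨ z = bElt hM B := by
  classical
  set a := Cfsg.blockCoeff B with ha
  have haR := memLocalRing_blockCoeff hM hB
  have hac := isClassFunction_blockCoeff B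
  set F := lift z with hF
  have hFR : ∀ g, Cfsg.MemLocalRing M (F g) := memLocalRing_lift hM z
  have hFc : Cfsg.IsClassFunction G F := isClassFunction_lift hzc
  have hresF : res hM F = z := res_lift hM z
  have hid : ∀ g, Cfsg.MemLocalIdeal M (conv F F g - F g) :=
    congr_of_res_eq hM (memLocalRing_conv hM hFR hFR) hFR (by
      rw [res_conv hM hFR hFR, hresF, hzz])
  have haF : ∀ g, Cfsg.MemLocalIdeal M (conv a F g - F g) :=
    congr_of_res_eq hM (memLocalRing_conv hM haR hFR) hFR (by
      rw [res_conv hM haR hFR, hresF]; exact hεz)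
  have hlin : ∀ (χ : Cfsg.IrrCharacter G) (f : G → ℂ), Cfsg.IsClassFunction G f →
      (∀ g, Cfsg.MemLocalIdeal M (f g - F g)) →
      Cfsg.MemLocalIdeal M (omega (χ : G → ℂ) f - omega (χ : G → ℂ) F) := by
    intro χ f hf h
    rw [← omega_sub]
    exact omega_ideal hM χ.2 (fun g c => by simp only [Pi.sub_apply, hf g c, hFc g c]) h
  have hout : ∀ χ : Cfsg.IrrCharacter G, χ ∉ B →
      Cfsg.MemLocalIdeal M (omega (χ : G → ℂ) F) := by
    intro χ hχ
    have h := hlin χ _ (isClassFunction_conv hac hFc) haF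
    rw [omega_conv χ.2 hac hFc, omega_blockCoeff, if_neg hχ, zero_mul] at h
    have := memLocalIdeal_sub hM (memLocalIdeal_zero hM) h
    simpa using this
  have hdich : ∀ χ : Cfsg.IrrCharacter G, Cfsg.MemLocalIdeal M (omega (χ : G → ℂ) F) ∨
      Cfsg.MemLocalIdeal M (omega (χ : G → ℂ) F - 1) := by
    intro χ
    have h := hlin χ _ (isClassFunction_conv hFc hFc) hid
    rw [omega_conv χ.2 hFc hFc] at h
    have hw := memLocalRing_omega hM χ.2 hFc hFR
    have h2 : resFun hM (omega (χ : G → ℂ) F) * resFun hM (omega (χ : G → ℂ) F - 1) = 0 := by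
      rw [← resFun_mul hM hw ((localRing hM).sub_mem hw (localRing hM).one_mem)]
      refine (resFun_eq_zero_iff hM ((localRing hM).mul_mem hw
        ((localRing hM).sub_mem hw (localRing hM).one_mem))).2 ?_
      rwa [mul_sub, mul_one]
    rcases mul_eq_zero.1 h2 with h3 | h3
    · exact Or.inl ((resFun_eq_zero_iff hM hw).1 h3)
    · exact Or.inr ((resFun_eq_zero_iff hM ((localRing hM).sub_mem hw (localRing hM).one_mem)).1 h3)
  obtain ⟨χ₀, hχ₀⟩ := IsPBlock.nonempty hM hB
  have hall : ∀ χ ∈ B, Cfsg.MemLocalIdeal M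
      (omega (χ : G → ℂ) F - omega (χ₀ : G → ℂ) F) := fun χ hχ =>
    memLocalIdeal_omega_sub hM χ.2 χ₀.2 hFc hFR (IsPBlock.sameBlock hM hB hχ hχ₀)
  rcases hdich χ₀ with h0 | h1
  · left
    have h := memLocalIdeal_sub_blockCoeff hM hFc hFR hid (A := ∅)
      (fun x => by simpa [Cfsg.blockCoeff] using
        (show Cfsg.MemLocalRing M 0 from (localRing hM).zero_mem)) (fun χ => ?_)
    · rw [← hresF, res_eq_of_congr hM hFR (fun g => (localRing hM).zero_mem) (f' := fun _ => 0)
        (fun g => by simpa [Cfsg.blockCoeff] using h g)]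
      refine MonoidAlgebra.coeff_injective (Finsupp.ext fun g => ?_)
      rw [coeff_res, (resFun_eq_zero_iff hM (localRing hM).zero_mem).2 (memLocalIdeal_zero hM)]
      simp
    · simp only [Set.mem_empty_iff_false, if_false, sub_zero]
      by_cases hχ : χ ∈ B
      · simpa using memLocalIdeal_add hM (hall χ hχ) h0
      · exact hout χ hχ
  · right
    have h := memLocalIdeal_sub_blockCoeff hM hFc hFR hid (A := B) haR (fun χ => ?_)
    · rw [← hresF]
      exact res_eq_of_congr hM hFR haR h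
    · split_ifs with hχ
      · have := memLocalIdeal_add hM (hall χ hχ) h1
        simpa using this
      · simpa using hout χ hχ

omit hM [M.IsMaximal] in
/-- In a finite-dimensional commutative algebra an element is nilpotent or generates a
non-zero idempotent. -/
theorem exists_idem_of_not_nilpotent {k A : Type*} [Field k] [CommRing A] [Algebra k A]
    [FiniteDimensional k A] {z : A} (hz : ¬ IsNilpotent z) :
    ∃ w : A, (z * w) * (z * w) = z * w ∧ z * w ≠ 0 := by
  have : IsArtinian A A := isArtinian_of_tower k inferInstance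
  obtain ⟨n, hn⟩ := IsArtinian.monotone_stabilizes (R := A)
    ⟨fun n => OrderDual.toDual (Submodule.span A {z ^ n}), fun a b hab => by
      refine Submodule.span_le.2 (Set.singleton_subset_iff.2 ?_)
      exact Submodule.mem_span_singleton.2 ⟨z ^ (b - a), by
        rw [smul_eq_mul, ← pow_add, Nat.sub_add_cancel hab]⟩⟩
  have h1 := hn (n + 1) (Nat.le_succ n)
  have h2 : z ^ n ∈ Submodule.span A {z ^ (n + 1)} := by
    rw [← show Submodule.span A {z ^ n} = Submodule.span A {z ^ (n + 1)} from h1]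
    exact Submodule.mem_span_singleton_self _
  obtain ⟨w, hw⟩ := Submodule.mem_span_singleton.1 h2
  rw [smul_eq_mul] at hw
  have hpow : ∀ q, z ^ n * (z * w) ^ q = z ^ n := fun q => by
    induction q with
    | zero => simp
    | succ q ih =>
      rw [pow_succ, ← mul_assoc, ih]
      conv_rhs => rw [← hw, pow_succ]
      ring
  refine ⟨z ^ n * w ^ (n + 1), ?_, fun h0 => hz ⟨n, ?_⟩⟩
  · have e : z * (z ^ n * w ^ (n + 1)) = (z * w) ^ (n + 1) := by rw [mul_pow, pow_succ z]; ring
    rw [e]
    calc (z * w) ^ (n + 1) * (z * w) ^ (n + 1)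
        = z * (w ^ (n + 1) * (z ^ n * (z * w) ^ (n + 1))) := by rw [mul_pow, pow_succ z]; ring
      _ = (z * w) ^ (n + 1) := by rw [hpow, mul_pow, pow_succ z]; ring
  · have e : z * (z ^ n * w ^ (n + 1)) = (z * w) ^ (n + 1) := by rw [mul_pow, pow_succ z]; ring
    rw [← hpow (n + 1), ← e, h0, mul_zero]

/-- A central element of a block algebra is nilpotent or invertible. -/
theorem bElt_local (hB : Cfsg.IsPBlock M B) (z : MonoidAlgebra (Cfsg.AlgInt ⧸ M) G)
    (hzc : ∀ x, z * x = x * z) (hεz : bElt hM B * z = z) :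
    IsNilpotent z ∨ ∃ z', (∀ x, z' * x = x * z') ∧ z * z' = bElt hM B := by
  by_contra hcon
  push Not at hcon
  obtain ⟨hnil, hinv⟩ := hcon
  have : FiniteDimensional (Cfsg.AlgInt ⧸ M) (MonoidAlgebra (Cfsg.AlgInt ⧸ M) G) :=
    Module.Finite.of_basis (MonoidAlgebra.basis G (Cfsg.AlgInt ⧸ M))
  let Z := Subalgebra.center (Cfsg.AlgInt ⧸ M) (MonoidAlgebra (Cfsg.AlgInt ⧸ M) G)
  let zz : Z := ⟨z, Subalgebra.mem_center_iff.2 fun x => (hzc x).symm⟩
  have hzz : ¬ IsNilpotent zz := fun ⟨n, hn⟩ => hnil ⟨n, by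
    have := congrArg Subtype.val hn
    simpa [zz] using this⟩
  obtain ⟨w, hw, hw0⟩ := exists_idem_of_not_nilpotent (k := Cfsg.AlgInt ⧸ M) hzz
  have hwc : ∀ x, (w : MonoidAlgebra (Cfsg.AlgInt ⧸ M) G) * x = x * w := fun x =>
    (Subalgebra.mem_center_iff.1 w.2 x).symm
  rcases eq_zero_or_eq_bElt hM hB (z := z * (w : MonoidAlgebra (Cfsg.AlgInt ⧸ M) G))
    (fun x => by rw [mul_assoc, hwc, ← mul_assoc, hzc, mul_assoc])
    (congrArg Subtype.val hw) (by rw [← mul_assoc, hεz]) with h | h
  · exact hw0 (Subtype.ext h)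
  · exact hinv w hwc h

end Cfsg.Agent.BlockChar.Cyclic
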