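import Cfsg.Agent.BlockChar.Cyclic.IsoData
import Cfsg.Agent.BlockChar.Cyclic.OrdStatement
import Cfsg.Agent.Blocks.PrimeCoreBlock
import Cfsg.Agent.BrauerPairs.FirstMain

/-!
# The model group: a cyclic `p`-group extended by a free automorphism group of order dividing `p - 1`
-/

set_option autoImplicit false

namespace Cfsg.Agent.BlockChar.Cyclic

open Cfsg.Agent Cfsg.Agent.Blocks Cfsg.Agent.BrauerPairs

universe u

/-- A solvable group without `p'`-core has one block, of full defect. -/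
theorem univ_block_of_pPrimeCore_eq_bot {F : Type u} [Group F] [Finite F] [Group.IsSolvable F]
    {p : ℕ} [Fact p.Prime] {M : Ideal Cfsg.AlgInt} (hM : Cfsg.IsPModular p M)
    (hcore : Cfsg.pPrimeCore p F = ⊥) :
    Cfsg.IsPBlock M (Set.univ : Set (Cfsg.IrrCharacter F)) ∧
      (∀ B : Set (Cfsg.IrrCharacter F), Cfsg.IsPBlock M B → B = Set.univ) ∧
      ∀ S : Sylow p F, Cfsg.IsDefectGroup p M (Set.univ : Set (Cfsg.IrrCharacter F)) (S : Subgroup F) := by
  classical
  letI := Fintype.ofFinite F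
  letI := Fintype.ofFinite (⊥ : Subgroup F)
  let θ : Cfsg.IrrCharacter (⊥ : Subgroup F) :=
    ⟨fun x => (((1 : (⊥ : Subgroup F) →* ℂˣ) x : ℂˣ) : ℂ), Char.isIrrCharacter_hom 1⟩
  obtain ⟨B, hB, hmem, hdef, -, -⟩ := exists_invariant_block_of_pConstrained hM
    (Layer.isPConstrained_of_isSolvable) (K := (⊥ : Subgroup F)) hcore.symm θ
    (fun g => funext fun x => by simp [θ, Char.conjFun])
  have huniv : B = Set.univ := by
    refine Set.eq_univ_of_forall fun χ => (hmem χ).2 ?_
    rw [Cfsg.classInner, Fintype.sum_subsingleton _ 1]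
    simp only [θ, MonoidHom.one_apply, Units.val_one, map_one, mul_one, OneMemClass.coe_one]
    exact mul_ne_zero (inv_ne_zero (Nat.cast_ne_zero.2 Nat.card_pos.ne'))
      (Char.IsIrr.one_ne_zero χ.2)
  subst huniv
  refine ⟨hB, fun B' hB' => ?_, hdef⟩
  obtain ⟨χ, hχ⟩ := IsPBlock.nonempty hM hB'
  rw [IsPBlock.eq_blockOf hM hB' hχ, ← IsPBlock.eq_blockOf hM hB (Set.mem_univ χ)]

variable {p : ℕ} [Fact p.Prime] {M : Ideal Cfsg.AlgInt} {F : Type u} [Group F] [Finite F]
  {Q : Subgroup F} {k e : ℕ}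

theorem semidirect_setup (hM : Cfsg.IsPModular p M) (hQ : IsCyclic Q)
    (hQcard : Nat.card Q = p ^ k) (he : e ∣ p - 1) (hF : Nat.card F = Nat.card Q * e)
    (hQC : Subgroup.centralizer (Q : Set F) = Q) :
    Q.Normal ∧ ∃ c, Cfsg.IsMaximalBrauerPair p M (Set.univ : Set (Cfsg.IrrCharacter F)) Q c ∧
      (∀ g : F, g ∈ (⊤ : Subgroup F) ↔ g ∈ Subgroup.normalizer (Q : Set F) ∧
        Cfsg.StabilizesBlock (Subgroup.centralizer (Q : Set F)) c g) ∧
      (Subgroup.centralizer (Q : Set F)).relIndex ⊤ = e := by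
  classical
  letI := Fintype.ofFinite F
  have hp := hM.1
  have hp2 := hp.two_le
  have hep : e < p := lt_of_le_of_lt (Nat.le_of_dvd (by omega) he) (by omega)
  have he0 : 0 < e := Nat.pos_of_ne_zero fun h => by
    rw [h, mul_zero] at hF; exact Nat.card_pos.ne' hF
  have hQp : IsPGroup p Q := IsPGroup.of_card hQcard
  have hidx : Q.index = e := mul_left_cancel₀ (Nat.card_pos (α := Q)).ne'
    (Q.card_mul_index.trans hF)
  let S : Sylow p F := hQp.toSylow (by rw [hidx]; exact Nat.not_dvd_of_pos_of_lt he0 hep)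
  have hS : (S : Subgroup F) = Q := rfl
  -- the Sylow subgroup is normal
  have hn1 : Nat.card (Sylow p F) = 1 := by
    have hd : Nat.card (Sylow p F) ∣ e := by
      have := S.card_dvd_index
      rwa [hS, hidx] at this
    have hmod := card_sylow_modEq_one p F
    have hlt : Nat.card (Sylow p F) < p := lt_of_le_of_lt (Nat.le_of_dvd he0 hd) hep
    rw [Nat.ModEq, Nat.mod_eq_of_lt hlt, Nat.mod_eq_of_lt hp.one_lt] at hmod
    exact hmod
  have : Subsingleton (Sylow p F) := (Nat.card_eq_one_iff_unique.1 hn1).1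
  have hQn : Q.Normal := by
    rw [← hS]; exact Sylow.normal_of_subsingleton S
  -- solvable
  have hab : ∀ a ∈ Q, ∀ b ∈ Q, a * b = b * a := comm_of_cyclic hQ
  have hker : (MulAut.conjNormal (H := Q)).ker = Subgroup.centralizer (Q : Set F) := by
    ext g
    simp only [MonoidHom.mem_ker, Subgroup.mem_centralizer_iff, MulEquiv.ext_iff, Subtype.ext_iff,
      MulAut.conjNormal_apply, MulAut.one_apply, Subtype.forall, mul_inv_eq_iff_eq_mul]
    exact ⟨fun h a ha => (h a ha).symm, fun h a ha => (h a ha).symm⟩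
  have : Group.IsSolvable F := by
    have h1 : Group.IsSolvable Q := Group.isSolvable_of_comm fun a b => Subtype.ext (hab a a.2 b b.2)
    have h2 : Group.IsSolvable (MulAut.conjNormal (H := Q)).range :=
      Group.isSolvable_of_comm fun a b => Subtype.ext ((IsCyclic.mulAutMulEquiv (G := Q)).injective (by simp [mul_comm]))
    exact Group.isSolvable_of_ker_le_range (G' := Q) (G'' := (MulAut.conjNormal (H := Q)).range)
      Q.subtype (MulAut.conjNormal (H := Q)).rangeRestrict
      (by rw [MonoidHom.ker_rangeRestrict, hker, hQC, Subgroup.range_subtype])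
  -- no `p'`-core
  have hcore : Cfsg.pPrimeCore p F = ⊥ := by
    have hcop : (Nat.card (Cfsg.pPrimeCore p F)).Coprime p := Core.coprime_card_pPrimeCore
    have hdis : Cfsg.pPrimeCore p F ⊓ Q = ⊥ := Subgroup.inf_eq_bot_of_coprime
      (by rw [hQcard]; exact hcop.pow_right k)
    have hKn : (Cfsg.pPrimeCore p F).Normal := Core.pPrimeCore_normal
    have hle : Cfsg.pPrimeCore p F ≤ Q := by
      conv_rhs => rw [← hQC]
      intro a ha
      rw [Subgroup.mem_centralizer_iff]
      intro b hb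
      exact (Subgroup.commute_of_normal_of_disjoint _ _ hKn hQn (disjoint_iff.2 hdis) a b ha hb).eq.symm
    rwa [inf_eq_left.2 hle] at hdis
  obtain ⟨hB, -, hdef⟩ := univ_block_of_pPrimeCore_eq_bot hM hcore
  obtain ⟨c, hc⟩ := exists_maximal_on hM hB (hS ▸ hdef S)
  -- the centralizer has one block
  have hCp : IsPGroup p (Subgroup.centralizer (Q : Set F)) := by rw [hQC]; exact hQp
  have : Group.IsNilpotent (Subgroup.centralizer (Q : Set F)) := hCp.isNilpotent
  have hcoreC : Cfsg.pPrimeCore p (Subgroup.centralizer (Q : Set F)) = ⊥ := by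
    refine Subgroup.eq_bot_of_card_eq _ ?_
    obtain ⟨j, hj⟩ :=
      (hCp.to_subgroup (Cfsg.pPrimeCore p (Subgroup.centralizer (Q : Set F)))).exists_card_eq
    have h1 : (Nat.card (Cfsg.pPrimeCore p (Subgroup.centralizer (Q : Set F)))).Coprime p :=
      Core.coprime_card_pPrimeCore
    rw [hj] at h1 ⊢
    rcases Nat.eq_zero_or_pos j with rfl | hj0
    · simp
    · exact absurd ((Nat.coprime_pow_left_iff hj0 _ _).1 h1) (by simp [hp.ne_one])
  obtain ⟨-, hall, -⟩ := univ_block_of_pPrimeCore_eq_bot hM hcoreC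
  obtain rfl : c = Set.univ := hall c hc.1.1.2
  refine ⟨hQn, _, hc, fun g => iff_of_true trivial ?_, ?_⟩
  · have hg : g ∈ Subgroup.normalizer (Q : Set F) := Subgroup.normalizer_eq_top Q ▸ trivial
    refine ⟨hg, (stab_iff _ hg).2 fun _ _ _ _ => Set.mem_univ _⟩
  · rw [hQC, Subgroup.relIndex_top_right, hidx]

end Cfsg.Agent.BlockChar.Cyclic
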