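import Cfsg.Agent.BlockChar.Cyclic.Residue
import Cfsg.Agent.BlockChar.Cyclic.PowTrace
import Cfsg.Agent.BlockChar.Cyclic.Density
import Cfsg.Agent.BlockChar.RegularSeparation

/-!
# The number of simple modules of a block is the rank of its characters on regular elements
-/

set_option autoImplicit false

namespace Cfsg.Agent.BlockChar.Cyclic

open scoped ComplexConjugate
open Cfsg.Agent Cfsg.Agent.Blocks Cfsg.Agent.BlockChar.ResidueBlock
open Cfsg.Agent.BlockThms.OrderP (SimpleMod tr)

universe u

attribute [local instance] Ideal.Quotient.field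

set_option synthInstance.maxHeartbeats 400000

variable {G : Type u} [Group G] [Fintype G] {p : ℕ} {M : Ideal Cfsg.AlgInt} [M.IsMaximal]

/-- The form of a character on the group algebra over the residue field. -/
noncomputable def charForm (hM : Cfsg.IsPModular p M) (χ : G → ℂ) :
    MonoidAlgebra (Cfsg.AlgInt ⧸ M) G →ₗ[Cfsg.AlgInt ⧸ M] Cfsg.AlgInt ⧸ M where
  toFun x := ∑ g, x.coeff g * resFun hM (χ g)
  map_add' x y := by simp [add_mul, Finset.sum_add_distrib]
  map_smul' r x := by simp [Finset.mul_sum, mul_assoc]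

theorem charForm_single (hM : Cfsg.IsPModular p M) (χ : G → ℂ) (g : G) (r : Cfsg.AlgInt ⧸ M) :
    charForm hM χ (MonoidAlgebra.single g r) = r * resFun hM (χ g) := by
  classical
  show ∑ h, (MonoidAlgebra.single g r).coeff h * _ = _
  rw [Finset.sum_eq_single g]
  · simp
  · intro h _ hne
    simp [Finsupp.single_apply, hne.symm]
  · simp

theorem charForm_symm (hM : Cfsg.IsPModular p M) {χ : G → ℂ} (hχ : Cfsg.IsClassFunction G χ)
    (x y : MonoidAlgebra (Cfsg.AlgInt ⧸ M) G) :
    charForm hM χ (x * y) = charForm hM χ (y * x) := by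
  induction x using MonoidAlgebra.induction_on with
  | of g =>
    induction y using MonoidAlgebra.induction_on with
    | of h =>
      simp only [MonoidAlgebra.of_apply, MonoidAlgebra.single_mul_single, one_mul, charForm_single]
      rw [← hχ (g * h) g⁻¹]
      congr 2
      congr 1
      group
    | add a b ha hb => rw [mul_add, add_mul, map_add, map_add, ha, hb]
    | smul r a ha => rw [mul_smul_comm, smul_mul_assoc, map_smul, map_smul, ha]
  | add a b ha hb => rw [mul_add, add_mul, map_add, map_add, ha, hb]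
  | smul r a ha => rw [mul_smul_comm, smul_mul_assoc, map_smul, map_smul, ha]

variable [Fact p.Prime]

omit [Fintype G] [Fact p.Prime] in
theorem resFun_one' (hM : Cfsg.IsPModular p M) : resFun hM (1 : ℂ) = 1 := by
  simpa using resFun_coe hM (1 : Cfsg.AlgInt)

omit [Fintype G] [M.IsMaximal] [Fact p.Prime] in
theorem memLocalRing_irr (hM : Cfsg.IsPModular p M) [Finite G] (χ : Cfsg.IrrCharacter G) (g : G) :
    Cfsg.MemLocalRing M ((χ : G → ℂ) g) :=
  memLocalRing_char hM (Char.IsIrr.isCharacter χ.2) g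

/-- A reduced character takes the `p`-th power of an element to the `p`-th power of its value. -/
theorem charForm_pow (hM : Cfsg.IsPModular p M) (χ : Cfsg.IrrCharacter G)
    (x : MonoidAlgebra (Cfsg.AlgInt ⧸ M) G) :
    charForm hM (χ : G → ℂ) (x ^ p) = charForm hM (χ : G → ℂ) x ^ p := by
  classical
  have := charP_residueField hM
  have hexp : x = ∑ g, MonoidAlgebra.single g (x.coeff g) := by
    refine MonoidAlgebra.coeff_injective (Finsupp.ext fun z => ?_)
    rw [MonoidAlgebra.coeff_sum, Finsupp.finsetSum_apply]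
    simp [Finsupp.single_apply]
  conv_lhs => rw [hexp]
  rw [form_sum_pow (p := p) (charForm hM (χ : G → ℂ))
    (charForm_symm hM (Char.isClassFunction_of_isIrr χ.2))]
  have hval : ∀ g : G, resFun hM ((χ : G → ℂ) (g ^ p)) = resFun hM ((χ : G → ℂ) g) ^ p := by
    intro g
    obtain ⟨γ, hγ⟩ := exists_pow_char_eq hM.1 (Char.IsIrr.isCharacter χ.2) g 1
    rw [pow_one] at hγ
    have h1 := memLocalRing_irr hM χ g
    have h2 := memLocalRing_irr hM χ (g ^ p)
    have hpw : resFun hM ((χ : G → ℂ) g ^ p) = resFun hM ((χ : G → ℂ) g) ^ p := by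
      have : ∀ n, resFun hM ((χ : G → ℂ) g ^ n) = resFun hM ((χ : G → ℂ) g) ^ n := fun n => by
        induction n with
        | zero => rw [pow_zero, pow_zero]; exact resFun_one' hM
        | succ n ih => rw [pow_succ, pow_succ, resFun_mul hM ((localRing hM).pow_mem h1 n) h1, ih]
      exact this p
    rw [← hpw]
    have hmem : Cfsg.MemLocalIdeal M ((χ : G → ℂ) g ^ p - (χ : G → ℂ) (g ^ p)) := by
      rw [hγ]
      exact memLocalIdeal_mul_right hM (memLocalIdeal_natCast_self hM) (memLocalRing_coe hM _)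
    have h3 : resFun hM ((χ : G → ℂ) g ^ p) =
        resFun hM ((χ : G → ℂ) g ^ p - (χ : G → ℂ) (g ^ p)) + resFun hM ((χ : G → ℂ) (g ^ p)) := by
      rw [← resFun_add hM ((localRing hM).sub_mem ((localRing hM).pow_mem h1 p) h2) h2,
        sub_add_cancel]
    rw [h3, (resFun_eq_zero_iff hM ((localRing hM).sub_mem ((localRing hM).pow_mem h1 p) h2)).2
      hmem, zero_add]
  calc ∑ g, charForm hM (χ : G → ℂ) (MonoidAlgebra.single g (x.coeff g) ^ p)
      = ∑ g, (x.coeff g * resFun hM ((χ : G → ℂ) g)) ^ p := by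
        refine Finset.sum_congr rfl fun g _ => ?_
        rw [MonoidAlgebra.single_pow, charForm_single, hval, mul_pow]
    _ = _ := by
        show _ = (∑ g, x.coeff g * resFun hM ((χ : G → ℂ) g)) ^ p
        rw [sum_pow_char]

theorem charForm_nilpotent (hM : Cfsg.IsPModular p M) (χ : Cfsg.IrrCharacter G)
    {x : MonoidAlgebra (Cfsg.AlgInt ⧸ M) G} (hx : IsNilpotent x) :
    charForm hM (χ : G → ℂ) x = 0 := by
  obtain ⟨n, hn⟩ := hx
  have h : ∀ m, charForm hM (χ : G → ℂ) (x ^ p ^ m) = charForm hM (χ : G → ℂ) x ^ p ^ m := by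
    intro m
    induction m with
    | zero => simp
    | succ m ih => rw [pow_succ, pow_mul, charForm_pow, ih, ← pow_mul]
  have h1 := h n
  rw [show x ^ p ^ n = 0 from pow_eq_zero_of_le (Nat.lt_pow_self (Fact.out : p.Prime).one_lt).le hn,
    map_zero] at h1
  exact eq_zero_of_pow_eq_zero h1.symm

open scoped Classical in
/-- The idempotent of a block selects its characters. -/
theorem charForm_bElt_mul (hM : Cfsg.IsPModular p M) {B : Set (Cfsg.IrrCharacter G)}
    (hB : Cfsg.IsPBlock M B) (χ : Cfsg.IrrCharacter G)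
    (x : MonoidAlgebra (Cfsg.AlgInt ⧸ M) G) :
    charForm hM (χ : G → ℂ) (bElt hM B * x) =
      if χ ∈ B then charForm hM (χ : G → ℂ) x else 0 := by
  have hR := memLocalRing_blockCoeff hM hB
  induction x using MonoidAlgebra.induction_on with
  | of g =>
    have h1 : charForm hM (χ : G → ℂ) (bElt hM B * MonoidAlgebra.of _ G g) =
        ∑ h, resFun hM (Cfsg.blockCoeff B h) * resFun hM ((χ : G → ℂ) (h * g)) := by
      rw [bElt, res, Finset.sum_mul, map_sum]
      refine Finset.sum_congr rfl fun h _ => ?_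
      rw [MonoidAlgebra.of_apply, MonoidAlgebra.single_mul_single, charForm_single, mul_one]
    rw [h1, MonoidAlgebra.of_apply, charForm_single, one_mul]
    have e : ∑ h, resFun hM (Cfsg.blockCoeff B h) * resFun hM ((χ : G → ℂ) (h * g)) =
        resFun hM ((if χ ∈ B then 1 else 0) * (χ : G → ℂ) g) := by
      rw [← omega_blockCoeff, ← BlockThms.sum_mul_char_mul χ.2 (isClassFunction_blockCoeff _),
        BlockThms.OrderP.resFun_sum hM _ fun h _ =>
          (localRing hM).mul_mem (hR h) (memLocalRing_irr hM χ _)]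
      exact Finset.sum_congr rfl fun h _ =>
        (resFun_mul hM (hR h) (memLocalRing_irr hM χ _)).symm
    rw [e]
    split_ifs
    · rw [one_mul]
    · rw [zero_mul, (resFun_eq_zero_iff hM (localRing hM).zero_mem).2 (memLocalIdeal_zero hM)]
  | add a b ha hb => rw [mul_add, map_add, map_add, ha, hb]; split_ifs <;> simp
  | smul r a ha => rw [mul_smul_comm, map_smul, map_smul, ha]; split_ifs <;> simp

variable (G p) in
/-- The classes of regular elements. -/
abbrev RegClass : Type u := {c : ConjClasses G // Cfsg.IsPRegular p (Quotient.out c)}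

/-- The reduced values on the regular classes. -/
noncomputable def redRow (hM : Cfsg.IsPModular p M) (χ : Cfsg.IrrCharacter G) :
    RegClass G p → Cfsg.AlgInt ⧸ M :=
  fun c => resFun hM ((χ : G → ℂ) (Quotient.out c.1))

/-- The span of the reduced characters of a set. -/
noncomputable def redSpan (hM : Cfsg.IsPModular p M) (B : Set (Cfsg.IrrCharacter G)) :
    Submodule (Cfsg.AlgInt ⧸ M) (RegClass G p → Cfsg.AlgInt ⧸ M) :=
  Submodule.span _ (redRow hM '' B)

omit [M.IsMaximal] in
theorem regClass_rep (g : G) (hg : ¬ p ∣ orderOf g) :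
    ∃ c : RegClass G p, IsConj g (Quotient.out c.1) := by
  have h : IsConj (Quotient.out (ConjClasses.mk g)) g :=
    ConjClasses.mk_eq_mk_iff_isConj.1 (Quotient.out_eq _)
  refine ⟨⟨ConjClasses.mk g, ?_⟩, h.symm⟩
  obtain ⟨k, hk⟩ := isConj_iff.1 h
  show ¬ p ∣ _
  rwa [← hk, orderOf_conj'] at hg

/-- The rows of one block have rank at most the rank of the block. -/
theorem finrank_redSpan_le (hM : Cfsg.IsPModular p M) (B : Set (Cfsg.IrrCharacter G)) :
    Module.finrank (Cfsg.AlgInt ⧸ M) (redSpan hM B) ≤ Cfsg.blockRank p B := by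
  classical
  have : Finite (ConjClasses G) := Quotient.finite _
  have := Fintype.ofFinite (RegClass G p)
  obtain ⟨r, hr, hsub⟩ : ∃ r : ℕ, r = Module.finrank (Cfsg.AlgInt ⧸ M) (redSpan hM B) ∧
      ∃ f : Fin r → B, LinearIndependent (Cfsg.AlgInt ⧸ M) (fun q => redRow hM (f q).1) := by
    obtain ⟨s, hs, hspan, hli⟩ := exists_linearIndependent (Cfsg.AlgInt ⧸ M) (redRow hM '' B)
    have := hli.setFinite.fintype
    refine ⟨_, rfl, ?_⟩
    have hcard : Module.finrank (Cfsg.AlgInt ⧸ M) (redSpan hM B) = Fintype.card s := by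
      rw [redSpan, ← hspan, ← finrank_span_eq_card hli]
      congr! <;> simp
    choose f hf hf' using fun x : s => hs x.2
    refine ⟨fun q => ⟨f ((Fintype.equivFinOfCardEq hcard.symm).symm q), hf _⟩, ?_⟩
    have e : (fun q => redRow hM (f ((Fintype.equivFinOfCardEq hcard.symm).symm q))) =
        ((↑) : s → _) ∘ (Fintype.equivFinOfCardEq hcard.symm).symm := funext fun q => hf' _
    rw [e]
    exact hli.comp _ (Equiv.injective _)
  obtain ⟨f, hf⟩ := hsub
  rw [← hr]
  have hli := linearIndependent_lift hM (fun q => redRow hM (f q).1) hf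
    (fun q c => ((f q).1 : G → ℂ) (Quotient.out c.1))
    (fun q c => memLocalRing_irr hM _ _) fun q c => rfl
  let V := Submodule.span ℂ
    ((fun χ : Cfsg.IrrCharacter G => Cfsg.pRegularPart p (χ : G → ℂ)) '' B)
  let ev : V →ₗ[ℂ] (RegClass G p → ℂ) :=
    (LinearMap.funLeft ℂ ℂ fun c : RegClass G p => Quotient.out c.1) ∘ₗ V.subtype
  have hli' : LinearIndependent ℂ
      (fun q => (⟨_, Submodule.subset_span ⟨(f q).1, (f q).2, rfl⟩⟩ : V)) := by
    refine LinearIndependent.of_comp ev ?_
    convert hli using 1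
    funext q c
    show Cfsg.pRegularPart p _ _ = _
    rw [pRegularPart_apply, if_neg c.2]
  simpa [Cfsg.blockRank] using hli'.fintype_card_le_finrank

/-- The reduced rows span the functions on regular classes. -/
theorem redSpan_univ (hM : Cfsg.IsPModular p M) :
    redSpan hM (Set.univ : Set (Cfsg.IrrCharacter G)) = ⊤ := by
  classical
  have : Finite (ConjClasses G) := Quotient.finite _
  have := Fintype.ofFinite (RegClass G p)
  refine Submodule.eq_top_iff'.2 fun φ => ?_
  rw [← Finset.univ_sum_single φ]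
  refine Submodule.sum_mem _ fun c _ => ?_
  set F : G → ℂ := fun g => if IsConj (pPrimePartOf p g) (Quotient.out c.1) then 1 else 0 with hF
  have hFc : Cfsg.IsClassFunction G F := fun g k => by
    simp only [hF, BlockThms.OrderP.pPrimePartOf_conj']
    have hk : IsConj (pPrimePartOf p g) (k * pPrimePartOf p g * k⁻¹) := isConj_iff.2 ⟨k, rfl⟩
    exact if_congr ⟨fun h => hk.trans h, fun h => hk.symm.trans h⟩ rfl rfl
  have hFR : ∀ g, Cfsg.MemLocalRing M (F g) := fun g => by
    simp only [hF]
    split_ifs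
    · exact (localRing hM).one_mem
    · exact (localRing hM).zero_mem
  have hFp : ∀ g, F g = F (pPrimePartOf p g) := fun g => by
    simp only [hF]
    rw [BlockThms.OrderP.pPrimePartOf_self (not_dvd_orderOf_pPrimePartOf Fact.out g)]
  set cc : Cfsg.IrrCharacter G → ℂ := fun χ => Cfsg.classInner F (χ : G → ℂ) with hcc
  have hcR : ∀ χ, Cfsg.MemLocalRing M (cc χ) := fun χ =>
    BlockThms.OrderP.memLocalRing_classInner_pPrime hM hFc hFR hFp (Char.IsIrr.isCharacter χ.2)
  have hsum : Pi.single c (φ c) =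
      φ c • ∑ χ : Cfsg.IrrCharacter G, resFun hM (cc χ) • redRow hM χ := by
    funext d
    simp only [Pi.smul_apply, Finset.sum_apply, redRow, smul_eq_mul]
    have h1 : resFun hM (F (Quotient.out d.1)) =
        ∑ χ : Cfsg.IrrCharacter G, resFun hM (cc χ) * resFun hM ((χ : G → ℂ) (Quotient.out d.1)) := by
      rw [← Invol.apply_eq_sum hFc (Quotient.out d.1),
        BlockThms.OrderP.resFun_sum hM _ fun χ _ =>
          (localRing hM).mul_mem (hcR χ) (memLocalRing_irr hM χ _)]
      exact Finset.sum_congr rfl fun χ _ => resFun_mul hM (hcR χ) (memLocalRing_irr hM χ _)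
    rw [← h1]
    simp only [hF, BlockThms.OrderP.pPrimePartOf_self (show ¬ p ∣ _ from d.2)]
    by_cases hd : d = c
    · subst hd
      rw [if_pos (IsConj.refl _), Pi.single_eq_same, resFun_one' hM, mul_one]
    · rw [Pi.single_eq_of_ne hd, if_neg fun h => hd (Subtype.ext ?_),
        (resFun_eq_zero_iff hM (localRing hM).zero_mem).2 (memLocalIdeal_zero hM), mul_zero]
      rw [← Quotient.out_eq d.1, ← Quotient.out_eq c.1]
      exact ConjClasses.mk_eq_mk_iff_isConj.2 h
  rw [hsum]
  exact Submodule.smul_mem _ _ (Submodule.sum_mem _ fun χ _ =>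
    Submodule.smul_mem _ _ (Submodule.subset_span ⟨χ, Set.mem_univ _, rfl⟩))

/-- The reduced rows of a block have the same rank as the block. -/
theorem finrank_redSpan (hM : Cfsg.IsPModular p M) {B : Set (Cfsg.IrrCharacter G)}
    (hB : Cfsg.IsPBlock M B) :
    Module.finrank (Cfsg.AlgInt ⧸ M) (redSpan hM B) = Cfsg.blockRank p B := by
  classical
  have : Finite (ConjClasses G) := Quotient.finite _
  have := Fintype.ofFinite (RegClass G p)
  refine le_antisymm (finrank_redSpan_le hM B) ?_
  let 𝓑 := {B : Set (Cfsg.IrrCharacter G) // Cfsg.IsPBlock M B}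
  have := Fintype.ofFinite 𝓑
  have hr1 : Fintype.card (RegClass G p) ≤
      ∑ b : 𝓑, Module.finrank (Cfsg.AlgInt ⧸ M) (redSpan hM b.1) := by
    have htop : redSpan hM (Set.univ : Set (Cfsg.IrrCharacter G)) ≤ ⨆ b : 𝓑, redSpan hM b.1 := by
      refine Submodule.span_le.2 ?_
      rintro _ ⟨χ, -, rfl⟩
      exact Submodule.mem_iSup_of_mem ⟨_, isPBlock_blockOf χ⟩
        (Submodule.subset_span ⟨χ, mem_blockOf_self hM χ, rfl⟩)
    rw [redSpan_univ, top_le_iff] at htop
    have key : ∀ s : Finset 𝓑, Module.finrank (Cfsg.AlgInt ⧸ M)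
        ↥(⨆ b ∈ s, redSpan hM b.1) ≤
        ∑ b ∈ s, Module.finrank (Cfsg.AlgInt ⧸ M) (redSpan hM b.1) := by
      intro s
      induction s using Finset.induction_on with
      | empty =>
        rw [Finset.sum_empty, show (⨆ b ∈ (∅ : Finset 𝓑), redSpan hM b.1) = ⊥ from
          le_bot_iff.1 (iSup₂_le fun b hb => absurd hb (Finset.notMem_empty b)), finrank_bot]
      | insert b s hb ih =>
        rw [Finset.iSup_insert, Finset.sum_insert hb]
        exact (Submodule.finrank_add_le_finrank_add_finrank _ _).trans (by omega)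
    have h := key Finset.univ
    have h2 : (⨆ b ∈ (Finset.univ : Finset 𝓑), redSpan hM b.1) = ⊤ := by simpa using htop
    rw [h2, finrank_top, Module.finrank_fintype_fun_eq_card] at h
    exact h
  let V : 𝓑 → Submodule ℂ (G → ℂ) := fun b => Submodule.span ℂ
    ((fun χ : Cfsg.IrrCharacter G => Cfsg.pRegularPart p (χ : G → ℂ)) '' b.1)
  have hexp : ∀ b : 𝓑, ∀ f ∈ V b, f = ∑ φ : Cfsg.IrrCharacter G,
      if φ ∈ b.1 then Cfsg.classInner f (φ : G → ℂ) • (φ : G → ℂ) else 0 := by
    intro b f hf
    induction hf using Submodule.span_induction with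
    | mem f hf => obtain ⟨χ, hχ, rfl⟩ := hf; exact pRegularPart_eq_sum hM b.2 hχ
    | zero => funext x; simp [Cfsg.classInner, Finset.sum_apply, ite_apply]
    | add f f' _ _ h h' =>
      conv_lhs => rw [h, h']
      rw [← Finset.sum_add_distrib]
      refine Finset.sum_congr rfl fun φ _ => ?_
      split_ifs
      · rw [Char.classInner_add_left, add_smul]
      · rw [add_zero]
    | smul r f _ h =>
      conv_lhs => rw [h]
      rw [Finset.smul_sum]
      refine Finset.sum_congr rfl fun φ _ => ?_
      split_ifs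
      · rw [Char.classInner_smul_left, smul_smul]
      · rw [smul_zero]
  have horth : ∀ b : 𝓑, ∀ f ∈ V b, ∀ ψ : Cfsg.IrrCharacter G, ψ ∉ b.1 →
      Cfsg.classInner f (ψ : G → ℂ) = 0 := by
    intro b f hf ψ hψ
    induction hf using Submodule.span_induction with
    | mem f hf => obtain ⟨χ, hχ, rfl⟩ := hf; exact classInner_pRegularPart_eq_zero hM b.2 hχ hψ
    | zero => simp [Cfsg.classInner]
    | add f f' _ _ h h' => rw [Char.classInner_add_left, h, h', add_zero]
    | smul r f _ h => rw [Char.classInner_smul_left, h, mul_zero]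
  have hzero : ∀ b : 𝓑, ∀ f ∈ V b, ∀ g, p ∣ orderOf g → f g = 0 := by
    intro b f hf g hg
    induction hf using Submodule.span_induction with
    | mem f hf =>
      obtain ⟨χ, -, rfl⟩ := hf
      show Cfsg.pRegularPart p _ g = 0
      rw [pRegularPart_apply, if_pos hg]
    | zero => rfl
    | add f f' _ _ h h' => rw [Pi.add_apply, h, h', add_zero]
    | smul r f _ h => rw [Pi.smul_apply, h, smul_zero]
  have hclass : ∀ b : 𝓑, ∀ f ∈ V b, Cfsg.IsClassFunction G f := by
    intro b f hf
    induction hf using Submodule.span_induction with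
    | mem f hf =>
      obtain ⟨χ, -, rfl⟩ := hf
      exact isClassFunction_pRegularPart p (Char.isClassFunction_of_isIrr χ.2)
    | zero => intro g k; rfl
    | add f f' _ _ h h' => intro g k; simp [h g k, h' g k]
    | smul r f _ h => intro g k; simp [h g k]
  let Φ : (∀ b : 𝓑, V b) →ₗ[ℂ] (RegClass G p → ℂ) :=
    ∑ b : 𝓑, (LinearMap.funLeft ℂ ℂ fun c : RegClass G p => Quotient.out c.1) ∘ₗ
      (V b).subtype ∘ₗ LinearMap.proj b
  have hΦ : Function.Injective Φ := by
    refine (injective_iff_map_eq_zero _).2 fun v hv => ?_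
    have hsum : ∑ b : 𝓑, (v b : G → ℂ) = 0 := by
      funext g
      rw [Finset.sum_apply, Pi.zero_apply]
      by_cases hg : p ∣ orderOf g
      · exact Finset.sum_eq_zero fun b _ => hzero b _ (v b).2 g hg
      obtain ⟨c, hc⟩ := regClass_rep (p := p) g hg
      obtain ⟨k, hk⟩ := isConj_iff.1 hc
      have := congrFun hv c
      simp only [Φ, LinearMap.sum_apply, Finset.sum_apply, LinearMap.comp_apply,
        LinearMap.proj_apply, Submodule.coe_subtype, LinearMap.funLeft_apply, Pi.zero_apply] at this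
      rw [← this]
      exact Finset.sum_congr rfl fun b _ => by rw [← hk, hclass b _ (v b).2 g k]
    funext b
    refine Subtype.ext ?_
    rw [hexp b _ (v b).2]
    refine Finset.sum_eq_zero fun φ _ => ?_
    split_ifs with hφ
    · have h1 := congrArg (fun f => Cfsg.classInner f (φ : G → ℂ)) hsum
      simp only [Char.classInner_sum_left] at h1
      rw [Finset.sum_eq_single b] at h1
      · rw [h1]
        simp [Cfsg.classInner]
      · intro b' _ hne
        refine horth b' _ (v b').2 φ fun hφ' => hne (Subtype.ext ?_)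
        rw [IsPBlock.eq_blockOf hM b'.2 hφ', ← IsPBlock.eq_blockOf hM b.2 hφ]
      · simp
    · rfl
  have hr2 : ∑ b : 𝓑, Cfsg.blockRank p b.1 ≤ Fintype.card (RegClass G p) := by
    have h := LinearMap.finrank_le_finrank_of_injective hΦ
    rw [Module.finrank_pi_fintype, Module.finrank_fintype_fun_eq_card] at h
    exact h
  by_contra hlt
  push Not at hlt
  have h3 : ∑ b : 𝓑, Module.finrank (Cfsg.AlgInt ⧸ M) (redSpan hM b.1) <
      ∑ b : 𝓑, Cfsg.blockRank p b.1 :=
    Finset.sum_lt_sum (fun b _ => finrank_redSpan_le hM b.1) ⟨⟨B, hB⟩, Finset.mem_univ _, hlt⟩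
  omega

/-- A symmetric form on the endomorphisms is a multiple of the trace. -/
theorem exists_eq_trace {k V : Type*} [Field k] [AddCommGroup V] [Module k V]
    [FiniteDimensional k V] (ψ : Module.End k V →ₗ[k] k) (hψ : ∀ A B, ψ (A * B) = ψ (B * A)) :
    ∃ c : k, ∀ A, ψ A = c * LinearMap.trace k V A := by
  rcases subsingleton_or_nontrivial V with h | h
  · refine ⟨0, fun A => ?_⟩
    rw [show A = 0 from LinearMap.ext fun x => Subsingleton.elim _ _, map_zero, zero_mul]
  obtain ⟨v₀, hv₀⟩ := exists_ne (0 : V)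
  obtain ⟨l, hl⟩ := Module.Projective.exists_dual_ne_zero k hv₀
  set l₀ : V →ₗ[k] k := (l v₀)⁻¹ • l with hl₀
  have hl₀v : l₀ v₀ = 1 := by simp [hl₀, hl]
  refine ⟨ψ (l₀.smulRight v₀), fun A => ?_⟩
  have hone : ∀ (m : V →ₗ[k] k) (x : V),
      ψ (m.smulRight x) = ψ (l₀.smulRight v₀) * m x := by
    intro m x
    have e1 : (m.smulRight v₀ : Module.End k V) * l₀.smulRight x = m x • l₀.smulRight v₀ := by
      refine LinearMap.ext fun z => ?_
      simp [smul_smul, mul_comm]
    have e2 : (l₀.smulRight x : Module.End k V) * m.smulRight v₀ = m.smulRight x := by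
      refine LinearMap.ext fun z => ?_
      simp [hl₀v]
    rw [← e2, ← hψ, e1, map_smul, smul_eq_mul, mul_comm]
  let b := Module.finBasis k V
  have hA : A = ∑ q, (b.coord q).smulRight (A (b q)) := by
    refine LinearMap.ext fun x => ?_
    conv_lhs => rw [← b.sum_repr x, map_sum]
    simp [LinearMap.sum_apply]
  rw [hA, map_sum, map_sum, Finset.mul_sum]
  exact Finset.sum_congr rfl fun q _ => by rw [hone, LinearMap.trace_smulRight]

/-- The rank of a block is its number of simple modules. -/
theorem blockRank_eq_card (hM : Cfsg.IsPModular p M) {B : Set (Cfsg.IrrCharacter G)}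
    (hB : Cfsg.IsPBlock M B) {n : ℕ}
    (V : Fin n → SimpleMod.{u, u, 0} (Cfsg.AlgInt ⧸ M) G (bElt hM B))
    (hne : ∀ j l, j ≠ l →
      ∀ F : (V j).V →ₗ[MonoidAlgebra (Cfsg.AlgInt ⧸ M) G] (V l).V, F = 0)
    (hall : ∀ S : SimpleMod.{u, u, 0} (Cfsg.AlgInt ⧸ M) G (bElt hM B), ∃ j,
      ∃ F : (V j).V →ₗ[MonoidAlgebra (Cfsg.AlgInt ⧸ M) G] S.V, F ≠ 0) :
    Cfsg.blockRank p B = n := by
  classical
  have := charP_residueField hM
  have := BlockThms.OrderP.isAlgClosed_residue (M := M)
  have : Finite (ConjClasses G) := Quotient.finite _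
  have := Fintype.ofFinite (RegClass G p)
  have : FiniteDimensional (Cfsg.AlgInt ⧸ M) (MonoidAlgebra (Cfsg.AlgInt ⧸ M) G) :=
    Module.Finite.of_basis (MonoidAlgebra.basis G (Cfsg.AlgInt ⧸ M))
  have : IsArtinianRing (MonoidAlgebra (Cfsg.AlgInt ⧸ M) G) :=
    IsArtinianRing.of_finite (Cfsg.AlgInt ⧸ M) _
  rw [← finrank_redSpan hM hB]
  let τ : Fin n → RegClass G p → Cfsg.AlgInt ⧸ M :=
    fun j c => tr M (V j).V (Quotient.out c.1)
  -- traces vanish only if all coefficients vanish
  have hli : LinearIndependent (Cfsg.AlgInt ⧸ M) τ := by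
    refine Fintype.linearIndependent_iff.2 fun c hc j₀ => ?_
    have hg : ∀ g : G, ∑ j, c j * tr M (V j).V g = 0 := by
      intro g
      have hreg := not_dvd_orderOf_pPrimePartOf (Fact.out : p.Prime) g
      obtain ⟨d, hd⟩ := regClass_rep (p := p) _ hreg
      obtain ⟨k, hk⟩ := isConj_iff.1 hd
      have h := congrFun hc d
      simp only [Finset.sum_apply, Pi.smul_apply, smul_eq_mul, Pi.zero_apply, τ] at h
      rw [← h]
      exact Finset.sum_congr rfl fun j _ => by
        rw [BlockThms.OrderP.tr_pPrimePartOf (p := p) hM g, ← hk, BlockThms.OrderP.tr_conj]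
    have : Nontrivial (V j₀).V :=
      IsSimpleModule.nontrivial (MonoidAlgebra (Cfsg.AlgInt ⧸ M) G) _
    obtain ⟨x₀, hx₀⟩ := exists_ne (0 : (V j₀).V)
    obtain ⟨l, hl⟩ := Module.Projective.exists_dual_ne_zero (Cfsg.AlgInt ⧸ M) hx₀
    obtain ⟨a, ha⟩ := exists_smul_eq (k := Cfsg.AlgInt ⧸ M)
      (R := MonoidAlgebra (Cfsg.AlgInt ⧸ M) G) (fun j => (V j).V) hne
      (Function.update 0 j₀ (((l x₀)⁻¹ • l).smulRight x₀))
    have hsum : ∑ j, c j * LinearMap.trace (Cfsg.AlgInt ⧸ M) (V j).V
        (Algebra.lsmul (Cfsg.AlgInt ⧸ M) (Cfsg.AlgInt ⧸ M) (V j).V a) = 0 := by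
      simp only [BlockThms.OrderP.trace_lsmul_eq, Finset.mul_sum]
      rw [Finset.sum_comm]
      refine Finset.sum_eq_zero fun g _ => ?_
      simp only [mul_left_comm (c _), ← Finset.mul_sum, hg, mul_zero]
    have heq : ∀ j, (Algebra.lsmul (Cfsg.AlgInt ⧸ M) (Cfsg.AlgInt ⧸ M) (V j).V a :
        Module.End (Cfsg.AlgInt ⧸ M) (V j).V) =
        Function.update (0 : ∀ j, Module.End (Cfsg.AlgInt ⧸ M) (V j).V) j₀
          (((l x₀)⁻¹ • l).smulRight x₀) j :=
      fun j => LinearMap.ext fun x => ha j x
    simp only [heq] at hsum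
    rw [Finset.sum_eq_single j₀] at hsum
    · rw [Function.update_self, LinearMap.trace_smulRight] at hsum
      simpa [hl] using hsum
    · intro j _ hj
      rw [Function.update_of_ne hj]
      simp
    · simp
  -- the traces are combinations of the rows of the block
  have hle : Submodule.span (Cfsg.AlgInt ⧸ M) (Set.range τ) ≤ redSpan hM B := by
    refine Submodule.span_le.2 ?_
    rintro _ ⟨j, rfl⟩
    let L : Cfsg.AlgInt ⧸ M → Cfsg.AlgInt := Function.surjInv Ideal.Quotient.mk_surjective
    set F : G → ℂ := fun g => (L (tr M (V j).V (pPrimePartOf p g)) : ℂ) with hF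
    have hFc : Cfsg.IsClassFunction G F := fun g c => by
      simp only [hF, BlockThms.OrderP.pPrimePartOf_conj', BlockThms.OrderP.tr_conj]
    have hFR : ∀ g, Cfsg.MemLocalRing M (F g) := fun g => memLocalRing_coe hM _
    have hFp : ∀ g, F g = F (pPrimePartOf p g) := fun g => by
      simp only [hF]
      rw [BlockThms.OrderP.pPrimePartOf_self (not_dvd_orderOf_pPrimePartOf Fact.out g)]
    set cc : Cfsg.IrrCharacter G → ℂ := fun χ => Cfsg.classInner F (χ : G → ℂ) with hcc
    have hcR : ∀ χ, Cfsg.MemLocalRing M (cc χ) := fun χ =>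
      BlockThms.OrderP.memLocalRing_classInner_pPrime hM hFc hFR hFp (Char.IsIrr.isCharacter χ.2)
    have htr : ∀ g, tr M (V j).V g =
        ∑ χ : Cfsg.IrrCharacter G, resFun hM (cc χ) * resFun hM ((χ : G → ℂ) g) := by
      intro g
      rw [BlockThms.OrderP.tr_pPrimePartOf (p := p) hM g]
      calc tr M (V j).V (pPrimePartOf p g) = resFun hM (F g) := by
            rw [hF, resFun_coe]; exact (Function.surjInv_eq _ _).symm
        _ = resFun hM (∑ χ : Cfsg.IrrCharacter G, cc χ * (χ : G → ℂ) g) := by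
            rw [Invol.apply_eq_sum hFc g]
        _ = _ := by
            rw [BlockThms.OrderP.resFun_sum hM _ fun χ _ =>
              (localRing hM).mul_mem (hcR χ) (memLocalRing_irr hM χ g)]
            exact Finset.sum_congr rfl fun χ _ => resFun_mul hM (hcR χ) (memLocalRing_irr hM χ g)
    have hform : ∀ x : MonoidAlgebra (Cfsg.AlgInt ⧸ M) G,
        LinearMap.trace (Cfsg.AlgInt ⧸ M) (V j).V
          (Algebra.lsmul (Cfsg.AlgInt ⧸ M) (Cfsg.AlgInt ⧸ M) (V j).V x) =
        ∑ χ : Cfsg.IrrCharacter G, resFun hM (cc χ) * charForm hM (χ : G → ℂ) x := by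
      intro x
      rw [BlockThms.OrderP.trace_lsmul_eq]
      simp only [htr, Finset.mul_sum]
      rw [Finset.sum_comm]
      refine Finset.sum_congr rfl fun χ _ => ?_
      show _ = resFun hM (cc χ) * ∑ g, x.coeff g * resFun hM ((χ : G → ℂ) g)
      rw [Finset.mul_sum]
      exact Finset.sum_congr rfl fun g _ => mul_left_comm _ _ _
    have hτ : τ j = ∑ χ ∈ B.toFinite.toFinset, resFun hM (cc χ) • redRow hM χ := by
      funext c
      set g := Quotient.out c.1 with hg
      simp only [Finset.sum_apply, Pi.smul_apply, smul_eq_mul, redRow]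
      calc tr M (V j).V g = LinearMap.trace (Cfsg.AlgInt ⧸ M) (V j).V
            (Algebra.lsmul (Cfsg.AlgInt ⧸ M) (Cfsg.AlgInt ⧸ M) (V j).V
              ((bElt hM B) * MonoidAlgebra.of _ G g)) := by
            rw [tr]
            congr 1
            refine LinearMap.ext fun v => ?_
            show _ = ((bElt hM B) * MonoidAlgebra.of _ G g) • v
            rw [mul_smul, (V j).fix, BlockThms.OrderP.act_apply]
        _ = _ := by
            rw [hform, ← Finset.sum_subset (Finset.subset_univ B.toFinite.toFinset)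
              fun χ _ hχ => ?_]
            · refine Finset.sum_congr rfl fun χ hχ => ?_
              rw [charForm_bElt_mul hM hB, if_pos (B.toFinite.mem_toFinset.1 hχ),
                MonoidAlgebra.of_apply, charForm_single, one_mul]
            · rw [charForm_bElt_mul hM hB,
                if_neg fun h => hχ (B.toFinite.mem_toFinset.2 h), mul_zero]
    rw [hτ]
    exact Submodule.sum_mem _ fun χ hχ => Submodule.smul_mem _ _
      (Submodule.subset_span ⟨χ, B.toFinite.mem_toFinset.1 hχ, rfl⟩)
  -- the rows of the block are combinations of the traces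
  have hge : redSpan hM B ≤ Submodule.span (Cfsg.AlgInt ⧸ M) (Set.range τ) := by
    refine Submodule.span_le.2 ?_
    rintro _ ⟨χ, hχ, rfl⟩
    let ρ : MonoidAlgebra (Cfsg.AlgInt ⧸ M) G →ₐ[Cfsg.AlgInt ⧸ M]
        (∀ j, Module.End (Cfsg.AlgInt ⧸ M) (V j).V) :=
      Pi.algHom (R := Cfsg.AlgInt ⧸ M) _ fun j =>
        Algebra.lsmul (Cfsg.AlgInt ⧸ M) (Cfsg.AlgInt ⧸ M) (V j).V
    have hρ : ∀ x j, ρ x j = Algebra.lsmul (Cfsg.AlgInt ⧸ M) (Cfsg.AlgInt ⧸ M) (V j).V x :=
      fun _ _ => rfl
    have hker : LinearMap.ker ρ.toLinearMap ≤ LinearMap.ker (charForm hM (χ : G → ℂ)) := by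
      intro x hx
      rw [LinearMap.mem_ker] at hx ⊢
      have h1 := charForm_bElt_mul hM hB χ x
      rw [if_pos hχ] at h1
      rw [← h1]
      refine charForm_nilpotent hM χ ?_
      have hmem : (bElt hM B) * x ∈ Ring.jacobson (MonoidAlgebra (Cfsg.AlgInt ⧸ M) G) := by
        rw [Ring.jacobson_eq_sInf_isMaximal]
        refine Submodule.mem_sInf.2 fun m (hm : Ideal.IsMaximal m) => ?_
        have : IsSimpleModule (MonoidAlgebra (Cfsg.AlgInt ⧸ M) G)
            (MonoidAlgebra (Cfsg.AlgInt ⧸ M) G ⧸ m) :=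
          isSimpleModule_iff_isCoatom.2 hm.out
        set Q := MonoidAlgebra (Cfsg.AlgInt ⧸ M) G ⧸ m with hQ
        have : FiniteDimensional (Cfsg.AlgInt ⧸ M) Q :=
          inferInstanceAs (FiniteDimensional (Cfsg.AlgInt ⧸ M)
            (MonoidAlgebra (Cfsg.AlgInt ⧸ M) G ⧸ m))
        by_cases hfix : ∀ q : Q, (bElt hM B) • q = q
        · obtain ⟨j, F, hF⟩ := hall ⟨Q, hfix⟩
          have hb := (LinearMap.bijective_or_eq_zero F).resolve_right hF
          obtain ⟨z, hz⟩ := hb.2 (Submodule.Quotient.mk 1)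
          have e : ((bElt hM B) * x) • (Submodule.Quotient.mk 1 : Q) = 0 := by
            rw [← hz, ← map_smul, mul_smul, (V j).fix,
              show x • z = 0 from LinearMap.congr_fun (congrFun hx j) z, map_zero]
          rw [← Submodule.Quotient.mk_smul, smul_eq_mul, mul_one] at e
          exact (Submodule.Quotient.mk_eq_zero m).1 e
        · -- the idempotent acts as zero
          let W : Submodule (MonoidAlgebra (Cfsg.AlgInt ⧸ M) G) Q :=
            { carrier := {q | (bElt hM B) • q = q}
              add_mem' := fun {a b} (ha : (bElt hM B) • a = a) (hb : (bElt hM B) • b = b) => by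
                show (bElt hM B) • (a + b) = a + b
                rw [smul_add, ha, hb]
              zero_mem' := smul_zero _
              smul_mem' := fun r q (hq : (bElt hM B) • q = q) => by
                show (bElt hM B) • r • q = r • q
                rw [← mul_smul, bElt_central hM, mul_smul, hq] }
          have hW : W = ⊥ := (IsSimpleOrder.eq_bot_or_eq_top W).resolve_right fun h =>
            hfix fun q => (show q ∈ W by rw [h]; trivial)
          have hmem' : (bElt hM B) • (Submodule.Quotient.mk x : Q) ∈ W := by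
            show (bElt hM B) • (bElt hM B) • _ = (bElt hM B) • _
            rw [← mul_smul, bElt_idem hM hB]
          rw [hW, Submodule.mem_bot, ← Submodule.Quotient.mk_smul, smul_eq_mul] at hmem'
          exact (Submodule.Quotient.mk_eq_zero m).1 hmem'
      obtain ⟨N, hN⟩ := IsSemiprimaryRing.isNilpotent
        (R := MonoidAlgebra (Cfsg.AlgInt ⧸ M) G)
      refine ⟨N, ?_⟩
      have := Ideal.pow_mem_pow hmem N
      rw [hN] at this
      simpa using this
    have hsurj : Function.Surjective ρ.toLinearMap := fun A => by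
      obtain ⟨a, ha⟩ := exists_smul_eq (k := Cfsg.AlgInt ⧸ M)
        (R := MonoidAlgebra (Cfsg.AlgInt ⧸ M) G) (fun j => (V j).V) hne A
      exact ⟨a, funext fun j => LinearMap.ext (ha j)⟩
    obtain ⟨r, hr⟩ := ρ.toLinearMap.exists_rightInverse_of_surjective
      (LinearMap.range_eq_top.2 hsurj)
    set ψ := charForm hM (χ : G → ℂ) ∘ₗ r with hψ
    have hψρ : ∀ x, ψ (ρ x) = charForm hM (χ : G → ℂ) x := by
      intro x
      refine sub_eq_zero.1 ?_
      show charForm hM (χ : G → ℂ) (r (ρ x)) - _ = 0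
      rw [← map_sub]
      refine hker ?_
      rw [LinearMap.mem_ker, map_sub, sub_eq_zero]
      exact LinearMap.congr_fun hr (ρ x)
    have hψsymm : ∀ A A', ψ (A * A') = ψ (A' * A) := by
      intro A A'
      obtain ⟨a, rfl⟩ := hsurj A
      obtain ⟨a', rfl⟩ := hsurj A'
      show ψ (ρ a * ρ a') = ψ (ρ a' * ρ a)
      rw [← map_mul, ← map_mul, hψρ, hψρ,
        charForm_symm hM (Char.isClassFunction_of_isIrr χ.2)]
    choose c hc using fun j => exists_eq_trace
      (ψ ∘ₗ LinearMap.single (Cfsg.AlgInt ⧸ M) (fun j => Module.End (Cfsg.AlgInt ⧸ M) (V j).V) j)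
      (fun A A' => by
        show ψ (Pi.single j (A * A')) = ψ (Pi.single j (A' * A))
        rw [Pi.single_mul, Pi.single_mul, hψsymm])
    have hrow : redRow hM χ = ∑ j, c j • τ j := by
      funext d
      set g := Quotient.out d.1 with hg
      calc redRow hM χ d = charForm hM (χ : G → ℂ) (MonoidAlgebra.of _ G g) := by
            rw [MonoidAlgebra.of_apply, charForm_single, one_mul]; rfl
        _ = ∑ j, ψ (Pi.single j (ρ (MonoidAlgebra.of _ G g) j)) := by
            rw [← map_sum ψ, Finset.univ_sum_single, hψρ]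
        _ = _ := by
            simp only [Finset.sum_apply, Pi.smul_apply, smul_eq_mul, τ]
            exact Finset.sum_congr rfl fun j _ => hc j _
    rw [hrow]
    exact Submodule.sum_mem _ fun j _ => Submodule.smul_mem _ _ (Submodule.subset_span ⟨j, rfl⟩)
  rw [le_antisymm hge hle, finrank_span_eq_card hli, Fintype.card_fin]

end Cfsg.Agent.BlockChar.Cyclic
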