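import Cfsg.Agent.BlockChar.Cyclic.Rank1
import Cfsg.Agent.BrauerPairs.FirstMain
import Cfsg.Agent.BrauerPairs.Saturation
import Cfsg.Agent.BrauerPairs.Centric

/-!
# The central generator of the corner of a block with cyclic defect group
-/

set_option autoImplicit false

namespace Cfsg.Agent.BlockChar.Cyclic

universe u w

section Algebra

variable {k : Type w} [Field k] {R : Type u} [Ring R] [Algebra k R] [FiniteDimensional k R]

/-- A frame from a central nilpotent element and a corner of small dimension. -/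
theorem frame_of_finrank {ε t i : R} {N : ℕ} (hN : 0 < N) (hεc : ∀ x, ε * x = x * ε)
    (hi : i * i = i) (hεi : ε * i = i)
    (hgen : ∃ (n : ℕ) (u v : Fin n → R), ε = ∑ q, u q * i * v q)
    (htc : ∀ x, t * x = x * t) (hεt : ε * t = t) (hnil : IsNilpotent t)
    (htop : ε * t ^ (N - 1) ≠ 0) (hdim : Module.finrank k (cornerSpace k i) ≤ N) :
    Frame (⊤ : Subalgebra k R) ε t i N := by
  classical
  obtain ⟨n, u, v, hg⟩ := hgen
  have hpc : ∀ m (x : R), t ^ m * x = x * t ^ m := fun m x =>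
    (show Commute t x from htc x).pow_left m
  have hzero : ∀ m, t ^ m * i = 0 → ε * t ^ m = 0 := by
    intro m hm
    rw [hg, Finset.sum_mul]
    refine Finset.sum_eq_zero fun q _ => ?_
    rw [mul_assoc, mul_assoc, ← hpc, ← mul_assoc i, ← hpc, hm, zero_mul, mul_zero]
  have htop' : t ^ (N - 1) * i ≠ 0 := fun h => htop (hzero _ h)
  have hex : ∃ m, t ^ m * i = 0 := by
    obtain ⟨m, hm⟩ := hnil
    exact ⟨m, by rw [hm, zero_mul]⟩
  obtain ⟨m, hmdef⟩ : ∃ m, m = Nat.find hex := ⟨_, rfl⟩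
  have hm : t ^ m * i = 0 := hmdef ▸ Nat.find_spec hex
  have hmmin : ∀ j < m, t ^ j * i ≠ 0 := fun j hj => Nat.find_min hex (hmdef ▸ hj)
  have hNm : N ≤ m := by
    by_contra h
    refine htop' ?_
    rw [show N - 1 = N - 1 - m + m by omega, pow_add, mul_assoc, hm, mul_zero]
  have hmem : ∀ j : ℕ, t ^ j * i ∈ cornerSpace k i := fun j => by
    rw [mem_cornerSpace, ← mul_assoc, ← hpc, mul_assoc, mul_assoc, hi, hi]
  have hli : LinearIndependent k
      (fun j : Fin m => (⟨t ^ (j : ℕ) * i, hmem j⟩ : cornerSpace k i)) := by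
    refine Fintype.linearIndependent_iff.2 fun c hc => ?_
    have hc' : ∑ j : Fin m, c j • (t ^ (j : ℕ) * i) = 0 := by
      simpa using congrArg Subtype.val hc
    intro j
    obtain ⟨j, hj⟩ := j
    induction j using Nat.strong_induction_on with | _ j ih => ?_
    have h1 := congrArg (t ^ (m - 1 - j) * ·) hc'
    simp only [mul_zero, Finset.mul_sum, mul_smul_comm, ← mul_assoc, ← pow_add] at h1
    rw [Finset.sum_eq_single (⟨j, hj⟩ : Fin m)] at h1
    · exact (smul_eq_zero.1 h1).resolve_right (hmmin _ (by simp only []; omega))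
    · intro l _ hne
      rcases lt_trichotomy (l : ℕ) j with h | h | h
      · rw [show l = ⟨(l : ℕ), l.2⟩ from rfl, ih l h l.2, zero_smul]
      · exact absurd (Fin.ext h) hne
      · rw [show m - 1 - j + (l : ℕ) = (l : ℕ) - j - 1 + m by omega, pow_add, mul_assoc, hm,
          mul_zero, smul_zero]
    · simp
  have hmN : m = N := le_antisymm ((by simpa using hli.fintype_card_le_finrank :
    m ≤ Module.finrank k (cornerSpace k i)).trans hdim) hNm
  subst hmN
  refine ⟨trivial, trivial, trivial, hi, fun s _ => hεc s, fun s _ => htc s, hεi, ?_, htop', ?_,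
    n, u, v, fun _ => trivial, fun _ => trivial, hg⟩
  · rw [← hzero _ hm, show m = m - 1 + 1 by omega, pow_succ', ← mul_assoc, hεt]
  · intro a _
    have hspan := hli.span_eq_top_of_card_eq_finrank'
      (le_antisymm hli.fintype_card_le_finrank (by simpa using hdim))
    have hmem' : (⟨i * a * i, sandwich_mem_cornerSpace hi a⟩ : cornerSpace k i) ∈
        Submodule.span k (Set.range fun j : Fin m =>
          (⟨t ^ (j : ℕ) * i, hmem j⟩ : cornerSpace k i)) := by
      rw [hspan]; trivial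
    obtain ⟨c, hc⟩ := (Submodule.mem_span_range_iff_exists_fun k).1 hmem'
    have hc' : ∑ j : Fin m, c j • (t ^ (j : ℕ) * i) = i * a * i := by
      simpa using congrArg Subtype.val hc
    obtain ⟨m', rfl⟩ : ∃ m', m = m' + 1 := ⟨m - 1, by omega⟩
    refine ⟨c 0, ∑ j : Fin m', c j.succ • t ^ (j : ℕ), trivial, ?_⟩
    rw [← hc', Fin.sum_univ_succ]
    simp only [Fin.val_zero, pow_zero, one_mul, Fin.val_succ, Finset.mul_sum, Finset.sum_mul,
      mul_smul_comm, smul_mul_assoc]
    congr 1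
    refine Finset.sum_congr rfl fun j _ => ?_
    rw [← hpc (j : ℕ) i, mul_assoc (t ^ (j : ℕ)), hi, ← mul_assoc, ← pow_succ']

end Algebra

section Central

variable {k : Type w} [Field k] {H : Type u} [Group H] [Fintype H] {p d : ℕ} [Fact p.Prime]
  [CharP k p]

omit [Fintype H] in
theorem of_sub_one_pow {x : H} (hx : orderOf x = p ^ d) :
    (MonoidAlgebra.of k H x - 1) ^ p ^ d = 0 := by
  have h := congrArg (Polynomial.aeval (MonoidAlgebra.of k H x))
    (show (Polynomial.X - 1 : Polynomial k) ^ (p ^ d) = Polynomial.X ^ (p ^ d) - 1 by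
      rw [sub_pow_char_pow, one_pow])
  simp only [map_pow, map_sub, Polynomial.aeval_X, map_one] at h
  rw [h, ← map_pow, ← hx, pow_orderOf_eq_one, map_one, sub_self]

omit [Fintype H] in
theorem of_sub_one_pow_pred (x : H) :
    (MonoidAlgebra.of k H x - 1) ^ (p ^ d - 1) =
      ∑ j ∈ Finset.range (p ^ d), MonoidAlgebra.of k H x ^ j := by
  have h0 : (Polynomial.X - 1 : Polynomial k) ^ (p ^ d - 1) =
      ∑ j ∈ Finset.range (p ^ d), Polynomial.X ^ j := by
    refine mul_right_cancel₀ (Polynomial.X_sub_C_ne_zero (1 : k)) ?_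
    rw [Polynomial.C_1, ← pow_succ, geom_sum_mul,
      Nat.sub_add_cancel (Nat.one_le_pow _ _ (Fact.out : p.Prime).pos), sub_pow_char_pow, one_pow]
  have h := congrArg (Polynomial.aeval (MonoidAlgebra.of k H x)) h0
  simpa only [map_pow, map_sub, Polynomial.aeval_X, map_one, map_sum] using h

/-- The norm of a central `p`-element kills no idempotent. -/
theorem pow_pred_mul_ne_zero {x : H} (hx : orderOf x = p ^ d) (hxc : ∀ h : H, x * h = h * x)
    {e : MonoidAlgebra k H} (he : e * e = e) (he0 : e ≠ 0) :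
    (MonoidAlgebra.of k H x - 1) ^ (p ^ d - 1) * e ≠ 0 := by
  classical
  intro hzero
  rw [of_sub_one_pow_pred] at hzero
  obtain ⟨X, hX⟩ : ∃ X, X = MonoidAlgebra.of k H x - 1 := ⟨_, rfl⟩
  have hXc : ∀ a, X * a = a * X := by
    intro a
    rw [hX, sub_mul, mul_sub, one_mul, mul_one]
    congr 1
    induction a using MonoidAlgebra.induction_on with
    | of g => rw [← map_mul, ← map_mul, hxc]
    | add a a' ha ha' => rw [mul_add, add_mul, ha, ha']
    | smul r a ha => rw [mul_smul_comm, smul_mul_assoc, ha]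
  set Z : Subgroup H := Subgroup.zpowers x with hZ
  let r : H → H := fun g => (g : H ⧸ Z).out
  have hrj : ∀ g, ∃ j : ℕ, g = r g * x ^ j := by
    intro g
    have h1 : (r g)⁻¹ * g ∈ Z := QuotientGroup.eq.1 (QuotientGroup.out_eq' (g : H ⧸ Z))
    obtain ⟨j, hj⟩ := mem_powers_iff_mem_zpowers.2 h1
    exact ⟨j, by rw [show x ^ j = (r g)⁻¹ * g from hj, mul_inv_cancel_left]⟩
  choose j hj using hrj
  have hexp : e = ∑ g : H, e.coeff g • MonoidAlgebra.of k H g := by
    refine MonoidAlgebra.coeff_injective (Finsupp.ext fun z => ?_)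
    rw [MonoidAlgebra.coeff_sum, Finsupp.finsetSum_apply]
    simp [MonoidAlgebra.of_apply, Finsupp.single_apply]
  have hsec : ∑ g : H, e.coeff g • MonoidAlgebra.of k H (r g) = 0 := by
    rw [← Finset.sum_fiberwise Finset.univ (fun g : H => (g : H ⧸ Z))]
    refine Finset.sum_eq_zero fun c _ => ?_
    rw [Finset.sum_congr rfl (g := fun g => e.coeff g • MonoidAlgebra.of k H c.out) fun g hg => by
      rw [show r g = c.out by simp only [r, (Finset.mem_filter.1 hg).2]],
      ← Finset.sum_smul]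
    have h1 : (∑ j ∈ Finset.range (p ^ d), MonoidAlgebra.of k H x ^ j * e).coeff c.out = 0 := by
      rw [← Finset.sum_mul, hzero]
      rfl
    rw [MonoidAlgebra.coeff_sum, Finsupp.finsetSum_apply] at h1
    simp only [MonoidAlgebra.of_apply, MonoidAlgebra.single_pow, one_pow,
      MonoidAlgebra.coeff_single_mul_apply,
      one_mul] at h1
    have h2 : ∑ g ∈ Finset.univ.filter (fun g : H => (g : H ⧸ Z) = c), e.coeff g = 0 := by
      rw [← h1]
      refine (Finset.sum_bij (fun l _ => (x ^ l)⁻¹ * c.out) ?_ ?_ ?_ fun _ _ => rfl).symm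
      · intro l _
        refine Finset.mem_filter.2 ⟨Finset.mem_univ _, ?_⟩
        conv_rhs => rw [← QuotientGroup.out_eq' c]
        rw [QuotientGroup.eq, mul_inv_rev, inv_inv, mul_assoc,
          ((show Commute x c.out from hxc _).pow_left l).eq, inv_mul_cancel_left]
        exact pow_mem (Subgroup.mem_zpowers x) l
      · intro l hl l' hl' h
        have h3 := inv_injective (mul_right_cancel h)
        exact pow_injOn_Iio_orderOf (by simpa [hx] using hl) (by simpa [hx] using hl') h3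
      · intro g hg
        have h3 : c.out⁻¹ * g ∈ Z := QuotientGroup.eq.1
          ((QuotientGroup.out_eq' c).trans (Finset.mem_filter.1 hg).2.symm)
        have h4 : g⁻¹ * c.out ∈ Z := by simpa using inv_mem h3
        obtain ⟨l, hl⟩ := mem_powers_iff_mem_zpowers.2 h4
        refine ⟨l % p ^ d, Finset.mem_range.2 (Nat.mod_lt _ (pow_pos (Fact.out : p.Prime).pos _)),
          ?_⟩
        have h5 : x ^ (l % p ^ d) = g⁻¹ * c.out := by
          rw [← hx, pow_mod_orderOf]
          exact hl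
        have hc := ((show Commute x c.out from hxc _).pow_left (l % p ^ d)).inv_left.eq
        rw [h5] at hc
        rw [h5, hc, mul_inv_rev, inv_inv, mul_inv_cancel_left]
    rw [h2, zero_smul]
  have hdiff : e = X * ∑ g : H, e.coeff g •
      (MonoidAlgebra.of k H (r g) * ∑ l ∈ Finset.range (j g), MonoidAlgebra.of k H x ^ l) := by
    conv_lhs => rw [hexp, ← sub_zero (∑ g : H, e.coeff g • MonoidAlgebra.of k H g), ← hsec,
      ← Finset.sum_sub_distrib]
    rw [Finset.mul_sum]
    refine Finset.sum_congr rfl fun g _ => ?_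
    rw [mul_smul_comm, ← smul_sub]
    congr 1
    rw [hXc, mul_assoc, hX, geom_sum_mul, mul_sub, mul_one, ← map_pow, ← map_mul, ← hj]
  obtain ⟨a, ha⟩ : ∃ a, e = X * a := ⟨_, hdiff⟩
  have hpow : ∀ n, 0 < n → e ^ n = e := fun n hn => by
    obtain ⟨n, rfl⟩ : ∃ n', n = n' + 1 := ⟨n - 1, by omega⟩
    induction n with
    | zero => rw [zero_add, pow_one]
    | succ n ih => rw [pow_succ, ih (Nat.succ_pos _), he]
  refine he0 ?_
  rw [← hpow (p ^ d) (pow_pos (Fact.out : p.Prime).pos _), ha,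
    (show Commute X a from hXc a).mul_pow, hX, of_sub_one_pow hx, zero_mul]

end Central

open Cfsg.Agent Cfsg.Agent.Blocks Cfsg.Agent.BrauerPairs Cfsg.Agent.BlockChar.ResidueBlock

attribute [local instance] Ideal.Quotient.field

set_option synthInstance.maxHeartbeats 400000

variable {G : Type u} [Group G] {p : ℕ} {M : Ideal Cfsg.AlgInt}

theorem mem_normalizer_of_conj_le [Finite G] {D : Subgroup G} {g : G}
    (h : ∀ u ∈ D, g⁻¹ * u * g ∈ D) : g ∈ Subgroup.normalizer (D : Set G) := by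
  rw [Subgroup.mem_normalizer_iff'']
  intro u
  refine ⟨h u, fun hu => ?_⟩
  have hle : D.map (MulAut.conj g⁻¹).toMonoidHom ≤ D := by
    rintro _ ⟨z, hz, rfl⟩
    simpa using h z hz
  have heq := Subgroup.eq_of_le_of_card_ge hle
    (Subgroup.card_map_of_injective (MulAut.conj g⁻¹).injective).ge
  rw [← heq] at hu
  obtain ⟨z, hz, hzu⟩ := hu
  have : z = u := by simpa using hzu
  exact this ▸ hz

/-- The pair of an abelian `p`-group restricts to a maximal pair of a local block. -/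
theorem maximal_local [Finite G] (hM : Cfsg.IsPModular p M) {B : Set (Cfsg.IrrCharacter G)}
    {D : Subgroup G} {c : Set (Cfsg.IrrCharacter (Subgroup.centralizer (D : Set G)))}
    (hmax : Cfsg.IsMaximalBrauerPair p M B D c) {Q : Subgroup G}
    {f : Set (Cfsg.IrrCharacter (Subgroup.centralizer (Q : Set G)))}
    (hn : Cfsg.IsNormalSubpair p M Q f D c) (hDK : D ≤ Subgroup.centralizer (Q : Set G))
    (hCK : Subgroup.centralizer (D : Set G) ≤ Subgroup.centralizer (Q : Set G)) :
    Cfsg.IsMaximalBrauerPair p M f (D.subgroupOf (Subgroup.centralizer (Q : Set G)))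
      (resBlock hDK hCK c) := by
  refine maximal_down hM hmax hDK hCK ?_
  obtain ⟨η, hη⟩ := IsPBlock.nonempty hM hn.2.1.2
  rw [IsPBlock.eq_blockOf hM hn.2.1.2 hη]
  exact (pair_sbc_iff hM hDK hCK hn.2.1.1 hn.1.2 η).1 (hn.2.2.2.2.2 η hη)

/-- The central element that generates the corner. -/
theorem exists_tee [Fintype G] [M.IsMaximal] [Fact p.Prime] (hM : Cfsg.IsPModular p M)
    {B : Set (Cfsg.IrrCharacter G)} {D : Subgroup G}
    {c : Set (Cfsg.IrrCharacter (Subgroup.centralizer (D : Set G)))}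
    (hmax : Cfsg.IsMaximalBrauerPair p M B D c) (hcyc : IsCyclic D) {d : ℕ}
    (hd : Nat.card D = p ^ d)
    (hfix : ∀ g ∈ Subgroup.normalizer (D : Set G),
      Cfsg.StabilizesBlock (Subgroup.centralizer (D : Set G)) c g →
        g ∈ Subgroup.centralizer (D : Set G)) :
    ∃ t : MonoidAlgebra (Cfsg.AlgInt ⧸ M) G, (∀ a, t * a = a * t) ∧
      bElt hM B * t = t ∧ IsNilpotent t ∧ bElt hM B * t ^ (p ^ d - 1) ≠ 0 := by
  classical
  have := charP_residueField hM
  have hp := hM.1
  have hB := hmax.1.2.1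
  have hc := hmax.1.1.2
  have hP := hmax.1.1.1
  obtain ⟨⟨x, hxD⟩, hgen⟩ := hcyc.exists_generator
  have hDC : D ≤ Subgroup.centralizer (D : Set G) := by
    intro a ha
    rw [Subgroup.mem_centralizer_iff]
    intro b hb
    obtain ⟨m, hm⟩ := Subgroup.mem_zpowers_iff.1 (hgen ⟨a, ha⟩)
    obtain ⟨n, hn⟩ := Subgroup.mem_zpowers_iff.1 (hgen ⟨b, hb⟩)
    have h := congrArg Subtype.val ((Commute.refl (⟨x, hxD⟩ : D)).zpow_zpow n m).eq
    rw [hn, hm] at h
    exact h
  have hxo : orderOf x = p ^ d := by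
    rw [← hd, ← Subgroup.orderOf_mk x hxD]
    exact orderOf_eq_card_of_forall_mem_zpowers hgen
  obtain ⟨C, hC⟩ : ∃ C, C = Subgroup.centralizer (D : Set G) := ⟨_, rfl⟩
  have hDC' : D ≤ C := hC ▸ hDC
  have hxC : x ∈ C := hDC' hxD
  have := Fintype.ofFinite (Subgroup.centralizer (D : Set G))
  have hxcomm : ∀ h ∈ C, x * h = h * x := fun h hh => by
    rw [hC] at hh
    exact Subgroup.mem_centralizer_iff.1 hh x hxD
  -- a root of the idempotent of the pair
  have hn : Cfsg.IsNormalSubpair p M D c D c :=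
    isNormalSubpair_refl hM hmax.1.1
  have hmaxC := maximal_local hM hmax hn hDC le_rfl
  obtain ⟨b₀, hb₀fix, hb₀⟩ :=
    exists_trace_root hM hc (isDefectGroup_of_maximal hM hmaxC)
  obtain ⟨ec, hec⟩ : ∃ ec, ec = eElt hM (Subgroup.centralizer (D : Set G)) c := ⟨_, rfl⟩
  have hecC : ec ∈ kSub (Cfsg.AlgInt ⧸ M) C := by rw [hec, hC]; exact eElt_mem hM
  have hecidem : ec * ec = ec := by rw [hec]; exact eElt_idem hM hc
  have hec0 : ec ≠ 0 := by rw [hec]; exact eElt_ne_zero hM hc
  have heccomm : ∀ s ∈ kSub (Cfsg.AlgInt ⧸ M) C, ec * s = s * ec := fun s hs => by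
    rw [hec]; exact eElt_comm hM (hC ▸ hs)
  have hfixC : ∀ s ∈ kSub (Cfsg.AlgInt ⧸ M) C, ∀ u ∈ D,
      conjRep (Cfsg.AlgInt ⧸ M) u s = s := by
    intro s hs u hu
    obtain ⟨y, rfl⟩ := exists_emb_eq _ hs
    rw [← show ((⟨u, hDC' hu⟩ : C) : G) = u from rfl, ← emb_conjRep]
    congr 1
    refine MonoidAlgebra.coeff_injective (Finsupp.ext fun z => ?_)
    rw [coeff_conjRep]
    congr 1
    refine Subtype.ext ?_
    show u⁻¹ * (z : G) * u = z
    have hz : (z : G) ∈ Subgroup.centralizer (D : Set G) := hC ▸ z.2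
    rw [mul_assoc, ← Subgroup.mem_centralizer_iff.1 hz u hu, inv_mul_cancel_left]
  have hecfix : ∀ g ∈ C, conjRep (Cfsg.AlgInt ⧸ M) g ec = ec := fun g hg => by
    rw [conjRep_apply, ← heccomm _ (of_mem_kSub _ hg), mul_assoc, ← map_mul, mul_inv_cancel,
      map_one, mul_one]
  obtain ⟨b, hbC, hbe, hb⟩ : ∃ b ∈ kSub (Cfsg.AlgInt ⧸ M) C, b * ec = b ∧
      relTr (conjRep (Cfsg.AlgInt ⧸ M)) D C b = ec := by
    refine ⟨emb (Cfsg.AlgInt ⧸ M) (Subgroup.centralizer (D : Set G)) b₀ * ec,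
      Subalgebra.mul_mem _ (hC ▸ emb_mem _ b₀) hecC, by rw [mul_assoc, hecidem], ?_⟩
    have h1 := emb_relTr (Cfsg.AlgInt ⧸ M) hb₀fix hDC
    rw [hb₀, emb_bElt hM, ← hec] at h1
    rw [hC]
    have h2 := map_relTr (conjRep (Cfsg.AlgInt ⧸ M)) (conjRep (Cfsg.AlgInt ⧸ M))
      (LinearMap.mulRight (Cfsg.AlgInt ⧸ M) ec) (P := D)
      (H := Subgroup.centralizer (D : Set G)) (fun g hg a => by
        simp only [LinearMap.mulRight_apply, conjRep_mul, hecfix g (hC ▸ hg)])
      (emb (Cfsg.AlgInt ⧸ M) (Subgroup.centralizer (D : Set G)) b₀)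
    simp only [LinearMap.mulRight_apply] at h2
    rw [← h2, ← h1, hecidem]
  obtain ⟨X, hX⟩ : ∃ X, X = MonoidAlgebra.of (Cfsg.AlgInt ⧸ M) G x - 1 := ⟨_, rfl⟩
  have hXC : X ∈ kSub (Cfsg.AlgInt ⧸ M) C := by
    rw [hX]
    exact Subalgebra.sub_mem _ (of_mem_kSub _ hxC) (Subalgebra.one_mem _)
  have hXcomm : ∀ s ∈ kSub (Cfsg.AlgInt ⧸ M) C, X * s = s * X := by
    intro s hs
    rw [hX, sub_mul, mul_sub, one_mul, mul_one]
    congr 1
    obtain ⟨y, rfl⟩ := exists_emb_eq _ hs
    rw [← show ((⟨x, hxC⟩ : C) : G) = x from rfl, ← emb_of, ← map_mul, ← map_mul]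
    congr 1
    induction y using MonoidAlgebra.induction_on with
    | of g => rw [← map_mul, ← map_mul]; congr 1; exact Subtype.ext (hxcomm g g.2)
    | add a a' ha ha' =>
      rw [mul_add, add_mul, ha (emb_mem _ _), ha' (emb_mem _ _)]
    | smul r a ha => rw [mul_smul_comm, smul_mul_assoc, ha (emb_mem _ _)]
  have hwfix : Fixed (conjRep (Cfsg.AlgInt ⧸ M)) D (X * b) := fun u hu =>
    hfixC _ (Subalgebra.mul_mem _ hXC hbC) u hu
  obtain ⟨z, hz⟩ : ∃ z, z = relTr (conjRep (Cfsg.AlgInt ⧸ M)) D ⊤ (X * b) := ⟨_, rfl⟩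
  have hzc : ∀ a, z * a = a * z := by
    intro a
    induction a using MonoidAlgebra.induction_on with
    | of g =>
      have h := relTr_fixed (H := ⊤) hwfix g (Subgroup.mem_top g)
      rw [← hz, conjRep_apply] at h
      conv_lhs => rw [← h, mul_assoc, ← map_mul, inv_mul_cancel, map_one, mul_one]
    | add a a' ha ha' => rw [mul_add, add_mul, ha, ha']
    | smul r a ha => rw [mul_smul_comm, smul_mul_assoc, ha]
  -- the Brauer image of `z`
  have hbr : trunc (Cfsg.AlgInt ⧸ M) C z * ec = X * ec := by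
    have := Fintype.ofFinite ((⊤ : Subgroup G) ⧸ D.subgroupOf ⊤)
    have hbfix : Fixed (conjRep (Cfsg.AlgInt ⧸ M)) D b := fun u hu => hfixC b hbC u hu
    rw [hC, hz, trunc_relTr _ hP hwfix, Finset.sum_mul, ← hC]
    have hterm : ∀ q : (⊤ : Subgroup G) ⧸ D.subgroupOf ⊤,
        ((q.out : (⊤ : Subgroup G)) : G) ∈ Subgroup.normalizer (D : Set G) →
        trunc (Cfsg.AlgInt ⧸ M) C (conjRep (Cfsg.AlgInt ⧸ M) ((q.out : (⊤ : Subgroup G)) : G)
          (X * b)) * ec =
          if ((q.out : (⊤ : Subgroup G)) : G) ∈ C then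
            X * conjRep (Cfsg.AlgInt ⧸ M) ((q.out : (⊤ : Subgroup G)) : G) b else 0 := by
      intro q hq
      obtain ⟨g, hg⟩ : ∃ g, g = ((q.out : (⊤ : Subgroup G)) : G) := ⟨_, rfl⟩
      rw [← hg] at hq ⊢
      have hgC : g ∈ Subgroup.normalizer (C : Set G) := by
        rw [hC, Subgroup.mem_normalizer_iff]
        exact fun y => mem_centralizer_iff_of_mem_normalizer hq y
      rw [trunc_of_mem _ (conjRep_mem _ hgC (Subalgebra.mul_mem _ hXC hbC)), conjRep_mul,
        mul_assoc]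
      split_ifs with hin
      · have hXg : conjRep (Cfsg.AlgInt ⧸ M) g X = X := by
          rw [conjRep_apply, ← hXcomm _ (of_mem_kSub _ hin), mul_assoc, ← map_mul, mul_inv_cancel,
            map_one, mul_one]
        rw [hXg]
        congr 1
        conv_rhs => rw [← hbe, conjRep_mul, hecfix g hin]
      · have horth : conjRep (Cfsg.AlgInt ⧸ M) g ec * ec = 0 := by
          rw [hec]
          exact eElt_conj_mul_eq_zero hM hc hq fun h => hin (hC ▸ hfix g hq h)
        rw [← hbe, conjRep_mul, mul_assoc, horth, mul_zero, mul_zero]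
    have hN : ∀ q : (⊤ : Subgroup G) ⧸ D.subgroupOf ⊤,
        (∀ u ∈ D, ((q.out : (⊤ : Subgroup G)) : G)⁻¹ * u * ((q.out : (⊤ : Subgroup G)) : G) ∈ D) →
        ((q.out : (⊤ : Subgroup G)) : G) ∈ Subgroup.normalizer (D : Set G) :=
      fun q h => mem_normalizer_of_conj_le h
    rw [Finset.sum_congr rfl fun q hq => hterm q (hN q (Finset.mem_filter.1 hq).2),
      ← Finset.sum_filter, Finset.filter_filter]
    rw [Finset.sum_congr (s₂ := Finset.univ.filter fun q : (⊤ : Subgroup G) ⧸ D.subgroupOf ⊤ =>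
        ((q.out : (⊤ : Subgroup G)) : G) ∈ C) (Finset.filter_congr fun q _ =>
          ⟨fun h => h.2, fun h => ⟨fun u hu => by
            rw [hC] at h
            rw [mul_assoc, Subgroup.mem_centralizer_iff.1 h u hu, inv_mul_cancel_left]
            exact hu, h⟩⟩) fun _ _ => rfl,
      ← Finset.mul_sum, sum_filter_coset hDC' hbfix, hb]
  -- fixed elements
  have hcfix : ∀ a : MonoidAlgebra (Cfsg.AlgInt ⧸ M) G, (∀ y, a * y = y * a) →
      Fixed (conjRep (Cfsg.AlgInt ⧸ M)) D a := fun a ha u _ => by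
    rw [conjRep_apply, ← ha, mul_assoc, ← map_mul, mul_inv_cancel, map_one, mul_one]
  have htm : ∀ a a' : MonoidAlgebra (Cfsg.AlgInt ⧸ M) G, (∀ y, a * y = y * a) →
      (∀ y, a' * y = y * a') → trunc (Cfsg.AlgInt ⧸ M) C (a * a') =
        trunc (Cfsg.AlgInt ⧸ M) C a * trunc (Cfsg.AlgInt ⧸ M) C a' := fun a a' ha ha' => by
    rw [hC]
    exact trunc_mul_of_fixed _ hP (hcfix a ha) (hcfix a' ha')
  have hεbr : trunc (Cfsg.AlgInt ⧸ M) C (bElt hM B) * ec = ec := by
    rw [hC, hec]
    exact trunc_bElt_mul_eElt hM hmax.1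
  obtain ⟨t, ht⟩ : ∃ t, t = bElt hM B * z := ⟨_, rfl⟩
  have htc : ∀ a, t * a = a * t := fun a => by
    rw [ht, mul_assoc, hzc, ← mul_assoc, bElt_central hM, mul_assoc]
  have htbr : trunc (Cfsg.AlgInt ⧸ M) C t * ec = X * ec := by
    rw [ht, htm _ _ (bElt_central hM) hzc, mul_assoc, hbr, hXcomm ec hecC, ← mul_assoc, hεbr]
  have hpow : ∀ n, trunc (Cfsg.AlgInt ⧸ M) C (t ^ n) * ec = X ^ n * ec := by
    intro n
    induction n with
    | zero => rw [pow_zero, pow_zero, trunc_of_mem _ (Subalgebra.one_mem _)]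
    | succ n ih =>
      rw [pow_succ, htm _ _ (fun y => (show Commute t y from htc y).pow_left n) htc, mul_assoc,
        htbr, hXcomm ec hecC, ← mul_assoc, ih, mul_assoc, ← hXcomm ec hecC, ← mul_assoc,
        ← pow_succ]
  have hne : X ^ (p ^ d - 1) * ec ≠ 0 := by
    obtain ⟨y, hy⟩ := exists_emb_eq _ hecC
    intro h
    refine pow_pred_mul_ne_zero (k := Cfsg.AlgInt ⧸ M) (x := (⟨x, hxC⟩ : C))
      (by rw [Subgroup.orderOf_mk, hxo]) (fun g => Subtype.ext (hxcomm g g.2)) (e := y)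
      (emb_injective _ (by rw [map_mul, hy, hecidem])) (fun h0 => hec0 (by rw [← hy, h0, map_zero]))
      (emb_injective _ ?_)
    rw [map_mul, map_pow, map_sub, map_one, emb_of, hy, map_zero, ← hX, h]
  refine ⟨t, htc, by rw [ht, ← mul_assoc, bElt_idem hM hB], ?_, fun h => hne ?_⟩
  · rcases bElt_local hM hB t htc (by rw [ht, ← mul_assoc, bElt_idem hM hB]) with h | ⟨t', ht'c, h⟩
    · exact h
    exfalso
    refine hne ?_
    have h1 : trunc (Cfsg.AlgInt ⧸ M) C t' * (X * ec) = ec := by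
      rw [← htbr, ← mul_assoc, ← htm _ _ ht'c htc, ← htc, h, hεbr]
    have hX0 : X ^ p ^ d = 0 := by rw [hX]; exact of_sub_one_pow hxo
    have hXp : ∀ (n : ℕ) (s), s ∈ kSub (Cfsg.AlgInt ⧸ M) C → X ^ n * s = s * X ^ n := fun n s hs =>
      (show Commute X s from hXcomm s hs).pow_left n
    conv_lhs => rw [← h1]
    rw [← mul_assoc, hXp _ _ (trunc_mem _ _ _), mul_assoc, ← mul_assoc (X ^ (p ^ d - 1)), ← pow_succ,
      Nat.sub_add_cancel (Nat.one_le_pow _ _ hp.pos), hX0, zero_mul, mul_zero]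
  · rw [← hpow]
    have h2 := congrArg (fun a => trunc (Cfsg.AlgInt ⧸ M) C a * ec) h
    simp only [map_zero, zero_mul] at h2
    rwa [htm _ _ (bElt_central hM) (fun y => (show Commute t y from htc y).pow_left _), mul_assoc,
      hpow, (show Commute X ec from hXcomm ec hecC).pow_left _ |>.eq, ← mul_assoc, hεbr,
      ← (show Commute X ec from hXcomm ec hecC).pow_left _ |>.eq, ← hpow] at h2

end Cfsg.Agent.BlockChar.Cyclic
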