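import Cfsg.Agent.BlockChar.Cyclic.Local

/-!
# Weights classify the simple modules of a block in the local situation
-/

set_option autoImplicit false

namespace Cfsg.Agent.BlockChar.Cyclic

open BlockThms.OrderP (SimpleMod)

universe u v v' w

theorem Twist.smul_pow_eq_zero {k R : Type*} [Field k] [Ring R] [Algebra k R]
    {S : Subalgebra k R} {ε t i y : R} {N m : ℕ} {M : Type*} [AddCommGroup M] [Module R M]
    [Module k M] [IsScalarTower k R M]
    (Y : Twist (k := k) S i y m) (F : Frame S ε t i N) (n j : ℕ) {x : M} (hx : i • x = x)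
    (hxj : t ^ j • x = 0) : t ^ j • y ^ n • x = 0 := by
  obtain ⟨b, hbS, -, hb⟩ := Y.pow_smul_t (M := M) F ((m - 1) * n) j
  have h := hb (y ^ n • x) (by rw [← mul_smul, ← Y.pow_comm_i, mul_smul, hx])
  rw [← mul_smul (y ^ ((m - 1) * n)) (y ^ n), (Y.pow_mul_pred n).2, one_smul,
    ← mul_smul (t ^ j) b, F.pow_comm j hbS, mul_smul, hxj, smul_zero] at h
  have h2 := congrArg (fun z => y ^ n • z) h
  simpa only [smul_zero, ← mul_smul (y ^ n) (y ^ ((m - 1) * n)), (Y.pow_mul_pred n).1,
    one_smul] using h2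

/-- An element of order dividing a power of the characteristic acts trivially on the socle of
the corner. -/
theorem Frame.mul_top_of_pow_eq_one {k R : Type*} [Field k] [Ring R] [Algebra k R]
    {S : Subalgebra k R} {ε t i : R} {N p : ℕ} [Fact p.Prime] [CharP k p] (F : Frame S ε t i N)
    {x : R} (hxS : x ∈ S) (hxi : x * i = i * x) {r : ℕ} (hx : x ^ p ^ r = 1) :
    x * (t ^ (N - 1) * i) = t ^ (N - 1) * i := by
  obtain ⟨c, s, hs, e⟩ := F.corner x hxS
  have hz : x * (t ^ (N - 1) * i) = c • (t ^ (N - 1) * i) := by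
    have e' : i * x * i = x * i := by rw [← hxi, mul_assoc, F.idem]
    rw [e'] at e
    rw [← mul_assoc, ← F.pow_comm _ hxS, mul_assoc, e, mul_add, mul_smul_comm, ← mul_assoc,
      ← pow_succ, Nat.sub_add_cancel F.pos, F.t_pow, zero_mul, add_zero]
  have hpow : ∀ n : ℕ, x ^ n * (t ^ (N - 1) * i) = c ^ n • (t ^ (N - 1) * i) := fun n => by
    induction n with
    | zero => simp
    | succ n ih => rw [pow_succ, mul_assoc, hz, mul_smul_comm, ih, smul_smul, pow_succ']
  have h1 := hpow (p ^ r)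
  rw [hx, one_mul] at h1
  have hc : c = 1 := by
    have h2 : (c ^ p ^ r - 1) • (t ^ (N - 1) * i) = 0 := by rw [sub_smul, ← h1, one_smul, sub_self]
    have h3 := (smul_eq_zero.1 h2).resolve_right F.t_top
    have h4 : (c - 1) ^ p ^ r = 0 := by rw [sub_pow_char_pow, one_pow]; exact h3
    exact sub_eq_zero.1 (eq_zero_of_pow_eq_zero h4)
  rw [hz, hc, one_smul]

namespace LocalData

variable {k : Type w} [Field k] {G : Type u} [Group G] [Fintype G] {p : ℕ}
  {Q P K T : Subgroup G} {y : G} {o e : ℕ} {ε e₁ b t i : MonoidAlgebra k G} {N : ℕ}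

variable (L : LocalData p Q P K T y o e ε e₁ b t i N)
include L

/-- The `e`-th power of `y` is a scalar on the socle of the corner. -/
theorem exists_lam : ∃ c : k, c ≠ 0 ∧ ∃ s ∈ kSub k K,
    MonoidAlgebra.of k G (y ^ e) * i = c • i + t * s := by
  set Y := MonoidAlgebra.of k G (y ^ e) with hY
  have hYS : Y ∈ kSub k K := of_mem_kSub k ((L.y_pow_mem e).2 dvd_rfl)
  have hYi : Y * i = i * Y := by rw [hY, map_pow]; exact L.twist.pow_comm_i e
  obtain ⟨c, s, hs, h⟩ := L.frame.corner Y hYS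
  rw [← hYi, mul_assoc, L.frame.idem] at h
  refine ⟨c, fun hc => L.frame.t_top ?_, _,
    Subalgebra.mul_mem _ (Subalgebra.mul_mem _ L.frame.i_mem hs) L.frame.i_mem, h⟩
  have h1 : Y * (t ^ (N - 1) * i) = 0 := by
    rw [← mul_assoc, ← L.frame.pow_comm _ hYS, mul_assoc, h, hc, zero_smul, zero_add, ← mul_assoc,
      ← pow_succ, Nat.sub_add_cancel L.frame.pos, L.frame.t_pow, zero_mul]
  have h2 : MonoidAlgebra.of k G (y ^ e)⁻¹ * Y = 1 := by
    rw [hY, ← map_mul, inv_mul_cancel, map_one]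
  have h3 : MonoidAlgebra.of k G (y ^ e)⁻¹ * (Y * (t ^ (N - 1) * i)) = 0 := by rw [h1, mul_zero]
  rw [← mul_assoc, h2, one_mul] at h3
  exact h3

variable {V : Type v} [AddCommGroup V] [Module k V] [Module (MonoidAlgebra k G) V]
  [IsScalarTower k (MonoidAlgebra k G) V]

omit L in
/-- A non-trivial weight exists on some vector. -/
theorem exists_of_not_isTriv {g : V →ₗ[k] k} (h : ¬ IsTriv i t N g) : ∃ x : V, g x ≠ 0 := by
  by_contra h'
  push Not at h'
  exact h fun x _ _ => h' x

/-- The eigenvalue of a weight. -/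
theorem wt_pow_eq {a c : k} {s : MonoidAlgebra k G}
    (hc : MonoidAlgebra.of k G (y ^ e) * i = c • i + t * s) {g : V →ₗ[k] k}
    (hg : IsWt i t (MonoidAlgebra.of k G y) a g) {x : V} (hx : g x ≠ 0) : a ^ e = c := by
  have h1 := hg.eig_pow e x
  rw [← hg.right, ← map_pow, ← mul_smul, ← show MonoidAlgebra.of k G (y ^ e) * i =
      i * MonoidAlgebra.of k G (y ^ e) by rw [map_pow]; exact L.twist.pow_comm_i e,
    hc, add_smul, map_add, smul_assoc, map_smul, hg.right, mul_smul t s, hg.kill, add_zero,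
    smul_eq_mul] at h1
  exact mul_right_cancel₀ hx h1.symm

/-- A stable map between modules of the block. -/
theorem exists_stable {V' : Type v'} [AddCommGroup V'] [Module k V']
    [Module (MonoidAlgebra k G) V'] [IsScalarTower k (MonoidAlgebra k G) V']
    [FiniteDimensional k V'] {φ : V →ₗ[k] V'} (hφ : CornerHom i t φ)
    (hy : ∀ x, φ (MonoidAlgebra.of k G y • x) = MonoidAlgebra.of k G y • φ x) :
    ∃ F : V →ₗ[MonoidAlgebra k G] V', ∀ n ≤ N, ∀ x : V, i • x = x → t ^ n • x = 0 →
      ∃ w : V', i • w = w ∧ i • F x - φ x = t ^ (N - n) • w := by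
  obtain ⟨ψ, hψS, hψi, hψe⟩ := L.frame.exists_ext hφ
  have hcorner : ∀ x, i • x = x → ψ x = φ x := fun x hx => by
    rw [← hx, hψS i L.frame.i_mem, hψi, hφ.right]
  set Y := MonoidAlgebra.of k G y with hY
  set Y' := MonoidAlgebra.of k G y⁻¹ with hY'
  have hYY : Y' * Y = 1 := by rw [hY, hY', ← map_mul, inv_mul_cancel, map_one]
  have hYY' : Y * Y' = 1 := by rw [hY, hY', ← map_mul, mul_inv_cancel, map_one]
  have hψe' : ∀ x, ψ x = ψ (e₁ • x) := fun x => by rw [hψS _ L.frame.eps_mem, hψe]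
  have he₁Y : e₁ * Y = Y * e₁ := by
    have h := L.e₁_fixed y L.y_mem
    rw [conjRep_apply] at h
    conv_lhs => rw [← h]
    rw [mul_assoc, ← map_mul, inv_mul_cancel, map_one, mul_one]
  have hψy : ∀ x, ψ (Y • x) = Y • ψ x := by
    intro x
    let ψ' : V →ₗ[k] V' := Algebra.lsmul k k V' Y' ∘ₗ ψ ∘ₗ Algebra.lsmul k k V Y
    have h' : ∀ s ∈ kSub k K, ∀ z, ψ' (s • z) = s • ψ' z := by
      intro s hs z
      show Y' • ψ (Y • s • z) = s • Y' • ψ (Y • z)
      have e1 : Y * s = conjRep k y s * Y := by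
        rw [conjRep_apply, mul_assoc (Y * s), ← hY', hYY, mul_one]
      rw [← mul_smul Y s, e1, mul_smul, hψS _ (L.conj_mem L.y_mem hs), ← mul_smul, ← mul_smul]
      congr 1
      rw [conjRep_apply, ← hY, ← hY', ← mul_assoc, ← mul_assoc, hYY, one_mul]
    have h := L.frame.ext_unique (ψ := ψ') (ψ' := ψ) h' hψS (fun z hz => by
      show Y' • ψ (Y • z) = ψ z
      rw [hcorner (Y • z) (by rw [← mul_smul, ← L.y_i, mul_smul, hz]), hy, ← mul_smul, hYY,
        one_smul, hcorner z hz]) (x := e₁ • x) (by rw [← mul_smul, L.frame.eps_idem])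
    change Y' • ψ (Y • e₁ • x) = ψ (e₁ • x) at h
    rw [← hψe' x, ← mul_smul Y e₁, ← he₁Y, mul_smul e₁ Y, ← hψe'] at h
    conv_rhs => rw [← h, ← mul_smul, hYY', one_smul]
  obtain ⟨F, hF⟩ := L.exists_hom hψS hψy hψe
  exact ⟨F, fun n hn x hx htx => by
    obtain ⟨w, hw, e⟩ := hF n hn x hx htx
    exact ⟨w, hw, by rw [← hcorner x hx]; exact e⟩⟩

omit L in
theorem IsWt.apply_pow_smul {a : k} {g : V →ₗ[k] k} (hg : IsWt i t (MonoidAlgebra.of k G y) a g)
    {n : ℕ} (hn : 0 < n) (w : V) : g (t ^ n • w) = 0 := by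
  obtain ⟨n', rfl⟩ : ∃ n', n = n' + 1 := ⟨n - 1, (Nat.sub_add_cancel hn).symm⟩
  rw [pow_succ', mul_smul, hg.kill]

/-- A weight seen through a stable map. -/
theorem wt_stable {V' : Type v'} [AddCommGroup V'] [Module k V']
    [Module (MonoidAlgebra k G) V'] [IsScalarTower k (MonoidAlgebra k G) V']
    {φ : V →ₗ[k] V'} {F : V →ₗ[MonoidAlgebra k G] V'}
    (hF : ∀ n ≤ N, ∀ x : V, i • x = x → t ^ n • x = 0 →
      ∃ w : V', i • w = w ∧ i • F x - φ x = t ^ (N - n) • w)
    {a : k} {g : V' →ₗ[k] k} (hg : IsWt i t (MonoidAlgebra.of k G y) a g) {n : ℕ}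
    (hn : n ≤ N - 1) {x : V} (hx : i • x = x) (htx : t ^ n • x = 0) : g (F x) = g (φ x) := by
  have := L.one_lt
  obtain ⟨w, -, e⟩ := hF n (by omega) x hx htx
  have h := congrArg g e
  rw [map_sub, hg.right, IsWt.apply_pow_smul hg (by omega), sub_eq_zero] at h
  exact h

/-- Two weights on one simple module have the same eigenvalue. -/
theorem weight_unique [IsAlgClosed k] [FiniteDimensional k V]
    [IsSimpleModule (MonoidAlgebra k G) V] {a a' : k} {g g' : V →ₗ[k] k}
    (hg : IsWt i t (MonoidAlgebra.of k G y) a g) (hgn : ¬ IsTriv i t N g)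
    (hg' : IsWt i t (MonoidAlgebra.of k G y) a' g') (hgn' : ¬ IsTriv i t N g') : a = a' := by
  by_contra hne
  obtain ⟨j, v, -, hjN, hvi, hvj, hgv, hyv, -, huniv⟩ := exists_split.{w, max u w, v, v} L.frame L.twist hg hgn
  obtain ⟨j', v', -, hjN', hvi', hvj', hgv', -⟩ := exists_split.{w, max u w, v, v} L.frame L.twist hg' hgn'
  obtain ⟨φ, hφ, hφy, hφv, hφim⟩ := huniv V v hvi hvj hyv
  obtain ⟨F, hF⟩ := L.exists_stable hφ hφy
  obtain ⟨c, hc⟩ := exists_scalar (k := k) F
  have h1 := L.wt_stable hF hg hjN hvi hvj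
  rw [hc, map_smul, hφv, hgv, smul_eq_mul, mul_one] at h1
  have hv0 : g' v = 0 := by
    have h := hg'.eig v
    rw [hyv, map_smul, smul_eq_mul] at h
    by_contra h0
    exact hne (mul_right_cancel₀ h0 h)
  have hker : ∀ x ∈ Submodule.span k (Set.range fun n : ℕ => t ^ n • v), g' x = 0 := fun x hx => by
    induction hx using Submodule.span_induction with
    | mem x hx =>
      obtain ⟨n, rfl⟩ := hx
      rcases Nat.eq_zero_or_pos n with rfl | hn
      · simpa using hv0
      · exact IsWt.apply_pow_smul hg' hn v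
    | zero => exact map_zero g'
    | add x z _ _ hx hz => rw [map_add, hx, hz, add_zero]
    | smul r x _ hx => rw [map_smul, hx, smul_zero]
  have h2 := L.wt_stable hF hg' hjN' hvi' hvj'
  rw [hc, map_smul, hgv', smul_eq_mul, mul_one, hker _ (hφim v'), h1] at h2
  exact one_ne_zero h2

/-- Simple modules with a weight of the same eigenvalue are related by a non-zero map. -/
theorem exists_ne_zero_hom [IsAlgClosed k] [FiniteDimensional k V]
    [IsSimpleModule (MonoidAlgebra k G) V] {V' : Type v} [AddCommGroup V'] [Module k V']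
    [Module (MonoidAlgebra k G) V'] [IsScalarTower k (MonoidAlgebra k G) V']
    [FiniteDimensional k V'] [IsSimpleModule (MonoidAlgebra k G) V'] {a : k} {g : V →ₗ[k] k}
    {g' : V' →ₗ[k] k} (hg : IsWt i t (MonoidAlgebra.of k G y) a g) (hgn : ¬ IsTriv i t N g)
    (hg' : IsWt i t (MonoidAlgebra.of k G y) a g') (hgn' : ¬ IsTriv i t N g') :
    ∃ F : V →ₗ[MonoidAlgebra k G] V', F ≠ 0 := by
  obtain ⟨j, v, -, hjN, hvi, hvj, hgv, hyv, -, huniv⟩ := exists_split.{w, max u w, v, v} L.frame L.twist hg hgn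
  obtain ⟨j', v', -, hjN', hvi', hvj', hgv', hyv', -, huniv'⟩ :=
    exists_split.{w, max u w, v, v} L.frame L.twist hg' hgn'
  rcases le_total j' j with h | h
  · obtain ⟨φ, hφ, hφy, hφv, -⟩ := huniv V' v' hvi'
      (by rw [← Nat.sub_add_cancel h, pow_add, mul_smul, hvj', smul_zero]) hyv'
    obtain ⟨F, hF⟩ := L.exists_stable hφ hφy
    refine ⟨F, fun h0 => ?_⟩
    have h1 := L.wt_stable hF hg' hjN hvi hvj
    rw [h0, LinearMap.zero_apply, map_zero, hφv, hgv'] at h1
    exact zero_ne_one h1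
  · obtain ⟨φ, hφ, hφy, hφv, -⟩ := huniv' V v hvi
      (by rw [← Nat.sub_add_cancel h, pow_add, mul_smul, hvj, smul_zero]) hyv
    obtain ⟨F, hF⟩ := L.exists_stable hφ hφy
    have hF0 : F ≠ 0 := fun h0 => by
      have h1 := L.wt_stable hF hg hjN' hvi' hvj'
      rw [h0, LinearMap.zero_apply, map_zero, hφv, hgv] at h1
      exact zero_ne_one h1
    have hb := (LinearMap.bijective_or_eq_zero F).resolve_right hF0
    refine ⟨(LinearEquiv.ofBijective F hb).symm.toLinearMap, fun h0 => hF0 ?_⟩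
    refine LinearMap.ext fun x => ?_
    have h2 := LinearMap.congr_fun h0 (F x)
    change (LinearEquiv.ofBijective F hb).symm ((LinearEquiv.ofBijective F hb) x) = 0 at h2
    rw [LinearEquiv.symm_apply_apply] at h2
    simp [h2]

omit [IsScalarTower k (MonoidAlgebra k G) V] in
/-- A central element acting bijectively is invertible on the block. -/
theorem exists_inverse {z : MonoidAlgebra k G} (hz : ∀ x, z * x = x * z) (hεz : ε * z = z)
    (hne : ∀ n, trunc k K (z ^ n) * e₁ ≠ 0) :
    ∃ z', (∀ x, z' * x = x * z') ∧ z * z' = ε := by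
  rcases L.eps_local z hz hεz with ⟨n, hn⟩ | h
  · exact absurd (by rw [hn, map_zero, zero_mul]) (hne n)
  · exact h

omit L [IsScalarTower k (MonoidAlgebra k G) V] in
/-- A fixed element is central. -/
theorem comm_of_fixed {z : MonoidAlgebra k G} (hz : Fixed (conjRep k) (⊤ : Subgroup G) z) :
    ∀ x, z * x = x * z := by
  intro x
  induction x using MonoidAlgebra.induction_on with
  | of g =>
    have h := hz g (Subgroup.mem_top g)
    rw [conjRep_apply] at h
    conv_rhs => rw [← h, ← mul_assoc]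
    conv_lhs => rw [← h]
    rw [mul_assoc, ← map_mul, inv_mul_cancel, map_one, mul_one]
    nth_rewrite 1 [← h]
    simp only [mul_assoc, ← map_mul, inv_mul_cancel, map_one, mul_one]
  | add x x' hx hx' => rw [mul_add, add_mul, hx, hx']
  | smul r x hx => rw [mul_smul_comm, smul_mul_assoc, hx]

/-- A simple module of the block has a non-trivial weight. -/
theorem exists_weight [IsAlgClosed k] [Fact p.Prime] [CharP k p] [FiniteDimensional k V]
    [IsSimpleModule (MonoidAlgebra k G) V] (hV : ∀ x : V, ε • x = x) :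
    ∃ (a : k) (g : V →ₗ[k] k), IsWt i t (MonoidAlgebra.of k G y) a g ∧ ¬ IsTriv i t N g := by
  classical
  by_cases hfree : ∀ x : V, i • x = x → t ^ (N - 1) • x = 0 → ∃ w, i • w = w ∧ t • w = x
  swap
  · push Not at hfree
    obtain ⟨x, hx, hxN, hxt⟩ := hfree
    exact L.frame.exists_weight L.twist hx hxN hxt
  exfalso
  have : Nontrivial V := IsSimpleModule.nontrivial (MonoidAlgebra k G) V
  obtain ⟨n, β, φ, hφ, hφmem, -, hsum⟩ := L.frame.exists_coords hfree
  choose ψ hψS hψi hψe using fun r => L.frame.exists_ext (hφ r)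
  -- the identity on `e₁ V`
  have hid : ∀ x : V, ∑ r, ψ r (e₁ • x) • β r = e₁ • x := by
    intro x
    let Φ : V →ₗ[k] V := ∑ r, ((Algebra.lsmul k k V).toLinearMap.flip (β r)) ∘ₗ ψ r
    have hΦ : ∀ z, Φ z = ∑ r, ψ r z • β r := fun z => by simp [Φ, LinearMap.sum_apply]
    have h := L.frame.ext_unique (ψ := Φ) (ψ' := Algebra.lsmul k k V e₁) (x := e₁ • x)
      (fun s hs z => by simp only [hΦ, hψS _ s hs, Finset.smul_sum, smul_eq_mul, mul_smul])
      (fun s hs z => by
        show e₁ • s • z = s • e₁ • z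
        rw [← mul_smul, L.frame.eps_comm s hs, mul_smul])
      (fun z hz => by
        show Φ z = e₁ • z
        rw [hΦ]
        conv_rhs => rw [← hz, ← mul_smul, L.frame.eps_i, hz, ← hsum z hz]
        refine Finset.sum_congr rfl fun r _ => ?_
        congr 1
        rw [← hz, hψS _ i L.frame.i_mem, hψi, (hφ r).right])
      (by rw [← mul_smul, L.frame.eps_idem])
    rw [hΦ] at h
    exact h.trans (show e₁ • e₁ • x = e₁ • x by rw [← mul_smul, L.frame.eps_idem])
  -- `e₁` is a trace
  let W : V →ₗ[k] V := ∑ r, ((Finsupp.lapply 1 ∘ₗ (MonoidAlgebra.coeffLinearEquiv k).toLinearMap ∘ₗ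
    ψ r) ∘ₗ Algebra.lsmul k k V e₁).smulRight (β r)
  have hW : ∀ x, W x = ∑ r, (ψ r (e₁ • x)).coeff 1 • β r := fun x => by
    simp [W, LinearMap.sum_apply]
  set σ := homRep (G := G) k V V with hσ
  have hψmem : ∀ r z, ψ r z ∈ kSub k K → ∀ g, g ∉ K → (ψ r z).coeff g = 0 := fun r z h => h
  have := Fintype.ofFinite K
  have htr : Algebra.lsmul k k V e₁ = groupSum σ K W := by
    refine LinearMap.ext fun x => ?_
    show e₁ • x = _
    rw [groupSum_apply, LinearMap.sum_apply, ← hid x]
    simp only [hσ, homRep_apply, hW, Finset.smul_sum]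
    rw [Finset.sum_comm]
    refine Finset.sum_congr rfl fun r _ => ?_
    have hcomm : ∀ h : K, ψ r (e₁ • MonoidAlgebra.of k G ((h : G)⁻¹) • x) =
        MonoidAlgebra.of k G ((h : G)⁻¹) * ψ r (e₁ • x) := fun h => by
      rw [← mul_smul, L.frame.eps_comm _ (of_mem_kSub k (inv_mem h.2)), mul_smul,
        hψS r _ (of_mem_kSub k (inv_mem h.2))]
      rfl
    simp only [MonoidAlgebra.of_apply] at hcomm ⊢
    simp only [hcomm, MonoidAlgebra.coeff_single_mul_apply, one_mul, inv_inv, mul_one]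
    have hexp : ψ r (e₁ • x) =
        ∑ h : K, MonoidAlgebra.single (h : G) ((ψ r (e₁ • x)).coeff (h : G)) := by
      have hmem : ψ r (e₁ • x) ∈ kSub k K := by
        obtain ⟨m, u, w, hu, hw, hgen⟩ := L.frame.gen
        generalize e₁ • x = z
        rw [← hψe r z, smul_eq_mul, hgen, Finset.sum_mul]
        refine Subalgebra.sum_mem _ fun q _ => ?_
        rw [mul_assoc (u q * i), mul_assoc (u q), ← smul_eq_mul (w q), ← hψS r _ (hw q),
          ← smul_eq_mul i, hψi]
        exact Subalgebra.mul_mem _ (hu q) (hφmem r _)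
      refine MonoidAlgebra.coeff_injective (Finsupp.ext fun g => ?_)
      rw [MonoidAlgebra.coeff_sum, Finsupp.finsetSum_apply]
      by_cases hg : g ∈ K
      · rw [Finset.sum_eq_single ⟨g, hg⟩]
        · simp
        · intro h _ hh
          simp [Finsupp.single_apply, show (h : G) ≠ g from fun e => hh (Subtype.ext e)]
        · simp
      · rw [hψmem r _ hmem g hg, Finset.sum_eq_zero fun h _ => ?_]
        simp [Finsupp.single_apply, show (h : G) ≠ g from fun e => hg (e ▸ h.2)]
    conv_lhs => rw [hexp, Finset.sum_smul]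
    refine Finset.sum_congr rfl fun h _ => ?_
    rw [smul_comm, ← smul_assoc, MonoidAlgebra.smul_single', mul_one]
  -- the central element
  set z := relTr (conjRep k) P ⊤ b with hz
  have hzc : ∀ x, z * x = x * z := comm_of_fixed (relTr_fixed L.b_fixed)
  have hza : Algebra.lsmul k k V z = groupSum σ ⊤ W := by
    have hPK : relTr σ P K (Algebra.lsmul k k V b) = Algebra.lsmul k k V e₁ := by
      have h0 := map_relTr (conjRep k) σ (Algebra.lsmul k k V).toLinearMap (P := P) (H := K)
        (fun g _ a => (lsmul_end g a).symm) b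
      rw [L.b_trace] at h0
      exact h0.symm
    have hbfix : Fixed σ P (Algebra.lsmul k k V b) := fun u hu => by
      rw [hσ, lsmul_end, L.b_fixed u hu]
    calc Algebra.lsmul k k V z
        = relTr σ P ⊤ (Algebra.lsmul k k V b) :=
          map_relTr (conjRep k) σ (Algebra.lsmul k k V).toLinearMap
            (fun g _ a => (lsmul_end g a).symm) b
      _ = relTr σ K ⊤ (Algebra.lsmul k k V e₁) := by
          rw [← hPK, relTr_trans L.P_le le_top hbfix]
      _ = _ := by rw [htr, groupSum_eq σ le_top]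
  have htz : trunc k K z * e₁ = (e : k) • e₁ := by
    have := Fintype.ofFinite ((⊤ : Subgroup G) ⧸ P.subgroupOf ⊤)
    have hfilt : ∀ q : (⊤ : Subgroup G) ⧸ P.subgroupOf ⊤,
        (∀ u ∈ Q, ((q.out : (⊤ : Subgroup G)) : G)⁻¹ * u * ((q.out : (⊤ : Subgroup G)) : G) ∈ P) →
        ((q.out : (⊤ : Subgroup G)) : G) ∈ Subgroup.normalizer (Q : Set G) := fun q h => by
      obtain ⟨u, hu, hu1⟩ := (Subgroup.ne_bot_iff_exists_ne_one).1 L.ne_bot |> fun ⟨u, hu⟩ =>
        (⟨u.1, u.2, fun h => hu (Subtype.ext h)⟩ : ∃ u ∈ Q, u ≠ 1)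
      exact L.mem_normalizer _ u (L.Q_le hu) hu1 (h u hu)
    rw [hz, L.centralizer_eq, trunc_relTr k L.isPGroup L.b_fixed, ← L.centralizer_eq,
      Finset.sum_mul, ← L.relTr_b, ← sum_filter_coset L.P_le_T L.b_fixed]
    refine Finset.sum_congr_of_eq_on_inter ?_ ?_ ?_
    · intro q hq hqT
      have hg := hfilt q (Finset.mem_filter.1 hq).2
      set g := ((q.out : (⊤ : Subgroup G)) : G) with hgdef
      have hgT : g ∉ T := fun h => hqT (Finset.mem_filter.2 ⟨Finset.mem_univ _, h⟩)
      rw [trunc_of_mem k (conjRep_mem k (Subgroup.mem_normalizer_iff.2 fun h => ?_) L.b_mem),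
        ← L.b_e₁, conjRep_mul, mul_assoc, L.e₁_orth g hg hgT, mul_zero]
      constructor <;> intro hh
      · rw [L.centralizer_eq, Subgroup.mem_centralizer_iff] at hh ⊢
        intro u hu
        have h' := hh _ ((Subgroup.mem_normalizer_iff''.1 hg u).1 hu)
        calc u * (g * h * g⁻¹) = g * ((g⁻¹ * u * g) * h) * g⁻¹ := by group
          _ = g * (h * (g⁻¹ * u * g)) * g⁻¹ := by rw [h']
          _ = g * h * g⁻¹ * u := by group
      · rw [L.centralizer_eq, Subgroup.mem_centralizer_iff] at hh ⊢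
        intro u hu
        have h' := hh _ ((Subgroup.mem_normalizer_iff.1 hg u).1 hu)
        calc u * h = g⁻¹ * ((g * u * g⁻¹) * (g * h * g⁻¹)) * g := by group
          _ = g⁻¹ * ((g * h * g⁻¹) * (g * u * g⁻¹)) * g := by rw [h']
          _ = h * u := by group
    · intro q hqT hq
      refine absurd (Finset.mem_filter.2 ⟨Finset.mem_univ _, fun u hu => L.Q_le ?_⟩) hq
      exact (Subgroup.mem_normalizer_iff''.1 (L.T_le (Finset.mem_filter.1 hqT).2) u).1 hu
    · intro q _ hqT
      have hgT : ((q.out : (⊤ : Subgroup G)) : G) ∈ T := (Finset.mem_filter.1 hqT).2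
      rw [trunc_of_mem k (L.conj_mem hgT L.b_mem)]
      conv_rhs => rw [← L.b_e₁]
      rw [conjRep_mul, L.e₁_fixed _ hgT]
  set z₁ := ε * z with hz₁
  have hz₁c : ∀ x, z₁ * x = x * z₁ := fun x => by
    rw [hz₁, mul_assoc, hzc, ← mul_assoc, L.eps_central, mul_assoc]
  have hzpow : ∀ m : ℕ, trunc k K (z₁ ^ m) * e₁ = (e : k) ^ m • e₁ := by
    have h1 : trunc k K z₁ * e₁ = (e : k) • e₁ := by
      rw [hz₁, L.trunc_mul_e₁ L.eps_central hzc, mul_assoc, htz, mul_smul_comm, L.trunc_eps]
    intro m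
    rw [L.trunc_pow hz₁c]
    induction m with
    | zero => simp
    | succ m ih => rw [pow_succ, mul_assoc, h1, mul_smul_comm, ih, smul_smul, pow_succ']
  obtain ⟨z', hz'c, hzz'⟩ := L.exists_inverse hz₁c
    (by rw [hz₁, ← mul_assoc, L.eps_idem]) fun m => by
      rw [hzpow]; exact smul_ne_zero (pow_ne_zero _ L.e_ne) L.e₁_ne_zero
  -- the identity of `V` is a trace from the trivial subgroup
  obtain ⟨r, hr⟩ := exists_smul_eq_end (k := k) (R := MonoidAlgebra k G)
    (W ∘ₗ Algebra.lsmul k k V z')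
  set q := ε * groupSum (conjRep k) ⊤ r with hq
  have hqV : ∀ x : V, q • x = x := by
    intro x
    have hr' : Algebra.lsmul k k V r = W ∘ₗ Algebra.lsmul k k V z' :=
      LinearMap.ext fun x => hr x
    have h1 : Algebra.lsmul k k V (groupSum (conjRep k) ⊤ r) =
        groupSum σ ⊤ (W ∘ₗ Algebra.lsmul k k V z') := by
      rw [← hr']
      exact map_groupSum (conjRep k) σ (Algebra.lsmul k k V).toLinearMap
        (fun g _ a => (lsmul_end g a).symm) r
    have h2 : groupSum σ ⊤ (W ∘ₗ Algebra.lsmul k k V z') =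
        groupSum σ ⊤ W ∘ₗ Algebra.lsmul k k V z' := by
      refine (map_groupSum σ σ (LinearMap.lcomp k V (Algebra.lsmul k k V z')) ?_ W).symm
      intro g _ X
      refine LinearMap.ext fun x => ?_
      show σ g X (z' • x) = σ g (X ∘ₗ Algebra.lsmul k k V z') x
      rw [hσ, homRep_apply, homRep_apply, ← mul_smul, ← hz'c, mul_smul]
      rfl
    rw [hq, mul_smul]
    have h3 := LinearMap.congr_fun (h1.trans (h2.trans (by rw [← hza]))) x
    simp only [LinearMap.comp_apply, Algebra.lsmul_coe] at h3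
    rw [h3, ← mul_smul, ← mul_smul, ← hz₁, hzz', hV]
  have hgc : ∀ x, groupSum (conjRep k) ⊤ r * x = x * groupSum (conjRep k) ⊤ r :=
    comm_of_fixed (groupSum_fixed _ _ r)
  have hqc : ∀ x, q * x = x * q := fun x => by
    rw [hq, mul_assoc, hgc, ← mul_assoc, L.eps_central, mul_assoc]
  rcases L.eps_local q hqc (by rw [hq, ← mul_assoc, L.eps_idem]) with ⟨m, hm⟩ | ⟨q', hq'c, hqq'⟩
  · obtain ⟨x, hx⟩ := exists_ne (0 : V)
    have hqm : ∀ m : ℕ, q ^ m • x = x := fun m => by
      induction m with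
      | zero => simp
      | succ m ih => rw [pow_succ, mul_smul, hqV, ih]
    exact hx (by rw [← hqm m, hm, zero_smul])
  · have h1 : trunc k K q = 0 := by
      rw [hq, L.trunc_mul_e₁ L.eps_central hgc, L.centralizer_eq,
        trunc_groupSum k L.isPGroup L.ne_bot, mul_zero]
    have h2 := congrArg (fun w => trunc k K w * e₁) hqq'
    simp only [L.trunc_mul_e₁ hqc hq'c, h1, zero_mul, L.trunc_eps] at h2
    exact L.e₁_ne_zero h2.symm

end LocalData

end Cfsg.Agent.BlockChar.Cyclic
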